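import Mathlib

/-!
S1421 piece FF: a norm computation for two commuting automorphisms of an abelian group
(`bg8_norm_lemma`).
-/

set_option autoImplicit false

namespace Cfsg.Agent.Lib.helper43

/-- the norm of an automorphism of order dividing `r` is a fixed point -/
theorem ff_norm_fixed {B : Type*} [CommGroup B] (γ : MulAut B) (r : ℕ) (hγ : γ ^ r = 1) (b : B) :
    γ (∏ i ∈ Finset.range r, (γ ^ i) b) = ∏ i ∈ Finset.range r, (γ ^ i) b := by
  rw [map_prod]
  have h1 : ∀ i, γ ((γ ^ i) b) = (γ ^ (i + 1)) b := by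
    intro i
    rw [pow_succ']
    rfl
  simp_rw [h1]
  have h2 := Finset.prod_range_succ' (fun i => (γ ^ i) b) r
  have h3 := Finset.prod_range_succ (fun i => (γ ^ i) b) r
  rw [h3] at h2
  simp only [hγ, pow_zero, MulAut.one_apply] at h2
  exact (mul_right_cancel h2).symm

theorem ff_abstract {B : Type*} [CommGroup B] (α β : MulAut B) (hc : Commute α β) (r : ℕ)
    (hr : r.Prime) (hα : α ^ r = 1) (hβ : β ^ r = 1)
    (hfix : ∀ b, β b = b → b = 1)
    (hfix2 : ∀ j : ℕ, ∀ b, (α * β ^ j) b = b → b = 1) (b : B) : b ^ r = 1 := by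
  have hNβ : ∀ c : B, ∏ i ∈ Finset.range r, (β ^ i) c = 1 :=
    fun c => hfix _ (ff_norm_fixed β r hβ c)
  have hNj : ∀ j : ℕ, ∏ i ∈ Finset.range r, ((α * β ^ j) ^ i) b = 1 := by
    intro j
    apply hfix2 j
    apply ff_norm_fixed
    rw [(hc.pow_right j).mul_pow, hα, ← pow_mul, mul_comm j r, pow_mul, hβ, one_pow, one_mul]
  have h1 : ∏ j ∈ Finset.range r, ∏ i ∈ Finset.range r, ((α * β ^ j) ^ i) b = 1 :=
    Finset.prod_eq_one (fun j _ => hNj j)
  rw [Finset.prod_comm] at h1
  rw [Finset.prod_eq_single_of_mem 0 (Finset.mem_range.mpr hr.pos)] at h1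
  · simpa using h1
  · intro i hi hi0
    have h2 : ∀ j, ((α * β ^ j) ^ i) b = (α ^ i) ((β ^ (i * j % r)) b) := by
      intro j
      rw [(hc.pow_right j).mul_pow, ← pow_mul, pow_eq_pow_mod (j * i) hβ, mul_comm j i]
      rfl
    simp_rw [h2]
    rw [← map_prod]
    have hir : Nat.Coprime r i :=
      (Nat.Prime.coprime_iff_not_dvd hr).mpr
        (Nat.not_dvd_of_pos_of_lt (Nat.pos_of_ne_zero hi0) (Finset.mem_range.mp hi))
    have h3 : ∏ j ∈ Finset.range r, (β ^ (i * j % r)) b = ∏ k ∈ Finset.range r, (β ^ k) b := by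
      have hmaps : Set.MapsTo (fun j => i * j % r) (Finset.range r : Set ℕ) (Finset.range r) := by
        intro j _
        exact Finset.mem_coe.mpr (Finset.mem_range.mpr (Nat.mod_lt _ hr.pos))
      have hinj : Set.InjOn (fun j => i * j % r) (Finset.range r : Set ℕ) := by
        intro j1 hj1 j2 hj2 h
        have h' : i * j1 ≡ i * j2 [MOD r] := h
        have h'' : j1 ≡ j2 [MOD r] := Nat.ModEq.cancel_left_of_coprime hir h'
        exact Nat.ModEq.eq_of_lt_of_lt h'' (Finset.mem_range.mp (Finset.mem_coe.mp hj1))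
          (Finset.mem_range.mp (Finset.mem_coe.mp hj2))
      exact Finset.prod_nbij (fun j => i * j % r) (fun j hj => hmaps (Finset.mem_coe.mpr hj)) hinj
        (Finset.surjOn_of_injOn_of_card_le _ hmaps hinj le_rfl) (fun j _ => rfl)
    rw [h3, hNβ, map_one]

theorem bg8_norm_lemma {G : Type*} [Group G] (A : Subgroup G)
    (hAab : ∀ a ∈ A, ∀ b ∈ A, a * b = b * a) (r : ℕ) (hr : r.Prime)
    (hrA : ∀ a ∈ A, a ^ r = 1 → a = 1) (u w : G) (huw : u * w = w * u)
    (huA : u ∈ Subgroup.normalizer (A : Set G)) (hwA : w ∈ Subgroup.normalizer (A : Set G))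
    (hur : u ^ r ∈ Subgroup.centralizer (A : Set G)) (hwr : w ^ r = 1)
    (hw : ∀ a ∈ A, w * a = a * w → a = 1)
    (hu : ∀ j : ℕ, ∀ a ∈ A, (u * w ^ j) * a = a * (u * w ^ j) → a = 1) : A = ⊥ := by
  letI : CommGroup A :=
    { (inferInstance : Group A) with mul_comm := fun a b => Subtype.ext (hAab a a.2 b b.2) }
  have hval : ∀ (x : Subgroup.normalizer (A : Set G)) (a : A),
      ((A.normalizerMonoidHom x a : A) : G) = (x : G) * a * (x : G)⁻¹ := fun x a => rfl
  have hcent : ∀ x : Subgroup.normalizer (A : Set G),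
      (x : G) ∈ Subgroup.centralizer (A : Set G) → A.normalizerMonoidHom x = 1 := by
    intro x hx
    apply MulEquiv.ext
    intro a
    apply Subtype.ext
    rw [hval]
    have := Subgroup.mem_centralizer_iff.mp hx a a.2
    rw [MulAut.one_apply, ← this, mul_inv_cancel_right]
  have hfixed : ∀ (x : Subgroup.normalizer (A : Set G)) (a : A),
      A.normalizerMonoidHom x a = a → (x : G) * a = a * (x : G) := by
    intro x a h
    have h1 := congrArg (Subtype.val) h
    rw [hval] at h1
    rw [← h1, inv_mul_cancel_right, h1]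
  have hα : (A.normalizerMonoidHom ⟨u, huA⟩) ^ r = 1 := by
    rw [← map_pow]
    exact hcent _ (by rw [Subgroup.coe_pow]; exact hur)
  have hβ : (A.normalizerMonoidHom ⟨w, hwA⟩) ^ r = 1 := by
    rw [← map_pow]
    exact hcent _ (by
      rw [Subgroup.coe_pow]
      show w ^ r ∈ _
      rw [hwr]; exact Subgroup.one_mem _)
  have hc : Commute (A.normalizerMonoidHom ⟨u, huA⟩) (A.normalizerMonoidHom ⟨w, hwA⟩) := by
    show _ * _ = _ * _
    rw [← map_mul, ← map_mul]
    congr 1
    exact Subtype.ext huw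
  have key := ff_abstract (A.normalizerMonoidHom ⟨u, huA⟩) (A.normalizerMonoidHom ⟨w, hwA⟩) hc r hr
    hα hβ
    (fun b hb => Subtype.ext (hw b b.2 (hfixed _ b hb)))
    (fun j b hb => by
      rw [← map_pow, ← map_mul] at hb
      have := hfixed _ b hb
      rw [Subgroup.coe_mul, Subgroup.coe_pow] at this
      exact Subtype.ext (hu j b b.2 this))
  rw [Subgroup.eq_bot_iff_forall]
  intro a ha
  have h1 := key ⟨a, ha⟩
  have h2 : a ^ r = 1 := congrArg Subtype.val h1
  exact hrA a ha h2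

end Cfsg.Agent.Lib.helper43
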