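import Mathlib
import Cfsg.Agent.Lib.helper1.Coprime

set_option autoImplicit false

/-!
# S1356 piece A1b, core: reduction of `frob_derived_centralizes` to the abelian case

The abelian case (A1a) is taken as a hypothesis `hA1a` (for groups in the same universe).
-/

namespace Cfsg.Agent.Lib.helper43.BG1356A1b

open Subgroup
open Pointwise
open scoped commutatorElement

/-- Finite nilpotent group: `H ⊔ P' = ⊤ → H = ⊤`. -/
theorem nil_sup_comm {P : Type*} [Group P] [Finite P] [Group.IsNilpotent P] (H : Subgroup P)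
    (h : H ⊔ commutator P = ⊤) : H = ⊤ := by
  by_contra hne
  obtain ⟨M, hM, hHM⟩ := (eq_top_or_exists_le_coatom H).resolve_left hne
  have : M.Normal := Subgroup.NormalizerCondition.normal_of_coatom M
    Group.normalizerCondition_of_isNilpotent hM
  have hcM : commutator P ≤ M := by
    by_contra hc
    have hsup : M ⊔ commutator P = ⊤ :=
      hM.2 _ (lt_of_le_of_ne le_sup_left (fun e => hc (e ▸ le_sup_right)))
    have : Nontrivial (P ⧸ M) := by
      rw [← Finite.one_lt_card_iff_nontrivial]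
      have h1 : M.index ≠ 1 := fun h1 => hM.1 (Subgroup.index_eq_one.mp h1)
      have h0 : M.index ≠ 0 := Subgroup.index_ne_zero_of_finite
      have : Nat.card (P ⧸ M) = M.index := rfl
      omega
    have hlt := Group.IsSolvable.commutator_lt_top_of_nontrivial (P ⧸ M)
    apply hlt.ne
    have hle : (commutator P).map (QuotientGroup.mk' M) ≤ commutator (P ⧸ M) := by
      rw [Subgroup.map_le_iff_le_comap, commutator_def, Subgroup.commutator_le]
      intro a _ b _
      rw [Subgroup.mem_comap, map_commutatorElement]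
      exact Subgroup.commutator_mem_commutator (Subgroup.mem_top _) (Subgroup.mem_top _)
    have hle2 : M ⊔ commutator P ≤ (commutator (P ⧸ M)).comap (QuotientGroup.mk' M) := by
      refine sup_le ?_ (Subgroup.map_le_iff_le_comap.mp hle)
      intro m hm
      rw [Subgroup.mem_comap]
      have hm1 : (QuotientGroup.mk' M) m = 1 := (QuotientGroup.eq_one_iff m).mpr hm
      rw [hm1]
      exact Subgroup.one_mem _
    rw [eq_top_iff]
    intro q _
    obtain ⟨p, rfl⟩ := QuotientGroup.mk_surjective q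
    have hp : p ∈ M ⊔ commutator P := by rw [hsup]; exact Subgroup.mem_top p
    exact hle2 hp
  exact hM.1 (eq_top_iff.mpr (h ▸ sup_le hHM hcM))

/-- `N(F) ≤ N(F')`. -/
theorem normalizer_le_normalizer_commutator {X : Type*} [Group X] (F : Subgroup X) :
    normalizer (F : Set X) ≤ normalizer ((⁅F, F⁆ : Subgroup X) : Set X) := by
  intro b hb
  apply Cfsg.Agent.Lib.helper1.mem_normalizer_of_conj_smul_eq
  have h1 : MulAut.conj b • F = F := Cfsg.Agent.Lib.helper1.conj_smul_eq_of_mem_normalizer hb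
  have h3 := Subgroup.map_commutator F F (MulAut.conj b).toMonoidHom
  calc MulAut.conj b • ⁅F, F⁆ = ⁅MulAut.conj b • F, MulAut.conj b • F⁆ := h3
    _ = ⁅F, F⁆ := by rw [h1]

theorem core.{u} {X : Type u} [Group X] [Finite X]
    (hA1a : ∀ (Y : Type u) [Group Y] [Finite Y] (F D K : Subgroup Y)
      (_ : ∀ a ∈ F, ∀ b ∈ F, a * b = b * a) (_ : D ≤ normalizer (F : Set Y))
      (_ : K ≤ normalizer (F : Set Y)) (_ : K ≤ normalizer (D : Set Y)) (_ : K ≠ ⊥)
      (_ : D ⊓ K = ⊥)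
      (_ : ∀ k ∈ K, k ≠ 1 → D ⊓ centralizer ({k} : Set Y) = ⊥)
      (_ : Group.IsSolvable ↥(D ⊔ K)) (_ : Odd (Nat.card ↥(D ⊔ K)))
      (_ : (Nat.card ↥(D ⊔ K)).Coprime (Nat.card F))
      (C : Subgroup Y) (_ : IsCyclic C)
      (_ : ∀ k ∈ K, k ≠ 1 → F ⊓ centralizer ({k} : Set Y) = C),
      ⁅D, D⁆ ≤ centralizer (F : Set Y))
    (F D K : Subgroup X)
    (hFn : Group.IsNilpotent F) (hDF : D ≤ normalizer (F : Set X))
    (hKF : K ≤ normalizer (F : Set X)) (hKD : K ≤ normalizer (D : Set X)) (hK1 : K ≠ ⊥)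
    (hDK : D ⊓ K = ⊥)
    (hfrob : ∀ k ∈ K, k ≠ 1 → D ⊓ centralizer ({k} : Set X) = ⊥)
    (hsolv : Group.IsSolvable ↥(D ⊔ K)) (hodd : Odd (Nat.card ↥(D ⊔ K)))
    (hcop : (Nat.card ↥(D ⊔ K)).Coprime (Nat.card F))
    (C : Subgroup X) (hC : IsCyclic C)
    (hpr : ∀ k ∈ K, k ≠ 1 → F ⊓ centralizer ({k} : Set X) = C) :
    ⁅D, D⁆ ≤ centralizer (F : Set X) := by
  classical
  obtain ⟨F', hF'⟩ : ∃ F' : Subgroup X, F' = ⁅F, F⁆ := ⟨_, rfl⟩
  obtain ⟨N, hN⟩ : ∃ N : Subgroup X, N = normalizer (F' : Set X) := ⟨_, rfl⟩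
  have hF'F : F' ≤ F := by
    rw [hF']
    exact Subgroup.commutator_le.mpr (fun a ha b hb => by
      rw [commutatorElement_def]
      exact F.mul_mem (F.mul_mem (F.mul_mem ha hb) (F.inv_mem ha)) (F.inv_mem hb))
  have hNFN : normalizer (F : Set X) ≤ N := by
    rw [hN, hF']; exact normalizer_le_normalizer_commutator F
  have hFN : F ≤ N := Subgroup.le_normalizer.trans hNFN
  have hDN : D ≤ N := hDF.trans hNFN
  have hKN : K ≤ N := hKF.trans hNFN
  have hTN : D ⊔ K ≤ N := sup_le hDN hKN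
  have hnorm : (F'.subgroupOf N).Normal := by
    rw [hN]; exact Subgroup.normal_in_normalizer
  have hTF : ∀ x ∈ D ⊔ K, x ∈ F → x = 1 := fun x hx hxF =>
    Subgroup.disjoint_def.mp (Subgroup.disjoint_of_coprime_natCard hcop) hx hxF
  obtain ⟨π, hπ⟩ : ∃ π : ↥N →* ↥N ⧸ F'.subgroupOf N, π = QuotientGroup.mk' (F'.subgroupOf N) :=
    ⟨_, rfl⟩
  have hπ1 : ∀ (a : X) (ha : a ∈ N), π ⟨a, ha⟩ = 1 ↔ a ∈ F' := by
    intro a ha
    rw [hπ, QuotientGroup.mk'_apply, QuotientGroup.eq_one_iff, Subgroup.mem_subgroupOf]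
  have hπeq : ∀ (a b : X) (ha : a ∈ N) (hb : b ∈ N), π ⟨a, ha⟩ = π ⟨b, hb⟩ ↔ a⁻¹ * b ∈ F' := by
    intro a b ha hb
    rw [← hπ1 (a⁻¹ * b) (N.mul_mem (N.inv_mem ha) hb)]
    have : (⟨a⁻¹ * b, N.mul_mem (N.inv_mem ha) hb⟩ : ↥N) = (⟨a, ha⟩ : ↥N)⁻¹ * ⟨b, hb⟩ := rfl
    rw [this, map_mul, map_inv, inv_mul_eq_one]
  -- images
  obtain ⟨img, himg⟩ : ∃ img : Subgroup X → Subgroup (↥N ⧸ F'.subgroupOf N),
      img = fun H => (H.subgroupOf N).map π := ⟨_, rfl⟩
  have hmem : ∀ (H : Subgroup X) (x : X) (hx : x ∈ N), x ∈ H → π ⟨x, hx⟩ ∈ img H := by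
    intro H x hx hxH
    rw [himg]
    exact Subgroup.mem_map_of_mem π (Subgroup.mem_subgroupOf.mpr hxH)
  have hex : ∀ (H : Subgroup X) (y : ↥N ⧸ F'.subgroupOf N), y ∈ img H →
      ∃ (x : X) (hx : x ∈ N), x ∈ H ∧ π ⟨x, hx⟩ = y := by
    intro H y hy
    rw [himg] at hy
    obtain ⟨⟨x, hx⟩, hxH, rfl⟩ := hy
    exact ⟨x, hx, Subgroup.mem_subgroupOf.mp hxH, rfl⟩
  have hnormimg : ∀ (A B : Subgroup X), A ≤ normalizer (B : Set X) →
      img A ≤ normalizer ((img B : Subgroup _) : Set _) := by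
    intro A B hAB
    rw [himg]
    refine (Subgroup.map_mono ?_).trans (Subgroup.le_normalizer_map π)
    exact (Subgroup.comap_mono hAB).trans (Subgroup.le_normalizer_comap N.subtype)
  have hcardimg : ∀ (H : Subgroup X), H ≤ N → Nat.card ↥(img H) ∣ Nat.card ↥H := by
    intro H hHN
    rw [himg]
    have h1 := Subgroup.card_map_dvd (H := H.subgroupOf N) π
    rwa [Nat.card_congr (Subgroup.subgroupOfEquivOfLe hHN).toEquiv] at h1
  have himgsup : img D ⊔ img K = img (D ⊔ K) := by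
    rw [himg]
    show (D.subgroupOf N).map π ⊔ (K.subgroupOf N).map π = ((D ⊔ K).subgroupOf N).map π
    rw [← Subgroup.map_sup, ← Subgroup.subgroupOf_sup hDN hKN]
  -- a nontrivial element of K
  obtain ⟨k₀, hk₀, hk₀1⟩ : ∃ k ∈ K, k ≠ 1 := by
    by_contra hcon
    push Not at hcon
    exact hK1 ((Subgroup.eq_bot_iff_forall K).mpr hcon)
  have hCF : C ≤ F := by rw [← hpr k₀ hk₀ hk₀1]; exact inf_le_left
  have hCN : C ≤ N := hCF.trans hFN
  -- the abelian case in the quotient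
  have hres : ⁅img D, img D⁆ ≤ centralizer ((img F : Subgroup _) : Set _) := by
    apply hA1a (↥N ⧸ F'.subgroupOf N) (img F) (img D) (img K) ?_ (hnormimg D F hDF)
      (hnormimg K F hKF) (hnormimg K D hKD) ?_ ?_ ?_ ?_ ?_ ?_ (img C) ?_ ?_
    · -- abelian
      intro a ha b hb
      obtain ⟨f1, hf1N, hf1, rfl⟩ := hex F a ha
      obtain ⟨f2, hf2N, hf2, rfl⟩ := hex F b hb
      have e1 : π ⟨f1, hf1N⟩ * π ⟨f2, hf2N⟩ = π ⟨f1 * f2, N.mul_mem hf1N hf2N⟩ :=
        (map_mul π _ _).symm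
      have e2 : π ⟨f2, hf2N⟩ * π ⟨f1, hf1N⟩ = π ⟨f2 * f1, N.mul_mem hf2N hf1N⟩ :=
        (map_mul π _ _).symm
      rw [e1, e2, hπeq, hF']
      have e3 : (f1 * f2)⁻¹ * (f2 * f1) = ⁅f2⁻¹, f1⁻¹⁆ := by
        rw [commutatorElement_def]; group
      rw [e3]
      exact Subgroup.commutator_mem_commutator (F.inv_mem hf2) (F.inv_mem hf1)
    · -- K̄ ≠ ⊥
      intro hbot
      have h1 : π ⟨k₀, hKN hk₀⟩ ∈ img K := hmem K k₀ (hKN hk₀) hk₀
      rw [hbot, Subgroup.mem_bot, hπ1] at h1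
      exact hk₀1 (hTF k₀ (Subgroup.mem_sup_right hk₀) (hF'F h1))
    · -- D̄ ⊓ K̄ = ⊥
      rw [Subgroup.eq_bot_iff_forall]
      intro x hx
      obtain ⟨d, hdN, hd, rfl⟩ := hex D x hx.1
      obtain ⟨k, hkN, hk, hkd⟩ := hex K _ hx.2
      have h1 : d⁻¹ * k ∈ F' := (hπeq d k hdN hkN).mp hkd.symm
      have h2 : d⁻¹ * k = 1 := hTF _ (Subgroup.mul_mem _ (Subgroup.inv_mem _
        (Subgroup.mem_sup_left hd)) (Subgroup.mem_sup_right hk)) (hF'F h1)
      have h3 : d = k := inv_mul_eq_one.mp h2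
      have h4 : d ∈ D ⊓ K := ⟨hd, h3 ▸ hk⟩
      rw [hDK, Subgroup.mem_bot] at h4
      subst h4
      exact map_one π
    · -- Frobenius
      intro kb hkb hkb1
      obtain ⟨k, hkN, hk, rfl⟩ := hex K kb hkb
      have hk1 : k ≠ 1 := by
        rintro rfl
        exact hkb1 (map_one π)
      rw [Subgroup.eq_bot_iff_forall]
      intro x hx
      obtain ⟨d, hdN, hd, rfl⟩ := hex D x hx.1
      have hc := Subgroup.mem_centralizer_iff.mp hx.2 (π ⟨k, hkN⟩) (Set.mem_singleton _)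
      have e1 : π ⟨k, hkN⟩ * π ⟨d, hdN⟩ = π ⟨k * d, N.mul_mem hkN hdN⟩ :=
        (map_mul π _ _).symm
      have e2 : π ⟨d, hdN⟩ * π ⟨k, hkN⟩ = π ⟨d * k, N.mul_mem hdN hkN⟩ :=
        (map_mul π _ _).symm
      rw [e1, e2, hπeq] at hc
      have h2 : (k * d)⁻¹ * (d * k) = 1 := hTF _ (Subgroup.mul_mem _ (Subgroup.inv_mem _
        (Subgroup.mul_mem _ (Subgroup.mem_sup_right hk) (Subgroup.mem_sup_left hd)))
        (Subgroup.mul_mem _ (Subgroup.mem_sup_left hd) (Subgroup.mem_sup_right hk))) (hF'F hc)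
      have h3 : k * d = d * k := inv_mul_eq_one.mp h2
      have h4 : d ∈ D ⊓ centralizer ({k} : Set X) := by
        refine Subgroup.mem_inf.mpr ⟨hd, ?_⟩
        rw [Subgroup.mem_centralizer_iff]
        intro h hh
        rw [Set.mem_singleton_iff] at hh
        subst hh
        exact h3
      rw [hfrob k hk hk1, Subgroup.mem_bot] at h4
      subst h4
      exact map_one π
    · -- solvable
      rw [himgsup, himg]
      have : Group.IsSolvable ↥((D ⊔ K).subgroupOf N) :=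
        solvable_of_solvable_injective (f := (Subgroup.subgroupOfEquivOfLe hTN).toMonoidHom)
          (Subgroup.subgroupOfEquivOfLe hTN).injective
      exact solvable_of_surjective (f := π.subgroupMap ((D ⊔ K).subgroupOf N))
        (MonoidHom.subgroupMap_surjective π _)
    · -- odd
      rw [himgsup]
      exact Odd.of_dvd_nat hodd (hcardimg _ hTN)
    · -- coprime
      rw [himgsup]
      exact Nat.Coprime.coprime_dvd_left (hcardimg _ hTN)
        (Nat.Coprime.coprime_dvd_right (hcardimg _ hFN) hcop)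
    · -- cyclic
      rw [himg]
      have : IsCyclic ↥(C.subgroupOf N) :=
        isCyclic_of_surjective (Subgroup.subgroupOfEquivOfLe hCN).symm.toMonoidHom
          (Subgroup.subgroupOfEquivOfLe hCN).symm.surjective
      exact isCyclic_of_surjective (π.subgroupMap (C.subgroupOf N))
        (MonoidHom.subgroupMap_surjective π _)
    · -- prime action on the quotient
      intro kb hkb hkb1
      obtain ⟨k, hkN, hk, rfl⟩ := hex K kb hkb
      have hk1 : k ≠ 1 := by
        rintro rfl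
        exact hkb1 (map_one π)
      apply le_antisymm
      · intro x hx
        obtain ⟨f, hfN, hf, rfl⟩ := hex F x hx.1
        have hc := Subgroup.mem_centralizer_iff.mp hx.2 (π ⟨k, hkN⟩) (Set.mem_singleton _)
        -- the subgroup of elements of N commuting with f modulo F'
        have hzp : zpowers k ≤ ((centralizer ({π ⟨f, hfN⟩} : Set _)).comap π).map N.subtype := by
          rw [Subgroup.zpowers_le]
          refine ⟨⟨k, hkN⟩, ?_, rfl⟩
          show π ⟨k, hkN⟩ ∈ centralizer ({π ⟨f, hfN⟩} : Set _)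
          rw [Subgroup.mem_centralizer_iff]
          intro h hh
          rw [Set.mem_singleton_iff] at hh
          subst hh
          exact hc.symm
        have hzK : zpowers k ≤ K := Subgroup.zpowers_le.mpr hk
        have hzT : zpowers k ≤ D ⊔ K := hzK.trans le_sup_right
        have hg : ∀ a ∈ zpowers k, a * f * a⁻¹ * f⁻¹ ∈ F' := by
          intro a ha
          obtain ⟨⟨a, haN⟩, haz, rfl⟩ := hzp ha
          have h1 : π ⟨a, haN⟩ ∈ centralizer ({π ⟨f, hfN⟩} : Set _) := haz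
          have h2 := Subgroup.mem_centralizer_iff.mp h1 (π ⟨f, hfN⟩) (Set.mem_singleton _)
          show a * f * a⁻¹ * f⁻¹ ∈ F'
          rw [← hπ1 (a * f * a⁻¹ * f⁻¹)
            (N.mul_mem (N.mul_mem (N.mul_mem haN hfN) (N.inv_mem haN)) (N.inv_mem hfN))]
          have : (⟨a * f * a⁻¹ * f⁻¹, N.mul_mem (N.mul_mem (N.mul_mem haN hfN) (N.inv_mem haN))
              (N.inv_mem hfN)⟩ : ↥N) = ⟨a, haN⟩ * ⟨f, hfN⟩ * (⟨a, haN⟩ : ↥N)⁻¹ * (⟨f, hfN⟩ : ↥N)⁻¹ :=
            rfl
          rw [this, map_mul, map_mul, map_mul, map_inv, map_inv, ← h2]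
          group
        have hsolvz : Group.IsSolvable ↥(zpowers k) :=
          solvable_of_solvable_injective (Subgroup.inclusion_injective hzT)
        have hcopz : (Nat.card ↥(zpowers k)).Coprime (Nat.card ↥F') :=
          Nat.Coprime.coprime_dvd_left (Subgroup.card_dvd_of_le hzT)
            (Nat.Coprime.coprime_dvd_right (Subgroup.card_dvd_of_le hF'F) hcop)
        have hzN : zpowers k ≤ normalizer (F' : Set X) := by
          rw [← hN]; exact hzK.trans hKN
        obtain ⟨c, hcc, hcf⟩ := Cfsg.Agent.Lib.helper1.coset_fixed (zpowers k) F' hzN hcopz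
          (Or.inl hsolvz) f hg
        have hcF : c ∈ F := by
          have := F.mul_mem (hF'F hcf) hf
          simpa using this
        have hck : c ∈ centralizer ({k} : Set X) := by
          rw [Subgroup.mem_centralizer_iff]
          intro h hh
          rw [Set.mem_singleton_iff] at hh
          subst hh
          exact Subgroup.mem_centralizer_iff.mp hcc h (Subgroup.mem_zpowers h)
        have hcC : c ∈ C := by
          rw [← hpr k hk hk1]; exact ⟨hcF, hck⟩
        have hcN : c ∈ N := hCN hcC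
        have e : π ⟨f, hfN⟩ = π ⟨c, hcN⟩ := by
          have h1 : π ⟨c * f⁻¹, N.mul_mem hcN (N.inv_mem hfN)⟩ = 1 := (hπ1 _ _).mpr hcf
          have h2 : (⟨c * f⁻¹, N.mul_mem hcN (N.inv_mem hfN)⟩ : ↥N)
              = ⟨c, hcN⟩ * (⟨f, hfN⟩ : ↥N)⁻¹ := rfl
          rw [h2, map_mul, map_inv, mul_inv_eq_one] at h1
          exact h1.symm
        rw [e]
        exact hmem C c hcN hcC
      · intro x hx
        obtain ⟨c, hcN, hc, rfl⟩ := hex C x hx
        have hc' : c ∈ F ⊓ centralizer ({k} : Set X) := by rw [hpr k hk hk1]; exact hc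
        refine Subgroup.mem_inf.mpr ⟨hmem F c hcN hc'.1, ?_⟩
        rw [Subgroup.mem_centralizer_iff]
        intro h hh
        rw [Set.mem_singleton_iff] at hh
        subst hh
        have h1 : k * c = c * k := Subgroup.mem_centralizer_iff.mp hc'.2 k (Set.mem_singleton _)
        have e1 : π ⟨k, hkN⟩ * π ⟨c, hcN⟩ = π ⟨k * c, N.mul_mem hkN hcN⟩ :=
          (map_mul π _ _).symm
        have e2 : π ⟨c, hcN⟩ * π ⟨k, hkN⟩ = π ⟨c * k, N.mul_mem hcN hkN⟩ :=
          (map_mul π _ _).symm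
        rw [e1, e2]
        congr 1
        exact Subtype.ext h1
  -- back in X: [F, D'] ≤ F'
  have hkey : ∀ x ∈ ⁅D, D⁆, ∀ f ∈ F, ⁅f, x⁆ ∈ F' := by
    have hle : ⁅D, D⁆ ≤ ((centralizer ((img F : Subgroup _) : Set _)).comap π).map N.subtype := by
      rw [Subgroup.commutator_le]
      intro d1 hd1 d2 hd2
      refine ⟨⁅(⟨d1, hDN hd1⟩ : ↥N), ⟨d2, hDN hd2⟩⁆, ?_, rfl⟩
      show π ⁅(⟨d1, hDN hd1⟩ : ↥N), ⟨d2, hDN hd2⟩⁆ ∈ centralizer ((img F : Subgroup _) : Set _)
      rw [map_commutatorElement]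
      exact hres (Subgroup.commutator_mem_commutator (hmem D d1 _ hd1) (hmem D d2 _ hd2))
    intro x hx f hf
    obtain ⟨⟨x, hxN⟩, hxz, rfl⟩ := hle hx
    have h1 : π ⟨x, hxN⟩ ∈ centralizer ((img F : Subgroup _) : Set _) := hxz
    have h2 := Subgroup.mem_centralizer_iff.mp h1 (π ⟨f, hFN hf⟩) (hmem F f _ hf)
    have hfN := hFN hf
    show ⁅f, x⁆ ∈ F'
    rw [commutatorElement_def, ← hπ1 (f * x * f⁻¹ * x⁻¹)
      (N.mul_mem (N.mul_mem (N.mul_mem hfN hxN) (N.inv_mem hfN)) (N.inv_mem hxN))]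
    have : (⟨f * x * f⁻¹ * x⁻¹, N.mul_mem (N.mul_mem (N.mul_mem hfN hxN) (N.inv_mem hfN))
        (N.inv_mem hxN)⟩ : ↥N) = ⟨f, hfN⟩ * ⟨x, hxN⟩ * (⟨f, hfN⟩ : ↥N)⁻¹ * (⟨x, hxN⟩ : ↥N)⁻¹ :=
      rfl
    rw [this, map_mul, map_mul, map_mul, map_inv, map_inv, h2]
    group
  -- coprime action of A = D' on F
  have hAD : ⁅D, D⁆ ≤ D := Subgroup.commutator_le.mpr (fun a ha b hb => by
      rw [commutatorElement_def]
      exact D.mul_mem (D.mul_mem (D.mul_mem ha hb) (D.inv_mem ha)) (D.inv_mem hb))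
  have hAF : ⁅D, D⁆ ≤ normalizer (F : Set X) := hAD.trans hDF
  have hcopA : (Nat.card ↥⁅D, D⁆).Coprime (Nat.card ↥F) :=
    Nat.Coprime.coprime_dvd_left (Subgroup.card_dvd_of_le (hAD.trans le_sup_left)) hcop
  have := hFn
  have h1 := Cfsg.Agent.Lib.helper1.commutator_sup_fixed ⁅D, D⁆ F hAF hcopA
    (Or.inr inferInstance)
  have h2 : ⁅F, ⁅D, D⁆⁆ ≤ F' := Subgroup.commutator_le.mpr (fun f hf x hx => hkey x hx f hf)
  have h3 : F' ⊔ (F ⊓ centralizer ((⁅D, D⁆ : Subgroup X) : Set X)) = F := by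
    apply le_antisymm (sup_le hF'F inf_le_left)
    conv_lhs => rw [← h1]
    exact sup_le_sup_right h2 _
  have h4 : (F ⊓ centralizer ((⁅D, D⁆ : Subgroup X) : Set X)).subgroupOf F = ⊤ := by
    apply nil_sup_comm
    apply Subgroup.map_injective F.subtype_injective
    rw [Subgroup.map_sup, Subgroup.map_subtype_commutator, ← MonoidHom.range_eq_map,
      Subgroup.range_subtype, Subgroup.map_subgroupOf_eq_of_le inf_le_left, sup_comm, ← hF']
    exact h3
  have h5 : F ≤ centralizer ((⁅D, D⁆ : Subgroup X) : Set X) :=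
    (Subgroup.subgroupOf_eq_top.mp h4).trans inf_le_right
  exact Subgroup.le_centralizer_iff.mp h5

end Cfsg.Agent.Lib.helper43.BG1356A1b
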