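import Mathlib
import Cfsg.Prelude.Def_OddOrderLocal
import Cfsg.Agent.Lib.helper86.BG1356Defs
import Cfsg.Agent.Lib.helper64.BG1356A1a
import Cfsg.Agent.Lib.helper43.BG1356A1bCore

set_option autoImplicit false

/-!
# S1356 piece A1b: `frob_derived_centralizes` (nilpotent `F`), from A1a (helper64) and the
quotient reduction `Cfsg.Agent.Lib.helper43.BG1356A1b.core`.
-/

namespace Cfsg.Agent.Lib.helper86.BG1356

open Cfsg Subgroup

/-- **A1b.** (reduction to the abelian case) same statement for NILPOTENT `F`. -/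
theorem frob_derived_centralizes {X : Type*} [Group X] [Finite X] (F D K : Subgroup X)
    (hFn : Group.IsNilpotent F) (hDF : D ≤ normalizer (F : Set X))
    (hKF : K ≤ normalizer (F : Set X)) (hKD : K ≤ normalizer (D : Set X)) (hK1 : K ≠ ⊥)
    (hDK : D ⊓ K = ⊥)
    (hfrob : ∀ k ∈ K, k ≠ 1 → D ⊓ centralizer ({k} : Set X) = ⊥)
    (hsolv : Group.IsSolvable ↥(D ⊔ K)) (hodd : Odd (Nat.card ↥(D ⊔ K)))
    (hcop : (Nat.card ↥(D ⊔ K)).Coprime (Nat.card F))
    (C : Subgroup X) (hC : IsCyclic C)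
    (hpr : ∀ k ∈ K, k ≠ 1 → F ⊓ centralizer ({k} : Set X) = C) :
    ⁅D, D⁆ ≤ centralizer (F : Set X) :=
  Cfsg.Agent.Lib.helper43.BG1356A1b.core
    (fun Y _ _ F D K h1 h2 h3 h4 h5 h6 h7 h8 h9 h10 C h11 h12 =>
      frob_derived_centralizes_abelian F D K h1 h2 h3 h4 h5 h6 h7 h8 h9 h10 C h11 h12)
    F D K hFn hDF hKF hKD hK1 hDK hfrob hsolv hodd hcop C hC hpr

end Cfsg.Agent.Lib.helper86.BG1356
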