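import Mathlib
import Cfsg.Agent.Lib.helper20.D1EDefs
import Cfsg.Agent.Lib.helper79.GaloisChar
import Cfsg.Agent.Lib.helper81.CharOrtho

/-!
S4441 / S0960, sub-project SP-E (helper20's split), piece FX: an irreducible character which is a
constant integer `c` on the `p`-singular elements of `C_G(P)` has `|c| ≤ 1` (MX for its Galois
orbit).
-/

set_option autoImplicit false

namespace Cfsg.Agent.Lib.helper43.D1E

open Cfsg Cfsg.Agent.Lib.helper84 Cfsg.Agent.Lib.helper20.D1E

/-- PIECE FX : an irreducible character which is a constant integer `c` on the `p`-singular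
elements of `C_G(P)` has `|c| ≤ 1`  (MX for its Galois orbit). -/
theorem generic_const {G : Type*} [Group G] [Fintype G] (p : ℕ) [Fact p.Prime]
    (P : Sylow p G) (hP : Nat.card P = p) (hMX : GenericBound p P)
    (hcard : Nat.card (Subgroup.centralizer ((P : Subgroup G) : Set G)) =
      p * Nat.card {c : G // c ∈ Subgroup.centralizer ((P : Subgroup G) : Set G) ∧
        ¬ p ∣ orderOf c})
    (χ : IrrCharacter G) (c : ℤ)
    (hc : ∀ g : G, g ∈ Subgroup.centralizer ((P : Subgroup G) : Set G) → p ∣ orderOf g →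
      (χ : G → ℂ) g = (c : ℂ)) : |c| ≤ 1 := by
  classical
  have hp : p.Prime := Fact.out
  -- the Galois orbit of `χ`
  let S : Finset (IrrCharacter G) := Finset.univ.filter
    (fun ψ => ∃ τ : ℂ ≃+* ℂ, (ψ : G → ℂ) = fun g => τ ((χ : G → ℂ) g))
  have hS : d1GalStable S := by
    intro σ χ' ψ hχ' hψ
    obtain ⟨-, τ, hτ⟩ := Finset.mem_filter.mp hχ'
    refine Finset.mem_filter.mpr ⟨Finset.mem_univ _, τ.trans σ, ?_⟩
    rw [hψ, hτ]
    rfl
  have hχS : χ ∈ S :=
    Finset.mem_filter.mpr ⟨Finset.mem_univ _, RingEquiv.refl ℂ, rfl⟩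
  have hval : ∀ ψ ∈ S, ∀ g : G, g ∈ Subgroup.centralizer ((P : Subgroup G) : Set G) →
      p ∣ orderOf g → (ψ : G → ℂ) g = (c : ℂ) := by
    intro ψ hψ g hg hpg
    obtain ⟨-, τ, hτ⟩ := Finset.mem_filter.mp hψ
    rw [hτ]
    show τ ((χ : G → ℂ) g) = _
    rw [hc g hg hpg, map_intCast]
  have hmx := hMX S hS
  -- the degree sum
  have hDpos : (0 : ℝ) < ∑ ψ ∈ S, (charDegree (ψ : G → ℂ) : ℝ) := by
    apply Finset.sum_pos'
    · intro ψ _
      exact Nat.cast_nonneg _
    · exact ⟨χ, hχS, by exact_mod_cast Cfsg.Agent.Lib.helper81.irr_charDegree_pos χ⟩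
  -- the sum over the singular elements
  have h1 : ∀ g : G, Set.indicator
      {c : G | c ∈ Subgroup.centralizer ((P : Subgroup G) : Set G) ∧ p ∣ orderOf c}
      (fun c => ∑ ψ ∈ S, (ψ : G → ℂ) 1 * (ψ : G → ℂ) c) g
      = if (g ∈ Subgroup.centralizer ((P : Subgroup G) : Set G) ∧ p ∣ orderOf g)
        then (c : ℂ) * ((∑ ψ ∈ S, (charDegree (ψ : G → ℂ) : ℝ) : ℝ) : ℂ) else 0 := by
    intro g
    by_cases hg : g ∈ Subgroup.centralizer ((P : Subgroup G) : Set G) ∧ p ∣ orderOf g
    · rw [Set.indicator_of_mem (by exact hg), if_pos hg]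
      show ∑ ψ ∈ S, (ψ : G → ℂ) 1 * (ψ : G → ℂ) g = _
      rw [Complex.ofReal_sum, Finset.mul_sum]
      refine Finset.sum_congr rfl (fun ψ hψ => ?_)
      rw [hval ψ hψ g hg.1 hg.2, Cfsg.Agent.Lib.helper81.irr_one_eq_charDegree ψ, mul_comm]
      simp
    · rw [Set.indicator_of_notMem (by exact hg), if_neg hg]
  rw [Finset.sum_congr rfl (fun g _ => h1 g), Finset.sum_ite, Finset.sum_const_zero, add_zero,
    Finset.sum_const, nsmul_eq_mul] at hmx
  -- counting
  have hK : Nat.card {c : G // c ∈ Subgroup.centralizer ((P : Subgroup G) : Set G) ∧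
      ¬ p ∣ orderOf c} = (Finset.univ.filter (fun c : G =>
        c ∈ Subgroup.centralizer ((P : Subgroup G) : Set G) ∧ ¬ p ∣ orderOf c)).card :=
    Nat.subtype_card _ (by simp)
  have hC : Nat.card (Subgroup.centralizer ((P : Subgroup G) : Set G)) = (Finset.univ.filter
      (fun c : G => c ∈ Subgroup.centralizer ((P : Subgroup G) : Set G))).card :=
    Nat.subtype_card _ (by simp)
  have hsplit := Finset.card_filter_add_card_filter_not
    (s := Finset.univ.filter (fun c : G => c ∈ Subgroup.centralizer ((P : Subgroup G) : Set G)))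
    (fun c : G => p ∣ orderOf c)
  rw [Finset.filter_filter, Finset.filter_filter] at hsplit
  have hKpos : 0 < (Finset.univ.filter (fun c : G =>
        c ∈ Subgroup.centralizer ((P : Subgroup G) : Set G) ∧ ¬ p ∣ orderOf c)).card := by
    apply Finset.card_pos.mpr
    refine ⟨1, Finset.mem_filter.mpr ⟨Finset.mem_univ _, Subgroup.one_mem _, ?_⟩⟩
    rw [orderOf_one]
    exact hp.one_lt.ne' ∘ Nat.dvd_one.mp
  rw [hK] at hmx hcard
  rw [hC, ← hsplit] at hcard
  -- `n1 = (p - 1) * nK`
  have hn1 : ((Finset.univ.filter (fun c : G =>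
        c ∈ Subgroup.centralizer ((P : Subgroup G) : Set G) ∧ p ∣ orderOf c)).card : ℝ)
      = ((p : ℝ) - 1) * ((Finset.univ.filter (fun c : G =>
        c ∈ Subgroup.centralizer ((P : Subgroup G) : Set G) ∧ ¬ p ∣ orderOf c)).card : ℝ) := by
    have h2 : ((Finset.univ.filter (fun c : G =>
        c ∈ Subgroup.centralizer ((P : Subgroup G) : Set G) ∧ p ∣ orderOf c)).card : ℝ)
        + ((Finset.univ.filter (fun c : G =>
        c ∈ Subgroup.centralizer ((P : Subgroup G) : Set G) ∧ ¬ p ∣ orderOf c)).card : ℝ)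
        = (p : ℝ) * ((Finset.univ.filter (fun c : G =>
        c ∈ Subgroup.centralizer ((P : Subgroup G) : Set G) ∧ ¬ p ∣ orderOf c)).card : ℝ) := by
      exact_mod_cast hcard
    linarith
  rw [← hn1] at hmx
  have hn1pos : (0 : ℝ) < ((Finset.univ.filter (fun c : G =>
        c ∈ Subgroup.centralizer ((P : Subgroup G) : Set G) ∧ p ∣ orderOf c)).card : ℝ) := by
    rw [hn1]
    apply mul_pos
    · have : (2 : ℝ) ≤ p := by exact_mod_cast hp.two_le
      linarith
    · exact_mod_cast hKpos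
  rw [norm_mul, norm_mul, Complex.norm_natCast, Complex.norm_intCast, Complex.norm_real,
    Real.norm_of_nonneg hDpos.le] at hmx
  have h3 : |(c : ℝ)| ≤ 1 := by
    by_contra hcon
    push Not at hcon
    have : ((Finset.univ.filter (fun c : G =>
        c ∈ Subgroup.centralizer ((P : Subgroup G) : Set G) ∧ p ∣ orderOf c)).card : ℝ)
        * ∑ ψ ∈ S, (charDegree (ψ : G → ℂ) : ℝ)
        < ((Finset.univ.filter (fun c : G =>
        c ∈ Subgroup.centralizer ((P : Subgroup G) : Set G) ∧ p ∣ orderOf c)).card : ℝ)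
        * (|(c : ℝ)| * ∑ ψ ∈ S, (charDegree (ψ : G → ℂ) : ℝ)) := by
      apply mul_lt_mul_of_pos_left _ hn1pos
      nlinarith
    linarith
  have h4 : ((|c| : ℤ) : ℝ) ≤ 1 := by
    rw [Int.cast_abs]
    exact h3
  exact_mod_cast h4

end Cfsg.Agent.Lib.helper43.D1E
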