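import Mathlib
import Cfsg.Agent.Lib.helper20.D1EDefs
import Cfsg.Agent.Lib.helper79.GaloisChar
import Cfsg.Agent.Lib.helper81.CharOrtho
import Cfsg.Agent.Lib.helper83.FlPLevel

/-!
S4441 / S0960, sub-project SP-E (helper20's split), piece FY: the exceptional family (MY).
-/

set_option autoImplicit false

namespace Cfsg.Agent.Lib.helper43.D1E

open Cfsg Cfsg.Agent.Lib.helper84 Cfsg.Agent.Lib.helper20.D1E

theorem zeta_isPrimitiveRoot (p : ℕ) [Fact p.Prime] : IsPrimitiveRoot (zeta p) p := by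
  have hp : p.Prime := Fact.out
  exact Complex.isPrimitiveRoot_exp p hp.ne_zero

theorem zeta_pow_eq_exp (p : ℕ) (n : ℕ) :
    zeta p ^ n = Complex.exp (2 * Real.pi * Complex.I * (n : ℂ) / (p : ℂ)) := by
  unfold zeta
  rw [← Complex.exp_nat_mul]
  congr 1
  ring

theorem sum_units_zeta_pow (p : ℕ) [Fact p.Prime] (u : ℕ) (hu : ¬ p ∣ u) :
    ∑ b : (ZMod p)ˣ, zeta p ^ ((b : ZMod p).val * u) = -1 := by
  have h1 : ∀ b : (ZMod p)ˣ, zeta p ^ ((b : ZMod p).val * u) = (zeta p ^ u) ^ (b : ZMod p).val :=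
    fun b => pow_mul' _ _ _
  simp_rw [h1]
  have hw : (zeta p ^ u) ^ p = 1 := by
    rw [← pow_mul, mul_comm, pow_mul, (zeta_isPrimitiveRoot p).pow_eq_one, one_pow]
  rw [Cfsg.Agent.Lib.helper83.fl_sum_units_pow _ hw, if_neg]
  intro h
  exact hu ((zeta_isPrimitiveRoot p).pow_eq_one_iff_dvd u |>.mp h)

/-- PIECE FY : the exceptional family (MY). -/
theorem exceptional_abs {G : Type*} [Group G] [Fintype G] (p : ℕ) [Fact p.Prime]
    (M : Ideal AlgInt) (P : Sylow p G) (hP : Nat.card P = p)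
    (x : G) (hx : x ∈ (P : Subgroup G)) (hx1 : x ≠ 1)
    (H : Subgroup (ZMod p)ˣ) (hMY : ExceptionalBound p P x H)
    (hval : ∀ χ : PB M G, ∀ u : ℕ, ¬ p ∣ u →
      ∀ y ∈ Subgroup.centralizer ((P : Subgroup G) : Set G), ¬ p ∣ orderOf y →
        (χ.1 : G → ℂ) (x ^ u * y) =
          ∑ b : (ZMod p)ˣ, (rowZ p x (χ.1 : G → ℂ) b : ℂ) * zeta p ^ ((b : ZMod p).val * u))
    (hgal : ∀ (τ : ℂ ≃+* ℂ) (χ ψ : IrrCharacter G), (ψ : G → ℂ) = (fun g => τ ((χ : G → ℂ) g)) →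
      (χ ∈ principalBlock M G → ψ ∈ principalBlock M G) ∧
      ∃ c : (ZMod p)ˣ, ∀ b, rowZ p x (ψ : G → ℂ) (b * c) = rowZ p x (χ : G → ℂ) b)
    (hgalE : ∀ c : (ZMod p)ˣ, ∃ τ : ℂ ≃+* ℂ, ∀ χ ψ : IrrCharacter G,
      (ψ : G → ℂ) = (fun g => τ ((χ : G → ℂ) g)) →
      ∀ b, rowZ p x (ψ : G → ℂ) (b * c) = rowZ p x (χ : G → ℂ) b)
    (Y : Finset (PB M G)) (a : PB M G → (ZMod p)ˣ) (w₀ s : ℤ) (hs : s = 1 ∨ s = -1)
    (hHtop : H ≠ ⊤)
    (ha : ∀ b : (ZMod p)ˣ, ∃! ih : PB M G × (ZMod p)ˣ, ih.1 ∈ Y ∧ ih.2 ∈ H ∧ a ih.1 * ih.2 = b)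
    (hrowY : ∀ i ∈ Y, ∀ b, ((a i)⁻¹ * b ∈ H → rowZ p x (i.1 : G → ℂ) b = w₀ + s) ∧
      ((a i)⁻¹ * b ∉ H → rowZ p x (i.1 : G → ℂ) b = w₀))
    (hrowX : ∀ i, i ∉ Y → ∀ b b', rowZ p x (i.1 : G → ℂ) b = rowZ p x (i.1 : G → ℂ) b') :
    |(Y.card : ℤ) * w₀ + s| ≤ 1 := by
  classical
  have hp : p.Prime := Fact.out
  have hs0 : s ≠ 0 := by
    rcases hs with h | h <;> rw [h] <;> norm_num
  obtain ⟨k, hk⟩ : ∃ k : (ZMod p)ˣ, k ∉ H := by
    by_contra hcon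
    push Not at hcon
    exact hHtop ((Subgroup.eq_top_iff' H).mpr hcon)
  -- a principal character whose row is a shift of the row of a member of `Y` lies in `Y`
  have hnonconst : ∀ (j i : PB M G), i ∈ Y → ∀ c : (ZMod p)ˣ,
      (∀ b, rowZ p x (j.1 : G → ℂ) (b * c) = rowZ p x (i.1 : G → ℂ) b) → j ∈ Y := by
    intro j i hi c hrow
    by_contra hj
    have hconst := hrowX j hj
    have h1 := (hrowY i hi (a i)).1 (by rw [inv_mul_cancel]; exact H.one_mem)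
    have h2 := (hrowY i hi (a i * k)).2 (by rw [inv_mul_cancel_left]; exact hk)
    have h3 := hconst (a i * c) (a i * k * c)
    rw [hrow, hrow, h1, h2] at h3
    exact hs0 (by linarith)
  -- transport to `IrrCharacter G`
  let Y' : Finset (IrrCharacter G) := Y.image Subtype.val
  let a' : IrrCharacter G → (ZMod p)ˣ :=
    fun θ => if h : θ ∈ principalBlock M G then a ⟨θ, h⟩ else 1
  have ha'def : ∀ i : PB M G, a' i.1 = a i := by
    intro i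
    show (if h : i.1 ∈ principalBlock M G then a ⟨i.1, h⟩ else 1) = a i
    rw [dif_pos i.2]
  have hcardY : Y'.card = Y.card := Finset.card_image_of_injective _ Subtype.val_injective
  have hY' : d1GalStable Y' := by
    intro σ χ ψ hχ hψ
    obtain ⟨i, hi, rfl⟩ := Finset.mem_image.mp hχ
    obtain ⟨hψB, c, hc⟩ := hgal σ i.1 ψ hψ
    have hj := hnonconst ⟨ψ, hψB i.2⟩ i hi c hc
    exact Finset.mem_image.mpr ⟨⟨ψ, hψB i.2⟩, hj, rfl⟩
  have ha' : ∀ b : (ZMod p)ˣ, ∃! θh : IrrCharacter G × (ZMod p)ˣ,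
      θh.1 ∈ Y' ∧ θh.2 ∈ H ∧ a' θh.1 * θh.2 = b := by
    intro b
    obtain ⟨⟨i, h⟩, ⟨hiY, hhH, hab⟩, huniq⟩ := ha b
    refine ⟨(i.1, h), ⟨Finset.mem_image.mpr ⟨i, hiY, rfl⟩, hhH, ?_⟩, ?_⟩
    · show a' i.1 * h = b
      rw [ha'def i]
      exact hab
    · rintro ⟨θ, h'⟩ ⟨hθ, hh', hab'⟩
      obtain ⟨j, hj, rfl⟩ := Finset.mem_image.mp hθ
      have hab'' : a j * h' = b := by
        rw [← ha'def j]
        exact hab'
      have := huniq (j, h') ⟨hj, hh', hab''⟩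
      have h1 : j = i := congrArg Prod.fst this
      have h2 : h' = h := congrArg Prod.snd this
      rw [h1, h2]
  -- a member of `Y`
  obtain ⟨⟨i₀, h₀⟩, ⟨hi₀, -, -⟩, -⟩ := ha 1
  -- common degree
  have hdeg : ∀ θ ∈ Y', (θ : G → ℂ) 1 = ((charDegree (i₀.1 : G → ℂ) : ℕ) : ℂ) := by
    intro θ hθ
    obtain ⟨i, hi, rfl⟩ := Finset.mem_image.mp hθ
    obtain ⟨τ, hτ⟩ := hgalE ((a i₀)⁻¹ * a i)
    let ψ : IrrCharacter G := ⟨fun g => τ ((i₀.1 : G → ℂ) g),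
      Cfsg.Agent.Lib.helper79.isIrrCharacter_ringHom_comp (τ : ℂ →+* ℂ) i₀.1.2⟩
    have hrow := hτ i₀.1 ψ rfl
    have hψB := (hgal τ i₀.1 ψ rfl).1 i₀.2
    have hjY : (⟨ψ, hψB⟩ : PB M G) ∈ Y := hnonconst ⟨ψ, hψB⟩ i₀ hi₀ _ hrow
    have hrowj : rowZ p x (ψ : G → ℂ) (a i) = w₀ + s := by
      have h1 := hrow (a i₀)
      rw [mul_inv_cancel_left] at h1
      rw [h1]
      exact (hrowY i₀ hi₀ (a i₀)).1 (by rw [inv_mul_cancel]; exact H.one_mem)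
    have hmem : (a ⟨ψ, hψB⟩)⁻¹ * a i ∈ H := by
      by_contra hcon
      have h1 := (hrowY ⟨ψ, hψB⟩ hjY (a i)).2 hcon
      have h2 : rowZ p x (ψ : G → ℂ) (a i) = w₀ := h1
      rw [hrowj] at h2
      exact hs0 (by linarith)
    obtain ⟨⟨i', h'⟩, -, huniq⟩ := ha (a i)
    have e1 := huniq (i, 1) ⟨hi, H.one_mem, mul_one _⟩
    have e2 := huniq (⟨ψ, hψB⟩, (a ⟨ψ, hψB⟩)⁻¹ * a i) ⟨hjY, hmem, mul_inv_cancel_left _ _⟩
    have hji : (⟨ψ, hψB⟩ : PB M G) = i := congrArg Prod.fst (e2.trans e1.symm)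
    have h3 : (i.1 : G → ℂ) 1 = τ ((i₀.1 : G → ℂ) 1) := by
      rw [← hji]
    rw [h3, Cfsg.Agent.Lib.helper81.irr_one_eq_charDegree, map_natCast]
  -- values
  have hval' : ∀ θ ∈ Y', ∀ u : ℕ, ¬ p ∣ u → ∀ y : G,
      y ∈ Subgroup.centralizer ((P : Subgroup G) : Set G) → ¬ p ∣ orderOf y →
      (θ : G → ℂ) (x ^ u * y) = -(w₀ : ℂ) + (s : ℂ) * d1Per p H (a' θ) u := by
    intro θ hθ u hu y hy hy'
    obtain ⟨i, hi, rfl⟩ := Finset.mem_image.mp hθ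
    rw [hval i u hu y hy hy', ha'def i]
    have hrow : ∀ b : (ZMod p)ˣ, (rowZ p x (i.1 : G → ℂ) b : ℂ)
        = (w₀ : ℂ) + if (a i)⁻¹ * b ∈ H then (s : ℂ) else 0 := by
      intro b
      by_cases h : (a i)⁻¹ * b ∈ H
      · rw [(hrowY i hi b).1 h, if_pos h]
        push_cast
        ring
      · rw [(hrowY i hi b).2 h, if_neg h, add_zero]
    simp_rw [hrow, add_mul, Finset.sum_add_distrib, ← Finset.mul_sum]
    rw [sum_units_zeta_pow p u hu]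
    have hsum2 : ∑ b : (ZMod p)ˣ, (if (a i)⁻¹ * b ∈ H then (s : ℂ) else 0)
        * zeta p ^ ((b : ZMod p).val * u) = (s : ℂ) * d1Per p H (a i) u := by
      unfold d1Per
      rw [Finset.mul_sum]
      refine (Fintype.sum_equiv (Equiv.mulLeft (a i)) _ _ (fun h => ?_)).symm
      rw [Equiv.coe_mulLeft, inv_mul_cancel_left]
      by_cases hh : h ∈ H
      · rw [if_pos hh, Set.indicator_of_mem (by exact hh), zeta_pow_eq_exp]
      · rw [if_neg hh, Set.indicator_of_notMem (by exact hh), zero_mul, mul_zero]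
    rw [hsum2]
    ring
  have key := hMY Y' hY' (charDegree (i₀.1 : G → ℂ)) w₀ s hs a' ha' hdeg hval'
  rwa [hcardY] at key

end Cfsg.Agent.Lib.helper43.D1E
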