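import Mathlib
import Cfsg.Agent.Lib.helper81.S4484Defs

set_option autoImplicit false

namespace Cfsg.Agent.Lib.helper43.S4484

open Cfsg Cfsg.Agent.Lib.helper83 Cfsg.Agent.Lib.helper79 Cfsg.Agent.Lib.helper81
  Cfsg.Agent.Lib.helper81.S4484
open scoped Matrix

universe u

theorem h43sp5_pow {n : ℕ} (M C C' : Matrix (Fin n) (Fin n) ℂ) (hC : C' * C = 1) (l : ℕ) :
    (C * M * C') ^ l = C * M ^ l * C' := by
  have hC' : C * C' = 1 := mul_eq_one_comm.mp hC
  induction l with
  | zero => simp [hC']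
  | succ k ih =>
    rw [pow_succ, ih, pow_succ]
    calc C * M ^ k * C' * (C * M * C') = C * M ^ k * (C' * C) * M * C' := by
          simp only [mul_assoc]
      _ = C * (M ^ k * M) * C' := by rw [hC, mul_one]; simp only [mul_assoc]

/-- SP5 -/
theorem proj_conj {n : ℕ} (M C C' : Matrix (Fin n) (Fin n) ℂ) (hC : C' * C = 1) (p : ℕ)
    (lam : ℂ) : proj (C * M * C') p lam = C * proj M p lam * C' := by
  unfold proj
  rw [Matrix.mul_smul, Matrix.smul_mul, Finset.mul_sum, Finset.sum_mul]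
  congr 1
  apply Finset.sum_congr rfl
  intro l _
  rw [h43sp5_pow M C C' hC, Matrix.mul_smul, Matrix.smul_mul]

end Cfsg.Agent.Lib.helper43.S4484
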