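import Mathlib
import Cfsg.Agent.Lib.helper81.S4484Defs

set_option autoImplicit false

namespace Cfsg.Agent.Lib.helper43.S4484

open Cfsg Cfsg.Agent.Lib.helper83 Cfsg.Agent.Lib.helper79 Cfsg.Agent.Lib.helper81
  Cfsg.Agent.Lib.helper81.S4484
open scoped Matrix

universe u

theorem h43sp6_pow {n : ℕ} (U : Matrix (Fin n) (Fin n) ℂ) (hU : Uᴴ * U = 1) (k : ℕ) :
    Uᴴ ^ k * U ^ k = 1 := by
  induction k with
  | zero => simp
  | succ k ih =>
    rw [pow_succ, pow_succ']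
    calc Uᴴ ^ k * Uᴴ * (U * U ^ k) = Uᴴ ^ k * (Uᴴ * U) * U ^ k := by simp only [mul_assoc]
      _ = 1 := by rw [hU, mul_one, ih]

theorem h43sp6_star (p : ℕ) (hp : 0 < p) (lam : ℂ) (hl : lam ^ p = 1) :
    star (lam⁻¹) = lam := by
  have hn : ‖lam‖ = 1 := Complex.norm_eq_one_of_pow_eq_one hl hp.ne'
  have hl0 : lam ≠ 0 := by
    intro h
    rw [h, zero_pow hp.ne'] at hl
    exact zero_ne_one hl
  have h1 : lam * (starRingEnd ℂ) lam = 1 := by
    rw [Complex.mul_conj, Complex.normSq_eq_norm_sq, hn]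
    simp
  have h2 : (starRingEnd ℂ) lam = lam⁻¹ := eq_inv_of_mul_eq_one_right h1
  have h3 : star lam = lam⁻¹ := h2
  rw [star_inv₀, h3, inv_inv]

/-- SP6 -/
theorem proj_conjTranspose {n : ℕ} (U : Matrix (Fin n) (Fin n) ℂ) (p : ℕ) (hp : 0 < p)
    (hU : Uᴴ * U = 1) (hUp : U ^ p = 1) (lam : ℂ) (hl : lam ^ p = 1) :
    (proj U p lam)ᴴ = proj U p lam := by
  have hstar := h43sp6_star p hp lam hl
  unfold proj
  rw [Matrix.conjTranspose_smul, Matrix.conjTranspose_sum]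
  have hpstar : star ((p : ℂ)⁻¹) = (p : ℂ)⁻¹ := by
    rw [star_inv₀]
    simp
  rw [hpstar]
  congr 1
  have e1 : ∀ l ∈ Finset.range p, (lam⁻¹ ^ l • U ^ l)ᴴ = lam ^ l • Uᴴ ^ l := by
    intro l _
    rw [Matrix.conjTranspose_smul, Matrix.conjTranspose_pow, star_pow, hstar]
  rw [Finset.sum_congr rfl e1]
  obtain ⟨m, rfl⟩ : ∃ m, p = m + 1 := ⟨p - 1, by omega⟩
  rw [Finset.sum_range_succ' (fun l => lam ^ l • Uᴴ ^ l) m,
    Finset.sum_range_succ' (fun l => lam⁻¹ ^ l • U ^ l) m]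
  congr 1
  rw [← Finset.sum_range_reflect (fun l => lam⁻¹ ^ (l + 1) • U ^ (l + 1)) m]
  apply Finset.sum_congr rfl
  intro j hj
  have hj' : j < m := Finset.mem_range.mp hj
  have hidx : m - 1 - j + 1 = m - j := by omega
  rw [hidx]
  have hsum : (j + 1) + (m - j) = m + 1 := by omega
  have hlam : lam ^ (j + 1) = lam⁻¹ ^ (m - j) := by
    rw [inv_pow]
    apply eq_inv_of_mul_eq_one_left
    rw [← pow_add, hsum, hl]
  have hUU : Uᴴ ^ (j + 1) = U ^ (m - j) := by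
    calc Uᴴ ^ (j + 1) = Uᴴ ^ (j + 1) * (U ^ (j + 1) * U ^ (m - j)) := by
          rw [← pow_add, hsum, hUp, mul_one]
      _ = (Uᴴ ^ (j + 1) * U ^ (j + 1)) * U ^ (m - j) := by rw [mul_assoc]
      _ = U ^ (m - j) := by rw [h43sp6_pow U hU, one_mul]
  rw [hlam, hUU]

end Cfsg.Agent.Lib.helper43.S4484
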