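import Mathlib
import Cfsg.Agent.Lib.helper68.HallPet
import Cfsg.Agent.Lib.helper65.PearlDefs
import Cfsg.Agent.Lib.helper65.PearlBasic

set_option autoImplicit false

namespace Cfsg.Agent.Lib.helper65.PearlPow

open Cfsg.Agent.Lib.helper68

variable {H : Type*} [Group H]

/-- D1 (S/M). With `e = s⁻¹ s'`: `(dl s)⁻¹ dl s' = com (dl s n) (e n) * dl e n`
(`PolySeq.comm (PolySeq.diff hs) h`, `PolySeq.diff h`). -/
theorem rel_dl {u v : ℕ} {s s' : ℕ → H} (hs : PolySeq v s) (h : Rel u s s') :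
    Rel (u + 1) (dl s) (dl s') := by
  unfold Rel at h ⊢
  have e1 : (fun n : ℕ => (dl s n)⁻¹ * dl s' n) = fun n =>
      com ((s n)⁻¹ * s (n + 1)) ((s n)⁻¹ * s' n) *
        (((s n)⁻¹ * s' n)⁻¹ * ((s (n + 1))⁻¹ * s' (n + 1))) := by
    funext n
    unfold dl com
    group
  rw [e1]
  exact PolySeq.mul (PolySeq.mono (by omega) (PolySeq.comm (PolySeq.diff hs) h)) (PolySeq.diff h)

end Cfsg.Agent.Lib.helper65.PearlPow
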