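-- helper43: restriction of a character to an abelian subgroup all of whose nonidentity elements
-- take a common character value: χ(1) = m + (q-1) r, χ(u) = m - r with m, r natural numbers.
import Mathlib
import Cfsg.Prelude.Def_Characters
import Cfsg.Agent.Lib.helper4.Induction
import Cfsg.Agent.Lib.helper19.LinChar
import Cfsg.Agent.Lib.helper82.CharQuot

set_option autoImplicit false

namespace Cfsg.Agent.Lib.helper43

open scoped ComplexConjugate
open Cfsg.Agent.Lib.helper4

universe u

section

variable {G : Type u} [Group G]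

/-- The sum of a nontrivial homomorphism to `ℂˣ` over a finite group vanishes. -/
theorem sum_hom_eq_zero {H : Type*} [Group H] [Fintype H] (f : H →* ℂˣ) {a : H} (ha : f a ≠ 1) :
    ∑ h : H, ((f h : ℂˣ) : ℂ) = 0 := by
  have h1 : ((f a : ℂˣ) : ℂ) * ∑ h : H, ((f h : ℂˣ) : ℂ) = ∑ h : H, ((f h : ℂˣ) : ℂ) := by
    rw [Finset.mul_sum]
    conv_rhs => rw [← Equiv.sum_comp (Equiv.mulLeft a)]
    apply Finset.sum_congr rfl
    intro h _
    simp
  have h2 : (((f a : ℂˣ) : ℂ) - 1) * ∑ h : H, ((f h : ℂˣ) : ℂ) = 0 := by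
    rw [sub_mul, one_mul, h1, sub_self]
  rcases mul_eq_zero.1 h2 with h3 | h3
  · exfalso
    apply ha
    apply Units.ext
    simpa using sub_eq_zero.1 h3
  · exact h3

/-- **Restriction to an abelian subgroup with a single nonidentity value**: if `χ` is a
character of `G`, `U` an abelian subgroup and `χ` takes the same value `χ u₁` at all
nonidentity elements of `U`, then `χ 1 = m + (|U| - 1) r` and `χ u₁ = m - r` for natural
numbers `m` (multiplicity of the trivial character of `U`) and `r` (multiplicity of any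
nontrivial linear character of `U`). -/
theorem exists_nat_decomp [Finite G] (U : Subgroup G) [Fintype U] (hU : ∀ a ∈ U, ∀ b ∈ U, a * b = b * a)
    (u₁ : G) (hu₁ : u₁ ∈ U) (hu₁' : u₁ ≠ 1)
    (χ : G → ℂ) (hχ : Cfsg.IsCharacter G χ) (hconst : ∀ u ∈ U, u ≠ 1 → χ u = χ u₁) :
    ∃ m r : ℕ, χ 1 = (m : ℂ) + ((Nat.card U : ℂ) - 1) * r ∧ χ u₁ = (m : ℂ) - r ∧
      ∑ u : U, χ (u : G) = (Nat.card U : ℂ) * m := by
  classical
  have hθ : Cfsg.IsCharacter U (fun u : U => χ u) := isCharacter_restrict U hχ
  have hq : (Nat.card U : ℂ) ≠ 0 := by exact_mod_cast (Nat.card_pos (α := U)).ne'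
  have hcomm : ∀ a b : U, a * b = b * a := fun a b => Subtype.ext (hU a a.2 b b.2)
  obtain ⟨ψ, hψ⟩ := Cfsg.Agent.Lib.helper82.exists_hom_apply_ne_one hcomm
    (a := (⟨u₁, hu₁⟩ : U)) (fun h => hu₁' (congrArg Subtype.val h))
  obtain ⟨m, hm⟩ := exists_nat_classInner hθ (isCharacter_one (G := U))
  obtain ⟨r, hr⟩ := exists_nat_classInner hθ (Cfsg.Agent.Lib.helper19.isCharacter_of_hom ψ)
  -- the sum over U
  have hsplit : ∀ f : U → ℂ, ∑ u : U, f u = f 1 + ∑ u ∈ Finset.univ.erase (1 : U), f u :=
    fun f => (Finset.add_sum_erase Finset.univ f (Finset.mem_univ 1)).symm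
  have hval : ∀ u ∈ Finset.univ.erase (1 : U), χ (u : G) = χ u₁ := by
    intro u hu
    apply hconst u u.2
    intro h
    exact (Finset.mem_erase.1 hu).1 (Subtype.ext h)
  have hcard : ((Finset.univ.erase (1 : U)).card : ℂ) = (Nat.card U : ℂ) - 1 := by
    rw [Finset.card_erase_of_mem (Finset.mem_univ _), Finset.card_univ, Nat.card_eq_fintype_card,
      Nat.cast_sub Fintype.card_pos]
    simp
  have hsum1 : ∑ u : U, χ (u : G) = χ 1 + ((Nat.card U : ℂ) - 1) * χ u₁ := by
    rw [hsplit (fun u => χ (u : G)), Finset.sum_congr rfl hval, Finset.sum_const, nsmul_eq_mul,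
      hcard]
    simp
  have hψsum : ∑ u : U, conj ((ψ u : ℂˣ) : ℂ) = 0 := by
    rw [← map_sum, sum_hom_eq_zero ψ hψ, map_zero]
  have hsum2 : ∑ u : U, χ (u : G) * conj ((ψ u : ℂˣ) : ℂ) = χ 1 - χ u₁ := by
    rw [hsplit (fun u => χ (u : G) * conj ((ψ u : ℂˣ) : ℂ))]
    have h1 : ∑ u ∈ Finset.univ.erase (1 : U), χ (u : G) * conj ((ψ u : ℂˣ) : ℂ) =
        χ u₁ * ∑ u ∈ Finset.univ.erase (1 : U), conj ((ψ u : ℂˣ) : ℂ) := by
      rw [Finset.mul_sum]
      apply Finset.sum_congr rfl
      intro u hu
      rw [hval u hu]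
    have h2 : ∑ u ∈ Finset.univ.erase (1 : U), conj ((ψ u : ℂˣ) : ℂ) = -1 := by
      have := hsplit (fun u => conj ((ψ u : ℂˣ) : ℂ))
      rw [hψsum] at this
      simp only [map_one, Units.val_one] at this
      linear_combination -this
    rw [h1, h2]
    simp
    ring
  have hm' : (Nat.card U : ℂ) * m = χ 1 + ((Nat.card U : ℂ) - 1) * χ u₁ := by
    rw [← hm, ← hsum1]
    unfold Cfsg.classInner
    simp only [map_one, mul_one]
    field_simp
  have hr' : (Nat.card U : ℂ) * r = χ 1 - χ u₁ := by
    rw [← hr, ← hsum2]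
    unfold Cfsg.classInner
    field_simp
  refine ⟨m, r, ?_, ?_, ?_⟩
  · apply mul_left_cancel₀ hq
    linear_combination -hm' - ((Nat.card U : ℂ) - 1) * hr'
  · apply mul_left_cancel₀ hq
    linear_combination -hm' + hr'
  · rw [hsum1, hm']

end

section Bound

open Module

variable {G : Type*} [Group G] [Finite G]
variable {V : Type*} [AddCommGroup V] [Module ℂ V]

/-- If an irreducible representation has a common eigenvector for a subgroup `B`, then its
degree is at most the index of `B` (the translates of the eigenvector by coset representatives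
span).  Adapted from `helper82.finrank_le_index_of_abelian`. -/
theorem finrank_le_index_of_eigenvector (ρ : Representation ℂ G V) [ρ.IsIrreducible]
    (B : Subgroup G) (v : V) (hv0 : v ≠ 0) (c : B → ℂ) (hc : ∀ b : B, ρ (b : G) v = c b • v) :
    finrank ℂ V ≤ B.index := by
  classical
  let W : Subrepresentation ρ :=
    { toSubmodule := Submodule.span ℂ (Set.range (fun g : G => ρ g v))
      apply_mem_toSubmodule := by
        intro g w hw
        induction hw using Submodule.span_induction with
        | mem x hx =>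
          obtain ⟨h, rfl⟩ := hx
          apply Submodule.subset_span
          exact ⟨g * h, by simp⟩
        | zero => simp
        | add x y _ _ hx hy => rw [map_add]; exact Submodule.add_mem _ hx hy
        | smul a x _ hx => rw [map_smul]; exact Submodule.smul_mem _ a hx }
  have hWtop : W = ⊤ := by
    rcases eq_bot_or_eq_top W with h | h
    · exfalso
      have hv : v ∈ W.toSubmodule := Submodule.subset_span ⟨1, by simp⟩
      rw [h] at hv
      exact hv0 ((Submodule.mem_bot ℂ).mp hv)
    · exact h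
  have hspan : Submodule.span ℂ (Set.range (fun g : G => ρ g v)) = ⊤ := by
    have := congrArg Subrepresentation.toSubmodule hWtop
    exact this
  have : Fintype (G ⧸ B) := Fintype.ofFinite _
  let F : G ⧸ B → V := fun q => ρ (Quotient.out q) v
  have hle : Submodule.span ℂ (Set.range (fun g : G => ρ g v)) ≤ Submodule.span ℂ (Set.range F) := by
    apply Submodule.span_le.mpr
    rintro _ ⟨g, rfl⟩
    have hmem : (Quotient.out (QuotientGroup.mk g : G ⧸ B))⁻¹ * g ∈ B := by
      rw [← QuotientGroup.eq]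
      exact Quotient.out_eq _
    have hg : g = Quotient.out (QuotientGroup.mk g : G ⧸ B) *
        ((Quotient.out (QuotientGroup.mk g : G ⧸ B))⁻¹ * g) := by group
    have h1 : ρ g v = c ⟨_, hmem⟩ • F (QuotientGroup.mk g) := by
      conv_lhs => rw [hg]
      rw [map_mul, Module.End.mul_apply]
      have := hc ⟨_, hmem⟩
      simp only at this
      rw [this, map_smul]
    show ρ g v ∈ Submodule.span ℂ (Set.range F)
    rw [h1]
    exact Submodule.smul_mem _ _ (Submodule.subset_span ⟨_, rfl⟩)
  have htop : Submodule.span ℂ (Set.range F) = ⊤ := by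
    rw [eq_top_iff, ← hspan]; exact hle
  have h1 : finrank ℂ V = finrank ℂ (Submodule.span ℂ (Set.range F)) := by
    rw [htop, finrank_top]
  rw [h1]
  calc finrank ℂ (Submodule.span ℂ (Set.range F)) ≤ Fintype.card (G ⧸ B) := finrank_range_le_card F
    _ = B.index := by rw [Subgroup.index, Nat.card_eq_fintype_card]

/-- If `U ≤ B`, `B` is abelian modulo `U`, and an irreducible representation has a nonzero
`U`-fixed vector, then its degree is at most the index of `B`. -/
theorem finrank_le_index_of_fixed [FiniteDimensional ℂ V] (ρ : Representation ℂ G V) [ρ.IsIrreducible]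
    (B U : Subgroup G) (hUB : U ≤ B)
    (hab : ∀ a ∈ B, ∀ b ∈ B, ∃ u ∈ U, a * b = b * a * u)
    (w : V) (hw : w ≠ 0) (hfix : ∀ u ∈ U, ρ u w = w) : finrank ℂ V ≤ B.index := by
  classical
  -- the space of U-fixed vectors
  let W : Submodule ℂ V :=
    { carrier := {v | ∀ u ∈ U, ρ u v = v}
      add_mem' := by
        intro a b ha hb u hu
        rw [map_add, ha u hu, hb u hu]
      zero_mem' := by
        intro u _
        simp
      smul_mem' := by
        intro c a ha u hu
        rw [map_smul, ha u hu] }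
  have hWmem : ∀ v : V, v ∈ W ↔ ∀ u ∈ U, ρ u v = v := fun v => Iff.rfl
  have hinv : ∀ b : B, ∀ v ∈ W, ρ (b : G) v ∈ W := by
    intro b v hv u hu
    obtain ⟨u', hu', he⟩ := hab u (hUB hu) b b.2
    have : ρ u (ρ (b : G) v) = ρ (u * (b : G)) v := by rw [map_mul]; rfl
    rw [this, he, map_mul, map_mul]
    show ρ (b : G) (ρ u (ρ u' v)) = ρ (b : G) v
    rw [hv u' hu', hv u hu]
  let f : B → End ℂ W := fun b => (ρ (b : G)).restrict (hinv b)
  have hf : ∀ (b : B) (v : W), ((f b v : W) : V) = ρ (b : G) (v : V) := fun b v => rfl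
  have hcomm : ∀ a b : B, Commute (f a) (f b) := by
    intro a b
    show f a * f b = f b * f a
    apply LinearMap.ext
    intro v
    apply Subtype.ext
    show ρ (a : G) (ρ (b : G) (v : V)) = ρ (b : G) (ρ (a : G) (v : V))
    obtain ⟨u', hu', he⟩ := hab a a.2 b b.2
    have h1 : ρ (a : G) (ρ (b : G) (v : V)) = ρ ((a : G) * (b : G)) (v : V) := by
      rw [map_mul]; rfl
    rw [h1, he, map_mul, map_mul]
    show ρ (b : G) (ρ (a : G) (ρ u' (v : V))) = _
    rw [v.2 u' hu']
  have hpow : ∀ (b : B) (k : ℕ) (v : W), ((((f b) ^ k) v : W) : V) = ((ρ (b : G)) ^ k) (v : V) := by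
    intro b k
    induction k with
    | zero => intro v; simp
    | succ k ih =>
      intro v
      rw [pow_succ, pow_succ, Module.End.mul_apply, ih, hf, Module.End.mul_apply]
  have hss : ∀ b : B, (f b).IsSemisimple := by
    intro b
    apply Cfsg.Agent.Lib.helper82.isSemisimple_of_pow_eq_one _ (orderOf (b : G)) (orderOf_pos _)
    apply LinearMap.ext
    intro v
    apply Subtype.ext
    rw [hpow, Cfsg.Agent.Lib.helper82.rep_pow_orderOf]
    rfl
  have : Nontrivial W := by
    refine ⟨⟨⟨w, hfix⟩, 0, ?_⟩⟩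
    intro h
    exact hw (congrArg Subtype.val h)
  obtain ⟨v, hv0, c, hc⟩ := Cfsg.Agent.Lib.helper82.exists_common_eigenvector f hcomm hss
  apply finrank_le_index_of_eigenvector ρ B (v : V) (fun h => hv0 (Subtype.ext h)) c
  intro b
  have := congrArg Subtype.val (hc b)
  rw [hf] at this
  rw [this]
  rfl

/-- Character form: an irreducible character whose sum over `U` is nonzero has degree at most
the index of `B`, when `U ≤ B` and `B` is abelian modulo `U`. -/
theorem degree_le_index_of_sum_ne_zero {χ : G → ℂ} (hχ : Cfsg.IsIrrCharacter G χ)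
    (B U : Subgroup G) [Fintype U] (hUB : U ≤ B)
    (hab : ∀ a ∈ B, ∀ b ∈ B, ∃ u ∈ U, a * b = b * a * u)
    (hsum : ∑ u : U, χ (u : G) ≠ 0) : ∃ n : ℕ, χ 1 = n ∧ n ≤ B.index := by
  classical
  obtain ⟨n, ρ, hirr, rfl⟩ := hχ
  have := hirr
  refine ⟨n, by simp, ?_⟩
  let e : End ℂ (Fin n → ℂ) := ∑ u : U, ρ (u : G)
  have he : e ≠ 0 := by
    intro h
    apply hsum
    have : ∑ u : U, ρ.character (u : G) = LinearMap.trace ℂ _ e := by
      simp only [e, map_sum]
      rfl
    rw [this, h, map_zero]
  obtain ⟨x, hx⟩ : ∃ x, e x ≠ 0 := by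
    by_contra hcon
    push Not at hcon
    exact he (LinearMap.ext hcon)
  have hfix : ∀ u ∈ U, ρ u (e x) = e x := by
    intro u hu
    simp only [e, LinearMap.sum_apply, map_sum]
    conv_rhs => rw [← Equiv.sum_comp (Equiv.mulLeft (⟨u, hu⟩ : U))]
    apply Finset.sum_congr rfl
    intro u' _
    simp only [Equiv.coe_mulLeft, Subgroup.coe_mul, map_mul]
    rfl
  have := finrank_le_index_of_fixed ρ B U hUB hab (e x) hx hfix
  simpa using this

end Bound

section SumU

variable {G : Type*} [Group G]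

/-- The sum over a subgroup `U` of a function taking a common value at all nonidentity
elements of `U`. -/
theorem sum_subgroup_of_const (U : Subgroup G) [Fintype U] (u₁ : G) (χ : G → ℂ)
    (hconst : ∀ u ∈ U, u ≠ 1 → χ u = χ u₁) :
    ∑ u : U, χ (u : G) = χ 1 + ((Nat.card U : ℂ) - 1) * χ u₁ := by
  classical
  have hval : ∀ u ∈ Finset.univ.erase (1 : U), χ (u : G) = χ u₁ := by
    intro u hu
    apply hconst u u.2
    intro h
    exact (Finset.mem_erase.1 hu).1 (Subtype.ext h)
  have hcard : ((Finset.univ.erase (1 : U)).card : ℂ) = (Nat.card U : ℂ) - 1 := by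
    rw [Finset.card_erase_of_mem (Finset.mem_univ _), Finset.card_univ, Nat.card_eq_fintype_card,
      Nat.cast_sub Fintype.card_pos]
    simp
  rw [← Finset.add_sum_erase Finset.univ (fun u : U => χ (u : G)) (Finset.mem_univ 1),
    Finset.sum_congr rfl hval, Finset.sum_const, nsmul_eq_mul, hcard]
  simp

/-- If `B` is abelian modulo `U ≤ B`, then `B` normalizes `U`. -/
theorem conj_mem_of_comm_mod (B U : Subgroup G) (hUB : U ≤ B)
    (hab : ∀ a ∈ B, ∀ b ∈ B, ∃ u ∈ U, a * b = b * a * u) :
    ∀ b ∈ B, ∀ u ∈ U, b⁻¹ * u * b ∈ U := by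
  intro b hb u hu
  obtain ⟨u', hu', he⟩ := hab u (hUB hu) b hb
  have : b⁻¹ * u * b = u * u' := by
    rw [mul_assoc, he]
    group
  rw [this]
  exact U.mul_mem hu hu'

end SumU

end Cfsg.Agent.Lib.helper43
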