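-- helper43: degree classification of irreducible characters for groups of "GL₂/SL₂ type":
-- an abelian subgroup U with a single class of nonidentity elements, contained in a subgroup B
-- which is abelian modulo U and has index ≤ |U| + 1.
import Mathlib
import Cfsg.Prelude.Def_Characters
import Cfsg.Agent.Lib.helper43.UDecomp

set_option autoImplicit false

namespace Cfsg.Agent.Lib.helper43

open scoped ComplexConjugate
open Cfsg.Agent.Lib.helper4

universe u

/-- Pure counting lemma behind the degree classification. -/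
theorem count_types {ι : Type*} [Fintype ι] (m r : ι → ℕ) (q L MR M2 : ℕ) (hq : 2 ≤ q)
    (h1 : ∑ i, (r i) ^ 2 + L = Fintype.card ι)
    (h2 : ∑ i, m i * r i = MR)
    (h3 : ∑ i, (m i) ^ 2 = M2)
    (h4 : (Finset.univ.filter (fun i => r i = 0)).card = L)
    (h4' : ∀ i, r i = 0 → m i = 1)
    (h5 : ∀ i, 1 ≤ m i → m i + (q - 1) * r i ≤ q + 1) :
    (∀ i, (r i = 0 ∧ m i = 1) ∨ (r i = 1 ∧ m i ≤ 2)) ∧
    (Finset.univ.filter (fun i => r i = 1 ∧ m i = 1)).card +
      2 * (Finset.univ.filter (fun i => r i = 1 ∧ m i = 2)).card = MR ∧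
    L + (Finset.univ.filter (fun i => r i = 1 ∧ m i = 1)).card +
      4 * (Finset.univ.filter (fun i => r i = 1 ∧ m i = 2)).card = M2 ∧
    L + (Finset.univ.filter (fun i => r i = 1 ∧ m i = 0)).card +
      (Finset.univ.filter (fun i => r i = 1 ∧ m i = 1)).card +
      (Finset.univ.filter (fun i => r i = 1 ∧ m i = 2)).card = Fintype.card ι := by
  classical
  -- step 1: r ≤ 1
  have hcnt : ∑ i : ι, (if r i = 0 then 0 else 1) + L = Fintype.card ι := by
    have h := Finset.card_filter_add_card_filter_not (s := (Finset.univ : Finset ι))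
      (fun i => r i = 0)
    rw [h4, Finset.card_univ] at h
    rw [← h, Finset.card_filter (fun i => ¬ r i = 0)]
    rw [add_comm]
    congr 1
    apply Finset.sum_congr rfl
    intro i _
    by_cases hi : r i = 0 <;> simp [hi]
  have hle : ∀ i ∈ (Finset.univ : Finset ι), (if r i = 0 then 0 else 1) ≤ (r i) ^ 2 := by
    intro i _
    by_cases hi : r i = 0
    · simp [hi]
    · simp only [hi, if_false]
      exact Nat.one_le_pow _ _ (Nat.pos_of_ne_zero hi)
  have heq : ∑ i : ι, (if r i = 0 then 0 else 1) = ∑ i : ι, (r i) ^ 2 := by omega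
  have hpt := (Finset.sum_eq_sum_iff_of_le hle).1 heq
  have hr1 : ∀ i, r i ≤ 1 := by
    intro i
    have := hpt i (Finset.mem_univ i)
    by_cases hi : r i = 0
    · omega
    · simp only [hi, if_false] at this
      nlinarith
  have hcls : ∀ i, (r i = 0 ∧ m i = 1) ∨ (r i = 1 ∧ m i ≤ 2) := by
    intro i
    have := hr1 i
    by_cases hi : r i = 0
    · exact Or.inl ⟨hi, h4' i hi⟩
    · have hi1 : r i = 1 := by omega
      refine Or.inr ⟨hi1, ?_⟩
      by_cases hm : m i = 0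
      · omega
      · have := h5 i (by omega)
        rw [hi1, Nat.mul_one] at this
        omega
  refine ⟨hcls, ?_, ?_, ?_⟩
  · rw [← h2, Finset.card_filter, Finset.card_filter, Finset.mul_sum, ← Finset.sum_add_distrib]
    apply Finset.sum_congr rfl
    intro i _
    rcases hcls i with ⟨hr, hm⟩ | ⟨hr, hm⟩
    · simp [hr]
    · have : m i = 0 ∨ m i = 1 ∨ m i = 2 := by omega
      rcases this with h | h | h <;> simp [hr, h]
  · rw [← h3, ← h4, Finset.card_filter, Finset.card_filter, Finset.card_filter, Finset.mul_sum,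
      ← Finset.sum_add_distrib, ← Finset.sum_add_distrib]
    apply Finset.sum_congr rfl
    intro i _
    rcases hcls i with ⟨hr, hm⟩ | ⟨hr, hm⟩
    · simp [hr, hm]
    · have : m i = 0 ∨ m i = 1 ∨ m i = 2 := by omega
      rcases this with h | h | h <;> simp [hr, h]
  · rw [← h4, Finset.card_filter, Finset.card_filter, Finset.card_filter, Finset.card_filter,
      ← Finset.sum_add_distrib, ← Finset.sum_add_distrib, ← Finset.sum_add_distrib,
      ← Finset.card_univ, Finset.card_eq_sum_ones]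
    apply Finset.sum_congr rfl
    intro i _
    rcases hcls i with ⟨hr, hm⟩ | ⟨hr, hm⟩
    · simp [hr]
    · have : m i = 0 ∨ m i = 1 ∨ m i = 2 := by omega
      rcases this with h | h | h <;> simp [hr, h]

section Master

variable {G : Type u} [Group G] [Fintype G]

/-- **Degree classification** for groups of `GL₂`/`SL₂` type.  Data: an abelian subgroup `U`
of order `q` whose nonidentity elements are all conjugate to `u₁`; a subgroup `B ≥ U`, abelian
modulo `U`, of index at most `q + 1`; a normal subgroup `N` with abelian quotient of order `L`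
which is the normal closure of `u₁`; and the numerical identity
`k(G) q² = |G| + |C_G(u₁)| + L q²`.  Then every irreducible character `χ` has
`χ 1 = m + (q - 1) r`, `χ u₁ = m - r` with `(m, r) ∈ {(1,0), (0,1), (1,1), (2,1)}`, and the
numbers of characters of each type satisfy the stated linear relations. -/
theorem degree_classification [Fintype (Cfsg.IrrCharacter G)]
    (q L : ℕ) (hq : 2 ≤ q) (U B N : Subgroup G) [N.Normal] (u₁ : G)
    (hUcomm : ∀ a ∈ U, ∀ b ∈ U, a * b = b * a) (hUcard : Nat.card U = q)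
    (hu₁ : u₁ ∈ U) (hu₁1 : u₁ ≠ 1)
    (hconj : ∀ u ∈ U, u ≠ 1 → ∃ g : G, g * u₁ * g⁻¹ = u)
    (hUB : U ≤ B) (hab : ∀ a ∈ B, ∀ b ∈ B, ∃ u ∈ U, a * b = b * a * u)
    (hBidx : B.index ≤ q + 1)
    (hNu : u₁ ∈ N) (hNmin : ∀ K : Subgroup G, K.Normal → u₁ ∈ K → N ≤ K)
    (hNab : ∀ a b : G ⧸ N, a * b = b * a) (hNidx : N.index = L)
    (hk : Nat.card (ConjClasses G) * q ^ 2 =
      Nat.card G + Nat.card (Subgroup.centralizer ({u₁} : Set G)) + L * q ^ 2) :
    ∃ m r : Cfsg.IrrCharacter G → ℕ,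
      (∀ χ : Cfsg.IrrCharacter G, (χ : G → ℂ) 1 = (m χ : ℂ) + ((q : ℂ) - 1) * r χ) ∧
      (∀ χ : Cfsg.IrrCharacter G, (χ : G → ℂ) u₁ = (m χ : ℂ) - r χ) ∧
      (∀ χ, (r χ = 0 ∧ m χ = 1) ∨ (r χ = 1 ∧ m χ ≤ 2)) ∧
      (Finset.univ.filter (fun χ => r χ = 0)).card = L ∧
      q ^ 2 * ((Finset.univ.filter (fun χ => r χ = 1 ∧ m χ = 1)).card +
        2 * (Finset.univ.filter (fun χ => r χ = 1 ∧ m χ = 2)).card) +
          (q - 1) * Nat.card (Subgroup.centralizer ({u₁} : Set G)) = Nat.card G ∧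
      q ^ 2 * (L + (Finset.univ.filter (fun χ => r χ = 1 ∧ m χ = 1)).card +
        4 * (Finset.univ.filter (fun χ => r χ = 1 ∧ m χ = 2)).card) =
          Nat.card G + (q - 1) ^ 2 * Nat.card (Subgroup.centralizer ({u₁} : Set G)) ∧
      L + (Finset.univ.filter (fun χ => r χ = 1 ∧ m χ = 0)).card +
        (Finset.univ.filter (fun χ => r χ = 1 ∧ m χ = 1)).card +
        (Finset.univ.filter (fun χ => r χ = 1 ∧ m χ = 2)).card = Nat.card (ConjClasses G) := by
  classical
  have : Fintype U := Fintype.ofFinite U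
  have hq0 : (q : ℂ) ≠ 0 := by
    have : q ≠ 0 := by omega
    exact_mod_cast this
  -- step 1: the decomposition
  have hdec : ∀ χ : Cfsg.IrrCharacter G, ∃ m r : ℕ,
      (χ : G → ℂ) 1 = (m : ℂ) + ((q : ℂ) - 1) * r ∧ (χ : G → ℂ) u₁ = (m : ℂ) - r ∧
      ∑ u : U, (χ : G → ℂ) (u : G) = (q : ℂ) * m := by
    intro χ
    have hχ := isCharacter_of_isIrrCharacter χ.2
    have hcf := isClassFunction_of_isCharacter hχ
    have hconst : ∀ u ∈ U, u ≠ 1 → (χ : G → ℂ) u = (χ : G → ℂ) u₁ := by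
      intro u hu hu1
      obtain ⟨g, rfl⟩ := hconj u hu hu1
      exact hcf u₁ g
    obtain ⟨m, r, h1, h2, h3⟩ := exists_nat_decomp U hUcomm u₁ hu₁ hu₁1 _ hχ hconst
    rw [hUcard] at h1 h3
    exact ⟨m, r, h1, h2, h3⟩
  choose m r hdeg hval hsumU using hdec
  refine ⟨m, r, hdeg, hval, ?_⟩
  -- step 2: orthogonality sums
  have hconjx : ∀ χ : Cfsg.IrrCharacter G, conj ((χ : G → ℂ) 1) = (χ : G → ℂ) 1 := by
    intro χ
    rw [hdeg]
    simp
  have hconjy : ∀ χ : Cfsg.IrrCharacter G, conj ((χ : G → ℂ) u₁) = (χ : G → ℂ) u₁ := by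
    intro χ
    rw [hval]
    simp
  have hS1 : ∑ χ : Cfsg.IrrCharacter G, (χ : G → ℂ) 1 * (χ : G → ℂ) 1 = (Nat.card G : ℂ) := by
    have h := sum_irr_mul_conj_of_isConj (G := G) (g := 1) (h := 1) (IsConj.refl 1)
    have hc : Nat.card (Subgroup.centralizer ({1} : Set G)) = Nat.card G := by
      have : Subgroup.centralizer ({1} : Set G) = ⊤ := by
        ext x
        simp [Subgroup.mem_centralizer_iff]
      rw [this, Subgroup.card_top]
    rw [hc] at h
    rw [← h]
    apply Finset.sum_congr rfl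
    intro χ _
    rw [hconjx]
  have hS2 : ∑ χ : Cfsg.IrrCharacter G, (χ : G → ℂ) 1 * (χ : G → ℂ) u₁ = 0 := by
    have hnc : ¬ IsConj (1 : G) u₁ := by
      intro h
      exact hu₁1 (isConj_one_right.1 h)
    have h := sum_irr_mul_conj_of_not_isConj (G := G) hnc
    rw [← h]
    apply Finset.sum_congr rfl
    intro χ _
    rw [hconjy]
  have hS3 : ∑ χ : Cfsg.IrrCharacter G, (χ : G → ℂ) u₁ * (χ : G → ℂ) u₁ =
      (Nat.card (Subgroup.centralizer ({u₁} : Set G)) : ℂ) := by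
    have h := sum_irr_mul_conj_of_isConj (G := G) (g := u₁) (h := u₁) (IsConj.refl u₁)
    rw [← h]
    apply Finset.sum_congr rfl
    intro χ _
    rw [hconjy]
  set g := Nat.card G with hg
  set c := Nat.card (Subgroup.centralizer ({u₁} : Set G)) with hc
  have hq1 : ((q - 1 : ℕ) : ℂ) = (q : ℂ) - 1 := by
    rw [Nat.cast_sub (by omega)]
    simp
  have hR2 : q ^ 2 * ∑ χ : Cfsg.IrrCharacter G, (r χ) ^ 2 = g + c := by
    have h : ((q : ℂ)) ^ 2 * ∑ χ : Cfsg.IrrCharacter G, ((r χ : ℂ)) ^ 2 = (g : ℂ) + c := by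
      rw [← hS1, ← hS3]
      have h0 : (0 : ℂ) = 2 * ∑ χ : Cfsg.IrrCharacter G, (χ : G → ℂ) 1 * (χ : G → ℂ) u₁ := by
        rw [hS2, mul_zero]
      rw [← sub_zero (∑ χ : Cfsg.IrrCharacter G, (χ : G → ℂ) 1 * (χ : G → ℂ) 1), h0,
        Finset.mul_sum, Finset.mul_sum, ← Finset.sum_sub_distrib, ← Finset.sum_add_distrib]
      apply Finset.sum_congr rfl
      intro χ _
      rw [hdeg, hval]
      ring
    exact_mod_cast h
  have hMR : q ^ 2 * ∑ χ : Cfsg.IrrCharacter G, m χ * r χ + (q - 1) * c = g := by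
    have h : ((q : ℂ)) ^ 2 * ∑ χ : Cfsg.IrrCharacter G, (m χ : ℂ) * (r χ : ℂ) +
        ((q : ℂ) - 1) * c = (g : ℂ) := by
      rw [← hS1, ← hS3]
      have h0 : (0 : ℂ) = ((q : ℂ) - 2) *
          ∑ χ : Cfsg.IrrCharacter G, (χ : G → ℂ) 1 * (χ : G → ℂ) u₁ := by
        rw [hS2, mul_zero]
      rw [← add_zero (∑ χ : Cfsg.IrrCharacter G, (χ : G → ℂ) 1 * (χ : G → ℂ) 1), h0,
        Finset.mul_sum, Finset.mul_sum, Finset.mul_sum, ← Finset.sum_add_distrib,
        ← Finset.sum_add_distrib]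
      apply Finset.sum_congr rfl
      intro χ _
      rw [hdeg, hval]
      ring
    rw [← hq1] at h
    exact_mod_cast h
  have hM2 : q ^ 2 * ∑ χ : Cfsg.IrrCharacter G, (m χ) ^ 2 = g + (q - 1) ^ 2 * c := by
    have h : ((q : ℂ)) ^ 2 * ∑ χ : Cfsg.IrrCharacter G, ((m χ : ℂ)) ^ 2 =
        (g : ℂ) + ((q : ℂ) - 1) ^ 2 * c := by
      rw [← hS1, ← hS3]
      have h0 : (0 : ℂ) = 2 * ((q : ℂ) - 1) *
          ∑ χ : Cfsg.IrrCharacter G, (χ : G → ℂ) 1 * (χ : G → ℂ) u₁ := by
        rw [hS2, mul_zero]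
      rw [← add_zero (∑ χ : Cfsg.IrrCharacter G, (χ : G → ℂ) 1 * (χ : G → ℂ) 1), h0,
        Finset.mul_sum, Finset.mul_sum, Finset.mul_sum, ← Finset.sum_add_distrib,
        ← Finset.sum_add_distrib]
      apply Finset.sum_congr rfl
      intro χ _
      rw [hdeg, hval]
      ring
    rw [← hq1] at h
    exact_mod_cast h
  -- step 3: the kernel
  have hker : ∀ χ : Cfsg.IrrCharacter G,
      r χ = 0 ↔ ∀ x ∈ N, (χ : G → ℂ) x = (χ : G → ℂ) 1 := by
    intro χ
    constructor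
    · intro hr
      obtain ⟨K, hKn, hK⟩ :=
        Cfsg.Agent.Lib.helper82.exists_ker_of_isCharacter (isCharacter_of_isIrrCharacter χ.2)
      have hu : u₁ ∈ K := by
        rw [hK, hdeg, hval, hr]
        simp
      intro x hx
      exact (hK x).1 (hNmin K hKn hu hx)
    · intro h
      have h1 := h u₁ hNu
      rw [hdeg, hval] at h1
      have h2 : (q : ℂ) * (r χ : ℂ) = 0 := by linear_combination -h1
      rcases mul_eq_zero.1 h2 with h3 | h3
      · exact absurd h3 hq0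
      · exact_mod_cast h3
  have hm1 : ∀ χ : Cfsg.IrrCharacter G, r χ = 0 → m χ = 1 := by
    intro χ hr
    have hχN := (hker χ).1 hr
    have h1 := Cfsg.Agent.Lib.helper82.irrQuotEquiv_apply N ⟨χ, hχN⟩ 1
    have h2 := Cfsg.Agent.Lib.helper82.irr_one_of_commutative hNab
      (Cfsg.Agent.Lib.helper82.irrQuotEquiv N ⟨χ, hχN⟩).2
    have h3 : (χ : G → ℂ) 1 = 1 := by
      rw [← h1]
      exact h2
    rw [hdeg, hr] at h3
    simp only [Nat.cast_zero, mul_zero, add_zero] at h3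
    exact_mod_cast h3
  have hL : (Finset.univ.filter (fun χ : Cfsg.IrrCharacter G => r χ = 0)).card = L := by
    rw [← hNidx, Subgroup.index, ← Cfsg.Agent.Lib.helper82.card_irr_of_commutative hNab,
      ← Nat.card_congr (Cfsg.Agent.Lib.helper82.irrQuotEquiv N),
      ← Fintype.card_subtype, ← Nat.card_eq_fintype_card]
    exact Nat.card_congr (Equiv.subtypeEquivRight hker)
  -- step 4: the bound
  have hbound : ∀ χ : Cfsg.IrrCharacter G, 1 ≤ m χ → m χ + (q - 1) * r χ ≤ q + 1 := by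
    intro χ hm
    have hne : ∑ u : U, (χ : G → ℂ) (u : G) ≠ 0 := by
      rw [hsumU]
      apply mul_ne_zero hq0
      have : m χ ≠ 0 := by omega
      exact_mod_cast this
    obtain ⟨n, hn, hle⟩ := degree_le_index_of_sum_ne_zero χ.2 B U hUB hab hne
    rw [hdeg, ← hq1] at hn
    have hn' : m χ + (q - 1) * r χ = n := by exact_mod_cast hn
    omega
  -- step 5: counting
  have hk' : Fintype.card (Cfsg.IrrCharacter G) = Nat.card (ConjClasses G) := by
    rw [← Nat.card_eq_fintype_card]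
    exact card_irr_eq_card_conjClasses
  have hqpos : 0 < q ^ 2 := by positivity
  have h1 : ∑ χ : Cfsg.IrrCharacter G, (r χ) ^ 2 + L = Fintype.card (Cfsg.IrrCharacter G) := by
    rw [hk']
    apply Nat.eq_of_mul_eq_mul_left hqpos
    rw [Nat.mul_add, hR2]
    linarith
  obtain ⟨hcls, c1, c2, c3⟩ := count_types m r q L _ _ hq h1 rfl rfl hL hm1 hbound
  refine ⟨hcls, hL, ?_, ?_, ?_⟩
  · rw [c1]
    exact hMR
  · rw [c2]
    exact hM2
  · rw [c3, hk']

end Master

/-- For `q ≥ 3` the four degrees `1, q - 1, q, q + 1` are distinct, so the degree determines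
the type `(m, r)`. -/
theorem deg_iff_type (q : ℕ) (hq3 : 3 ≤ q) (m r : ℕ) (x : ℂ)
    (hx : x = (m : ℂ) + ((q : ℂ) - 1) * r) (hcls : (r = 0 ∧ m = 1) ∨ (r = 1 ∧ m ≤ 2)) :
    (x = 1 ↔ r = 0) ∧ (x = (q : ℂ) ↔ (r = 1 ∧ m = 1)) ∧
    (x = (q : ℂ) + 1 ↔ (r = 1 ∧ m = 2)) ∧ (x = (q : ℂ) - 1 ↔ (r = 1 ∧ m = 0)) := by
  have hq1 : ((q - 1 : ℕ) : ℂ) = (q : ℂ) - 1 := by
    rw [Nat.cast_sub (by omega)]
    simp
  have hd : x = ((m + (q - 1) * r : ℕ) : ℂ) := by
    rw [hx]
    push_cast [hq1]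
    ring
  have e1 : (x = 1 ↔ m + (q - 1) * r = 1) := by
    rw [hd]
    exact_mod_cast Iff.rfl
  have e2 : (x = (q : ℂ) ↔ m + (q - 1) * r = q) := by
    rw [hd]
    exact_mod_cast Iff.rfl
  have e3 : (x = (q : ℂ) + 1 ↔ m + (q - 1) * r = q + 1) := by
    rw [hd]
    exact_mod_cast Iff.rfl
  have e4 : (x = (q : ℂ) - 1 ↔ m + (q - 1) * r = q - 1) := by
    rw [hd, ← hq1]
    exact_mod_cast Iff.rfl
  rw [e1, e2, e3, e4]
  rcases hcls with ⟨hr, hm⟩ | ⟨hr, hm⟩
  · have h0 : (q - 1) * r = 0 := by rw [hr]; simp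
    omega
  · have h0 : (q - 1) * r = q - 1 := by rw [hr]; simp
    omega

end Cfsg.Agent.Lib.helper43
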