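-- helper43: basic structure of SL₂(F) used for the character degree classification.
import Mathlib
import Cfsg.Prelude.Def_Characters
import Cfsg.Prelude.Def_ParabolicCharacters
import Cfsg.Agent.Lib.helper43.DegClass
import Cfsg.Agent.S0242

set_option autoImplicit false

namespace Cfsg.Agent.Lib.helper43

open Matrix

section SL2

variable {F : Type*} [Field F]

/-- upper unitriangular element of `SL₂` -/
def uSL (b : F) : Matrix.SpecialLinearGroup (Fin 2) F :=
  ⟨!![1, b; 0, 1], by simp [Matrix.det_fin_two_of]⟩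

/-- lower unitriangular element of `SL₂` -/
def lSL (b : F) : Matrix.SpecialLinearGroup (Fin 2) F :=
  ⟨!![1, 0; b, 1], by simp [Matrix.det_fin_two_of]⟩

/-- the Weyl element of `SL₂` -/
def wSL : Matrix.SpecialLinearGroup (Fin 2) F :=
  ⟨!![0, 1; -1, 0], by simp [Matrix.det_fin_two_of]⟩

/-- the diagonal element `diag(a, a⁻¹)` of `SL₂` -/
def dSL (a : Fˣ) : Matrix.SpecialLinearGroup (Fin 2) F :=
  ⟨!![(a : F), 0; 0, ((a⁻¹ : Fˣ) : F)], by simp [Matrix.det_fin_two_of]⟩

theorem uSL_val (b : F) :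
    ((uSL b : Matrix.SpecialLinearGroup (Fin 2) F) : Matrix (Fin 2) (Fin 2) F) = !![1, b; 0, 1] :=
  rfl

theorem lSL_val (b : F) :
    ((lSL b : Matrix.SpecialLinearGroup (Fin 2) F) : Matrix (Fin 2) (Fin 2) F) = !![1, 0; b, 1] :=
  rfl

theorem wSL_val :
    ((wSL : Matrix.SpecialLinearGroup (Fin 2) F) : Matrix (Fin 2) (Fin 2) F) = !![0, 1; -1, 0] :=
  rfl

theorem dSL_val (a : Fˣ) :
    ((dSL a : Matrix.SpecialLinearGroup (Fin 2) F) : Matrix (Fin 2) (Fin 2) F) =
      !![(a : F), 0; 0, ((a⁻¹ : Fˣ) : F)] := rfl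

theorem sl2_ext {g h : Matrix.SpecialLinearGroup (Fin 2) F}
    (h00 : (g : Matrix (Fin 2) (Fin 2) F) 0 0 = (h : Matrix (Fin 2) (Fin 2) F) 0 0)
    (h01 : (g : Matrix (Fin 2) (Fin 2) F) 0 1 = (h : Matrix (Fin 2) (Fin 2) F) 0 1)
    (h10 : (g : Matrix (Fin 2) (Fin 2) F) 1 0 = (h : Matrix (Fin 2) (Fin 2) F) 1 0)
    (h11 : (g : Matrix (Fin 2) (Fin 2) F) 1 1 = (h : Matrix (Fin 2) (Fin 2) F) 1 1) : g = h := by
  apply Subtype.ext
  ext i j
  fin_cases i <;> fin_cases j <;> assumption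

theorem uSL_mul (a b : F) : uSL a * uSL b = uSL (a + b) := by
  apply sl2_ext <;>
    simp [uSL_val, Matrix.mul_apply, Fin.sum_univ_two, add_comm]

theorem uSL_zero : uSL (0 : F) = 1 := by
  apply sl2_ext <;> simp [uSL_val]

theorem uSL_injective : Function.Injective (uSL : F → Matrix.SpecialLinearGroup (Fin 2) F) := by
  intro a b h
  have := congrArg (fun g : Matrix.SpecialLinearGroup (Fin 2) F =>
    (g : Matrix (Fin 2) (Fin 2) F) 0 1) h
  simpa [uSL_val] using this

theorem uSL_inv (a : F) : (uSL a)⁻¹ = uSL (-a) := by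
  apply inv_eq_of_mul_eq_one_right
  rw [uSL_mul, add_neg_cancel, uSL_zero]

theorem lSL_mul (a b : F) : lSL a * lSL b = lSL (a + b) := by
  apply sl2_ext <;>
    simp [lSL_val, Matrix.mul_apply, Fin.sum_univ_two, add_comm]

theorem lSL_zero : lSL (0 : F) = 1 := by
  apply sl2_ext <;> simp [lSL_val]

theorem lSL_inv (a : F) : (lSL a)⁻¹ = lSL (-a) := by
  apply inv_eq_of_mul_eq_one_right
  rw [lSL_mul, add_neg_cancel, lSL_zero]

theorem dSL_conj (a : Fˣ) (b : F) : dSL a * uSL b * (dSL a)⁻¹ = uSL ((a : F) * (a : F) * b) := by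
  rw [mul_inv_eq_iff_eq_mul]
  apply sl2_ext <;> simp [uSL_val, dSL_val, Matrix.mul_apply, Fin.sum_univ_two]
  field_simp

theorem wSL_conj (b : F) : wSL * uSL b * wSL⁻¹ = lSL (-b) := by
  rw [mul_inv_eq_iff_eq_mul]
  apply sl2_ext <;> simp [uSL_val, lSL_val, wSL_val, Matrix.mul_apply, Fin.sum_univ_two]

/-- the upper unitriangular subgroup of `SL₂` -/
def USL (F : Type*) [Field F] : Subgroup (Matrix.SpecialLinearGroup (Fin 2) F) where
  carrier := Set.range (uSL : F → Matrix.SpecialLinearGroup (Fin 2) F)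
  mul_mem' := by
    rintro _ _ ⟨a, rfl⟩ ⟨b, rfl⟩
    exact ⟨a + b, (uSL_mul a b).symm⟩
  one_mem' := ⟨0, uSL_zero⟩
  inv_mem' := by
    rintro _ ⟨a, rfl⟩
    exact ⟨-a, (uSL_inv a).symm⟩

theorem mem_USL_iff (g : Matrix.SpecialLinearGroup (Fin 2) F) :
    g ∈ USL F ↔ ∃ b : F, uSL b = g := Iff.rfl

theorem uSL_mem (b : F) : uSL b ∈ USL F := ⟨b, rfl⟩

theorem USL_comm : ∀ a ∈ USL F, ∀ b ∈ USL F, a * b = b * a := by
  rintro _ ⟨a, rfl⟩ _ ⟨b, rfl⟩
  rw [uSL_mul, uSL_mul, add_comm]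

theorem card_USL [Finite F] : Nat.card (USL F) = Nat.card F :=
  Nat.card_range_of_injective uSL_injective

theorem uSL_one_ne_one : uSL (1 : F) ≠ 1 := by
  intro h
  rw [← uSL_zero] at h
  exact one_ne_zero (uSL_injective h)

/-- the upper triangular subgroup of `SL₂` -/
abbrev BSL (F : Type*) [Field F] : Subgroup (Matrix.SpecialLinearGroup (Fin 2) F) :=
  (Cfsg.upperTriangularGL 2 F).comap Matrix.SpecialLinearGroup.toGL

theorem mem_BSL_iff (g : Matrix.SpecialLinearGroup (Fin 2) F) :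
    g ∈ BSL F ↔ (g : Matrix (Fin 2) (Fin 2) F) 1 0 = 0 := by
  rw [Subgroup.mem_comap]
  constructor
  · intro h
    exact h (show (id (0 : Fin 2)) < id 1 by decide)
  · intro h i j hij
    fin_cases i <;> fin_cases j
    · exact absurd hij (by decide)
    · exact absurd hij (by decide)
    · exact h
    · exact absurd hij (by decide)

theorem USL_le_BSL : USL F ≤ BSL F := by
  rintro _ ⟨b, rfl⟩
  rw [mem_BSL_iff, uSL_val]
  simp

/-- the diagonal of an upper triangular matrix of `SL₂`, as a monoid homomorphism -/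
def diagHomSL (F : Type*) [Field F] : (BSL F) →* F × F where
  toFun b := (((b : Matrix.SpecialLinearGroup (Fin 2) F) : Matrix (Fin 2) (Fin 2) F) 0 0,
    ((b : Matrix.SpecialLinearGroup (Fin 2) F) : Matrix (Fin 2) (Fin 2) F) 1 1)
  map_one' := by simp
  map_mul' := by
    intro b c
    have hb := (mem_BSL_iff _).1 b.2
    have hc := (mem_BSL_iff _).1 c.2
    simp only [Subgroup.coe_mul, Matrix.SpecialLinearGroup.coe_mul, Matrix.mul_apply,
      Fin.sum_univ_two, hb, hc, zero_mul, mul_zero, add_zero, zero_add, Prod.mk_mul_mk]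

theorem BSL_comm_mod_USL : ∀ a ∈ BSL F, ∀ b ∈ BSL F, ∃ u ∈ USL F, a * b = b * a * u := by
  intro a ha b hb
  refine ⟨(b * a)⁻¹ * (a * b), ?_, by group⟩
  let a' : BSL F := ⟨a, ha⟩
  let b' : BSL F := ⟨b, hb⟩
  let c' : BSL F := (b' * a')⁻¹ * (a' * b')
  have hc : diagHomSL F c' = 1 := by
    have h1 : diagHomSL F (a' * b') = diagHomSL F (b' * a') := by
      rw [map_mul, map_mul, mul_comm]
    have h2 : diagHomSL F c' = diagHomSL F ((b' * a')⁻¹) * diagHomSL F (a' * b') := by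
      rw [← map_mul]
    rw [h2, h1, ← map_mul, inv_mul_cancel, map_one]
  have hc00 : ((c' : Matrix.SpecialLinearGroup (Fin 2) F) : Matrix (Fin 2) (Fin 2) F) 0 0 = 1 :=
    congrArg Prod.fst hc
  have hc11 : ((c' : Matrix.SpecialLinearGroup (Fin 2) F) : Matrix (Fin 2) (Fin 2) F) 1 1 = 1 :=
    congrArg Prod.snd hc
  have hc10 := (mem_BSL_iff _).1 c'.2
  refine ⟨((c' : Matrix.SpecialLinearGroup (Fin 2) F) : Matrix (Fin 2) (Fin 2) F) 0 1, ?_⟩
  show _ = (c' : Matrix.SpecialLinearGroup (Fin 2) F)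
  apply sl2_ext
  · rw [hc00]; simp [uSL_val]
  · simp [uSL_val]
  · rw [hc10]; simp [uSL_val]
  · rw [hc11]; simp [uSL_val]

theorem wSL_inv_val :
    (((wSL : Matrix.SpecialLinearGroup (Fin 2) F)⁻¹ : Matrix.SpecialLinearGroup (Fin 2) F) :
      Matrix (Fin 2) (Fin 2) F) = !![0, -1; 1, 0] := by
  rw [Matrix.SpecialLinearGroup.coe_inv, wSL_val, Matrix.adjugate_fin_two_of]
  simp

theorem index_BSL_le [Fintype F] : (BSL F).index ≤ Fintype.card F + 1 := by
  classical
  let rep : Option F → Matrix.SpecialLinearGroup (Fin 2) F ⧸ BSL F := fun o =>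
    match o with
    | none => QuotientGroup.mk wSL
    | some c => QuotientGroup.mk (lSL c)
  have hsurj : Function.Surjective rep := by
    intro x
    induction x using QuotientGroup.induction_on with
    | H g =>
      by_cases hp : (g : Matrix (Fin 2) (Fin 2) F) 0 0 = 0
      · refine ⟨none, ?_⟩
        show (QuotientGroup.mk wSL : Matrix.SpecialLinearGroup (Fin 2) F ⧸ BSL F) =
          QuotientGroup.mk g
        rw [QuotientGroup.eq, mem_BSL_iff, Matrix.SpecialLinearGroup.coe_mul, wSL_inv_val]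
        simp [Matrix.mul_apply, Fin.sum_univ_two, hp]
      · refine ⟨some ((g : Matrix (Fin 2) (Fin 2) F) 1 0 / (g : Matrix (Fin 2) (Fin 2) F) 0 0), ?_⟩
        show (QuotientGroup.mk (lSL _) : Matrix.SpecialLinearGroup (Fin 2) F ⧸ BSL F) =
          QuotientGroup.mk g
        rw [QuotientGroup.eq, lSL_inv, mem_BSL_iff]
        simp [lSL_val, Matrix.mul_apply, Fin.sum_univ_two]
        field_simp
        ring
  have h := Nat.card_le_card_of_surjective rep hsurj
  rw [Subgroup.index]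
  calc Nat.card (Matrix.SpecialLinearGroup (Fin 2) F ⧸ BSL F) ≤ Nat.card (Option F) := h
    _ = Fintype.card F + 1 := by
      rw [Nat.card_eq_fintype_card, Fintype.card_option]

/-- A normal subgroup of `SL₂(F)` containing all upper unitriangular elements is everything. -/
theorem eq_top_of_USL_le (K : Subgroup (Matrix.SpecialLinearGroup (Fin 2) F)) (hK : K.Normal)
    (hu' : ∀ b : F, uSL b ∈ K) : K = ⊤ := by
  have hl : ∀ b : F, lSL b ∈ K := by
    intro b
    have := hK.conj_mem _ (hu' (-b)) wSL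
    rw [wSL_conj, neg_neg] at this
    exact this
  have key : ∀ g : Matrix.SpecialLinearGroup (Fin 2) F,
      (g : Matrix (Fin 2) (Fin 2) F) 1 0 ≠ 0 → g ∈ K := by
    intro g hc
    have hg := g.2
    rw [Matrix.det_fin_two] at hg
    have : g = uSL (((g : Matrix (Fin 2) (Fin 2) F) 0 0 - 1) / (g : Matrix (Fin 2) (Fin 2) F) 1 0) *
        lSL ((g : Matrix (Fin 2) (Fin 2) F) 1 0) *
        uSL (((g : Matrix (Fin 2) (Fin 2) F) 1 1 - 1) / (g : Matrix (Fin 2) (Fin 2) F) 1 0) := by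
      apply sl2_ext
      · simp [uSL_val, lSL_val, Matrix.mul_apply, Fin.sum_univ_two]
        field_simp
        ring
      · simp [uSL_val, lSL_val, Matrix.mul_apply, Fin.sum_univ_two]
        field_simp
        linear_combination -hg
      · simp [uSL_val, lSL_val, Matrix.mul_apply, Fin.sum_univ_two]
      · simp [uSL_val, lSL_val, Matrix.mul_apply, Fin.sum_univ_two]
        field_simp
        ring
    rw [this]
    exact K.mul_mem (K.mul_mem (hu' _) (hl _)) (hu' _)
  rw [eq_top_iff]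
  intro g _
  by_cases hc : (g : Matrix (Fin 2) (Fin 2) F) 1 0 = 0
  · have hg' := g.2
    rw [Matrix.det_fin_two, hc] at hg'
    have ha : (g : Matrix (Fin 2) (Fin 2) F) 0 0 ≠ 0 := by
      intro h0
      rw [h0] at hg'
      simp at hg'
    have h1 : lSL 1 * g ∈ K := by
      apply key
      simp [lSL_val, Matrix.mul_apply, Fin.sum_univ_two, hc, ha]
    have h2 : g = (lSL 1)⁻¹ * (lSL 1 * g) := by group
    rw [h2]
    exact K.mul_mem (K.inv_mem (hl 1)) h1
  · exact key g hc

theorem card_SL2 [Fintype F] :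
    Nat.card (Matrix.SpecialLinearGroup (Fin 2) F) =
      (Fintype.card F ^ 2 - 1) * Fintype.card F := by
  have h := Cfsg.Agent.S0242.result (F := F) (q := Fintype.card F) rfl 2 (by norm_num)
  rw [Fin.prod_univ_two] at h
  simp only [Fin.val_zero, pow_zero, Fin.val_one, pow_one] at h
  have hq : 2 ≤ Fintype.card F := Fintype.one_lt_card
  obtain ⟨a, ha⟩ : ∃ a, Fintype.card F = a + 1 := ⟨Fintype.card F - 1, by omega⟩
  rw [ha] at h ⊢
  have e2 : (a + 1) ^ 2 - (a + 1) = a * (a + 1) := by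
    rw [Nat.sub_eq_iff_eq_add (by nlinarith)]; ring
  rw [e2, Nat.add_sub_cancel] at h
  have ha0 : 0 < a := by omega
  apply Nat.eq_of_mul_eq_mul_left ha0
  rw [h]
  ring

theorem mem_centralizer_uSL_iff (h : Matrix.SpecialLinearGroup (Fin 2) F) :
    h ∈ Subgroup.centralizer ({uSL (1 : F)} : Set (Matrix.SpecialLinearGroup (Fin 2) F)) ↔
      (h : Matrix (Fin 2) (Fin 2) F) 1 0 = 0 ∧
        (h : Matrix (Fin 2) (Fin 2) F) 0 0 = (h : Matrix (Fin 2) (Fin 2) F) 1 1 := by
  rw [Subgroup.mem_centralizer_singleton_iff]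
  constructor
  · intro hc
    have hM : (h : Matrix (Fin 2) (Fin 2) F) * (uSL (1 : F) : Matrix (Fin 2) (Fin 2) F) =
        (uSL (1 : F) : Matrix (Fin 2) (Fin 2) F) * (h : Matrix (Fin 2) (Fin 2) F) := by
      have := congrArg (fun x : Matrix.SpecialLinearGroup (Fin 2) F =>
        (x : Matrix (Fin 2) (Fin 2) F)) hc
      simpa using this
    have e00 := congrFun (congrFun hM 0) 0
    have e01 := congrFun (congrFun hM 0) 1
    simp [uSL_val, Matrix.mul_apply, Fin.sum_univ_two] at e00 e01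
    exact ⟨e00, by linear_combination e01⟩
  · rintro ⟨k10, k00⟩
    apply sl2_ext <;> simp [uSL_val, Matrix.mul_apply, Fin.sum_univ_two, k10, k00, add_comm]

end SL2

end Cfsg.Agent.Lib.helper43
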