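import Cfsg.Agent.S4691
import Cfsg.Agent.Lib.helper81.Kernel
import Cfsg.Agent.Lib.helper81.WBO
import Cfsg.Agent.Lib.helper40.PComp
import Cfsg.Prelude.Def_BlockRank

/-!
# The principal block has p-regular rank one iff the group has a normal p-complement (helper43)

* `blockRank_eq_one_of_regular_ker`, `regular_ker_of_blockRank_eq_one` : for a set `B` of
  irreducible characters containing the trivial character, `blockRank p B = 1` iff every member
  of `B` is constant (equal to its degree) on the `p`-regular elements.
* `hasNormalPComplement_iff_blockRank_eq_one` : `G` has a normal `p`-complement iff the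
  principal block has `p`-regular rank one.
* `isNilpotentBlock_principal_iff_blockRank` : the principal block is nilpotent iff its
  `p`-regular rank is one.
-/

set_option autoImplicit false

namespace Cfsg.Agent.Lib.helper43

open Cfsg
open scoped ComplexConjugate

universe u

section Basic

variable {G : Type u} [Group G]

theorem pRegularPart_apply_of_regular (p : ℕ) (χ : G → ℂ) {g : G} (hg : IsPRegular p g) :
    pRegularPart p χ g = χ g := by
  unfold pRegularPart
  exact if_pos hg

theorem pRegularPart_apply_of_singular (p : ℕ) (χ : G → ℂ) {g : G} (hg : ¬ IsPRegular p g) :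
    pRegularPart p χ g = 0 := by
  unfold pRegularPart
  exact if_neg hg

theorem isPRegular_one_of_prime (p : ℕ) [hp : Fact p.Prime] : IsPRegular p (1 : G) := by
  unfold IsPRegular
  rw [orderOf_one]
  exact hp.out.not_dvd_one

/-- If every member of `B` is constant on the `p`-regular elements and `B` contains the trivial
character, then the `p`-regular rank of `B` is one. -/
theorem blockRank_eq_one_of_regular_ker (p : ℕ) [Fact p.Prime] (B : Set (IrrCharacter G))
    (τ : IrrCharacter G) (hτ : τ ∈ B) (hτ1 : ∀ g, (τ : G → ℂ) g = 1)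
    (h : ∀ χ ∈ B, ∀ g : G, IsPRegular p g → (χ : G → ℂ) g = (χ : G → ℂ) 1) :
    blockRank p B = 1 := by
  unfold blockRank
  have hspan : Submodule.span ℂ ((fun χ : IrrCharacter G => pRegularPart p (χ : G → ℂ)) '' B)
      = Submodule.span ℂ {pRegularPart p (τ : G → ℂ)} := by
    apply le_antisymm
    · rw [Submodule.span_le]
      rintro _ ⟨χ, hχ, rfl⟩
      rw [SetLike.mem_coe, Submodule.mem_span_singleton]
      refine ⟨(χ : G → ℂ) 1, ?_⟩
      show (χ : G → ℂ) 1 • pRegularPart p (τ : G → ℂ) = pRegularPart p (χ : G → ℂ)
      funext g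
      by_cases hg : IsPRegular p g
      · rw [Pi.smul_apply, pRegularPart_apply_of_regular p _ hg,
          pRegularPart_apply_of_regular p _ hg, hτ1, h χ hχ g hg, smul_eq_mul, mul_one]
      · rw [Pi.smul_apply, pRegularPart_apply_of_singular p _ hg,
          pRegularPart_apply_of_singular p _ hg, smul_zero]
    · rw [Submodule.span_le, Set.singleton_subset_iff]
      exact Submodule.subset_span ⟨τ, hτ, rfl⟩
  rw [hspan]
  apply finrank_span_singleton
  intro h0
  have h1 := congrFun h0 1
  rw [pRegularPart_apply_of_regular p _ (isPRegular_one_of_prime p), hτ1] at h1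
  exact one_ne_zero h1

/-- If the `p`-regular rank of `B` is one and `B` contains the trivial character, then every
member of `B` is constant on the `p`-regular elements. -/
theorem regular_ker_of_blockRank_eq_one (p : ℕ) [Fact p.Prime] (B : Set (IrrCharacter G))
    (τ : IrrCharacter G) (hτ : τ ∈ B) (hτ1 : ∀ g, (τ : G → ℂ) g = 1)
    (hr : blockRank p B = 1) :
    ∀ χ ∈ B, ∀ g : G, IsPRegular p g → (χ : G → ℂ) g = (χ : G → ℂ) 1 := by
  intro χ hχ g hg
  unfold blockRank at hr
  have hτV : pRegularPart p (τ : G → ℂ)
      ∈ Submodule.span ℂ ((fun χ : IrrCharacter G => pRegularPart p (χ : G → ℂ)) '' B) :=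
    Submodule.subset_span ⟨τ, hτ, rfl⟩
  have hχV : pRegularPart p (χ : G → ℂ)
      ∈ Submodule.span ℂ ((fun χ : IrrCharacter G => pRegularPart p (χ : G → ℂ)) '' B) :=
    Submodule.subset_span ⟨χ, hχ, rfl⟩
  have hne : (⟨_, hτV⟩ : Submodule.span ℂ
      ((fun χ : IrrCharacter G => pRegularPart p (χ : G → ℂ)) '' B)) ≠ 0 := by
    intro h0
    have h1 : pRegularPart p (τ : G → ℂ) = 0 := congrArg Subtype.val h0
    have h2 := congrFun h1 1
    rw [pRegularPart_apply_of_regular p _ (isPRegular_one_of_prime p), hτ1] at h2
    exact one_ne_zero h2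
  obtain ⟨c, hc⟩ := (finrank_eq_one_iff_of_nonzero' _ hne).mp hr ⟨_, hχV⟩
  have hc' : c • pRegularPart p (τ : G → ℂ) = pRegularPart p (χ : G → ℂ) :=
    congrArg Subtype.val hc
  have h1 := congrFun hc' 1
  have h2 := congrFun hc' g
  rw [Pi.smul_apply, pRegularPart_apply_of_regular p _ (isPRegular_one_of_prime p),
    pRegularPart_apply_of_regular p _ (isPRegular_one_of_prime p), hτ1, smul_eq_mul, mul_one] at h1
  rw [Pi.smul_apply, pRegularPart_apply_of_regular p _ hg,
    pRegularPart_apply_of_regular p _ hg, hτ1, smul_eq_mul, mul_one] at h2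
  rw [← h2, ← h1]

end Basic

section Main

variable {G : Type u} [Group G] [Fintype G]

open Cfsg.Agent.Lib.helper81 Cfsg.Agent.Lib.helper20

/-- In a group with a normal `p`-complement `N`, every `p`-regular element lies in `N`. -/
theorem mem_of_isComplement'_of_regular {p : ℕ} [Fact p.Prime] (P : Sylow p G) (N : Subgroup G)
    [hN : N.Normal] (hc : N.IsComplement' (P : Subgroup G)) {g : G} (hg : IsPRegular p g) :
    g ∈ N := by
  have hp : p.Prime := Fact.out
  obtain ⟨k, hk⟩ := (P.2).exists_card_eq
  have hidx : N.index = p ^ k := by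
    rw [← hk]
    exact hc.symm.index_eq_card
  have h1 : orderOf (QuotientGroup.mk' N g) ∣ orderOf g := orderOf_map_dvd _ g
  have h2 : orderOf (QuotientGroup.mk' N g) ∣ p ^ k := by
    rw [← hidx, Subgroup.index_eq_card]
    exact orderOf_dvd_natCard _
  have hcop : Nat.Coprime (orderOf g) (p ^ k) :=
    Nat.Coprime.pow_right k ((Nat.Prime.coprime_iff_not_dvd hp).mpr hg).symm
  have h3 : orderOf (QuotientGroup.mk' N g) = 1 :=
    Nat.eq_one_of_dvd_coprimes hcop h1 h2
  rw [orderOf_eq_one_iff] at h3
  exact (QuotientGroup.eq_one_iff g).mp h3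

/-- A finite group has a normal `p`-complement iff its principal block has `p`-regular rank one. -/
theorem hasNormalPComplement_iff_blockRank_eq_one (p : ℕ) [Fact p.Prime] (M : Ideal AlgInt)
    (hM : IsPModular p M) :
    HasNormalPComplement p G ↔ blockRank p (principalBlock M G) = 1 := by
  classical
  have hp : p.Prime := Fact.out
  have hMp := isPrime_of_isPModular hM
  constructor
  · rintro ⟨P, N, hN, hc⟩
    have hcop : (Nat.card N).Coprime p := by
      have h1 : (P : Subgroup G).index = Nat.card N := hc.index_eq_card
      have h2 := P.not_dvd_index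
      rw [h1] at h2
      exact ((Nat.Prime.coprime_iff_not_dvd hp).mpr h2).symm
    have hle : N ≤ pPrimeCore p G := le_sSup ⟨hN, hcop⟩
    apply blockRank_eq_one_of_regular_ker p (principalBlock M G) (trivChar G)
      (trivChar_mem_principalBlock hMp) (fun g => rfl)
    intro χ hχ g hg
    exact pPrimeCore_le_ker_of_mem_principalBlock hM hχ g
      (hle (mem_of_isComplement'_of_regular P N hc hg))
  · intro hr
    have hker := regular_ker_of_blockRank_eq_one p (principalBlock M G) (trivChar G)
      (trivChar_mem_principalBlock hMp) (fun g => rfl) hr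
    set K : Subgroup G := ⨅ χ : principalBlock M G,
      charKer ((χ : IrrCharacter G) : G → ℂ) (irr_isCharacter (χ : IrrCharacter G)) with hKdef
    have hKn : K.Normal := Subgroup.normal_iInf_normal (fun χ => charKer_normal _ _)
    have hmemK : ∀ n : G, n ∈ K ↔ ∀ χ ∈ principalBlock M G, (χ : G → ℂ) n = (χ : G → ℂ) 1 := by
      intro n
      rw [hKdef, Subgroup.mem_iInf]
      constructor
      · intro h χ hχ
        exact h ⟨χ, hχ⟩
      · intro h χ
        exact h χ.1 χ.2
    apply Cfsg.Agent.Lib.helper40.hasNormalPComplement_of_pprime_elements K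
    intro n
    constructor
    · intro hn
      rw [hmemK] at hn
      by_contra hcop
      have hdvd : p ∣ orderOf n := by
        by_contra hnd
        exact hcop ((Nat.Prime.coprime_iff_not_dvd hp).mpr hnd).symm
      have h0 := blockCoeff_block_eq_zero_of_singular hM
        (isPBlock_principalBlock (M := M) (G := G)) hdvd
      rw [blockCoeff_eq_sum] at h0
      have hG : (Nat.card G : ℂ)⁻¹ ≠ 0 := inv_ne_zero (by
        exact_mod_cast (Nat.card_pos (α := G)).ne')
      have h1 := (mul_eq_zero.mp h0).resolve_left hG
      have h2 : ∀ χ : IrrCharacter G,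
          (if χ ∈ principalBlock M G then (χ : G → ℂ) 1 * conj ((χ : G → ℂ) n) else 0)
            = (((if χ ∈ principalBlock M G then (charDegree (χ : G → ℂ) : ℝ) ^ 2 else 0 : ℝ)) : ℂ) := by
        intro χ
        by_cases hχ : χ ∈ principalBlock M G
        · rw [if_pos hχ, if_pos hχ, hn χ hχ, irr_one_eq_charDegree]
          simp [pow_two]
        · rw [if_neg hχ, if_neg hχ]
          simp
      rw [Finset.sum_congr rfl (fun χ _ => h2 χ), ← Complex.ofReal_sum] at h1
      have h3 : (0 : ℝ) < ∑ χ : IrrCharacter G,
          (if χ ∈ principalBlock M G then (charDegree (χ : G → ℂ) : ℝ) ^ 2 else 0) := by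
        apply Finset.sum_pos'
        · intro χ _
          split_ifs
          · positivity
          · exact le_refl _
        · refine ⟨trivChar G, Finset.mem_univ _, ?_⟩
          rw [if_pos (trivChar_mem_principalBlock hMp)]
          have := irr_charDegree_pos (trivChar G)
          positivity
      exact h3.ne' (by exact_mod_cast h1)
    · intro hcop
      rw [hmemK]
      intro χ hχ
      exact hker χ hχ n ((Nat.Prime.coprime_iff_not_dvd hp).mp hcop.symm)

/-- The principal block is nilpotent iff its `p`-regular rank is one. -/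
theorem isNilpotentBlock_principal_iff_blockRank (p : ℕ) [Fact p.Prime] (M : Ideal AlgInt)
    (hM : IsPModular p M) :
    IsNilpotentBlock p M (principalBlock M G) ↔ blockRank p (principalBlock M G) = 1 := by
  rw [← Cfsg.Agent.S4691.result p M hM]
  exact hasNormalPComplement_iff_blockRank_eq_one p M hM

end Main

end Cfsg.Agent.Lib.helper43
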