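import Mathlib
import Cfsg.Agent.Lib.helper81.CharOrtho
import Cfsg.Agent.Lib.helper81.Kernel
import Cfsg.Agent.Lib.helper82.CharQuot
import Cfsg.Agent.Lib.helper82.Ito
import Cfsg.Agent.Lib.helper67.Tate
import Cfsg.Agent.Lib.helper3.PGroupFrattini
import Cfsg.Agent.Lib.helper26.Basic
import Cfsg.Agent.Lib.helper13.SylowIn
import Cfsg.Agent.Lib.helper43.PrincipalRank

/-!
# Extending the `p'`-degree characters of a Sylow normalizer (helper43)

Let `P` be a Sylow `p`-subgroup of the finite group `G` and `N = N_G(P)`.  Every irreducible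
character of `N` of degree prime to `p` extends to `G` if and only if `N` has a normal
complement in `G`.

Sketch of the forward direction.  Let `R` be the normal closure of `P` and `K` the intersection
of the kernels of all `χ ∈ Irr(G)` whose restriction to `N` is irreducible and trivial on `P'`.
* characters of `N/P` extend to characters of `G` trivial on `R` and on `K`, so
  `N ∩ RK = P`;
* characters of `N/P'` have degree prime to `p` (Itô), so `K ∩ N = P'`;
* in `G/K` the image of `P` is an abelian, self-normalizing Sylow subgroup of the image of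
  `R`; Burnside's transfer gives `P ∩ R' ≤ K`, hence `P ∩ R' ≤ P'`;
* Tate's theorem gives a normal `p`-complement of `R`, which is the required complement.
-/

set_option autoImplicit false

namespace Cfsg.Agent.Lib.helper43

open Cfsg Cfsg.Agent.Lib.helper81 Cfsg.Agent.Lib.helper82
open scoped ComplexConjugate commutatorElement

universe u

section Separate

variable {H : Type u} [Group H] [Finite H]

/-- The irreducible characters of a finite group separate the identity from the other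
elements. -/
theorem eq_one_of_forall_irr_eq (h : H)
    (hh : ∀ χ : IrrCharacter H, (χ : H → ℂ) h = (χ : H → ℂ) 1) : h = 1 := by
  classical
  have := Fintype.ofFinite H
  by_contra hne
  have hcol := irr_col_orth h (1 : H)
  rw [if_neg (fun hc => hne (isConj_one_left.mp hc))] at hcol
  have hcol1 := irr_col_orth (1 : H) (1 : H)
  rw [if_pos (IsConj.refl _)] at hcol1
  simp only [hh] at hcol
  rw [hcol] at hcol1
  have hpos : 0 < Nat.card (Subgroup.centralizer ({(1 : H)} : Set H)) := Nat.card_pos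
  have : (Nat.card (Subgroup.centralizer ({(1 : H)} : Set H)) : ℂ) = 0 := hcol1.symm
  exact hpos.ne' (by exact_mod_cast this)

/-- An element outside a normal subgroup is moved by an irreducible character of the
quotient. -/
theorem exists_irr_quot_ne (L : Subgroup H) [L.Normal] {x : H} (hx : x ∉ L) :
    ∃ ψ : IrrCharacter (H ⧸ L), (ψ : H ⧸ L → ℂ) (x : H ⧸ L) ≠ (ψ : H ⧸ L → ℂ) 1 := by
  by_contra hcon
  push Not at hcon
  have h1 := eq_one_of_forall_irr_eq (x : H ⧸ L) hcon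
  exact hx ((QuotientGroup.eq_one_iff x).mp h1)

/-- Inflation of an irreducible character of a quotient, as an irreducible character. -/
noncomputable def inflIrr (L : Subgroup H) [L.Normal] (ψ : IrrCharacter (H ⧸ L)) :
    IrrCharacter H :=
  ⟨fun g => (ψ : H ⧸ L → ℂ) (g : H ⧸ L), isIrrCharacter_inflation L ψ.2⟩

omit [Finite H] in
theorem inflIrr_apply (L : Subgroup H) [L.Normal] (ψ : IrrCharacter (H ⧸ L)) (g : H) :
    (inflIrr L ψ : H → ℂ) g = (ψ : H ⧸ L → ℂ) (g : H ⧸ L) := rfl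

omit [Finite H] in
theorem charDegree_inflIrr (L : Subgroup H) [L.Normal] (ψ : IrrCharacter (H ⧸ L)) :
    charDegree (inflIrr L ψ : H → ℂ) = charDegree (ψ : H ⧸ L → ℂ) := rfl

/-- An element outside a normal subgroup `S` of index prime to `p` is moved by an irreducible
character of degree prime to `p` that is trivial on `S`. -/
theorem exists_irr_normal_ne {p : ℕ} (S : Subgroup H) [S.Normal] (hS : ¬ p ∣ S.index) {x : H}
    (hx : x ∉ S) :
    ∃ θ : IrrCharacter H, ¬ p ∣ charDegree (θ : H → ℂ) ∧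
      (∀ u ∈ S, (θ : H → ℂ) u = (θ : H → ℂ) 1) ∧ (θ : H → ℂ) x ≠ (θ : H → ℂ) 1 := by
  obtain ⟨ψ, hψ⟩ := exists_irr_quot_ne S hx
  refine ⟨inflIrr S ψ, ?_, ?_, hψ⟩
  · rw [charDegree_inflIrr]
    intro hp
    have h1 := Cfsg.Agent.Lib.helper82.irr_degree_dvd_card ψ
    rw [← Subgroup.index_eq_card] at h1
    exact hS (hp.trans h1)
  · intro u hu
    rw [inflIrr_apply, inflIrr_apply, (QuotientGroup.eq_one_iff u).mpr hu]
    rfl

/-- An element outside the derived subgroup of a normal subgroup `S` of index prime to `p`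
is moved by an irreducible character of degree prime to `p` (Itô) that is trivial on `S'`. -/
theorem exists_irr_commutator_ne {p : ℕ} (S : Subgroup H) [S.Normal] (hS : ¬ p ∣ S.index)
    {x : H} (hx : x ∉ ⁅S, S⁆) :
    ∃ θ : IrrCharacter H, ¬ p ∣ charDegree (θ : H → ℂ) ∧
      (∀ u ∈ ⁅S, S⁆, (θ : H → ℂ) u = (θ : H → ℂ) 1) ∧ (θ : H → ℂ) x ≠ (θ : H → ℂ) 1 := by
  obtain ⟨ψ, hψ⟩ := exists_irr_quot_ne ⁅S, S⁆ hx
  refine ⟨inflIrr ⁅S, S⁆ ψ, ?_, ?_, hψ⟩
  · rw [charDegree_inflIrr]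
    let A : Subgroup (H ⧸ ⁅S, S⁆) := S.map (QuotientGroup.mk' ⁅S, S⁆)
    have : A.Normal :=
      Subgroup.Normal.map inferInstance _ (QuotientGroup.mk'_surjective ⁅S, S⁆)
    have hA : ∀ a ∈ A, ∀ b ∈ A, a * b = b * a := by
      rintro _ ⟨u, hu, rfl⟩ _ ⟨v, hv, rfl⟩
      show ((u : H) : H ⧸ ⁅S, S⁆) * ((v : H) : H ⧸ ⁅S, S⁆)
        = ((v : H) : H ⧸ ⁅S, S⁆) * ((u : H) : H ⧸ ⁅S, S⁆)
      rw [← QuotientGroup.mk_mul, ← QuotientGroup.mk_mul, QuotientGroup.eq]
      have h1 : (u * v)⁻¹ * (v * u) = ⁅v⁻¹, u⁻¹⁆ := by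
        rw [commutatorElement_def]; group
      rw [h1]
      exact Subgroup.commutator_mem_commutator (S.inv_mem hv) (S.inv_mem hu)
    obtain ⟨d, hd1, hd2⟩ := ito_char A hA ψ.2
    have hdeg : charDegree (ψ : H ⧸ ⁅S, S⁆ → ℂ) = d := by
      have h2 := irr_one_eq_charDegree ψ
      rw [hd1] at h2
      exact_mod_cast h2.symm
    rw [hdeg]
    intro hp
    exact hS (hp.trans (hd2.trans
      (Subgroup.index_map_dvd S (QuotientGroup.mk'_surjective ⁅S, S⁆))))
  · intro u hu
    rw [inflIrr_apply, inflIrr_apply, (QuotientGroup.eq_one_iff u).mpr hu]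
    rfl

end Separate

section Complement

variable {G : Type u} [Group G]

/-- If `K` is a normal complement of `N` in `G`, every irreducible character of `N` extends
to `G` (inflate along `G → G/K ≅ N`). -/
theorem exists_extension_of_normal_complement (N K : Subgroup G) [K.Normal]
    (h1 : K ⊔ N = ⊤) (h2 : K ⊓ N = ⊥) (θ : IrrCharacter ↥N) :
    ∃ χ : IrrCharacter G, ∀ x : ↥N, (χ : G → ℂ) x = (θ : ↥N → ℂ) x := by
  let φ : ↥N →* G ⧸ K := (QuotientGroup.mk' K).comp N.subtype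
  have hinj : Function.Injective φ := by
    rw [injective_iff_map_eq_one]
    intro n hn
    have hnK : (n : G) ∈ K := (QuotientGroup.eq_one_iff (n : G)).mp hn
    have h3 : (n : G) ∈ K ⊓ N := ⟨hnK, n.2⟩
    rw [h2, Subgroup.mem_bot] at h3
    exact Subtype.ext h3
  have hsurj : Function.Surjective φ := by
    intro q
    obtain ⟨g, rfl⟩ := QuotientGroup.mk_surjective q
    have hg : g ∈ K ⊔ N := by rw [h1]; trivial
    obtain ⟨k, hk, n, hn, rfl⟩ := Subgroup.mem_sup_of_normal_left.mp hg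
    refine ⟨⟨n, hn⟩, ?_⟩
    show ((n : G) : G ⧸ K) = ((k * n : G) : G ⧸ K)
    rw [QuotientGroup.mk_mul, (QuotientGroup.eq_one_iff k).mpr hk, one_mul]
  let e : ↥N ≃* G ⧸ K := MulEquiv.ofBijective φ ⟨hinj, hsurj⟩
  let π : G →* ↥N := e.symm.toMonoidHom.comp (QuotientGroup.mk' K)
  have hπsurj : Function.Surjective π :=
    e.symm.surjective.comp (QuotientGroup.mk'_surjective K)
  have hπ : ∀ x : ↥N, π (x : G) = x := by
    intro x
    show e.symm ((x : G) : G ⧸ K) = x
    rw [MulEquiv.symm_apply_eq]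
    rfl
  obtain ⟨n, ρ, hirr, hρ⟩ := θ.2
  refine ⟨⟨fun g => (θ : ↥N → ℂ) (π g), ⟨n, compRep π ρ,
    (isIrreducible_comp_iff π hπsurj ρ).mpr hirr, ?_⟩⟩, ?_⟩
  · funext g
    rw [character_comp, hρ]
  · intro x
    show (θ : ↥N → ℂ) (π (x : G)) = _
    rw [hπ]

end Complement

section Main

variable {G : Type u} [Group G]

/-- Membership in the derived subgroup of a subgroup `B` of a subgroup `A`, tested in `G`. -/
theorem mem_commutator_of_coe_mem (A : Subgroup G) (B : Subgroup ↥A) (y : ↥B)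
    (h : ((y : ↥A) : G) ∈ ⁅B.map A.subtype, B.map A.subtype⁆) : y ∈ commutator ↥B := by
  have hj : Function.Injective (A.subtype.comp B.subtype) :=
    (Subgroup.subtype_injective A).comp (Subgroup.subtype_injective B)
  have h1 : (commutator ↥B).map (A.subtype.comp B.subtype)
      = ⁅B.map A.subtype, B.map A.subtype⁆ := by
    rw [commutator_def, Subgroup.map_commutator]
    have h2 : (⊤ : Subgroup ↥B).map (A.subtype.comp B.subtype) = B.map A.subtype := by
      rw [← Subgroup.map_map, ← MonoidHom.range_eq_map, Subgroup.range_subtype]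
    rw [h2]
  rw [← h1] at h
  obtain ⟨w, hw, hwy⟩ := h
  have hwy' : w = y := hj hwy
  rwa [hwy'] at hw

/-- **Extension of `p'`-degree characters from a Sylow normalizer forces a normal
complement.**  If every irreducible character of degree prime to `p` of `N = N_G(P)` extends
to `G`, then `N` has a normal complement in `G`. -/
theorem exists_normal_complement_of_extend [Finite G] {p : ℕ} [Fact p.Prime] (P : Sylow p G)
    (hext : ∀ θ : IrrCharacter ↥(Subgroup.normalizer ((P : Subgroup G) : Set G)),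
      ¬ p ∣ charDegree (θ : ↥(Subgroup.normalizer ((P : Subgroup G) : Set G)) → ℂ) →
      ∃ χ : IrrCharacter G, ∀ x : ↥(Subgroup.normalizer ((P : Subgroup G) : Set G)),
        (χ : G → ℂ) x = (θ : ↥(Subgroup.normalizer ((P : Subgroup G) : Set G)) → ℂ) x) :
    ∃ K : Subgroup G, K.Normal ∧ K ⊔ Subgroup.normalizer ((P : Subgroup G) : Set G) = ⊤ ∧
      K ⊓ Subgroup.normalizer ((P : Subgroup G) : Set G) = ⊥ := by
  classical
  have hp : p.Prime := Fact.out
  set N : Subgroup G := Subgroup.normalizer ((P : Subgroup G) : Set G) with hN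
  have hPN : (P : Subgroup G) ≤ N := Subgroup.le_normalizer
  set PN : Subgroup ↥N := (P : Subgroup G).subgroupOf N with hPNdef
  have hPNn : PN.Normal := Subgroup.normal_in_normalizer
  have hPNidx : ¬ p ∣ PN.index := fun h =>
    P.not_dvd_index (h.trans (Subgroup.relIndex_dvd_index_of_le hPN))
  have hmapPN : PN.map N.subtype = (P : Subgroup G) := by
    rw [hPNdef, Subgroup.subgroupOf_map_subtype, inf_of_le_left hPN]
  have hcomm : ∀ u : ↥N, u ∈ ⁅PN, PN⁆ ↔
      (u : G) ∈ ⁅(P : Subgroup G), (P : Subgroup G)⁆ := by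
    intro u
    have h1 : (⁅PN, PN⁆).map N.subtype = ⁅(P : Subgroup G), (P : Subgroup G)⁆ := by
      rw [Subgroup.map_commutator, hmapPN]
    rw [← h1]
    exact (Subgroup.mem_map_iff_mem (Subgroup.subtype_injective N)).symm
  -- the characters restricting irreducibly to `N` and trivially to `P'`, and their kernel
  let S : Set (IrrCharacter G) := {χ |
    (∀ y ∈ ⁅(P : Subgroup G), (P : Subgroup G)⁆, (χ : G → ℂ) y = (χ : G → ℂ) 1) ∧
      IsIrrCharacter ↥N (fun n : ↥N => (χ : G → ℂ) n)}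
  let K : Subgroup G := ⨅ χ : S,
    charKer ((χ : IrrCharacter G) : G → ℂ) (irr_isCharacter (χ : IrrCharacter G))
  have hKn : K.Normal := Subgroup.normal_iInf_normal (fun χ => inferInstance)
  have hK_mem : ∀ g : G, g ∈ K ↔ ∀ χ ∈ S, (χ : G → ℂ) g = (χ : G → ℂ) 1 := by
    intro g
    simp only [K, Subgroup.mem_iInf, mem_charKer, Subtype.forall]
  have hS_of_ext : ∀ (θ : IrrCharacter ↥N) (χ : IrrCharacter G),
      (∀ x : ↥N, (χ : G → ℂ) x = (θ : ↥N → ℂ) x) →
      (∀ u ∈ ⁅PN, PN⁆, (θ : ↥N → ℂ) u = (θ : ↥N → ℂ) 1) → χ ∈ S := by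
    intro θ χ hχ hθ
    refine ⟨?_, ?_⟩
    · intro y hy
      have hyP : y ∈ (P : Subgroup G) := Subgroup.commutator_le_self _ hy
      have hyN : y ∈ N := hPN hyP
      have h1 := hχ ⟨y, hyN⟩
      have h2 := hχ 1
      rw [show ((⟨y, hyN⟩ : ↥N) : G) = y from rfl] at h1
      rw [h1, show (χ : G → ℂ) 1 = (χ : G → ℂ) ((1 : ↥N) : G) from rfl, h2]
      exact hθ _ ((hcomm _).mpr hy)
    · have h3 : (fun n : ↥N => (χ : G → ℂ) n) = (θ : ↥N → ℂ) := funext hχ
      rw [h3]; exact θ.2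
  have hK1 : ⁅(P : Subgroup G), (P : Subgroup G)⁆ ≤ K := by
    intro y hy
    rw [hK_mem]
    intro χ hχ
    exact hχ.1 y hy
  have hK2 : K ⊓ N ≤ ⁅(P : Subgroup G), (P : Subgroup G)⁆ := by
    rintro x ⟨hxK, hxN⟩
    by_contra hx
    have hx' : (⟨x, hxN⟩ : ↥N) ∉ ⁅PN, PN⁆ := fun h => hx ((hcomm _).mp h)
    obtain ⟨θ, hdeg, htriv, hne⟩ := exists_irr_commutator_ne PN hPNidx hx'
    obtain ⟨χ, hχ⟩ := hext θ hdeg
    have hχS : χ ∈ S := hS_of_ext θ χ hχ htriv
    have h1 := (hK_mem x).mp hxK χ hχS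
    apply hne
    rw [← hχ ⟨x, hxN⟩, ← hχ 1]
    exact h1
  set R : Subgroup G := Subgroup.normalClosure ((P : Subgroup G) : Set G) with hRdef
  have hPR : (P : Subgroup G) ≤ R := Subgroup.le_normalClosure
  have hK3 : N ⊓ (R ⊔ K) ≤ (P : Subgroup G) := by
    rintro x ⟨hxN, hxRK⟩
    by_contra hx
    have hx' : (⟨x, hxN⟩ : ↥N) ∉ PN := fun h => hx (Subgroup.mem_subgroupOf.mp h)
    obtain ⟨θ, hdeg, htriv, hne⟩ := exists_irr_normal_ne PN hPNidx hx'
    obtain ⟨χ, hχ⟩ := hext θ hdeg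
    have hχS : χ ∈ S :=
      hS_of_ext θ χ hχ (fun u hu => htriv u (Subgroup.commutator_le_self PN hu))
    have hPker : (P : Subgroup G) ≤ charKer (χ : G → ℂ) (irr_isCharacter χ) := by
      intro u hu
      rw [mem_charKer]
      have h1 := hχ ⟨u, hPN hu⟩
      have h2 := hχ 1
      rw [show ((⟨u, hPN hu⟩ : ↥N) : G) = u from rfl] at h1
      rw [h1, show (χ : G → ℂ) 1 = (χ : G → ℂ) ((1 : ↥N) : G) from rfl, h2]
      exact htriv _ (Subgroup.mem_subgroupOf.mpr hu)
    have hRker : R ≤ charKer (χ : G → ℂ) (irr_isCharacter χ) :=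
      Subgroup.normalClosure_le_normal hPker
    have hKker : K ≤ charKer (χ : G → ℂ) (irr_isCharacter χ) := by
      intro g hg
      rw [mem_charKer]
      exact (hK_mem g).mp hg χ hχS
    have hxker : x ∈ charKer (χ : G → ℂ) (irr_isCharacter χ) := (sup_le hRker hKker) hxRK
    rw [mem_charKer] at hxker
    apply hne
    rw [← hχ ⟨x, hxN⟩, ← hχ 1]
    exact hxker
  -- the quotient by `K`
  let mk : G →* G ⧸ K := QuotientGroup.mk' K
  have hmk : Function.Surjective mk := QuotientGroup.mk'_surjective K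
  let Pb : Sylow p (G ⧸ K) := P.mapSurjective hmk
  have hPbmem : ∀ a : G ⧸ K, a ∈ (Pb : Subgroup (G ⧸ K)) ↔ ∃ u ∈ (P : Subgroup G), mk u = a :=
    fun a => Iff.rfl
  set Rb : Subgroup (G ⧸ K) := R.map mk with hRb
  have hPbRb : (Pb : Subgroup (G ⧸ K)) ≤ Rb := by
    intro a ha
    obtain ⟨u, hu, rfl⟩ := (hPbmem a).mp ha
    exact Subgroup.mem_map_of_mem mk (hPR hu)
  let Pb' : Sylow p ↥Rb := Pb.subtype hPbRb
  have hmemPb' : ∀ w : ↥Rb, w ∈ (Pb' : Subgroup ↥Rb) ↔
      ∃ u ∈ (P : Subgroup G), mk u = (w : G ⧸ K) := fun w => Iff.rfl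
  have hPbcomm : ∀ a b : G ⧸ K, a ∈ (Pb : Subgroup (G ⧸ K)) → b ∈ (Pb : Subgroup (G ⧸ K)) →
      a * b = b * a := by
    intro a b ha hb
    obtain ⟨u, hu, rfl⟩ := (hPbmem a).mp ha
    obtain ⟨v, hv, rfl⟩ := (hPbmem b).mp hb
    rw [← map_mul, ← map_mul]
    show ((u * v : G) : G ⧸ K) = ((v * u : G) : G ⧸ K)
    rw [QuotientGroup.eq]
    have h1 : (u * v)⁻¹ * (v * u) = ⁅v⁻¹, u⁻¹⁆ := by
      rw [commutatorElement_def]; group
    rw [h1]
    exact hK1 (Subgroup.commutator_mem_commutator (Subgroup.inv_mem _ hv)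
      (Subgroup.inv_mem _ hu))
  have hNC : Subgroup.normalizer ((Pb' : Subgroup ↥Rb) : Set ↥Rb) ≤
      Subgroup.centralizer ((Pb' : Subgroup ↥Rb) : Set ↥Rb) := by
    intro z hz
    have hzP : (z : G ⧸ K) ∈ (Pb : Subgroup (G ⧸ K)) := by
      obtain ⟨r, hrR, hrz⟩ : ∃ r ∈ R, mk r = (z : G ⧸ K) := z.2
      have hconj : ∀ u ∈ (P : Subgroup G), r * u * r⁻¹ ∈ (P : Subgroup G) ⊔ K := by
        intro u hu
        have hw : (⟨mk u, Subgroup.mem_map_of_mem mk (hPR hu)⟩ : ↥Rb) ∈
            (Pb' : Subgroup ↥Rb) := (hmemPb' _).mpr ⟨u, hu, rfl⟩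
        have h1 := (Subgroup.mem_normalizer_iff.mp hz _).mp hw
        obtain ⟨v, hv, hvz⟩ := (hmemPb' _).mp h1
        have h2 : mk v = mk (r * u * r⁻¹) := by
          rw [hvz, map_mul, map_mul, map_inv, hrz]; rfl
        have h3 : v⁻¹ * (r * u * r⁻¹) ∈ K := QuotientGroup.eq.mp h2
        have h4 : r * u * r⁻¹ = v * (v⁻¹ * (r * u * r⁻¹)) := by group
        rw [h4]
        exact Subgroup.mul_mem_sup hv h3
      obtain ⟨m, hm, hmP⟩ := Cfsg.Agent.Lib.helper26.exists_conj_le_sylow_of_le P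
        ((P : Subgroup G) ⊔ K) le_sup_left
        ((P : Subgroup G).map (MulAut.conj r).toMonoidHom) (by
          rintro _ ⟨u, hu, rfl⟩
          exact hconj u hu) (P.2.map _)
      have hmrN : m * r ∈ N := by
        apply Cfsg.Agent.Lib.helper13.mem_normalizer_of_forall_conj_mem
        intro u hu
        have h1 := hmP (r * u * r⁻¹) ⟨u, hu, rfl⟩
        have h2 : m * r * u * (m * r)⁻¹ = m * (r * u * r⁻¹) * m⁻¹ := by group
        rw [h2]; exact h1
      have hmRK : m ∈ R ⊔ K := (sup_le_sup_right hPR K) hm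
      have hmrP : m * r ∈ (P : Subgroup G) :=
        hK3 ⟨hmrN, Subgroup.mul_mem _ hmRK (Subgroup.mem_sup_left hrR)⟩
      have hmkm : mk m ∈ (Pb : Subgroup (G ⧸ K)) := by
        obtain ⟨a, ha, k, hk, rfl⟩ := Subgroup.mem_sup_of_normal_right.mp hm
        have h5 : mk (a * k) = mk a := by
          rw [map_mul, show mk k = 1 from (QuotientGroup.eq_one_iff k).mpr hk, mul_one]
        rw [h5]
        exact (hPbmem _).mpr ⟨a, ha, rfl⟩
      have h6 : (z : G ⧸ K) = (mk m)⁻¹ * mk (m * r) := by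
        rw [map_mul, inv_mul_cancel_left, hrz]
      rw [h6]
      exact Subgroup.mul_mem _ (Subgroup.inv_mem _ hmkm) ((hPbmem _).mpr ⟨m * r, hmrP, rfl⟩)
    rw [Subgroup.mem_centralizer_iff]
    intro w hw
    have hwP : (w : G ⧸ K) ∈ (Pb : Subgroup (G ⧸ K)) := by
      obtain ⟨u, hu, huw⟩ := (hmemPb' w).mp hw
      exact (hPbmem _).mpr ⟨u, hu, huw⟩
    exact Subtype.ext (hPbcomm _ _ hwP hzP)
  let F : ↥Rb →* ↥(Pb' : Subgroup ↥Rb) := MonoidHom.transferSylow Pb' hNC
  let f : ↥R →* ↥Rb := mk.subgroupMap R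
  have hstep3 : ∀ y : ↥R, y ∈ commutator ↥R → (y : G) ∈ (P : Subgroup G) → (y : G) ∈ K := by
    intro y hyc hyP
    have hker : commutator ↥R ≤ (F.comp f).ker := by
      rw [commutator_def, Subgroup.commutator_le]
      intro a _ b _
      rw [MonoidHom.mem_ker, map_commutatorElement, commutatorElement_eq_one_iff_mul_comm]
      have hb := hNC (Subgroup.le_normalizer ((F.comp f) b).2)
      rw [Subgroup.mem_centralizer_iff] at hb
      exact Subtype.ext (hb _ ((F.comp f) a).2)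
    have h1 : F (f y) = 1 := MonoidHom.mem_ker.mp (hker hyc)
    have h2 : f y ∈ (Pb' : Subgroup ↥Rb) := (hmemPb' _).mpr ⟨(y : G), hyP, rfl⟩
    have h3 : f y = 1 := by
      have hd := MonoidHom.ker_transferSylow_disjoint Pb' hNC (Pb' : Subgroup ↥Rb) Pb'.2
      exact Subgroup.disjoint_def.mp hd (MonoidHom.mem_ker.mpr h1) h2
    have h4 : mk (y : G) = 1 := congrArg Subtype.val h3
    exact (QuotientGroup.eq_one_iff (y : G)).mp h4
  -- Tate's theorem on the normal closure `R` of `P`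
  let PR : Sylow p ↥R := P.subtype hPR
  have hmemPR : ∀ y : ↥R, y ∈ (PR : Subgroup ↥R) ↔ (y : G) ∈ (P : Subgroup G) :=
    fun y => Iff.rfl
  have hPRmap : (PR : Subgroup ↥R).map R.subtype = (P : Subgroup G) := by
    rw [Sylow.coe_subtype, Subgroup.subgroupOf_map_subtype, inf_of_le_left hPR]
  have htate : HasNormalPComplement p ↥R := by
    apply Cfsg.Agent.Lib.helper67.tate_commutator PR
    rintro y ⟨hyP, hyc⟩
    have hyP' : (y : G) ∈ (P : Subgroup G) := (hmemPR y).mp hyP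
    have hyK : (y : G) ∈ K := hstep3 y hyc hyP'
    have hyD : (y : G) ∈ ⁅(P : Subgroup G), (P : Subgroup G)⁆ := hK2 ⟨hyK, hPN hyP'⟩
    have hyc' : (⟨y, hyP⟩ : ↥(PR : Subgroup ↥R)) ∈ commutator ↥(PR : Subgroup ↥R) := by
      apply mem_commutator_of_coe_mem R (PR : Subgroup ↥R)
      rw [hPRmap]; exact hyD
    exact ⟨⟨y, hyP⟩, Cfsg.Agent.Lib.helper3.commutator_le_frattini PR.2 hyc', rfl⟩
  obtain ⟨P₁, K₀, hK₀n, hc⟩ := htate
  have hidx : (P₁ : Subgroup ↥R).index = Nat.card K₀ := hc.index_eq_card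
  have hK₀reg : ∀ g : ↥R, g ∈ K₀ ↔ ¬ p ∣ orderOf g := by
    intro g
    constructor
    · intro hg hdvd
      have h1 : orderOf g ∣ Nat.card K₀ := by
        have h2 := orderOf_dvd_natCard (⟨g, hg⟩ : ↥K₀)
        rwa [Subgroup.orderOf_mk] at h2
      exact P₁.not_dvd_index (hidx ▸ (hdvd.trans h1))
    · intro hg
      have := Fintype.ofFinite ↥R
      exact mem_of_isComplement'_of_regular P₁ K₀ hc hg
  have hRn : R.Normal := Subgroup.normalClosure_normal
  refine ⟨K₀.map R.subtype, ?_, ?_, ?_⟩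
  · constructor
    rintro _ ⟨k, hk, rfl⟩ g
    have hmem : g * (k : G) * g⁻¹ ∈ R := hRn.conj_mem _ k.2 g
    refine ⟨⟨g * (k : G) * g⁻¹, hmem⟩, ?_, rfl⟩
    rw [SetLike.mem_coe, hK₀reg]
    have h1 : orderOf (⟨g * (k : G) * g⁻¹, hmem⟩ : ↥R) = orderOf k := by
      rw [← Subgroup.orderOf_coe, ← Subgroup.orderOf_coe k]
      exact (MulAut.conj g).orderOf_eq (k : G)
    rw [h1]; exact (hK₀reg k).mp hk
  · have hfr : N ⊔ R = ⊤ := Sylow.normalizer_sup_eq_top' P hPR
    have hcard : Nat.card K₀ * Nat.card (PR : Subgroup ↥R) = Nat.card ↥R := by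
      have h1 := hc.card_mul_card
      rw [← h1, Sylow.card_eq_multiplicity, Sylow.card_eq_multiplicity]
    have hcop : (Nat.card K₀).Coprime (Nat.card (PR : Subgroup ↥R)) := by
      obtain ⟨n, hn⟩ := (PR.2).exists_card_eq
      rw [hn]
      apply Nat.Coprime.pow_right
      rw [Nat.coprime_comm, hp.coprime_iff_not_dvd, ← hidx]
      exact P₁.not_dvd_index
    have hc' : K₀.IsComplement' (PR : Subgroup ↥R) :=
      Subgroup.isComplement'_of_coprime hcard hcop
    have hsup : K₀ ⊔ (PR : Subgroup ↥R) = ⊤ := hc'.sup_eq_top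
    have hRle : R ≤ K₀.map R.subtype ⊔ N := by
      intro r hr
      have h1 : (⟨r, hr⟩ : ↥R) ∈ K₀ ⊔ (PR : Subgroup ↥R) := by rw [hsup]; trivial
      have h2 : r ∈ (K₀ ⊔ (PR : Subgroup ↥R)).map R.subtype := ⟨⟨r, hr⟩, h1, rfl⟩
      rw [Subgroup.map_sup, hPRmap] at h2
      exact (sup_le_sup_left hPN _) h2
    apply top_le_iff.mp
    rw [← hfr]
    exact sup_le le_sup_right hRle
  · rw [eq_bot_iff]
    rintro x ⟨⟨k, hk, rfl⟩, hxN⟩
    have hxP : (k : G) ∈ (P : Subgroup G) := hK3 ⟨hxN, Subgroup.mem_sup_left k.2⟩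
    have hreg : ¬ p ∣ orderOf (k : G) := by
      rw [Subgroup.orderOf_coe]; exact (hK₀reg k).mp hk
    obtain ⟨j, hj⟩ := (IsPGroup.iff_orderOf.mp P.2) ⟨(k : G), hxP⟩
    rw [Subgroup.orderOf_mk] at hj
    rw [Subgroup.mem_bot]
    cases j with
    | zero => rw [pow_zero] at hj; exact orderOf_eq_one_iff.mp hj
    | succ j => exact absurd (hj ▸ dvd_pow_self p (Nat.succ_ne_zero j)) hreg

end Main

end Cfsg.Agent.Lib.helper43
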