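import Mathlib
import Cfsg.Statements.S1903
import Cfsg.Agent.Lib.helper16.U34CDefs

/-! S1903 piece A1: an element of order 5 and the central four-group. -/

set_option autoImplicit false

namespace Cfsg.Agent.Lib.helper16.U34C

open Cfsg
open scoped commutatorElement

theorem helper43_memZ {G : Type*} [Group G] (z : G) :
    z ∈ (Subgroup.center (commutator G)).map (commutator G).subtype ↔
      z ∈ commutator G ∧ ∀ h ∈ commutator G, h * z = z * h := by
  constructor
  · rintro ⟨y, hy, rfl⟩
    refine ⟨y.2, fun h hh => ?_⟩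
    have := Subgroup.mem_center_iff.mp hy ⟨h, hh⟩
    exact congrArg Subtype.val this
  · rintro ⟨hz, hc⟩
    refine ⟨⟨z, hz⟩, Subgroup.mem_center_iff.mpr ?_, rfl⟩
    intro h
    exact Subtype.ext (hc h.1 h.2)

section Abstract

variable {G : Type*} [Group G]

/-- PIECE A1 -/
theorem exists_d1 [Finite G] (hG : Nat.card G = 320) (hD : Nat.card (commutator G) = 64)
    (hZ : IsKleinFour (Subgroup.center (commutator G))) :
    ∃ (x : G) (Z : Subgroup G), D1 x Z := by
  classical
  have hPn : (commutator G).Normal := inferInstance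
  have memZ : ∀ z : G, z ∈ (Subgroup.center (commutator G)).map (commutator G).subtype ↔
      z ∈ commutator G ∧ ∀ h ∈ commutator G, h * z = z * h := helper43_memZ
  haveI : Fact (Nat.Prime 5) := ⟨by norm_num⟩
  obtain ⟨x, hx⟩ := exists_prime_orderOf_dvd_card' (G := G) 5 (by rw [hG]; norm_num)
  have hx5 : x ^ 5 = 1 := by rw [← hx]; exact pow_orderOf_eq_one x
  have hx1 : x ≠ 1 := by
    rintro rfl
    rw [orderOf_one] at hx
    omega
  have hxP : x ∉ commutator G := by
    intro hxP
    have h1 : orderOf (⟨x, hxP⟩ : commutator G) ∣ Nat.card (commutator G) := orderOf_dvd_natCard _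
    rw [Subgroup.orderOf_mk, hx, hD] at h1
    omega
  have hq : Nat.card (G ⧸ commutator G) = 5 := by
    have := Subgroup.card_eq_card_quotient_mul_card_subgroup (commutator G)
    rw [hG, hD] at this
    omega
  have hgen : ∀ g : G, ∃ p ∈ commutator G, ∃ k : ℕ, g = p * x ^ k := by
    intro g
    have hx' : (x : G ⧸ commutator G) ≠ 1 := by
      intro h
      exact hxP ((QuotientGroup.eq_one_iff x).mp h)
    obtain ⟨k, hk⟩ := mem_powers_of_prime_card hq hx' (g' := (g : G ⧸ commutator G))
    have hk' : ((x ^ k : G) : G ⧸ commutator G) = (g : G ⧸ commutator G) := by simpa using hk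
    have hmem : (x ^ k)⁻¹ * g ∈ commutator G := QuotientGroup.eq.mp hk'
    refine ⟨x ^ k * ((x ^ k)⁻¹ * g) * (x ^ k)⁻¹, hPn.conj_mem _ hmem _, k, ?_⟩
    group
  -- Z is normal
  have hZn : ((Subgroup.center (commutator G)).map (commutator G).subtype).Normal := by
    refine ⟨fun z hz g => ?_⟩
    rw [memZ] at hz ⊢
    refine ⟨hPn.conj_mem _ hz.1 _, fun h hh => ?_⟩
    have h1 := hz.2 (g⁻¹ * h * g⁻¹⁻¹) (hPn.conj_mem _ hh _)
    have h2 : h * (g * z * g⁻¹) = g * ((g⁻¹ * h * g⁻¹⁻¹) * z) * g⁻¹ := by group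
    rw [h2, h1]
    group
  have hcardZ : Nat.card ((Subgroup.center (commutator G)).map (commutator G).subtype) = 4 := by
    rw [Subgroup.card_map_of_injective (Subgroup.subtype_injective _)]
    exact hZ.card_four
  -- conjugation by x on Z is trivial
  have hxZ : ∀ z ∈ (Subgroup.center (commutator G)).map (commutator G).subtype,
      x * z * x⁻¹ = z := by
    intro z hz
    let ψ : G →* Equiv.Perm ↥((Subgroup.center (commutator G)).map (commutator G).subtype) :=
      (MulAut.toPerm _).comp MulAut.conjNormal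
    have h5 : ψ x ^ 5 = 1 := by rw [← map_pow, hx5, map_one]
    have hd1 : orderOf (ψ x) ∣ 5 := orderOf_dvd_of_pow_eq_one h5
    have hd2 : orderOf (ψ x) ∣ 24 := by
      have h := orderOf_dvd_natCard (ψ x)
      rw [Nat.card_perm, hcardZ] at h
      exact h
    have hd3 : orderOf (ψ x) ∣ 1 := by
      have h := Nat.dvd_gcd hd1 hd2
      have e : Nat.gcd 5 24 = 1 := by norm_num
      rwa [e] at h
    have hψ : ψ x = 1 := orderOf_eq_one_iff.mp (Nat.dvd_one.mp hd3)
    have h7 : (ψ x) ⟨z, hz⟩ = ⟨z, hz⟩ := by rw [hψ]; rfl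
    have h8 : (((ψ x) ⟨z, hz⟩ : _) : G) = z := congrArg Subtype.val h7
    have h9 : (((ψ x) ⟨z, hz⟩ : _) : G) = x * z * x⁻¹ := MulAut.conjNormal_apply x ⟨z, hz⟩
    rw [← h9, h8]
  refine ⟨x, (Subgroup.center (commutator G)).map (commutator G).subtype, ?_⟩
  refine ⟨hx5, hx1, ?_, hcardZ, ?_, ?_, hgen, ?_⟩
  · intro z hz
    exact ((memZ z).mp hz).1
  · intro z hz g
    obtain ⟨p, hp, k, rfl⟩ := hgen g
    have h1 : p * z = z * p := ((memZ z).mp hz).2 p hp
    have h2 : x * z = z * x := by
      have := hxZ z hz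
      calc x * z = x * z * x⁻¹ * x := by group
        _ = z * x := by rw [this]
    have h3 : Commute z (x ^ k) := (Commute.pow_right (show Commute z x from h2.symm) k)
    calc z * (p * x ^ k) = (z * p) * x ^ k := by group
      _ = p * (z * x ^ k) := by rw [← h1]; group
      _ = p * x ^ k * z := by rw [h3.eq]; group
  · intro z hz
    obtain ⟨y, hy, rfl⟩ := hz
    haveI := hZ
    have h := Monoid.pow_exponent_eq_one (⟨y, hy⟩ : Subgroup.center (commutator G))
    rw [IsKleinFour.exponent_two] at h
    have := congrArg (fun w : Subgroup.center (commutator G) => ((w : commutator G) : G)) h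
    simpa using this
  · intro g hg hc
    rw [memZ]
    exact ⟨hg, fun h hh => (hc h hh).symm⟩

end Abstract

end Cfsg.Agent.Lib.helper16.U34C
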