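import Mathlib
import Cfsg.Prelude.Def_LocalStructure
import Cfsg.Prelude.Def_Blocks

set_option autoImplicit false

namespace Cfsg.Agent.Lib.helper43.S3875

open Cfsg

/-- a Sylow subgroup is normal when there is only one Sylow subgroup. -/
theorem h43_normal_of_card_sylow_eq_one {H : Type*} [Group H] [Finite H] (p : ℕ) [Fact p.Prime]
    (P : Sylow p H) (h : Nat.card (Sylow p H) = 1) : (P : Subgroup H).Normal := by
  rw [Sylow.card_eq_index_normalizer P, Subgroup.index_eq_one] at h
  exact Subgroup.normalizer_eq_top_iff.mp h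

/-- PIECE A. A non-normal Sylow `p`-subgroup of a group of order `< p^3` has order `p`. -/
theorem sylow_card_eq {H : Type*} [Group H] [Finite H] (p : ℕ) [Fact p.Prime] (P : Sylow p H)
    (hn : ¬ (P : Subgroup H).Normal) (hlt : Nat.card H < p ^ 3) : Nat.card P = p := by
  have hp : p.Prime := Fact.out
  obtain ⟨k, hk⟩ := IsPGroup.iff_card.mp P.isPGroup'
  have hidx : (P : Subgroup H).index * Nat.card (P : Subgroup H) = Nat.card H :=
    Subgroup.index_mul_card _
  have hHpos : 0 < Nat.card H := Nat.card_pos
  have hidxpos : 0 < (P : Subgroup H).index := by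
    rcases Nat.eq_zero_or_pos (P : Subgroup H).index with h0 | h0
    · rw [h0, zero_mul] at hidx; omega
    · exact h0
  have hk3 : k < 3 := by
    by_contra hcon
    rw [not_lt] at hcon
    have h1 : p ^ 3 ≤ p ^ k := Nat.pow_le_pow_right hp.pos hcon
    have h2 : Nat.card (P : Subgroup H) ≤ Nat.card H := by
      rw [← hidx]; exact Nat.le_mul_of_pos_left _ hidxpos
    rw [hk] at h2
    omega
  have hk0 : k ≠ 0 := by
    intro h0
    rw [h0, pow_zero] at hk
    apply hn
    have : (P : Subgroup H) = ⊥ := Subgroup.card_eq_one.mp hk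
    rw [this]
    infer_instance
  have hk2 : k ≠ 2 := by
    intro h2
    rw [h2] at hk
    apply hn
    apply h43_normal_of_card_sylow_eq_one p P
    have hdvd : Nat.card (Sylow p H) ∣ (P : Subgroup H).index := Sylow.card_dvd_index P
    have hmod : Nat.card (Sylow p H) ≡ 1 [MOD p] := card_sylow_modEq_one p H
    have hlt2 : (P : Subgroup H).index < p := by
      rw [hk] at hidx
      by_contra hcon
      rw [not_lt] at hcon
      have : p * p ^ 2 ≤ (P : Subgroup H).index * p ^ 2 := Nat.mul_le_mul_right _ hcon
      have e : p * p ^ 2 = p ^ 3 := by ring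
      omega
    have hle : Nat.card (Sylow p H) ≤ (P : Subgroup H).index := Nat.le_of_dvd hidxpos hdvd
    have hlt3 : Nat.card (Sylow p H) < p := lt_of_le_of_lt hle hlt2
    have h1 : Nat.card (Sylow p H) % p = 1 % p := hmod
    rw [Nat.mod_eq_of_lt hlt3, Nat.mod_eq_of_lt hp.one_lt] at h1
    exact h1
  have hk1 : k = 1 := by omega
  rw [hk1, pow_one] at hk
  exact hk

end Cfsg.Agent.Lib.helper43.S3875
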