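import Mathlib
import Cfsg.Prelude.Def_LocalStructure
import Cfsg.Prelude.Def_Blocks

set_option autoImplicit false

namespace Cfsg.Agent.Lib.helper43.S3875

open Cfsg

/-- PIECE B. In a minimal non-`p`-closed group, a proper nontrivial normal subgroup is a
complement of the Sylow `p`-subgroup. -/
theorem normal_compl {H : Type*} [Group H] [Finite H] (p : ℕ) [Fact p.Prime] (P : Sylow p H)
    (hP : Nat.card P = p) (hn : ¬ (P : Subgroup H).Normal)
    (hsub : ∀ L : Subgroup H, L ≠ ⊤ → IsPClosed p L)
    (hquot : ∀ (L : Subgroup H) [L.Normal], L ≠ ⊥ → IsPClosed p (H ⧸ L))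
    (L : Subgroup H) (hL : L.Normal) (hL0 : L ≠ ⊥) (hL1 : L ≠ ⊤) :
    (P : Subgroup H) ⊔ L = ⊤ ∧ (P : Subgroup H) ⊓ L = ⊥ := by
  haveI := hL
  have hp : p.Prime := Fact.out
  have hq := hquot L hL0
  have hsurj : Function.Surjective (QuotientGroup.mk' L) := QuotientGroup.mk'_surjective L
  have hnq : ((P.mapSurjective hsurj : Sylow p (H ⧸ L)) : Subgroup (H ⧸ L)).Normal := hq _
  rw [Sylow.coe_mapSurjective] at hnq
  have hnorm : ((P : Subgroup H) ⊔ L).Normal := by
    have := hnq.comap (QuotientGroup.mk' L)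
    rw [QuotientGroup.comap_map_mk', sup_comm] at this
    exact this
  have htop : (P : Subgroup H) ⊔ L = ⊤ := by
    by_contra hne
    have hcl := hsub _ hne
    have hPT : (P : Subgroup H) ≤ (P : Subgroup H) ⊔ L := le_sup_left
    have hnT : ((P.subtype hPT : Sylow p ((P : Subgroup H) ⊔ L : Subgroup H)) :
        Subgroup ((P : Subgroup H) ⊔ L : Subgroup H)).Normal := hcl _
    haveI := hnorm
    haveI hchar : ((P.subtype hPT : Sylow p ((P : Subgroup H) ⊔ L : Subgroup H)) :
        Subgroup ((P : Subgroup H) ⊔ L : Subgroup H)).Characteristic :=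
      Sylow.characteristic_of_normal _ hnT
    have hmapn : (((P.subtype hPT : Sylow p ((P : Subgroup H) ⊔ L : Subgroup H)) :
        Subgroup ((P : Subgroup H) ⊔ L : Subgroup H)).map
          ((P : Subgroup H) ⊔ L : Subgroup H).subtype).Normal :=
      ConjAct.normal_of_characteristic_of_normal
    apply hn
    have hmap : ((P.subtype hPT : Sylow p ((P : Subgroup H) ⊔ L : Subgroup H)) :
        Subgroup ((P : Subgroup H) ⊔ L : Subgroup H)).map
          ((P : Subgroup H) ⊔ L : Subgroup H).subtype = (P : Subgroup H) := by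
      rw [Sylow.coe_subtype]
      exact Subgroup.map_subgroupOf_eq_of_le hPT
    rw [← hmap]
    exact hmapn
  refine ⟨htop, ?_⟩
  have hdvd : Nat.card ((P : Subgroup H) ⊓ L : Subgroup H) ∣ Nat.card (P : Subgroup H) :=
    Subgroup.card_dvd_of_le inf_le_left
  rw [hP] at hdvd
  rcases (Nat.dvd_prime hp).mp hdvd with h1 | h1
  · exact Subgroup.card_eq_one.mp h1
  · exfalso
    have heq : (P : Subgroup H) ⊓ L = (P : Subgroup H) := by
      apply Subgroup.eq_of_le_of_card_ge inf_le_left
      rw [h1, hP]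
    have hPL : (P : Subgroup H) ≤ L := by
      rw [← heq]; exact inf_le_right
    apply hL1
    rw [← htop]
    exact (sup_eq_right.mpr hPL).symm

end Cfsg.Agent.Lib.helper43.S3875
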