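import Mathlib
import Cfsg.Prelude.Def_LocalStructure
import Cfsg.Prelude.Def_Blocks
import Cfsg.Agent.Lib.helper43.S3875A

set_option autoImplicit false

namespace Cfsg.Agent.Lib.helper43.S3875

open Cfsg

/-- PIECE D. If a non-normal Sylow `p`-subgroup of order `p` has a normal complement that is an
`r`-group, then `|H| ≥ p * m`, `m` the least prime power `≡ 1 (mod p)`. -/
theorem card_ge_of_compl {H : Type*} [Group H] [Finite H] (p : ℕ) [Fact p.Prime] (P : Sylow p H)
    (hP : Nat.card P = p) (hn : ¬ (P : Subgroup H).Normal)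
    (L : Subgroup H) (hL : L.Normal) (hsup : (P : Subgroup H) ⊔ L = ⊤)
    (hinf : (P : Subgroup H) ⊓ L = ⊥) (r : ℕ) (hr : r.Prime) (hLr : IsPGroup r L)
    (m : ℕ) (hleast : ∀ k : ℕ, IsPrimePow k → k % p = 1 → m ≤ k) : p * m ≤ Nat.card H := by
  have hp : p.Prime := Fact.out
  have hcompl : Subgroup.IsComplement' (P : Subgroup H) L := by
    apply Subgroup.isComplement'_of_disjoint_and_mul_eq_univ
    · exact disjoint_iff.mpr hinf
    · rw [← Subgroup.mul_normal (P : Subgroup H) L, hsup]
      rfl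
  have hcard : Nat.card (P : Subgroup H) * Nat.card L = Nat.card H := hcompl.card_mul
  have hidx : (P : Subgroup H).index * Nat.card (P : Subgroup H) = Nat.card H :=
    Subgroup.index_mul_card _
  have hPpos : 0 < Nat.card (P : Subgroup H) := Nat.card_pos
  have hidxL : (P : Subgroup H).index = Nat.card L := by
    have : (P : Subgroup H).index * Nat.card (P : Subgroup H)
        = Nat.card L * Nat.card (P : Subgroup H) := by
      rw [hidx, ← hcard, mul_comm]
    exact Nat.eq_of_mul_eq_mul_right hPpos this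
  haveI : Fact r.Prime := ⟨hr⟩
  obtain ⟨k, hk⟩ := IsPGroup.iff_card.mp hLr
  have hdvd : Nat.card (Sylow p H) ∣ r ^ k := by
    rw [← hk, ← hidxL]; exact Sylow.card_dvd_index P
  obtain ⟨j, hjk, hj⟩ := (Nat.dvd_prime_pow hr).mp hdvd
  have hne1 : Nat.card (Sylow p H) ≠ 1 := by
    intro h1
    exact hn (h43_normal_of_card_sylow_eq_one p P h1)
  have hj0 : j ≠ 0 := by
    intro h0
    rw [h0, pow_zero] at hj
    exact hne1 hj
  have hpp : IsPrimePow (Nat.card (Sylow p H)) := by
    rw [hj]
    exact (Nat.prime_iff.mp hr).isPrimePow.pow hj0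
  have hmod : Nat.card (Sylow p H) ≡ 1 [MOD p] := card_sylow_modEq_one p H
  have hmod' : Nat.card (Sylow p H) % p = 1 := by
    have h1 : Nat.card (Sylow p H) % p = 1 % p := hmod
    rw [Nat.mod_eq_of_lt hp.one_lt] at h1
    exact h1
  have hm := hleast _ hpp hmod'
  have hLpos : 0 < Nat.card L := Nat.card_pos
  have hle : Nat.card (Sylow p H) ≤ Nat.card L := by
    apply Nat.le_of_dvd hLpos
    rw [hk]; exact hdvd
  rw [← hcard, hP]
  exact Nat.mul_le_mul_left p (le_trans hm hle)

end Cfsg.Agent.Lib.helper43.S3875
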