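import Mathlib
import Cfsg.Prelude.Def_LocalStructure
import Cfsg.Prelude.Def_Blocks

set_option autoImplicit false

namespace Cfsg.Agent.Lib.helper43.S3875

open Cfsg

/-- PIECE E4 (Burnside transfer). In a simple group with a non-normal Sylow `p`-subgroup of
order `p`, the centralizer of the Sylow subgroup is a proper subgroup of its normalizer. -/
theorem relIndex_ge_two {H : Type*} [Group H] [Finite H] [IsSimpleGroup H] (p : ℕ) [Fact p.Prime]
    (P : Sylow p H) (hP : Nat.card P = p) (hn : ¬ (P : Subgroup H).Normal) :
    2 ≤ (Subgroup.centralizer ((P : Subgroup H) : Set H)).relIndex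
      (Subgroup.normalizer ((P : Subgroup H) : Set H)) := by
  by_contra hcon
  rw [not_le] at hcon
  have hne : (Subgroup.centralizer ((P : Subgroup H) : Set H)).relIndex
      (Subgroup.normalizer ((P : Subgroup H) : Set H)) ≠ 0 := by
    unfold Subgroup.relIndex
    exact Subgroup.index_ne_zero_of_finite
  have h1 : (Subgroup.centralizer ((P : Subgroup H) : Set H)).relIndex
      (Subgroup.normalizer ((P : Subgroup H) : Set H)) = 1 := by omega
  have hle : Subgroup.normalizer ((P : Subgroup H) : Set H)
      ≤ Subgroup.centralizer ((P : Subgroup H) : Set H) := Subgroup.relIndex_eq_one.mp h1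
  have hc := MonoidHom.ker_transferSylow_isComplement' P hle
  have hnorm : (MonoidHom.transferSylow P hle).ker.Normal := MonoidHom.normal_ker _
  rcases hnorm.eq_bot_or_eq_top with hb | ht
  · rw [hb, Subgroup.isComplement'_bot_left] at hc
    apply hn
    rw [hc]
    infer_instance
  · rw [ht, Subgroup.isComplement'_top_left] at hc
    have : Nat.card (P : Subgroup H) = 1 := by
      rw [hc]; exact Subgroup.card_bot
    have hp1 : 1 < p := (Fact.out : p.Prime).one_lt
    omega

end Cfsg.Agent.Lib.helper43.S3875
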