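-- helper43: Mackey irreducibility criterion for a linear character induced from a subgroup.
import Mathlib
import Cfsg.Prelude.Def_Characters
import Cfsg.Agent.Lib.helper4.Induction
import Cfsg.Agent.Lib.helper19.LinChar

set_option autoImplicit false

namespace Cfsg.Agent.Lib.helper43

open scoped ComplexConjugate
open Cfsg.Agent.Lib.helper4

universe u

section

variable {G : Type u} [Group G]

/-- A homomorphism from a finite group to `ℂˣ` has values of absolute value one. -/
theorem hom_mul_conj_eq_one {H : Type*} [Group H] [Finite H] (f : H →* ℂˣ) (h : H) :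
    ((f h : ℂˣ) : ℂ) * conj ((f h : ℂˣ) : ℂ) = 1 := by
  have h1 : ((f h : ℂˣ) : ℂ) ^ Nat.card H = 1 := by
    have : f h ^ Nat.card H = 1 := by
      rw [← map_pow, pow_card_eq_one', map_one]
    have := congrArg (fun u : ℂˣ => (u : ℂ)) this
    simpa using this
  have h2 : ‖((f h : ℂˣ) : ℂ)‖ = 1 :=
    Complex.norm_eq_one_of_pow_eq_one h1 Nat.card_pos.ne'
  rw [Complex.mul_conj, Complex.normSq_eq_norm_sq, h2]
  simp

/-- Extension by zero of a homomorphism is compatible with left multiplication by elements of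
the subgroup. -/
theorem extendByZero_hom_mul (H : Subgroup G) (f : H →* ℂˣ) (h : H) (y : G) :
    Cfsg.extendByZero H (fun b => ((f b : ℂˣ) : ℂ)) ((h : G) * y) =
      ((f h : ℂˣ) : ℂ) * Cfsg.extendByZero H (fun b => ((f b : ℂˣ) : ℂ)) y := by
  by_cases hy : y ∈ H
  · rw [extendByZero_apply_mem H _ hy, extendByZero_apply_mem H _ (H.mul_mem h.2 hy)]
    have : (⟨(h : G) * y, H.mul_mem h.2 hy⟩ : H) = h * ⟨y, hy⟩ := rfl
    rw [this, map_mul]
    simp
  · have hy' : (h : G) * y ∉ H := by
      intro hh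
      apply hy
      have := H.mul_mem (H.inv_mem h.2) hh
      simpa using this
    rw [extendByZero_apply_of_not_mem H _ hy, extendByZero_apply_of_not_mem H _ hy', mul_zero]

/-- **Mackey's irreducibility criterion for linear characters**, norm form: if for every `x ∉ H`
there is `t ∈ H ∩ x H x⁻¹` on which `f` and its `x`-conjugate differ, then the induced
function has norm one. -/
theorem classInner_indFun_hom_self [Fintype G] (H : Subgroup G) (f : H →* ℂˣ)
    (hkey : ∀ x : G, x ∉ H → ∃ t : H, ∃ ht : x⁻¹ * (t : G) * x ∈ H,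
      f t ≠ f ⟨x⁻¹ * (t : G) * x, ht⟩) :
    Cfsg.classInner (Cfsg.indFun H (fun h => ((f h : ℂˣ) : ℂ)))
      (Cfsg.indFun H (fun h => ((f h : ℂˣ) : ℂ))) = 1 := by
  classical
  have : Fintype H := Fintype.ofFinite H
  set θ : H → ℂ := fun h => ((f h : ℂˣ) : ℂ) with hθ
  have hθ1 : ∀ h : H, θ h * conj (θ h) = 1 := fun h => hom_mul_conj_eq_one f h
  have hθ0 : ∀ h : H, conj (θ h) ≠ 0 := by
    intro h h0
    have := hθ1 h
    rw [h0, mul_zero] at this
    exact zero_ne_one this
  have hcard : (Nat.card H : ℂ) ≠ 0 := by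
    exact_mod_cast (Nat.card_pos (α := H)).ne'
  -- the inner sums
  have hS_in : ∀ x : G, x ∈ H →
      ∑ b : H, θ b * conj (Cfsg.extendByZero H θ (x⁻¹ * (b : G) * x)) = (Nat.card H : ℂ) := by
    intro x hx
    have : ∀ b : H, θ b * conj (Cfsg.extendByZero H θ (x⁻¹ * (b : G) * x)) = 1 := by
      intro b
      have hm : x⁻¹ * (b : G) * x ∈ H := H.mul_mem (H.mul_mem (H.inv_mem hx) b.2) hx
      rw [extendByZero_apply_mem H _ hm]
      have he : (⟨x⁻¹ * (b : G) * x, hm⟩ : H) = (⟨x, hx⟩ : H)⁻¹ * b * ⟨x, hx⟩ := rfl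
      have : θ ⟨x⁻¹ * (b : G) * x, hm⟩ = θ b := by
        simp only [hθ]
        rw [he, map_mul, map_mul, map_inv]
        simp
      rw [this]
      exact hθ1 b
    rw [Finset.sum_congr rfl (fun b _ => this b)]
    simp [Nat.card_eq_fintype_card]
  have hS_out : ∀ x : G, x ∉ H →
      ∑ b : H, θ b * conj (Cfsg.extendByZero H θ (x⁻¹ * (b : G) * x)) = 0 := by
    intro x hx
    obtain ⟨t, ht, hne⟩ := hkey x hx
    set S := ∑ b : H, θ b * conj (Cfsg.extendByZero H θ (x⁻¹ * (b : G) * x)) with hS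
    have h1 : S = θ t * conj (θ ⟨x⁻¹ * (t : G) * x, ht⟩) * S := by
      rw [hS, Finset.mul_sum]
      rw [← Equiv.sum_comp (Equiv.mulLeft t)]
      apply Finset.sum_congr rfl
      intro b _
      have e1 : x⁻¹ * ((Equiv.mulLeft t b : H) : G) * x =
          ((⟨x⁻¹ * (t : G) * x, ht⟩ : H) : G) * (x⁻¹ * (b : G) * x) := by
        simp only [Equiv.coe_mulLeft, Subgroup.coe_mul]
        group
      rw [e1, extendByZero_hom_mul H f]
      have e2 : θ (Equiv.mulLeft t b) = θ t * θ b := by
        simp only [hθ, Equiv.coe_mulLeft, map_mul, Units.val_mul]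
      rw [e2, map_mul]
      ring
    have h2 : θ t * conj (θ ⟨x⁻¹ * (t : G) * x, ht⟩) ≠ 1 := by
      intro h
      apply hne
      have h3 := hθ1 ⟨x⁻¹ * (t : G) * x, ht⟩
      have h4 : θ t = θ ⟨x⁻¹ * (t : G) * x, ht⟩ := by
        apply mul_right_cancel₀ (hθ0 ⟨x⁻¹ * (t : G) * x, ht⟩)
        rw [h, h3]
      simp only [hθ] at h4
      exact Units.ext h4
    have h5 : (1 - θ t * conj (θ ⟨x⁻¹ * (t : G) * x, ht⟩)) * S = 0 := by
      rw [sub_mul, one_mul, ← h1, sub_self]
    rcases mul_eq_zero.1 h5 with h6 | h6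
    · exact absurd (sub_eq_zero.1 h6).symm h2
    · exact h6
  have hS : ∀ x : G, ∑ b : H, θ b * conj (Cfsg.extendByZero H θ (x⁻¹ * (b : G) * x)) =
      Cfsg.extendByZero H (fun _ => (Nat.card H : ℂ)) x := by
    intro x
    by_cases hx : x ∈ H
    · rw [hS_in x hx, extendByZero_apply_mem H _ hx]
    · rw [hS_out x hx, extendByZero_apply_of_not_mem H _ hx]
  rw [frobenius_reciprocity H θ (isClassFunction_indFun H θ)]
  unfold Cfsg.classInner
  have h1 : ∑ h : H, θ h * conj (Cfsg.indFun H θ (h : G)) =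
      (Nat.card H : ℂ)⁻¹ * ∑ x : G, ∑ b : H, θ b * conj (Cfsg.extendByZero H θ (x⁻¹ * (b : G) * x)) := by
    rw [Finset.sum_comm, Finset.mul_sum]
    apply Finset.sum_congr rfl
    intro b _
    rw [indFun_apply, map_mul, map_sum, map_inv₀, map_natCast, Finset.mul_sum, Finset.mul_sum,
      Finset.mul_sum]
    apply Finset.sum_congr rfl
    intro x _
    ring
  rw [h1, Finset.sum_congr rfl (fun x _ => hS x), sum_extendByZero]
  simp only [Finset.sum_const, Finset.card_univ, nsmul_eq_mul, ← Nat.card_eq_fintype_card]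
  field_simp

/-- **Mackey's irreducibility criterion for linear characters**: if for every `x ∉ H` there is
`t ∈ H ∩ x H x⁻¹` on which `f` and its `x`-conjugate differ, then the function induced from the
linear character `f` of `H` is an irreducible character of `G`. -/
theorem isIrrCharacter_indFun_hom [Fintype G] (H : Subgroup G) (f : H →* ℂˣ)
    (hkey : ∀ x : G, x ∉ H → ∃ t : H, ∃ ht : x⁻¹ * (t : G) * x ∈ H,
      f t ≠ f ⟨x⁻¹ * (t : G) * x, ht⟩) :
    Cfsg.IsIrrCharacter G (Cfsg.indFun H (fun h => ((f h : ℂˣ) : ℂ))) :=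
  isIrrCharacter_of_isCharacter_of_norm_one
    (isCharacter_indFun H (Cfsg.Agent.Lib.helper19.isCharacter_of_hom f))
    (classInner_indFun_hom_self H f hkey)

end

end Cfsg.Agent.Lib.helper43
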