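-- helper43: fixed vectors of a subgroup, the projection onto them, and constituents of
-- characters induced from linear characters.
import Mathlib
import Cfsg.Prelude.Def_Characters
import Cfsg.Agent.Lib.helper43.UDecomp
import Cfsg.Agent.Lib.helper43.IndLinear

set_option autoImplicit false

namespace Cfsg.Agent.Lib.helper43

open scoped ComplexConjugate
open Cfsg.Agent.Lib.helper4 Module

section Rep

variable {G : Type*} [Group G] [Finite G]
variable {V : Type*} [AddCommGroup V] [Module ℂ V] [FiniteDimensional ℂ V]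

/-- The sum of a character over a subgroup `U` is `|U|` times the dimension of the space of
`U`-fixed vectors. -/
theorem sum_char_subgroup_eq (ρ : Representation ℂ G V) (U : Subgroup G) [Fintype U] :
    ∑ u : U, ρ.character (u : G) = (Nat.card U : ℂ) *
      (finrank ℂ (Representation.invariants (ρ.comp U.subtype : Representation ℂ U V)) : ℂ) := by
  have hU : (Nat.card U : ℂ) ≠ 0 := by exact_mod_cast (Nat.card_pos (α := U)).ne'
  have : Invertible (Nat.card U : ℂ) := invertibleOfNonzero hU
  have h := Representation.card_inv_mul_sum_char_eq_finrank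
    (ρ := (ρ.comp U.subtype : Representation ℂ U V))
  rw [← h]
  field_simp
  rfl

omit [Finite G] [FiniteDimensional ℂ V] in
/-- the sum of `ρ u` over `U` maps into the `U`-fixed vectors -/
theorem sum_rep_mem_invariants (ρ : Representation ℂ G V) (U : Subgroup G) [Fintype U] (x : V) :
    (∑ u : U, ρ (u : G)) x ∈
      Representation.invariants (ρ.comp U.subtype : Representation ℂ U V) := by
  intro u'
  show ρ (u' : G) ((∑ u : U, ρ (u : G)) x) = (∑ u : U, ρ (u : G)) x
  simp only [LinearMap.sum_apply, map_sum]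
  conv_rhs => rw [← Equiv.sum_comp (Equiv.mulLeft u')]
  apply Finset.sum_congr rfl
  intro u _
  simp only [Equiv.coe_mulLeft, Subgroup.coe_mul, map_mul]
  rfl

/-- If the character sums to zero over `U`, then the sum of the operators `ρ u` vanishes. -/
theorem sum_rep_eq_zero_of_sum_char (ρ : Representation ℂ G V) (U : Subgroup G) [Fintype U]
    (h : ∑ u : U, ρ.character (u : G) = 0) : ∑ u : U, ρ (u : G) = 0 := by
  have hU : (Nat.card U : ℂ) ≠ 0 := by exact_mod_cast (Nat.card_pos (α := U)).ne'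
  rw [sum_char_subgroup_eq] at h
  have h0 : finrank ℂ (Representation.invariants (ρ.comp U.subtype : Representation ℂ U V)) = 0 := by
    rcases mul_eq_zero.1 h with h1 | h1
    · exact absurd h1 hU
    · exact_mod_cast h1
  have hbot := Submodule.finrank_eq_zero.1 h0
  apply LinearMap.ext
  intro x
  have := sum_rep_mem_invariants ρ U x
  rw [hbot] at this
  simpa using this

omit [Finite G] [FiniteDimensional ℂ V] in
theorem sum_char_mul (ρ : Representation ℂ G V) (U : Subgroup G) [Fintype U] (g : G) :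
    ∑ u : U, ρ.character (g * (u : G)) = LinearMap.trace ℂ V (ρ g * ∑ u : U, ρ (u : G)) := by
  rw [Finset.mul_sum, map_sum]
  apply Finset.sum_congr rfl
  intro u _
  rw [← map_mul]
  rfl

/-- If the character sums to zero over `U` (no `U`-fixed vectors), then it sums to zero over
every coset `g U`. -/
theorem sum_char_mul_eq_zero (ρ : Representation ℂ G V) (U : Subgroup G) [Fintype U]
    (h : ∑ u : U, ρ.character (u : G) = 0) (g : G) :
    ∑ u : U, ρ.character (g * (u : G)) = 0 := by
  rw [sum_char_mul, sum_rep_eq_zero_of_sum_char ρ U h, mul_zero, map_zero]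

/-- If the space of `U`-fixed vectors is a line and `g` normalizes `U`, then the sum of the
character over the coset `g U` is `|U|` times a complex number of absolute value one. -/
theorem exists_norm_one_sum_char_mul (ρ : Representation ℂ G V) (U : Subgroup G) [Fintype U]
    (h : ∑ u : U, ρ.character (u : G) = (Nat.card U : ℂ)) (g : G)
    (hg : ∀ u ∈ U, g⁻¹ * u * g ∈ U) :
    ∃ z : ℂ, ‖z‖ = 1 ∧ ∑ u : U, ρ.character (g * (u : G)) = (Nat.card U : ℂ) * z := by
  have hU : (Nat.card U : ℂ) ≠ 0 := by exact_mod_cast (Nat.card_pos (α := U)).ne'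
  rw [sum_char_subgroup_eq] at h
  set W := Representation.invariants (ρ.comp U.subtype : Representation ℂ U V) with hW
  have h1 : finrank ℂ W = 1 := by
    have : (Nat.card U : ℂ) * (finrank ℂ W : ℂ) = (Nat.card U : ℂ) * 1 := by rw [h, mul_one]
    have := mul_left_cancel₀ hU this
    exact_mod_cast this
  obtain ⟨w, hw0, hw⟩ := finrank_eq_one_iff'.1 h1
  have hwfix : ∀ u ∈ U, ρ u (w : V) = (w : V) := fun u hu => w.2 ⟨u, hu⟩
  -- ρ g preserves W
  have hgW : ρ g (w : V) ∈ W := by
    intro u
    show ρ (u : G) (ρ g (w : V)) = ρ g (w : V)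
    have e : (u : G) * g = g * (g⁻¹ * (u : G) * g) := by group
    have : ρ (u : G) (ρ g (w : V)) = ρ ((u : G) * g) (w : V) := by rw [map_mul]; rfl
    rw [this, e, map_mul]
    show ρ g (ρ (g⁻¹ * (u : G) * g) (w : V)) = _
    rw [hwfix _ (hg u u.2)]
  obtain ⟨z, hz⟩ := hw ⟨ρ g (w : V), hgW⟩
  have hz' : ρ g (w : V) = z • (w : V) := by
    have := congrArg Subtype.val hz
    simpa using this.symm
  have hw0' : (w : V) ≠ 0 := fun h => hw0 (Subtype.ext h)
  -- z is a root of unity
  have hpow : ∀ k : ℕ, (ρ g ^ k) (w : V) = z ^ k • (w : V) := by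
    intro k
    induction k with
    | zero => simp
    | succ k ih =>
      rw [pow_succ, Module.End.mul_apply, hz', map_smul, ih, smul_smul, pow_succ, mul_comm]
  have hzn : z ^ orderOf g = 1 := by
    have := hpow (orderOf g)
    rw [Cfsg.Agent.Lib.helper82.rep_pow_orderOf] at this
    have h2 : (z ^ orderOf g - 1) • (w : V) = 0 := by
      rw [sub_smul, one_smul, ← this]
      simp
    rcases smul_eq_zero.1 h2 with h3 | h3
    · exact sub_eq_zero.1 h3
    · exact absurd h3 hw0'
  refine ⟨z, Complex.norm_eq_one_of_pow_eq_one hzn (orderOf_pos g).ne', ?_⟩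
  rw [sum_char_mul]
  have hE : ρ g * ∑ u : U, ρ (u : G) = z • ∑ u : U, ρ (u : G) := by
    apply LinearMap.ext
    intro x
    obtain ⟨c, hc⟩ := hw ⟨_, sum_rep_mem_invariants ρ U x⟩
    have hc' : (∑ u : U, ρ (u : G)) x = c • (w : V) := by
      have := congrArg Subtype.val hc
      simpa using this.symm
    rw [Module.End.mul_apply, LinearMap.smul_apply, hc', map_smul, hz', smul_smul, smul_smul,
      mul_comm]
  rw [hE, map_smul, map_sum]
  have : ∑ u : U, LinearMap.trace ℂ V (ρ (u : G)) = ∑ u : U, ρ.character (u : G) := rfl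
  rw [this, sum_char_subgroup_eq, h1]
  simp [mul_comm]

/-- A common eigenvector of `B` among the `U`-fixed vectors, when `B` is abelian modulo `U`. -/
theorem exists_eigenvector_of_fixed (ρ : Representation ℂ G V)
    (B U : Subgroup G) (hUB : U ≤ B)
    (hab : ∀ a ∈ B, ∀ b ∈ B, ∃ u ∈ U, a * b = b * a * u)
    (w : V) (hw : w ≠ 0) (hfix : ∀ u ∈ U, ρ u w = w) :
    ∃ v : V, v ≠ 0 ∧ ∃ c : B → ℂ, ∀ b : B, ρ (b : G) v = c b • v := by
  classical
  let W : Submodule ℂ V :=
    { carrier := {v | ∀ u ∈ U, ρ u v = v}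
      add_mem' := by
        intro a b ha hb u hu
        rw [map_add, ha u hu, hb u hu]
      zero_mem' := by
        intro u _
        simp
      smul_mem' := by
        intro c a ha u hu
        rw [map_smul, ha u hu] }
  have hinv : ∀ b : B, ∀ v ∈ W, ρ (b : G) v ∈ W := by
    intro b v hv u hu
    obtain ⟨u', hu', he⟩ := hab u (hUB hu) b b.2
    have : ρ u (ρ (b : G) v) = ρ (u * (b : G)) v := by rw [map_mul]; rfl
    rw [this, he, map_mul, map_mul]
    show ρ (b : G) (ρ u (ρ u' v)) = ρ (b : G) v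
    rw [hv u' hu', hv u hu]
  let f : B → End ℂ W := fun b => (ρ (b : G)).restrict (hinv b)
  have hf : ∀ (b : B) (v : W), ((f b v : W) : V) = ρ (b : G) (v : V) := fun b v => rfl
  have hcomm : ∀ a b : B, Commute (f a) (f b) := by
    intro a b
    show f a * f b = f b * f a
    apply LinearMap.ext
    intro v
    apply Subtype.ext
    show ρ (a : G) (ρ (b : G) (v : V)) = ρ (b : G) (ρ (a : G) (v : V))
    obtain ⟨u', hu', he⟩ := hab a a.2 b b.2
    have h1 : ρ (a : G) (ρ (b : G) (v : V)) = ρ ((a : G) * (b : G)) (v : V) := by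
      rw [map_mul]; rfl
    rw [h1, he, map_mul, map_mul]
    show ρ (b : G) (ρ (a : G) (ρ u' (v : V))) = _
    rw [v.2 u' hu']
  have hpow : ∀ (b : B) (k : ℕ) (v : W), ((((f b) ^ k) v : W) : V) = ((ρ (b : G)) ^ k) (v : V) := by
    intro b k
    induction k with
    | zero => intro v; simp
    | succ k ih =>
      intro v
      rw [pow_succ, pow_succ, Module.End.mul_apply, ih, hf, Module.End.mul_apply]
  have hss : ∀ b : B, (f b).IsSemisimple := by
    intro b
    apply Cfsg.Agent.Lib.helper82.isSemisimple_of_pow_eq_one _ (orderOf (b : G)) (orderOf_pos _)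
    apply LinearMap.ext
    intro v
    apply Subtype.ext
    rw [hpow, Cfsg.Agent.Lib.helper82.rep_pow_orderOf]
    rfl
  have : Nontrivial W := by
    refine ⟨⟨⟨w, hfix⟩, 0, ?_⟩⟩
    intro h
    exact hw (congrArg Subtype.val h)
  obtain ⟨v, hv0, c, hc⟩ := Cfsg.Agent.Lib.helper82.exists_common_eigenvector f hcomm hss
  refine ⟨(v : V), fun h => hv0 (Subtype.ext h), c, ?_⟩
  intro b
  have := congrArg Subtype.val (hc b)
  rw [hf] at this
  rw [this]
  rfl

end Rep

section Chars

variable {G : Type*} [Group G] [Fintype G]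

/-- Character form of `sum_char_mul_eq_zero`. -/
theorem sum_mul_eq_zero_of_sum_eq_zero {χ : G → ℂ} (hχ : Cfsg.IsCharacter G χ)
    (U : Subgroup G) [Fintype U] (h : ∑ u : U, χ (u : G) = 0) (g : G) :
    ∑ u : U, χ (g * (u : G)) = 0 := by
  obtain ⟨n, ρ, rfl⟩ := hχ
  exact sum_char_mul_eq_zero ρ U h g

/-- Character form of `exists_norm_one_sum_char_mul`. -/
theorem exists_norm_one_sum_mul {χ : G → ℂ} (hχ : Cfsg.IsCharacter G χ)
    (U : Subgroup G) [Fintype U] (h : ∑ u : U, χ (u : G) = (Nat.card U : ℂ)) (g : G)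
    (hg : ∀ u ∈ U, g⁻¹ * u * g ∈ U) :
    ∃ z : ℂ, ‖z‖ = 1 ∧ ∑ u : U, χ (g * (u : G)) = (Nat.card U : ℂ) * z := by
  obtain ⟨n, ρ, rfl⟩ := hχ
  exact exists_norm_one_sum_char_mul ρ U h g hg

/-- A character having nonzero inner product with an irreducible character `χ` is `χ` plus a
character. -/
theorem exists_add_of_classInner_ne_zero {Ψ χ : G → ℂ} (hΨ : Cfsg.IsCharacter G Ψ)
    (hχ : Cfsg.IsIrrCharacter G χ) (h : Cfsg.classInner Ψ χ ≠ 0) :
    ∃ ψ : G → ℂ, Cfsg.IsCharacter G ψ ∧ Ψ = χ + ψ := by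
  classical
  obtain ⟨l, rfl⟩ := exists_irr_list_of_isCharacter hΨ
  have hmem : (⟨χ, hχ⟩ : Cfsg.IrrCharacter G) ∈ l := by
    by_contra hcon
    apply h
    rw [classInner_list_sum_left]
    apply List.sum_eq_zero
    intro x hx
    rw [List.mem_map] at hx
    obtain ⟨a, ha, rfl⟩ := hx
    rw [List.mem_map] at ha
    obtain ⟨φ, hφ, rfl⟩ := ha
    apply classInner_irr_ne φ.2 hχ
    intro he
    apply hcon
    have : φ = ⟨χ, hχ⟩ := Subtype.ext he
    rw [← this]
    exact hφ
  have hperm := List.perm_cons_erase hmem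
  refine ⟨((l.erase ⟨χ, hχ⟩).map Subtype.val).sum, ?_, ?_⟩
  · apply isCharacter_list_sum
    intro φ hφ
    rw [List.mem_map] at hφ
    obtain ⟨a, -, rfl⟩ := hφ
    exact isCharacter_of_isIrrCharacter a.2
  · have := (hperm.map Subtype.val).sum_eq
    rw [this]
    simp

omit [Fintype G] in
/-- A character of degree zero is zero. -/
theorem isCharacter_eq_zero_of_one {ψ : G → ℂ} (hψ : Cfsg.IsCharacter G ψ) (h : ψ 1 = 0) :
    ψ = 0 := by
  obtain ⟨n, ρ, rfl⟩ := hψ
  have hn : n = 0 := by
    have : ρ.character 1 = (n : ℂ) := by simp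
    rw [this] at h
    exact_mod_cast h
  subst hn
  exact char_eq_zero_of_subsingleton ρ

/-- A function induced from `B` vanishes at elements with no conjugate in `B`. -/
theorem indFun_eq_zero_of_forall_not_mem (B : Subgroup G) (θ : B → ℂ) (g : G)
    (hg : ∀ x : G, x⁻¹ * g * x ∉ B) : Cfsg.indFun B θ g = 0 := by
  rw [indFun_apply]
  have : ∀ x : G, Cfsg.extendByZero B θ (x⁻¹ * g * x) = 0 :=
    fun x => extendByZero_apply_of_not_mem B θ (hg x)
  simp [this]

/-- **Constituents of induced linear characters**: if `χ` is an irreducible character of `G`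
whose sum over `U` is nonzero (it has a nonzero `U`-fixed vector), `U ≤ B` and `B` is abelian
modulo `U`, then `χ` is a constituent of the character induced from a linear character `c` of
`B`: `Ind_B c = χ + ψ` with `ψ` a character. -/
theorem exists_hom_indFun_eq_add {χ : G → ℂ} (hχ : Cfsg.IsIrrCharacter G χ)
    (B U : Subgroup G) [Fintype U] (hUB : U ≤ B)
    (hab : ∀ a ∈ B, ∀ b ∈ B, ∃ u ∈ U, a * b = b * a * u)
    (hsum : ∑ u : U, χ (u : G) ≠ 0) :
    ∃ c : B →* ℂˣ, ∃ ψ : G → ℂ, Cfsg.IsCharacter G ψ ∧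
      Cfsg.indFun B (fun b => ((c b : ℂˣ) : ℂ)) = χ + ψ := by
  classical
  have hχ' := hχ
  obtain ⟨n, ρ, hirr, rfl⟩ := hχ
  have : Fintype B := Fintype.ofFinite B
  -- a nonzero U-fixed vector
  have he : (∑ u : U, ρ (u : G)) ≠ 0 := by
    intro h
    apply hsum
    have : ∑ u : U, ρ.character (u : G) = LinearMap.trace ℂ _ (∑ u : U, ρ (u : G)) := by
      simp only [map_sum]
      rfl
    rw [this, h, map_zero]
  obtain ⟨x, hx⟩ : ∃ x, (∑ u : U, ρ (u : G)) x ≠ 0 := by
    by_contra hcon
    push Not at hcon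
    exact he (LinearMap.ext hcon)
  have hfix : ∀ u ∈ U, ρ u ((∑ u : U, ρ (u : G)) x) = (∑ u : U, ρ (u : G)) x :=
    fun u hu => sum_rep_mem_invariants ρ U x ⟨u, hu⟩
  obtain ⟨v, hv0, c0, hc0⟩ := exists_eigenvector_of_fixed ρ B U hUB hab _ hx hfix
  -- c0 is multiplicative
  have hinj : ∀ a b : ℂ, a • v = b • v → a = b := by
    intro a b hab'
    have h2 : (a - b) • v = 0 := by rw [sub_smul, hab', sub_self]
    rcases smul_eq_zero.1 h2 with h3 | h3
    · exact sub_eq_zero.1 h3
    · exact absurd h3 hv0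
  let cM : B →* ℂ :=
    { toFun := c0
      map_one' := by
        apply hinj
        rw [← hc0 1]
        simp
      map_mul' := by
        intro a b
        apply hinj
        rw [← hc0 (a * b)]
        have : ρ ((a * b : B) : G) v = ρ (a : G) (ρ (b : G) v) := by
          rw [Subgroup.coe_mul, map_mul]; rfl
        rw [this, hc0 b, map_smul, hc0 a, smul_smul, mul_comm] }
  let c : B →* ℂˣ := cM.toHomUnits
  have hc : ∀ b : B, ρ (b : G) v = ((c b : ℂˣ) : ℂ) • v := fun b => hc0 b
  -- the twisted representation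
  let ρ' : Representation ℂ B (Fin n → ℂ) :=
    { toFun := fun b => (((c b)⁻¹ : ℂˣ) : ℂ) • ρ (b : G)
      map_one' := by simp
      map_mul' := by
        intro a b
        rw [map_mul, mul_inv, Units.val_mul, Subgroup.coe_mul, map_mul, smul_mul_smul_comm] }
  have hv' : v ∈ Representation.invariants ρ' := by
    intro b
    show (((c b)⁻¹ : ℂˣ) : ℂ) • ρ (b : G) v = v
    rw [hc b, smul_smul]
    simp
  have hfr : 1 ≤ finrank ℂ (Representation.invariants ρ') := by
    rw [Submodule.one_le_finrank_iff]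
    intro hbot
    rw [hbot] at hv'
    exact hv0 ((Submodule.mem_bot ℂ).1 hv')
  have hB : (Nat.card B : ℂ) ≠ 0 := by exact_mod_cast (Nat.card_pos (α := B)).ne'
  have : Invertible (Nat.card B : ℂ) := invertibleOfNonzero hB
  have havg := Representation.card_inv_mul_sum_char_eq_finrank (ρ := ρ')
  have hconj : ∀ b : B, conj ((c b : ℂˣ) : ℂ) = (((c b)⁻¹ : ℂˣ) : ℂ) := by
    intro b
    have h1 := hom_mul_conj_eq_one c b
    rw [Units.val_inv_eq_inv_val]
    exact eq_inv_of_mul_eq_one_right h1
  have hinner : Cfsg.classInner (fun b : B => ρ.character (b : G)) (fun b => ((c b : ℂˣ) : ℂ)) =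
      (finrank ℂ (Representation.invariants ρ') : ℂ) := by
    rw [← havg]
    unfold Cfsg.classInner
    congr 1
    apply Finset.sum_congr rfl
    intro b _
    rw [hconj]
    show _ = LinearMap.trace ℂ _ ((((c b)⁻¹ : ℂˣ) : ℂ) • ρ (b : G))
    rw [map_smul, smul_eq_mul, mul_comm]
    rfl
  have hfrob : Cfsg.classInner (Cfsg.indFun B (fun b => ((c b : ℂˣ) : ℂ))) ρ.character =
      (finrank ℂ (Representation.invariants ρ') : ℂ) := by
    rw [frobenius_reciprocity B _ (isClassFunction_of_isCharacter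
      (isCharacter_of_isIrrCharacter hχ')), ← classInner_conj_symm, hinner]
    simp
  have hne : Cfsg.classInner (Cfsg.indFun B (fun b => ((c b : ℂˣ) : ℂ))) ρ.character ≠ 0 := by
    rw [hfrob]
    have : finrank ℂ (Representation.invariants ρ') ≠ 0 := by omega
    exact_mod_cast this
  obtain ⟨ψ, hψ, hψ'⟩ := exists_add_of_classInner_ne_zero
    (isCharacter_indFun B (Cfsg.Agent.Lib.helper19.isCharacter_of_hom c)) hχ' hne
  exact ⟨c, ψ, hψ, hψ'⟩

end Chars

end Cfsg.Agent.Lib.helper43
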