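import Mathlib
import Cfsg.Agent.Lib.helper24.S6eDefs
import Cfsg.Agent.Lib.helper54.S6eBSC

/-! # S6002 piece ACEN: the centre of `R` is `{±1}` -/

set_option autoImplicit false

namespace Cfsg.Agent.Lib.helper24

open Matrix Cfsg Cfsg.Geo

/-- ACEN (S). Centre: central elements of R commute with matrixSet R, so are scalar c•1 (second clause of ActsAbsolutelyIrreducibly); c•1 ∈ spGL forces c² = 1; the centre has 2 elements, so the non-identity one is -1. -/
theorem s6_center {F : Type*} [Field F] (h2 : (2 : F) ≠ 0) (R : Subgroup (GL S6I F))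
    (hRi : ActsAbsolutelyIrreducibly (matrixSet R)) (hRf : R ≤ spGL 2 F)
    (hRZ : Nat.card (Subgroup.center R) = 2) :
    (∃ z ∈ R, (z : Matrix S6I S6I F) = -1) ∧
    ∀ s ∈ R, (∀ t ∈ R, s * t = t * s) → ((s : Matrix S6I S6I F) = 1 ∨ (s : Matrix S6I S6I F) = -1) := by
  have key : ∀ s ∈ R, (∀ t ∈ R, s * t = t * s) →
      ((s : Matrix S6I S6I F) = 1 ∨ (s : Matrix S6I S6I F) = -1) := by
    intro s hs hcomm
    have hsc : ∃ c : F, (s : Matrix S6I S6I F) = c • (1 : Matrix S6I S6I F) := by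
      apply hRi.2
      rintro M ⟨t, ht, rfl⟩
      have := congrArg (fun g : GL S6I F => (g : Matrix S6I S6I F)) (hcomm t ht)
      simpa using this
    obtain ⟨c, hc⟩ := hsc
    have hc1 := s6_scalar_pm s (hRf hs) 1 c (by rw [pow_one]; exact hc)
    rcases hc1 with rfl | rfl
    · left; rw [hc, one_smul]
    · right; rw [hc]; simp
  refine ⟨?_, key⟩
  have hne : Subgroup.center ↥R ≠ ⊥ := by
    intro hbot
    rw [hbot] at hRZ
    simp at hRZ
  obtain ⟨⟨z, hz⟩, hz1'⟩ := (Subgroup.ne_bot_iff_exists_ne_one).mp hne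
  have hz1 : z ≠ 1 := by
    intro h
    apply hz1'
    exact Subtype.ext h
  have hzc : ∀ t ∈ R, (z : GL S6I F) * t = t * (z : GL S6I F) := by
    intro t ht
    have := Subgroup.mem_center_iff.mp hz ⟨t, ht⟩
    exact (congrArg Subtype.val this).symm
  refine ⟨(z : GL S6I F), z.2, ?_⟩
  rcases key (z : GL S6I F) z.2 hzc with h | h
  · exfalso
    apply hz1
    have : (z : GL S6I F) = 1 := Units.ext h
    exact Subtype.ext this
  · exact h

end Cfsg.Agent.Lib.helper24
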