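import Mathlib
import Cfsg.Agent.Lib.helper24.SffDefs
import Cfsg.Agent.Lib.helper24.SubfE

/-!
# S5965 piece IDX (helper43): index arithmetic for the subfield subgroup, odd `r ≠ p`
-/

set_option autoImplicit false

namespace Cfsg.Agent.Lib.helper24

open Module Matrix Cfsg.Geo Polynomial

/-- termwise valuation equality -/
theorem h43_val_term (a k r j : ℕ) [hr : Fact r.Prime] (hr2 : r ≠ 2) (ha2 : 2 ≤ a) (hj : 1 ≤ j)
    (hk : k ≠ 0) (hrk : ¬ r ∣ k) (hno : r ∣ (a ^ k) ^ j - 1 → r ∣ a ^ j - 1) :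
    padicValNat r ((a ^ k) ^ j - 1) = padicValNat r (a ^ j - 1) := by
  have hX2 : 2 ≤ a ^ j := le_trans ha2 (Nat.le_self_pow (by omega) a)
  have h1 : (a ^ k) ^ j = (a ^ j) ^ k := by rw [← pow_mul, ← pow_mul, mul_comm]
  rw [h1] at hno ⊢
  by_cases hd : r ∣ (a ^ j) ^ k - 1
  · have hd' := hno hd
    have hodd : Odd r := hr.out.odd_of_ne_two hr2
    have hx : ¬ r ∣ a ^ j := by
      intro h
      have h3 : a ^ j = (a ^ j - 1) + 1 := by omega
      rw [h3] at h
      have h4 : r ∣ 1 := (Nat.dvd_add_right hd').mp h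
      exact hr.out.one_lt.ne' (Nat.dvd_one.mp h4)
    have h2 := padicValNat.pow_sub_pow hodd (by omega : 1 < a ^ j) hd' hx hk
    rw [one_pow] at h2
    rw [h2, padicValNat.eq_zero_of_not_dvd hrk, add_zero]
  · have hd' : ¬ r ∣ a ^ j - 1 := by
      intro h
      apply hd
      have h5 := Nat.sub_dvd_pow_sub_pow (a ^ j) 1 k
      rw [one_pow] at h5
      exact h.trans h5
    rw [padicValNat.eq_zero_of_not_dvd hd, padicValNat.eq_zero_of_not_dvd hd']

theorem h43_val_prod (a k n r : ℕ) [hr : Fact r.Prime] (hr2 : r ≠ 2) (ha2 : 2 ≤ a) (hk : k ≠ 0)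
    (hra : ¬ r ∣ a) (hrk : ¬ r ∣ k) (hn : 1 ≤ n)
    (hno : ∀ j, 2 ≤ j → j ≤ n → r ∣ (a ^ k) ^ j - 1 → r ∣ a ^ j - 1) :
    padicValNat r (∏ i : Fin n, ((a ^ k) ^ n - (a ^ k) ^ (i : ℕ))) + padicValNat r (a - 1) =
      padicValNat r (∏ i : Fin n, (a ^ n - a ^ (i : ℕ))) + padicValNat r (a ^ k - 1) := by
  have hak2 : 2 ≤ a ^ k := le_trans ha2 (Nat.le_self_pow hk a)
  have hrak : ¬ r ∣ a ^ k := fun h => hra (hr.out.dvd_of_dvd_pow h)
  have hne : ∀ (c : ℕ), 2 ≤ c → ∀ i ∈ (Finset.univ : Finset (Fin n)),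
      c ^ n - c ^ (i : ℕ) ≠ 0 := by
    intro c hc i _
    have := Nat.pow_lt_pow_right (by omega : 1 < c) i.2
    omega
  rw [padicValNat_prod_ne_zero r _ _ (hne _ hak2), padicValNat_prod_ne_zero r _ _ (hne _ ha2)]
  have hsplit : ∀ c : ℕ, ¬ r ∣ c → 2 ≤ c → ∀ i : Fin n,
      padicValNat r (c ^ n - c ^ (i : ℕ)) = padicValNat r (c ^ (n - (i : ℕ)) - 1) := by
    intro c hc hc2 i
    have h1 : c ^ n - c ^ (i : ℕ) = c ^ (i : ℕ) * (c ^ (n - (i : ℕ)) - 1) := by
      rw [Nat.mul_sub, mul_one, ← pow_add, Nat.add_sub_cancel' (le_of_lt i.2)]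
    have h2 : c ^ (n - (i : ℕ)) - 1 ≠ 0 := by
      have := Nat.pow_lt_pow_right (by omega : 1 < c) (by omega : 0 < n - (i : ℕ))
      rw [pow_zero] at this
      omega
    have h4 : c ^ (i : ℕ) ≠ 0 := by positivity
    rw [h1, padicValNat.mul h4 h2,
      padicValNat.eq_zero_of_not_dvd (fun h => hc (hr.out.dvd_of_dvd_pow h)), zero_add]
  simp only [hsplit _ hrak hak2, hsplit _ hra ha2]
  obtain ⟨m, rfl⟩ : ∃ m, n = m + 1 := ⟨n - 1, by omega⟩
  rw [Fin.sum_univ_castSucc, Fin.sum_univ_castSucc]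
  have hsum : ∑ i : Fin m, padicValNat r ((a ^ k) ^ (m + 1 - ((Fin.castSucc i : Fin (m + 1)) : ℕ)) - 1)
      = ∑ i : Fin m, padicValNat r (a ^ (m + 1 - ((Fin.castSucc i : Fin (m + 1)) : ℕ)) - 1) := by
    apply Finset.sum_congr rfl
    intro i _
    have hi := i.2
    have hiv : ((Fin.castSucc i : Fin (m + 1)) : ℕ) = (i : ℕ) := Fin.val_castSucc i
    rw [hiv]
    exact h43_val_term a k r _ hr2 ha2 (by omega) hk hrk (hno _ (by omega) (by omega))
  rw [hsum]
  have e : m + 1 - ((Fin.last m : Fin (m + 1)) : ℕ) = 1 := by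
    rw [Fin.val_last]; omega
  rw [e, pow_one, pow_one]
  ring

/-- IDX -/
theorem sff_idx {F : Type*} [Field F] [Fintype F] {n : ℕ} (F₀ : Subfield F) (hn : 2 ≤ n) (k : ℕ)
    (hk : k.Prime) (hcard : Fintype.card F = (Nat.card F₀) ^ k) (r : ℕ) [Fact r.Prime]
    (hr2 : r ≠ 2) (hrk : r ≠ k) (hrF : (r : F) ≠ 0)
    (hΩ : r ∣ ((subfieldSubgroup F₀ (1 : GL (Fin n) F)).comap
      (Matrix.SpecialLinearGroup.toGL :
        Matrix.SpecialLinearGroup (Fin n) F →* GL (Fin n) F)).index) :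
    ∃ j, 2 ≤ j ∧ j ≤ n ∧ r ∣ (Fintype.card F) ^ j - 1 ∧ ¬ r ∣ (Nat.card F₀) ^ j - 1 := by
  classical
  by_contra hcon
  have hno : ∀ j, 2 ≤ j → j ≤ n → r ∣ (Fintype.card F) ^ j - 1 → r ∣ (Nat.card F₀) ^ j - 1 := by
    intro j h2 hjn hd
    by_contra hnd
    exact hcon ⟨j, h2, hjn, hd, hnd⟩
  let _ : Fintype F₀ := Fintype.ofFinite F₀
  have hψH : ∀ A : Matrix.SpecialLinearGroup (Fin n) F₀,
      Matrix.SpecialLinearGroup.map (F₀.subtype : F₀ →+* F) A ∈
        (subfieldSubgroup F₀ (1 : GL (Fin n) F)).comap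
          (Matrix.SpecialLinearGroup.toGL :
            Matrix.SpecialLinearGroup (Fin n) F →* GL (Fin n) F) := by
    intro A
    rw [Subgroup.mem_comap]
    apply subf_mem_of_eq_smul F₀ _ 1 one_ne_zero
      ((Matrix.SpecialLinearGroup.map (F₀.subtype : F₀ →+* F) A :
        Matrix.SpecialLinearGroup (Fin n) F) : Matrix (Fin n) (Fin n) F)
    · intro i j
      rw [Matrix.SpecialLinearGroup.map_apply_coe]
      exact (A i j).2
    · rw [one_smul]
      rfl
  have hψinj : Function.Injective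
      ((Matrix.SpecialLinearGroup.map (F₀.subtype : F₀ →+* F)).codRestrict _ hψH) := by
    intro A B hAB
    have h1 : Matrix.SpecialLinearGroup.map (F₀.subtype : F₀ →+* F) A =
        Matrix.SpecialLinearGroup.map (F₀.subtype : F₀ →+* F) B := congrArg Subtype.val hAB
    apply Matrix.SpecialLinearGroup.ext
    intro i j
    have h2 := congrArg
      (fun M : Matrix.SpecialLinearGroup (Fin n) F => (M : Matrix (Fin n) (Fin n) F) i j) h1
    simp only [Matrix.SpecialLinearGroup.map_apply_coe] at h2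
    exact Subtype.ext h2
  have hdvd := Subgroup.card_dvd_of_injective _ hψinj
  have hidx := Subgroup.card_mul_index ((subfieldSubgroup F₀ (1 : GL (Fin n) F)).comap
      (Matrix.SpecialLinearGroup.toGL :
        Matrix.SpecialLinearGroup (Fin n) F →* GL (Fin n) F))
  have hc1 := Cfsg.Agent.Lib.helper6.card_SL (F := F) n (by omega)
  have hc2 := Cfsg.Agent.Lib.helper6.card_SL (F := F₀) n (by omega)
  have hq₀ : Nat.card F₀ = Fintype.card F₀ := Nat.card_eq_fintype_card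
  rw [hq₀] at hcard hno
  have hk0 : k ≠ 0 := hk.ne_zero
  have hq₀2 : 2 ≤ Fintype.card F₀ := Fintype.one_lt_card
  have hrq₀ : ¬ r ∣ Fintype.card F₀ := by
    intro h
    have hrq : r ∣ Fintype.card F := by rw [hcard]; exact dvd_pow h hk0
    obtain ⟨p, hpc⟩ := CharP.exists F
    have hpp : p.Prime := CharP.char_is_prime F p
    obtain ⟨f, -, hf⟩ := FiniteField.card F p
    rw [hf] at hrq
    have h3 := (Nat.prime_dvd_prime_iff_eq (Fact.out : r.Prime) hpp).mp
      ((Fact.out : r.Prime).dvd_of_dvd_pow hrq)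
    apply hrF
    rw [h3]
    exact CharP.cast_eq_zero F p
  have hrk' : ¬ r ∣ k := by
    intro h
    exact hrk ((Nat.prime_dvd_prime_iff_eq (Fact.out : r.Prime) hk).mp h)
  rw [hcard] at hc1 hno
  have hv := h43_val_prod (Fintype.card F₀) k n r hr2 hq₀2 hk0 hrq₀ hrk' (by omega) hno
  rw [← hc1, ← hc2] at hv
  have hak2 : 2 ≤ Fintype.card F₀ ^ k := le_trans hq₀2 (Nat.le_self_pow hk0 _)
  have hcS : Nat.card (Matrix.SpecialLinearGroup (Fin n) F) ≠ 0 := Nat.card_pos.ne'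
  have hcS₀ : Nat.card (Matrix.SpecialLinearGroup (Fin n) F₀) ≠ 0 := Nat.card_pos.ne'
  rw [padicValNat.mul (by omega) hcS, padicValNat.mul (by omega) hcS₀] at hv
  have hveq : padicValNat r (Nat.card (Matrix.SpecialLinearGroup (Fin n) F)) =
      padicValNat r (Nat.card (Matrix.SpecialLinearGroup (Fin n) F₀)) := by omega
  obtain ⟨c, hc⟩ := hdvd
  obtain ⟨d, hd⟩ := hΩ
  have h4 : r ^ (padicValNat r (Nat.card (Matrix.SpecialLinearGroup (Fin n) F₀)) + 1) ∣
      Nat.card (Matrix.SpecialLinearGroup (Fin n) F) := by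
    rw [← hidx, hc, hd, pow_succ]
    have h5 := pow_padicValNat_dvd (p := r) (n := Nat.card (Matrix.SpecialLinearGroup (Fin n) F₀))
    obtain ⟨e, he⟩ := h5
    exact ⟨e * c * d, by
      nth_rewrite 1 [he]
      ring⟩
  have h6 := (padicValNat_dvd_iff_le (p := r) hcS).1 h4
  omega

end Cfsg.Agent.Lib.helper24
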