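import Mathlib
import Cfsg.Agent.Lib.helper24.SfoDefs

/-! S5981 piece OIDX, racing copy of the core (helper43): index analysis for `i` even, with OLB
(`sfo_card_lb`, at `d = n`) and ODET (`sfo_det_sq`) as hypotheses. -/

set_option autoImplicit false

namespace Cfsg.Agent.Lib.helper24

open Module Matrix Cfsg.Geo

theorem helper43_padic_prod {ι : Type*} (p : ℕ) [hp : Fact p.Prime] (s : Finset ι)
    (f : ι → ℕ) (hf : ∀ i ∈ s, f i ≠ 0) :
    padicValNat p (∏ i ∈ s, f i) = ∑ i ∈ s, padicValNat p (f i) := by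
  classical
  induction s using Finset.induction_on with
  | empty => simp
  | insert a s ha ih =>
    rw [Finset.prod_insert ha, Finset.sum_insert ha,
      padicValNat.mul (hf a (Finset.mem_insert_self a s))
        (Finset.prod_ne_zero_iff.2 (fun i hi => hf i (Finset.mem_insert_of_mem hi))),
      ih (fun i hi => hf i (Finset.mem_insert_of_mem hi))]

/-- the `r`-adic valuation of `|GL_n(q)|`, `r ∤ q` -/
theorem helper43_val_GL (q n r : ℕ) [hr : Fact r.Prime] (hq2 : 2 ≤ q) (hrq : ¬ r ∣ q) :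
    padicValNat r (∏ j : Fin n, (q ^ n - q ^ (j : ℕ))) =
      ∑ t ∈ Finset.range (n + 1), padicValNat r (q ^ t - 1) := by
  have hne : ∀ j ∈ (Finset.univ : Finset (Fin n)), q ^ n - q ^ (j : ℕ) ≠ 0 := by
    intro j _
    have := Nat.pow_lt_pow_right (by omega : 1 < q) j.2
    omega
  rw [helper43_padic_prod r _ _ hne]
  have hsplit : ∀ j : Fin n,
      padicValNat r (q ^ n - q ^ (j : ℕ)) = padicValNat r (q ^ (n - (j : ℕ)) - 1) := by
    intro j
    have h1 : q ^ n - q ^ (j : ℕ) = q ^ (j : ℕ) * (q ^ (n - (j : ℕ)) - 1) := by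
      rw [Nat.mul_sub, mul_one, ← pow_add, Nat.add_sub_cancel' (le_of_lt j.2)]
    have h2 : q ^ (n - (j : ℕ)) - 1 ≠ 0 := by
      have := Nat.pow_lt_pow_right (by omega : 1 < q) (by omega : 0 < n - (j : ℕ))
      rw [pow_zero] at this
      omega
    have h4 : q ^ (j : ℕ) ≠ 0 := by positivity
    rw [h1, padicValNat.mul h4 h2,
      padicValNat.eq_zero_of_not_dvd (fun h => hrq (hr.out.dvd_of_dvd_pow h)), zero_add]
  simp only [hsplit]
  rw [Fin.sum_univ_eq_sum_range (fun j => padicValNat r (q ^ (n - j) - 1)) n]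
  rw [Finset.sum_range_succ']
  have h0 : padicValNat r (q ^ 0 - 1) = 0 := by simp
  rw [h0, add_zero]
  rw [← Finset.sum_range_reflect (fun t => padicValNat r (q ^ (t + 1) - 1)) n]
  apply Finset.sum_congr rfl
  intro j hj
  have hj' := Finset.mem_range.mp hj
  congr 3
  omega

/-- OIDX core: OLB at `d = n` is `hOLB`, ODET is `hDET`. -/
theorem helper43_sfo_idx_even_core {F : Type*} [Field F] [Fintype F] {n : ℕ}
    (Q : (Fin n → F) → F) (r : ℕ) [Fact r.Prime] (hr2 : r ≠ 2) (hrF : (r : F) ≠ 0)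
    (hOLB : (∑ t ∈ (Finset.range n).filter (fun t => orderOf ((Fintype.card F : ℕ) : ZMod r) ∣ t),
        padicValNat r (Fintype.card F ^ t - 1)) +
      (if orderOf ((Fintype.card F : ℕ) : ZMod r) ∣ n ∧ r ∣ sfoCount Q 1 then
        padicValNat r (Fintype.card F ^ n - 1) else 0)
      ≤ padicValNat r (Nat.card (sfoIsom Q)))
    (hDET : ∀ g : GL (Fin n) F, g ∈ sfoIsom Q → (g : Matrix (Fin n) (Fin n) F).det ^ 2 = 1)
    (hΩ : r ∣ (quadSimilarityGroup Q).relIndex (specialLinear (Fin n) F)) :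
    orderOf ((Fintype.card F : ℕ) : ZMod r) ∣ n ∧ ¬ r ∣ sfoCount Q 1 := by
  classical
  by_contra hcon
  have hr : r.Prime := Fact.out
  have hq2 : 2 ≤ Fintype.card F := Fintype.one_lt_card
  have hrq : ¬ r ∣ Fintype.card F := by
    intro h4
    apply hrF
    obtain ⟨p, hp⟩ := CharP.exists F
    have := hp
    obtain ⟨k, hpp, hk⟩ := FiniteField.card F p
    rw [hk] at h4
    have h5 : r ∣ p := Nat.Prime.dvd_of_dvd_pow hr h4
    have h6 : r = p := (Nat.prime_dvd_prime_iff_eq hr hpp).1 h5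
    rw [h6]
    exact CharP.cast_eq_zero F p
  -- Step A: valuations
  have hT0 : ∀ t, ¬ orderOf ((Fintype.card F : ℕ) : ZMod r) ∣ t →
      padicValNat r (Fintype.card F ^ t - 1) = 0 := by
    intro t ht
    apply padicValNat.eq_zero_of_not_dvd
    intro hd
    apply ht
    apply orderOf_dvd_of_pow_eq_one
    have h1 : ((Fintype.card F ^ t - 1 : ℕ) : ZMod r) = 0 := (ZMod.natCast_eq_zero_iff _ _).mpr hd
    have h3 : 1 ≤ Fintype.card F ^ t := Nat.one_le_pow _ _ (by omega)
    rw [Nat.cast_sub h3, Nat.cast_pow, Nat.cast_one, sub_eq_zero] at h1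
    exact h1
  have hGL : padicValNat r (Nat.card (GL (Fin n) F)) ≤ padicValNat r (Nat.card (sfoIsom Q)) := by
    rw [Matrix.card_GL_field, helper43_val_GL _ n r hq2 hrq]
    refine le_trans ?_ hOLB
    rw [Finset.sum_range_succ, Finset.sum_filter]
    apply add_le_add
    · apply le_of_eq
      apply Finset.sum_congr rfl
      intro t _
      by_cases h : orderOf ((Fintype.card F : ℕ) : ZMod r) ∣ t
      · rw [if_pos h]
      · rw [if_neg h, hT0 t h]
    · by_cases hin : orderOf ((Fintype.card F : ℕ) : ZMod r) ∣ n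
      · have hN : r ∣ sfoCount Q 1 := by
          by_contra hN
          exact hcon ⟨hin, hN⟩
        rw [if_pos ⟨hin, hN⟩]
      · rw [hT0 n hin]
        exact Nat.zero_le _
  -- Step B: groups
  have hOH : sfoIsom Q ≤ quadSimilarityGroup Q := by
    intro g hg
    refine ⟨1, fun v => ?_⟩
    rw [Units.val_one, one_mul]
    exact hg v
  have hrO : r ∣ (sfoIsom Q).relIndex (specialLinear (Fin n) F) :=
    dvd_trans hΩ (Subgroup.relIndex_dvd_of_le_left _ hOH)
  have e1 : Nat.card ((sfoIsom Q).subgroupOf (specialLinear (Fin n) F)) *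
      (sfoIsom Q).relIndex (specialLinear (Fin n) F) = Nat.card (specialLinear (Fin n) F) :=
    Subgroup.card_mul_index _
  have e2 : Nat.card ((specialLinear (Fin n) F).subgroupOf (sfoIsom Q)) *
      (specialLinear (Fin n) F).relIndex (sfoIsom Q) = Nat.card (sfoIsom Q) :=
    Subgroup.card_mul_index _
  have e3 : Nat.card ((sfoIsom Q).subgroupOf (specialLinear (Fin n) F)) =
      Nat.card ((specialLinear (Fin n) F).subgroupOf (sfoIsom Q)) :=
    Nat.card_congr
      ⟨fun x => ⟨⟨x.1.1, Subgroup.mem_subgroupOf.mp x.2⟩, Subgroup.mem_subgroupOf.mpr x.1.2⟩,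
       fun y => ⟨⟨y.1.1, Subgroup.mem_subgroupOf.mp y.2⟩, Subgroup.mem_subgroupOf.mpr y.1.2⟩,
       fun x => rfl, fun y => rfl⟩
  have hS0 : Nat.card (specialLinear (Fin n) F) ≠ 0 := Nat.card_pos.ne'
  have hO0 : Nat.card (sfoIsom Q) ≠ 0 := Nat.card_pos.ne'
  have hG0 : Nat.card (GL (Fin n) F) ≠ 0 := Nat.card_pos.ne'
  have hm : ¬ r ∣ (specialLinear (Fin n) F).relIndex (sfoIsom Q) := by
    intro hd
    let φ : ↥(sfoIsom Q) →* Fˣ :=
      (Matrix.GeneralLinearGroup.det : GL (Fin n) F →* Fˣ).comp (sfoIsom Q).subtype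
    have hker : (specialLinear (Fin n) F).subgroupOf (sfoIsom Q) = φ.ker := by
      ext x
      rw [Subgroup.mem_subgroupOf, MonoidHom.mem_ker]
      show (x : GL (Fin n) F) ∈ (Matrix.GeneralLinearGroup.det : GL (Fin n) F →* Fˣ).ker ↔ _
      rw [MonoidHom.mem_ker]
      rfl
    have hidx : (specialLinear (Fin n) F).relIndex (sfoIsom Q) = Nat.card φ.range := by
      show ((specialLinear (Fin n) F).subgroupOf (sfoIsom Q)).index = _
      rw [hker, Subgroup.index_ker]
    have hp2 : IsPGroup 2 φ.range := by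
      rintro ⟨u, g, rfl⟩
      refine ⟨1, ?_⟩
      apply Subtype.ext
      apply Units.ext
      have h1 := hDET g.1 g.2
      simp only [pow_one, Subgroup.coe_pow, Units.val_pow_eq_pow_val, Subgroup.coe_one,
        Units.val_one]
      exact h1
    haveI : Fact (Nat.Prime 2) := ⟨Nat.prime_two⟩
    obtain ⟨k, hk⟩ := IsPGroup.iff_card.mp hp2
    rw [hidx, hk] at hd
    have h5 : r ∣ 2 := Nat.Prime.dvd_of_dvd_pow hr hd
    exact hr2 ((Nat.prime_dvd_prime_iff_eq hr Nat.prime_two).1 h5)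
  have hc0 : Nat.card ((sfoIsom Q).subgroupOf (specialLinear (Fin n) F)) ≠ 0 := by
    intro h0
    rw [h0, zero_mul] at e1
    exact hS0 e1.symm
  have hi1 : (sfoIsom Q).relIndex (specialLinear (Fin n) F) ≠ 0 := by
    intro h0
    rw [h0, mul_zero] at e1
    exact hS0 e1.symm
  have hi2 : (specialLinear (Fin n) F).relIndex (sfoIsom Q) ≠ 0 := by
    intro h0
    rw [h0, mul_zero] at e2
    exact hO0 e2.symm
  have v1 : padicValNat r (Nat.card (specialLinear (Fin n) F)) =
      padicValNat r (Nat.card ((sfoIsom Q).subgroupOf (specialLinear (Fin n) F))) +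
        padicValNat r ((sfoIsom Q).relIndex (specialLinear (Fin n) F)) := by
    rw [← e1, padicValNat.mul hc0 hi1]
  have v2 : padicValNat r (Nat.card (sfoIsom Q)) =
      padicValNat r (Nat.card ((sfoIsom Q).subgroupOf (specialLinear (Fin n) F))) := by
    rw [← e2, ← e3, padicValNat.mul hc0 hi2, padicValNat.eq_zero_of_not_dvd hm, add_zero]
  have v3 : padicValNat r (Nat.card (specialLinear (Fin n) F)) ≤
      padicValNat r (Nat.card (GL (Fin n) F)) :=
    (padicValNat_dvd_iff_le hG0).1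
      (dvd_trans pow_padicValNat_dvd (Subgroup.card_subgroup_dvd_card _))
  have v4 : 1 ≤ padicValNat r ((sfoIsom Q).relIndex (specialLinear (Fin n) F)) :=
    one_le_padicValNat_of_dvd hi1 hrO
  omega

end Cfsg.Agent.Lib.helper24
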