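import Mathlib
import Cfsg.Agent.Lib.helper24.SfoDefs

/-! S5981 piece ODIAG, racing copy of the core (helper43): the diagonal criterion, with OCRIT
(`sfo_crit`) as a hypothesis.  Adapted from helper10's `h10_sfu_diag_crit` (S5982). -/

set_option autoImplicit false

namespace Cfsg.Agent.Lib.helper24

open Module Matrix Cfsg.Geo

/-- powers of an element of order `r` indexed by `ZMod r` multiply as expected -/
theorem helper43_zpow_mul {F : Type*} [Field F] (r : ℕ) [Fact r.Prime] (ζ : F)
    (hζ : orderOf ζ = r) (e e' : ZMod r) : ζ ^ e.val * ζ ^ e'.val = ζ ^ (e + e').val := by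
  have h1 := pow_mod_orderOf ζ (e.val + e'.val)
  rw [hζ] at h1
  rw [← pow_add, ZMod.val_add, h1]

/-- powers of an element of order `r` indexed by `ZMod r` are distinct -/
theorem helper43_zpow_inj {F : Type*} [Field F] (r : ℕ) [Fact r.Prime] (ζ : F)
    (hζ : orderOf ζ = r) (e e' : ZMod r) (h : ζ ^ e.val = ζ ^ e'.val) : e = e' := by
  have h1 : e.val ≡ e'.val [MOD r] := by
    have hfin : IsOfFinOrder ζ := by
      rw [← orderOf_pos_iff, hζ]
      exact (Fact.out : r.Prime).pos
    have h0 := hfin.pow_eq_pow_iff_modEq.mp h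
    rw [hζ] at h0
    exact h0
  have h2 : ((e.val : ℕ) : ZMod r) = ((e'.val : ℕ) : ZMod r) :=
    (ZMod.natCast_eq_natCast_iff _ _ _).mpr h1
  rwa [ZMod.natCast_zmod_val, ZMod.natCast_zmod_val] at h2

/-- ODIAG core: OCRIT is the hypothesis `hCRIT`. -/
theorem helper43_sfo_diag_crit_core {F : Type*} [Field F] [Fintype F] [DecidableEq F] {n : ℕ}
    (Q : (Fin n → F) → F) (r : ℕ) [Fact r.Prime]
    (hCRIT : ∀ (g : GL (Fin n) F), g ∈ quadSimilarityGroup Q →
      ∀ (K : Matrix (Fin n) (Fin n) F) (μ : Fin n → F), K.det ≠ 0 →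
      (g : Matrix (Fin n) (Fin n) F) * K = K * Matrix.diagonal μ →
      ∃ c : F, c ≠ 0 ∧ ∀ a : F, a ≠ 0 → (Finset.univ.filter (fun j => μ j = a)).card =
        (Finset.univ.filter (fun j => μ j = c / a)).card)
    (ζ : F) (hζ : orderOf ζ = r) (a : Fin n → ZMod r) (w : F) (hw : w ≠ 0)
    (h : SfoWeakConj Q (w • Matrix.diagonal (fun j => ζ ^ (a j).val))) :
    ∃ c : ZMod r, ∀ b : ZMod r, (Finset.univ.filter (fun j => a j = b)).card =
      (Finset.univ.filter (fun j => a j = c - b)).card := by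
  have hr : r.Prime := Fact.out
  obtain ⟨P, g, hP, hg, hx⟩ := h
  have hPu : IsUnit P.det := isUnit_iff_ne_zero.mpr hP
  have hPi : (P⁻¹).det ≠ 0 := (Matrix.isUnit_nonsing_inv_det P hPu).ne_zero
  have hgK : (g : Matrix (Fin n) (Fin n) F) * P⁻¹ =
      P⁻¹ * Matrix.diagonal (fun j => w * ζ ^ (a j).val) := by
    have h1 : (g : Matrix (Fin n) (Fin n) F) =
        P⁻¹ * ((w • Matrix.diagonal (fun j => ζ ^ (a j).val)) * P) := by
      rw [hx, ← Matrix.mul_assoc, Matrix.nonsing_inv_mul P hPu, Matrix.one_mul]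
    rw [h1, Matrix.mul_assoc, Matrix.mul_assoc, Matrix.mul_nonsing_inv P hPu, Matrix.mul_one]
    congr 1
    ext i j
    by_cases hij : i = j
    · subst hij; simp
    · simp [hij]
  obtain ⟨c', hc', hcount⟩ := hCRIT g hg P⁻¹ _ hPi hgK
  have hζ0 : ζ ≠ 0 := by
    intro h0
    rw [h0] at hζ
    have : orderOf (0 : F) = 0 := by
      rw [orderOf_eq_zero_iff]
      intro hfin
      obtain ⟨m, hm, hm1⟩ := hfin.exists_pow_eq_one
      rw [zero_pow hm.ne'] at hm1
      exact zero_ne_one hm1
    rw [this] at hζ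
    exact hr.ne_zero hζ.symm
  have hinv : ∀ e : ZMod r, (ζ ^ e.val)⁻¹ = ζ ^ (-e).val := by
    intro e
    have h1 := helper43_zpow_mul r ζ hζ e (-e)
    rw [add_neg_cancel, ZMod.val_zero, pow_zero] at h1
    exact inv_eq_of_mul_eq_one_right h1
  set d : F := c' / w / w with hd_def
  have hcnt : ∀ b : ZMod r, (Finset.univ.filter (fun j => a j = b)).card =
      (Finset.univ.filter (fun j => ζ ^ (a j).val = d * ζ ^ (-b).val)).card := by
    intro b
    have hne : w * ζ ^ b.val ≠ 0 := mul_ne_zero hw (pow_ne_zero _ hζ0)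
    have h1 := hcount (w * ζ ^ b.val) hne
    have e1 : (Finset.univ.filter (fun j => a j = b)) =
        Finset.univ.filter (fun j => w * ζ ^ (a j).val = w * ζ ^ b.val) := by
      ext j
      simp only [Finset.mem_filter, Finset.mem_univ, true_and]
      constructor
      · intro hj; rw [hj]
      · intro hj
        exact helper43_zpow_inj r ζ hζ _ _ (mul_left_cancel₀ hw hj)
    have e2 : (Finset.univ.filter (fun j => w * ζ ^ (a j).val = c' / (w * ζ ^ b.val))) =
        Finset.univ.filter (fun j => ζ ^ (a j).val = d * ζ ^ (-b).val) := by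
      ext j
      simp only [Finset.mem_filter, Finset.mem_univ, true_and]
      have h3 : c' / (w * ζ ^ b.val) = w * (d * ζ ^ (-b).val) := by
        rw [← hinv b, hd_def]
        field_simp
      rw [h3]
      constructor
      · intro hj; exact mul_left_cancel₀ hw hj
      · intro hj; rw [hj]
    rw [e1, ← e2]
    exact h1
  by_cases hex : ∃ e : ZMod r, d = ζ ^ e.val
  · obtain ⟨e, he⟩ := hex
    refine ⟨e, fun b => ?_⟩
    rw [hcnt b]
    congr 1
    ext j
    simp only [Finset.mem_filter, Finset.mem_univ, true_and]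
    rw [he, helper43_zpow_mul r ζ hζ e (-b), ← sub_eq_add_neg]
    constructor
    · intro hj; exact helper43_zpow_inj r ζ hζ _ _ hj
    · intro hj; rw [hj]
  · have hzero : ∀ b : ZMod r, (Finset.univ.filter (fun j => a j = b)).card = 0 := by
      intro b
      rw [hcnt b, Finset.card_eq_zero, Finset.filter_eq_empty_iff]
      intro j _ hj
      apply hex
      refine ⟨a j + b, ?_⟩
      rw [← helper43_zpow_mul r ζ hζ (a j) b, hj, mul_assoc, helper43_zpow_mul r ζ hζ (-b) b,
        neg_add_cancel, ZMod.val_zero, pow_zero, mul_one]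
    refine ⟨0, fun b => ?_⟩
    rw [hzero b, hzero (0 - b)]

end Cfsg.Agent.Lib.helper24
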