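import Mathlib
import Cfsg.Agent.Lib.helper24.SfoDefs
import Cfsg.Agent.Lib.helper43.SfoODIAGcore
import Cfsg.Agent.Lib.helper85.SfoOCRIT

/-! S5981 piece ODIAG, racing copy (helper43): the diagonal criterion, from OCRIT. -/

set_option autoImplicit false

namespace Cfsg.Agent.Lib.helper24

open Module Matrix Cfsg.Geo

/-- ODIAG (racing copy, prefixed name; verbatim statement of `sfo_diag_crit`) -/
theorem helper43_sfo_diag_crit {F : Type*} [Field F] [Fintype F] {n : ℕ} (h2 : (2 : F) ≠ 0)
    (Q : (Fin n → F) → F) (hQ : IsNondegenerateQuadraticForm Q) (r : ℕ) [Fact r.Prime]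
    (ζ : F) (hζ : orderOf ζ = r) (a : Fin n → ZMod r) (w : F) (hw : w ≠ 0)
    (h : SfoWeakConj Q (w • Matrix.diagonal (fun j => ζ ^ (a j).val))) :
    ∃ c : ZMod r, ∀ b : ZMod r, (Finset.univ.filter (fun j => a j = b)).card =
      (Finset.univ.filter (fun j => a j = c - b)).card := by
  classical
  exact helper43_sfo_diag_crit_core Q r
    (fun g hg K μ hK hgK => sfo_crit h2 Q hQ g hg K μ hK hgK) ζ hζ a w hw h

end Cfsg.Agent.Lib.helper24
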