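import Mathlib
import Cfsg.Agent.Lib.helper24.SfoDefs

/-! S5981 split (helper24), piece ON1: the derangement `w • diag(ζ, 1, …, 1)`.
This file has the core, with the diagonal criterion (piece ODIAG) as a hypothesis.
(Adapted from helper11's `h11_sfu_nec_one_core`, S5982 piece UN1.) -/

set_option autoImplicit false

namespace Cfsg.Agent.Lib.helper24

open Matrix

theorem helper43_sfo_nec_one_core {F : Type*} [Field F] [Fintype F] {n : ℕ}
    (hn : 3 ≤ n) (Q : (Fin n → F) → F) (r : ℕ) [Fact r.Prime] (hr2 : r ≠ 2)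
    (hv : padicValNat r n < padicValNat r (Fintype.card F - 1))
    (hDIAG : ∀ (ζ : F), orderOf ζ = r → ∀ (a : Fin n → ZMod r) (w : F), w ≠ 0 →
      SfoWeakConj Q (w • Matrix.diagonal (fun j => ζ ^ (a j).val)) →
      ∃ c : ZMod r, ∀ b : ZMod r, (Finset.univ.filter (fun j => a j = b)).card =
        (Finset.univ.filter (fun j => a j = c - b)).card) :
    SfoDerang Q r := by
  classical
  have hr : r.Prime := Fact.out
  have hr1 : Fact (1 < r) := ⟨hr.one_lt⟩
  have hn0 : n ≠ 0 := by omega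
  obtain ⟨w, hwn⟩ : ∃ w : Fˣ, orderOf (w ^ n) = r := by
    obtain ⟨g, hg⟩ := IsCyclic.exists_generator (α := Fˣ)
    have hog : orderOf g = Fintype.card F - 1 := by
      rw [orderOf_eq_card_of_forall_mem_zpowers hg, Nat.card_eq_fintype_card, Fintype.card_units]
    have hq1 : Fintype.card F - 1 ≠ 0 := by
      intro h0
      rw [h0] at hv
      simp at hv
    have hdvd : r ^ (padicValNat r n + 1) ∣ Fintype.card F - 1 :=
      (padicValNat_dvd_iff_le hq1).mpr hv
    obtain ⟨s, hs⟩ := hdvd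
    have hs0 : s ≠ 0 := by
      rintro rfl
      rw [mul_zero] at hs
      exact hq1 hs
    refine ⟨g ^ s, ?_⟩
    have ho : orderOf (g ^ s) = r ^ (padicValNat r n + 1) := by
      rw [orderOf_pow_of_dvd hs0 (by rw [hog, hs]; exact Dvd.intro_left _ rfl), hog, hs,
        Nat.mul_div_cancel _ (Nat.pos_of_ne_zero hs0)]
    have hgcd : Nat.gcd (r ^ (padicValNat r n + 1)) n = r ^ padicValNat r n := by
      obtain ⟨j, hj, hjeq⟩ := (Nat.dvd_prime_pow hr).mp
        (Nat.gcd_dvd_left (r ^ (padicValNat r n + 1)) n)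
      have h1 : r ^ padicValNat r n ∣ Nat.gcd (r ^ (padicValNat r n + 1)) n :=
        Nat.dvd_gcd (pow_dvd_pow r (Nat.le_succ _)) pow_padicValNat_dvd
      have h2 : ¬ r ^ (padicValNat r n + 1) ∣ n := pow_succ_padicValNat_not_dvd hn0
      have h3 : r ^ j ∣ n := hjeq ▸ Nat.gcd_dvd_right _ _
      rw [hjeq] at h1
      have hfj : padicValNat r n ≤ j := (Nat.pow_dvd_pow_iff_le_right hr.one_lt).mp h1
      have hjf : j ≠ padicValNat r n + 1 := by
        intro hEq
        rw [hEq] at h3
        exact h2 h3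
      have hjj : j = padicValNat r n := by omega
      rw [hjeq, hjj]
    rw [orderOf_pow' _ hn0, ho, hgcd, pow_succ, Nat.mul_div_cancel_left r (pow_pos hr.pos _)]
  obtain ⟨W, hW⟩ : ∃ W : F, W = (w : F) := ⟨_, rfl⟩
  obtain ⟨ζ, hζdef⟩ : ∃ ζ : F, ζ = (((w ^ n)⁻¹ : Fˣ) : F) := ⟨_, rfl⟩
  have hζ : orderOf ζ = r := by
    rw [hζdef, orderOf_units, orderOf_inv, hwn]
  have hζr : ζ ^ r = 1 := by
    have := pow_orderOf_eq_one ζ
    rwa [hζ] at this
  have hζ1 : ζ ≠ 1 := by
    intro h1
    rw [h1, orderOf_one] at hζ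
    exact hr.one_lt.ne hζ
  have hWζ : W ^ n * ζ = 1 := by
    rw [hW, hζdef, ← Units.val_pow_eq_pow_val, ← Units.val_mul, mul_inv_cancel, Units.val_one]
  have hW0 : W ≠ 0 := by
    rw [hW]
    exact w.ne_zero
  obtain ⟨j0, hj0⟩ : ∃ j0 : Fin n, j0 = ⟨0, by omega⟩ := ⟨_, rfl⟩
  obtain ⟨j1, hj1⟩ : ∃ j1 : Fin n, j1 = ⟨1, by omega⟩ := ⟨_, rfl⟩
  have hj01 : j1 ≠ j0 := by
    rw [hj0, hj1]
    intro h
    have := congrArg Fin.val h
    simp at this
  obtain ⟨a, ha⟩ : ∃ a : Fin n → ZMod r, a = fun j => if j = j0 then 1 else 0 := ⟨_, rfl⟩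
  have ha0 : a j0 = 1 := by rw [ha]; simp
  have haj : ∀ j, j ≠ j0 → a j = 0 := by
    intro j hj
    rw [ha]
    simp [hj]
  have h01 : (0 : ZMod r) ≠ 1 := zero_ne_one
  have hm1 : (Finset.univ.filter (fun j => a j = (1 : ZMod r))).card = 1 := by
    rw [Finset.card_eq_one]
    refine ⟨j0, ?_⟩
    ext j
    simp only [Finset.mem_filter, Finset.mem_univ, true_and, Finset.mem_singleton]
    constructor
    · intro h
      by_contra hne
      rw [haj j hne] at h
      exact h01 h
    · rintro rfl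
      exact ha0
  have hm0 : (Finset.univ.filter (fun j => a j = (0 : ZMod r))).card = n - 1 := by
    have : Finset.univ.filter (fun j => a j = (0 : ZMod r)) = Finset.univ.erase j0 := by
      ext j
      simp only [Finset.mem_filter, Finset.mem_univ, true_and, Finset.mem_erase, and_true]
      constructor
      · intro h hEq
        rw [hEq, ha0] at h
        exact h01 h.symm
      · intro h
        exact haj j h
    rw [this, Finset.card_erase_of_mem (Finset.mem_univ _), Finset.card_univ, Fintype.card_fin]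
  have hmo : ∀ b : ZMod r, b ≠ 0 → b ≠ 1 →
      (Finset.univ.filter (fun j => a j = b)).card = 0 := by
    intro b hb0 hb1
    rw [Finset.card_eq_zero, Finset.filter_eq_empty_iff]
    intro j _ h
    by_cases hj : j = j0
    · rw [hj, ha0] at h
      exact hb1 h.symm
    · rw [haj j hj] at h
      exact hb0 h.symm
  have hval : ∀ j, ζ ^ (a j).val = if j = j0 then ζ else 1 := by
    intro j
    by_cases hj : j = j0
    · rw [if_pos hj, hj, ha0, ZMod.val_one, pow_one]
    · rw [if_neg hj, haj j hj, ZMod.val_zero, pow_zero]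
  refine ⟨W • Matrix.diagonal (fun j => ζ ^ (a j).val), ?_, ⟨W ^ r, ?_⟩, ?_, ?_⟩
  · rw [Matrix.det_smul, Matrix.det_diagonal, Fintype.card_fin]
    have hprod : ∏ j, ζ ^ (a j).val = ζ := by
      rw [Finset.prod_eq_single j0]
      · rw [hval, if_pos rfl]
      · intro b _ hb
        rw [hval, if_neg hb]
      · intro h
        exact absurd (Finset.mem_univ j0) h
    rw [hprod, hWζ]
  · rw [smul_pow, Matrix.diagonal_pow]
    congr 1
    rw [← Matrix.diagonal_one]
    congr 1
    funext j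
    simp only [Pi.pow_apply]
    rw [← pow_mul, mul_comm, pow_mul, hζr, one_pow]
  · intro z hz
    have e0 := congrFun (congrFun hz j0) j0
    have e1 := congrFun (congrFun hz j1) j1
    rw [Matrix.smul_apply, Matrix.diagonal_apply_eq, Matrix.smul_apply, Matrix.one_apply_eq,
      hval, if_pos rfl, smul_eq_mul, smul_eq_mul, mul_one] at e0
    rw [Matrix.smul_apply, Matrix.diagonal_apply_eq, Matrix.smul_apply, Matrix.one_apply_eq,
      hval, if_neg hj01, smul_eq_mul, smul_eq_mul, mul_one, mul_one] at e1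
    apply hζ1
    have h5 : W * ζ = W * 1 := by rw [e0, mul_one, e1]
    exact mul_left_cancel₀ hW0 h5
  · intro hconj
    obtain ⟨c, hc⟩ := hDIAG ζ hζ a W hW0 hconj
    -- `-1 ≠ 1` and `-1 ≠ 0` in `ZMod r`, `r` odd
    have hneg1 : (-1 : ZMod r) ≠ 1 := by
      intro h
      have h2 : (2 : ZMod r) = 0 := by
        have : (1 : ZMod r) + 1 = 0 := by
          nth_rewrite 1 [← h]
          exact neg_add_cancel 1
        rw [← this]; norm_num
      have h3 : ((2 : ℕ) : ZMod r) = 0 := by exact_mod_cast h2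
      have h4 : r ∣ 2 := (ZMod.natCast_eq_zero_iff 2 r).mp h3
      exact hr2 ((Nat.prime_dvd_prime_iff_eq hr Nat.prime_two).mp h4)
    have hneg0 : (-1 : ZMod r) ≠ 0 := neg_ne_zero.mpr one_ne_zero
    have h0 := hc 0
    rw [sub_zero, hm0] at h0
    have h1 := hc 1
    rw [hm1] at h1
    by_cases hc0 : c = 0
    · rw [hc0, zero_sub, hmo _ hneg0 hneg1] at h1
      omega
    · by_cases hc1 : c = 1
      · rw [hc1, hm1] at h0
        omega
      · rw [hmo _ hc0 hc1] at h0
        omega

end Cfsg.Agent.Lib.helper24
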