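import Mathlib
import Cfsg.Agent.Lib.helper24.SfoDefs
import Cfsg.Agent.Lib.helper43.SfoON1core
import Cfsg.Agent.Lib.helper43.SfoODIAG

/-! S5981 split (helper24), piece ON1: the derangement `w • diag(ζ, 1, …, 1)`. -/

set_option autoImplicit false

namespace Cfsg.Agent.Lib.helper24

open Module Matrix Cfsg.Geo

/-- ON1 -/
theorem sfo_nec_one {F : Type*} [Field F] [Fintype F] {n : ℕ} (hn : 3 ≤ n) (h2 : (2 : F) ≠ 0)
    (Q : (Fin n → F) → F) (hQ : IsNondegenerateQuadraticForm Q) (r : ℕ) [Fact r.Prime]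
    (hr2 : r ≠ 2) (hd : r ∣ Fintype.card F - 1)
    (hv : padicValNat r n < padicValNat r (Fintype.card F - 1)) : SfoDerang Q r :=
  helper43_sfo_nec_one_core hn Q r hr2 hv
    (fun ζ hζ a w hw h => helper43_sfo_diag_crit h2 Q hQ r ζ hζ a w hw h)

end Cfsg.Agent.Lib.helper24
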