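import Mathlib
import Cfsg.Agent.Lib.helper24.SfoDefs
import Cfsg.Agent.Lib.helper25.SffN4Core

/-!
# S5981 piece ON3, core (helper43): diagonal derangements for orthogonal-type subgroups, relative
to the diagonal criterion ODIAG (`sfo_diag_crit`), which is taken as a hypothesis here.
Adapted from helper84's `SfuUN3core.lean` (S5982) / helper25's `SffN4Core.lean` (S5965).
-/

set_option autoImplicit false

namespace Cfsg.Agent.Lib.helper24

open Matrix Cfsg.Geo

/-- The diagonal matrix `diag(ζ^{a_j})` is a derangement as soon as no affine map of `ZMod r`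
`b ↦ c - b` preserves the multiplicities of the exponents. -/
theorem helper43_sfo_derang_of_diag {F : Type*} [Field F] [Fintype F] {n : ℕ}
    (Q : (Fin n → F) → F) (r : ℕ) [Fact r.Prime]
    (hdiag : ∀ (ζ : F), orderOf ζ = r → ∀ (a : Fin n → ZMod r) (w : F), w ≠ 0 →
      SfoWeakConj Q (w • Matrix.diagonal (fun j => ζ ^ (a j).val)) →
      ∃ c : ZMod r, ∀ b : ZMod r, (Finset.univ.filter (fun j => a j = b)).card =
        (Finset.univ.filter (fun j => a j = c - b)).card)
    (ζ : F) (hζ : orderOf ζ = r) (a : Fin n → ZMod r) (hsum : ∑ j, a j = 0)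
    (j₁ j₂ : Fin n) (hne : a j₁ ≠ a j₂)
    (hno : ¬ ∃ c : ZMod r, ∀ b : ZMod r, (Finset.univ.filter (fun j => a j = b)).card =
      (Finset.univ.filter (fun j => a j = c - b)).card) :
    SfoDerang Q r := by
  have hr : r.Prime := Fact.out
  have : NeZero r := ⟨hr.ne_zero⟩
  have hζr : ζ ^ r = 1 := by
    rw [← hζ]
    exact pow_orderOf_eq_one ζ
  refine ⟨Matrix.diagonal (fun j => ζ ^ (a j).val), ?_, ⟨1, ?_⟩, ?_, ?_⟩
  · rw [Matrix.det_diagonal, Finset.prod_pow_eq_pow_sum]
    have h1 : ((∑ j, (a j).val : ℕ) : ZMod r) = 0 := by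
      rw [Nat.cast_sum]
      simp only [ZMod.natCast_zmod_val]
      exact hsum
    rw [ZMod.natCast_eq_zero_iff] at h1
    obtain ⟨t, ht⟩ := h1
    rw [ht, pow_mul, hζr, one_pow]
  · rw [Matrix.diagonal_pow, one_smul]
    have h1 : (fun j => ζ ^ (a j).val) ^ r = (1 : Fin n → F) := by
      ext j
      simp only [Pi.pow_apply, Pi.one_apply]
      rw [← pow_mul, mul_comm, pow_mul, hζr, one_pow]
    rw [h1]
    exact Matrix.diagonal_one
  · intro z hz
    have e1 := congrFun (congrFun hz j₁) j₁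
    have e2 := congrFun (congrFun hz j₂) j₂
    simp only [Matrix.diagonal_apply_eq, Matrix.smul_apply, Matrix.one_apply_eq, smul_eq_mul,
      mul_one] at e1 e2
    have e3 : ζ ^ (a j₁).val = ζ ^ (a j₂).val := by rw [e1, e2]
    have hp : IsPrimitiveRoot ζ r := hζ ▸ IsPrimitiveRoot.orderOf ζ
    exact hne (ZMod.val_injective r (hp.pow_inj (ZMod.val_lt _) (ZMod.val_lt _) e3))
  · intro hw
    apply hno
    apply hdiag ζ hζ a 1 one_ne_zero
    rw [one_smul]
    exact hw

/-- **[UN3]** relative to UDIAG. -/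
theorem helper43_sfo_nec_sym_core {F : Type*} [Field F] [Fintype F] {n : ℕ}
    (Q : (Fin n → F) → F)
    (hn0 : 0 < n) (r : ℕ) [Fact r.Prime] (hr2 : r ≠ 2) (hd : r ∣ Fintype.card F - 1)
    (hrn : r ∣ n) (hex : ¬ (r = n ∧ (n = 3 ∨ n = 5)))
    (hgap : ¬ (n = 6 ∧ r = 3))
    (hdiag : ∀ (ζ : F), orderOf ζ = r → ∀ (a : Fin n → ZMod r) (w : F), w ≠ 0 →
      SfoWeakConj Q (w • Matrix.diagonal (fun j => ζ ^ (a j).val)) →
      ∃ c : ZMod r, ∀ b : ZMod r, (Finset.univ.filter (fun j => a j = b)).card =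
        (Finset.univ.filter (fun j => a j = c - b)).card) :
    SfoDerang Q r := by
  have hr : r.Prime := Fact.out
  have h1ne : (1 : ZMod r) ≠ 0 := one_ne_zero
  have h2ne : (2 : ZMod r) ≠ 0 := by
    intro h
    have h' : ((2 : ℕ) : ZMod r) = 0 := by exact_mod_cast h
    rw [ZMod.natCast_eq_zero_iff] at h'
    have h1 := Nat.le_of_dvd (by norm_num) h'
    have h2 := hr.two_le
    omega
  have hn7 : 7 ≤ n := by
    have hr3 : 3 ≤ r := by
      have := hr.two_le
      omega
    have hrle : r ≤ n := Nat.le_of_dvd hn0 hrn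
    by_contra hlt
    have hn6 : n ≤ 6 := by omega
    have hodd : ¬ 2 ∣ r := by
      intro h2
      rcases hr.eq_one_or_self_of_dvd 2 h2 with h' | h' <;> omega
    obtain ⟨t, ht⟩ := hrn
    have ht0 : t ≠ 0 := by
      intro h0
      rw [h0, mul_zero] at ht
      omega
    have ht3 : t < 3 := by
      by_contra h3
      have h3' : 3 ≤ t := by omega
      have : 9 ≤ r * t := by nlinarith
      omega
    have ht12 : t = 1 ∨ t = 2 := by omega
    rcases ht12 with h | h
    · rw [h, mul_one] at ht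
      exact hex ⟨by omega, by omega⟩
    · rw [h] at ht
      exact hgap ⟨by omega, by omega⟩
  obtain ⟨ζ, hζ⟩ := h25_exists_zeta (F := F) r hd
  have hlt0 : 0 < n := by omega
  have hlt1 : 1 < n := by omega
  have hlt2 : 2 < n := by omega
  have hlt3 : 3 < n := by omega
  have h01 : (⟨0, hlt0⟩ : Fin n) ≠ ⟨1, hlt1⟩ := by
    intro e
    have := congrArg Fin.val e
    simp at this
  have h02 : (⟨0, hlt0⟩ : Fin n) ≠ ⟨2, hlt2⟩ := by
    intro e
    have := congrArg Fin.val e
    simp at this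
  have h12 : (⟨1, hlt1⟩ : Fin n) ≠ ⟨2, hlt2⟩ := by
    intro e
    have := congrArg Fin.val e
    simp at this
  let a : Fin n → ZMod r := fun j =>
    (if j = ⟨0, hlt0⟩ then 1 else 0) + (if j = ⟨1, hlt1⟩ then 1 else 0) +
      (if j = ⟨2, hlt2⟩ then -2 else 0)
  have ha0 : a ⟨0, hlt0⟩ = 1 := by simp [a, h01, h02]
  have ha1 : a ⟨1, hlt1⟩ = 1 := by simp [a, h01.symm, h12]
  have ha2 : a ⟨2, hlt2⟩ = -2 := by simp [a, h02.symm, h12.symm]
  have haz : ∀ j : Fin n, j ≠ ⟨0, hlt0⟩ → j ≠ ⟨1, hlt1⟩ → j ≠ ⟨2, hlt2⟩ → a j = 0 := by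
    intro j e0 e1 e2
    simp [a, e0, e1, e2]
  have haz' : ∀ j : Fin n, 3 ≤ j.val → a j = 0 := by
    intro j hj
    apply haz
    · intro e
      rw [e] at hj
      simp at hj
    · intro e
      rw [e] at hj
      simp at hj
    · intro e
      rw [e] at hj
      simp at hj
  have hanz : ∀ j : Fin n, j.val < 3 → a j ≠ 0 := by
    intro j hj
    have hj3 : j.val = 0 ∨ j.val = 1 ∨ j.val = 2 := by omega
    rcases hj3 with h | h | h
    · have e : j = ⟨0, hlt0⟩ := Fin.ext (show j.val = 0 by omega)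
      rw [e, ha0]
      exact h1ne
    · have e : j = ⟨1, hlt1⟩ := Fin.ext (show j.val = 1 by omega)
      rw [e, ha1]
      exact h1ne
    · have e : j = ⟨2, hlt2⟩ := Fin.ext (show j.val = 2 by omega)
      rw [e, ha2]
      exact neg_ne_zero.mpr h2ne
  have ha3 : a ⟨3, hlt3⟩ = 0 := haz' ⟨3, hlt3⟩ (by simp)
  apply helper43_sfo_derang_of_diag Q r hdiag ζ hζ a ?_ ⟨0, hlt0⟩ ⟨3, hlt3⟩ ?_ ?_
  · simp only [a]
    rw [Finset.sum_add_distrib, Finset.sum_add_distrib, Finset.sum_ite_eq', Finset.sum_ite_eq',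
      Finset.sum_ite_eq']
    simp
    norm_num
  · rw [ha0, ha3]
    exact h1ne
  · rintro ⟨c, hc⟩
    have hc' : ∀ b : ZMod r, (Finset.univ.filter (fun j => a j = b)).card =
        (Finset.univ.filter (fun j => a j = (-1 : ZMod r) * b + c)).card := by
      intro b
      rw [hc b]
      have e : c - b = (-1 : ZMod r) * b + c := by ring
      rw [e]
    have key := h25_refl_zero a 3 3 (by omega) haz' hanz (h25_support_card a 3 haz')
      (-1 : ZMod r) c hc' ⟨0, hlt0⟩ (by simp)
    rw [ha0, mul_one] at key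
    obtain ⟨-, j', hj'⟩ := key
    have hcases : a j' = 1 ∨ a j' = -2 ∨ a j' = 0 := by
      by_cases e0 : j' = ⟨0, hlt0⟩
      · left
        rw [e0, ha0]
      · by_cases e1 : j' = ⟨1, hlt1⟩
        · left
          rw [e1, ha1]
        · by_cases e2 : j' = ⟨2, hlt2⟩
          · right; left
            rw [e2, ha2]
          · right; right
            exact haz j' e0 e1 e2
    rcases hcases with e | e | e
    · -- 1 = -1
      rw [e] at hj'
      apply h2ne
      have h' : (1 : ZMod r) + 1 = 0 := by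
        nth_rewrite 2 [hj']
        ring
      rw [← h']
      norm_num
    · -- -2 = -1
      rw [e] at hj'
      apply h1ne
      have h' : (2 : ZMod r) = 1 := neg_injective hj'
      have h'' : (1 : ZMod r) = 2 - 1 := by norm_num
      rw [h'', h']
      ring
    · -- 0 = -1
      rw [e] at hj'
      apply h1ne
      have h' : (1 : ZMod r) = -0 := by rw [hj']; ring
      rw [h']
      ring

end Cfsg.Agent.Lib.helper24
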