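import Mathlib
import Cfsg.Agent.Lib.helper44.PresDefs

set_option autoImplicit false

/-!
# S2286 piece X1, core: the parametrisation `x : F → G` from an additive word map `W`

`W : (ZMod p)[X] → G` with `W 0 = 1`, `W 1 = u`, `W (X * f) = g * W f * g⁻¹`,
`W (f + f') = W f * W f'` and `W (minpoly μ) = 1` factors through `F = F_p[μ]`.
-/

namespace Cfsg.Agent.Lib.helper43.Pres

open Polynomial

theorem exists_param_core {G : Type*} [Group G] {F : Type*} [Field F] {p : ℕ}
    [Fact p.Prime] [Algebra (ZMod p) F] (u g : G) (μ : F)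
    (W : (ZMod p)[X] → G)
    (hW1 : W 1 = u) (hWX : ∀ f, W (X * f) = g * W f * g⁻¹)
    (hWadd : ∀ f f', W (f + f') = W f * W f')
    (hμ : Algebra.adjoin (ZMod p) {μ} = ⊤)
    (hrel : W (minpoly (ZMod p) μ) = 1) :
    ∃ x : F → G, x 1 = u ∧ (∀ a b, x (a + b) = x a * x b) ∧ (∀ a, g * x a * g⁻¹ = x (μ * a)) ∧
      ∀ f : (ZMod p)[X], x (aeval μ f) = W f := by
  classical
  have hW0 : W 0 = 1 := by
    have h := hWadd 0 0
    rw [add_zero] at h
    exact (mul_eq_left.mp h.symm)
  -- the kernel of `W` is closed under addition, `X *` and constants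
  have hKadd : ∀ f f', W f = 1 → W f' = 1 → W (f + f') = 1 := by
    intro f f' h1 h2
    rw [hWadd, h1, h2, one_mul]
  have hKX : ∀ f, W f = 1 → W (X * f) = 1 := by
    intro f h1
    rw [hWX, h1, mul_one, mul_inv_cancel]
  have hKnsmul : ∀ (n : ℕ) f, W f = 1 → W (n • f) = 1 := by
    intro n f h1
    induction n with
    | zero => rw [zero_smul]; exact hW0
    | succ n ih => rw [succ_nsmul]; exact hKadd _ _ ih h1
  have hKC : ∀ (c : ZMod p) f, W f = 1 → W (C c * f) = 1 := by
    intro c f h1
    have hc : C c * f = c.val • f := by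
      rw [← Nat.cast_smul_eq_nsmul (ZMod p), ZMod.natCast_zmod_val, Polynomial.smul_eq_C_mul]
    rw [hc]
    exact hKnsmul _ f h1
  have hKmul : ∀ (q f : (ZMod p)[X]), W f = 1 → W (q * f) = 1 := by
    intro q
    induction q using Polynomial.induction_on with
    | C a => exact fun f h1 => hKC a f h1
    | add q r hq hr =>
      intro f h1
      rw [add_mul]
      exact hKadd _ _ (hq f h1) (hr f h1)
    | monomial n a ih =>
      intro f h1
      have e : C a * X ^ (n + 1) * f = X * (C a * X ^ n * f) := by ring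
      rw [e]
      exact hKX _ (ih f h1)
  have hWneg : ∀ f, W (-f) = (W f)⁻¹ := by
    intro f
    have h := hWadd (-f) f
    rw [neg_add_cancel, hW0] at h
    exact eq_inv_of_mul_eq_one_left h.symm
  -- `W` only depends on `aeval μ f`
  have hWwd : ∀ f f', aeval μ f = aeval μ f' → W f = W f' := by
    intro f f' h
    have h0 : aeval μ (f - f') = 0 := by rw [map_sub, h, sub_self]
    obtain ⟨q, hq⟩ := minpoly.dvd (ZMod p) μ h0
    have h1 : W (f - f') = 1 := by
      rw [hq, mul_comm]
      exact hKmul q _ hrel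
    have h2 : f = (f - f') + f' := by ring
    rw [h2, hWadd, h1, one_mul]
  -- surjectivity of `aeval μ`
  have hsurj : ∀ a : F, ∃ f : (ZMod p)[X], aeval μ f = a := by
    intro a
    have ha : a ∈ Algebra.adjoin (ZMod p) {μ} := by rw [hμ]; exact Algebra.mem_top
    rw [Algebra.adjoin_singleton_eq_range_aeval] at ha
    exact ha
  choose r hr using hsurj
  have hxf : ∀ f : (ZMod p)[X], W (r (aeval μ f)) = W f := fun f => hWwd _ _ (hr _)
  refine ⟨fun a => W (r a), ?_, ?_, ?_, hxf⟩
  · have h := hxf 1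
    rw [map_one] at h
    show W (r 1) = u
    rw [h, hW1]
  · intro a b
    show W (r (a + b)) = W (r a) * W (r b)
    rw [← hWadd]
    apply hWwd
    rw [hr, map_add, hr, hr]
  · intro a
    show g * W (r a) * g⁻¹ = W (r (μ * a))
    rw [← hWX]
    apply hWwd
    rw [hr, map_mul, aeval_X, hr]

end Cfsg.Agent.Lib.helper43.Pres
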