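import Mathlib
import Cfsg.Agent.Lib.helper69.SNDefs
import Cfsg.Agent.Lib.helper69.SNStruct

/-!
# S4073 piece CENT-EQ (helper43)
-/

set_option autoImplicit false

namespace Cfsg.Agent.Lib.helper43.SNG

open Cfsg.Agent.Lib.helper69.SNG

universe u

/-- the `p'`-part of an abelian subgroup -/
def h43_pprime {C : Type u} [Group C] (p : ℕ) (A : Subgroup C)
    (hA : ∀ a ∈ A, ∀ b ∈ A, a * b = b * a) : Subgroup C where
  carrier := {c | c ∈ A ∧ Nat.Coprime (orderOf c) p}
  one_mem' := ⟨A.one_mem, by simp⟩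
  mul_mem' := by
    rintro a b ⟨ha, hao⟩ ⟨hb, hbo⟩
    refine ⟨A.mul_mem ha hb, ?_⟩
    have hd := (show Commute a b from hA a ha b hb).orderOf_mul_dvd_lcm
    exact Nat.Coprime.coprime_dvd_left (hd.trans (Nat.lcm_dvd_mul _ _)) (Nat.Coprime.mul_left hao hbo)
  inv_mem' := by
    rintro a ⟨ha, hao⟩
    exact ⟨A.inv_mem ha, by rwa [orderOf_inv]⟩

theorem h43_cyclic_sylow {C : Type u} [Group C] [Finite C] (h : SN C)
    (hC : ¬ IsMulCommutative C) (p : ℕ) [Fact p.Prime] (A : Subgroup C) [hAn : A.Normal]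
    (hA : IsMulCommutative A) (hAi : A.index = p) (S : Sylow p C) (hS : IsMulCommutative S) :
    ∃ B : Subgroup C, B.Normal ∧ B ⊓ (S : Subgroup C) = ⊥ ∧ B ⊔ (S : Subgroup C) = ⊤ ∧
      ∃ s ∈ S, ∀ t ∈ S, t ∈ Subgroup.zpowers s := by
  classical
  have hp : p.Prime := Fact.out
  have hAc : ∀ a ∈ A, ∀ b ∈ A, a * b = b * a := (comm_iff A).mp hA
  have hSc : ∀ a ∈ (S : Subgroup C), ∀ b ∈ (S : Subgroup C), a * b = b * a :=
    (comm_iff _).mp hS
  have hBmem : ∀ c, c ∈ h43_pprime p A hAc ↔ c ∈ A ∧ Nat.Coprime (orderOf c) p :=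
    fun c => Iff.rfl
  generalize h43_pprime p A hAc = B at hBmem
  have hBn : B.Normal := by
    refine ⟨fun n hn g => ?_⟩
    rw [hBmem] at hn ⊢
    refine ⟨hAn.conj_mem n hn.1 g, ?_⟩
    have : orderOf (g * n * g⁻¹) = orderOf n := by
      have := orderOf_injective (MulAut.conj g).toMonoidHom (MulAut.conj g).injective n
      simpa using this
    rw [this]; exact hn.2
  have hBA : B ≤ A := fun c hc => ((hBmem c).mp hc).1
  have hBS : B ⊓ (S : Subgroup C) = ⊥ := by
    rw [eq_bot_iff]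
    rintro c ⟨hcB, hcS⟩
    rw [Subgroup.mem_bot]
    obtain ⟨k, hk⟩ := (IsPGroup.iff_orderOf.mp S.isPGroup') ⟨c, hcS⟩
    rw [Subgroup.orderOf_mk] at hk
    have h2 := ((hBmem c).mp hcB).2
    rw [hk] at h2
    rcases Nat.eq_zero_or_pos k with h0 | hpos
    · rw [h0, pow_zero] at hk; exact orderOf_eq_one_iff.mp hk
    · exfalso
      have := Nat.Coprime.eq_one_of_dvd h2.symm (dvd_pow_self p hpos.ne')
      exact hp.one_lt.ne' this
  have hidx : ∃ n, B.index = p ^ n := by
    have hq : IsPGroup p (C ⧸ B) := by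
      intro q
      obtain ⟨c, rfl⟩ := QuotientGroup.mk_surjective q
      have hcp : c ^ p ∈ A := by
        have := Subgroup.pow_index_mem A c
        rwa [hAi] at this
      obtain ⟨k, m, hm, hkm⟩ :=
        Nat.exists_eq_pow_mul_and_not_dvd (orderOf_pos (c ^ p)).ne' p hp.ne_one
      refine ⟨k + 1, ?_⟩
      rw [← QuotientGroup.mk_pow, QuotientGroup.eq_one_iff, hBmem]
      have hpow : c ^ p ^ (k + 1) = (c ^ p) ^ p ^ k := by rw [← pow_mul, pow_succ']
      rw [hpow]
      refine ⟨A.pow_mem hcp _, ?_⟩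
      have ho : orderOf ((c ^ p) ^ p ^ k) = m := by
        rw [orderOf_pow, hkm, Nat.gcd_eq_right (Dvd.intro _ rfl)]
        exact Nat.mul_div_cancel_left m (pow_pos hp.pos k)
      rw [ho]
      exact ((Nat.Prime.coprime_iff_not_dvd hp).mpr hm).symm
    obtain ⟨n, hn⟩ := IsPGroup.iff_card.mp hq
    exact ⟨n, by rw [Subgroup.index_eq_card]; exact hn⟩
  obtain ⟨n, hn⟩ := hidx
  have hBStop : B ⊔ (S : Subgroup C) = ⊤ := by
    rw [← Subgroup.index_eq_one]
    have h1 : (B ⊔ (S : Subgroup C)).index ∣ p ^ n :=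
      hn ▸ Subgroup.index_dvd_of_le le_sup_left
    have h2 : (B ⊔ (S : Subgroup C)).index ∣ (S : Subgroup C).index :=
      Subgroup.index_dvd_of_le le_sup_right
    have h3 : ¬ p ∣ (S : Subgroup C).index := S.not_dvd_index
    obtain ⟨j, -, hj⟩ := (Nat.dvd_prime_pow hp).mp h1
    rcases Nat.eq_zero_or_pos j with h0 | hpos
    · rw [hj, h0, pow_zero]
    · exact absurd ((dvd_pow_self p hpos.ne').trans (hj ▸ h2)) h3
  have hdec : ∀ c : C, ∃ b ∈ B, ∃ s ∈ (S : Subgroup C), b * s = c := by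
    intro c
    have h1 : c ∈ B ⊔ (S : Subgroup C) := hBStop ▸ Subgroup.mem_top c
    exact Subgroup.mem_sup_of_normal_left.mp h1
  have hcomm : ∀ c1 c2 : C, c1 * c2 * c1⁻¹ * c2⁻¹ ∈ B := by
    intro c1 c2
    obtain ⟨b1, hb1, s1, hs1, rfl⟩ := hdec c1
    obtain ⟨b2, hb2, s2, hs2, rfl⟩ := hdec c2
    have hπ1 : QuotientGroup.mk' B (b1 * s1) = QuotientGroup.mk' B s1 := by
      have hb : QuotientGroup.mk' B b1 = 1 := (QuotientGroup.eq_one_iff b1).mpr hb1
      rw [map_mul, hb, one_mul]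
    have hπ2 : QuotientGroup.mk' B (b2 * s2) = QuotientGroup.mk' B s2 := by
      have hb : QuotientGroup.mk' B b2 = 1 := (QuotientGroup.eq_one_iff b2).mpr hb2
      rw [map_mul, hb, one_mul]
    have h1 : QuotientGroup.mk' B (b1 * s1 * (b2 * s2) * (b1 * s1)⁻¹ * (b2 * s2)⁻¹) = 1 := by
      rw [map_mul, map_mul, map_mul, map_inv, map_inv, hπ1, hπ2, ← map_inv, ← map_inv,
        ← map_mul, ← map_mul, ← map_mul]
      have : s1 * s2 * s1⁻¹ * s2⁻¹ = 1 := by rw [hSc s1 hs1 s2 hs2]; group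
      rw [this, map_one]
    exact (QuotientGroup.eq_one_iff _).mp h1
  have hNn : ∀ N : Subgroup C, B ≤ N → N.Normal := by
    intro N hBN
    refine ⟨fun n hn g => ?_⟩
    have : g * n * g⁻¹ = (g * n * g⁻¹ * n⁻¹) * n := by group
    rw [this]
    exact N.mul_mem (hBN (hcomm g n)) hn
  have hex : ∃ s ∈ (S : Subgroup C), B ⊔ Subgroup.zpowers s = ⊤ := by
    by_contra hno
    simp only [not_exists, not_and] at hno
    apply hC
    rw [comm_iff_top]
    have hBSc : ∀ b ∈ B, ∀ s ∈ (S : Subgroup C), b * s = s * b := by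
      intro b hb s hs
      have hN := hNn (B ⊔ Subgroup.zpowers s) le_sup_left
      have hab := h.normal_comm (B ⊔ Subgroup.zpowers s) (hno s hs)
      rw [comm_iff] at hab
      exact hab b (Subgroup.mem_sup_left hb) s
        (Subgroup.mem_sup_right (Subgroup.mem_zpowers s))
    intro c1 c2
    obtain ⟨b1, hb1, s1, hs1, rfl⟩ := hdec c1
    obtain ⟨b2, hb2, s2, hs2, rfl⟩ := hdec c2
    have e1 := hAc b1 (hBA hb1) b2 (hBA hb2)
    have e2 := hSc s1 hs1 s2 hs2
    have e3 := hBSc b1 hb1 s2 hs2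
    have e4 := hBSc b2 hb2 s1 hs1
    calc b1 * s1 * (b2 * s2) = b1 * (s1 * b2) * s2 := by group
      _ = b1 * (b2 * s1) * s2 := by rw [e4]
      _ = (b1 * b2) * (s1 * s2) := by group
      _ = (b2 * b1) * (s2 * s1) := by rw [e1, e2]
      _ = b2 * (b1 * s2) * s1 := by group
      _ = b2 * (s2 * b1) * s1 := by rw [e3]
      _ = b2 * s2 * (b1 * s1) := by group
  obtain ⟨s, hs, hst⟩ := hex
  refine ⟨B, hBn, hBS, hBStop, s, hs, ?_⟩
  intro t ht
  have h1 : t ∈ B ⊔ Subgroup.zpowers s := hst ▸ Subgroup.mem_top t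
  obtain ⟨b, hb, z, hz, rfl⟩ := Subgroup.mem_sup_of_normal_left.mp h1
  have hzS : z ∈ (S : Subgroup C) := by
    obtain ⟨k, rfl⟩ := Subgroup.mem_zpowers_iff.mp hz
    exact Subgroup.zpow_mem _ hs k
  have hbS : b ∈ (S : Subgroup C) := by
    have : b = b * z * z⁻¹ := by group
    rw [this]; exact Subgroup.mul_mem _ ht (Subgroup.inv_mem _ hzS)
  have hb1 : b = 1 := by
    have : b ∈ B ⊓ (S : Subgroup C) := ⟨hb, hbS⟩
    rw [hBS] at this; exact this
  rw [hb1, one_mul]; exact hz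

/-- **[CENT-EQ]** -/
theorem sn_cent_prime_index_eq {G : Type u} [Group G] [Finite G] [IsSimpleGroup G]
    (hna : ¬ IsMulCommutative G) (h : SN G) (p : ℕ) [Fact p.Prime]
    (hSyl : ∀ P : Sylow p G, IsMulCommutative P) (x : G) (hxo : orderOf x = p)
    (A : Subgroup (Subgroup.centralizer ({x} : Set G))) [A.Normal] (hA : IsMulCommutative A)
    (hAi : A.index = p) : IsMulCommutative (Subgroup.centralizer ({x} : Set G)) := by
  classical
  have hp : p.Prime := Fact.out
  by_contra hC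
  have hxp : IsPGroup p (Subgroup.zpowers x) := by
    apply IsPGroup.of_card (n := 1)
    rw [Nat.card_zpowers, hxo, pow_one]
  obtain ⟨S, hxS⟩ := hxp.exists_le_sylow
  have hxS' : x ∈ (S : Subgroup G) := hxS (Subgroup.mem_zpowers x)
  have hSc : ∀ a ∈ (S : Subgroup G), ∀ b ∈ (S : Subgroup G), a * b = b * a :=
    (comm_iff _).mp (hSyl S)
  have hSC : (S : Subgroup G) ≤ Subgroup.centralizer ({x} : Set G) := by
    intro t ht
    rw [Subgroup.mem_centralizer_singleton_iff]
    exact hSc t ht x hxS'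
  have hmem : ∀ c : Subgroup.centralizer ({x} : Set G),
      c ∈ ((S.subtype hSC : Sylow p (Subgroup.centralizer ({x} : Set G))) :
        Subgroup (Subgroup.centralizer ({x} : Set G))) ↔ (c : G) ∈ (S : Subgroup G) := by
    intro c
    rw [Sylow.coe_subtype, Subgroup.mem_subgroupOf]
  have hS'c : IsMulCommutative (S.subtype hSC) := by
    rw [comm_iff]
    intro a ha b hb
    exact Subtype.ext (hSc a ((hmem a).mp ha) b ((hmem b).mp hb))
  obtain ⟨B, hBn, hBS, hBStop, s, hs, hcyc⟩ :=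
    h43_cyclic_sylow (h.subgroup _) hC p A hA hAi (S.subtype hSC) hS'c
  have hNC : Subgroup.normalizer ((S : Subgroup G) : Set G) ≤
      Subgroup.centralizer ((S : Subgroup G) : Set G) := by
    have hgen : ∀ t ∈ (S : Subgroup G), ∃ k : ℤ, t = (s : G) ^ k := by
      intro t ht
      have ht' := (hmem ⟨t, hSC ht⟩).mpr ht
      obtain ⟨k, hk⟩ := Subgroup.mem_zpowers_iff.mp (hcyc _ ht')
      exact ⟨k, by have := congrArg Subtype.val hk; simpa using this.symm⟩
    have hsS : (s : G) ∈ (S : Subgroup G) := (hmem s).mp hs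
    have hstep1 : ∀ g ∈ Subgroup.normalizer ((S : Subgroup G) : Set G),
        ∃ k : ℤ, g * x * g⁻¹ = x ^ k := by
      intro g hg
      obtain ⟨j, hj⟩ := hgen x hxS'
      have hgs : g * (s : G) * g⁻¹ ∈ (S : Subgroup G) :=
        (Subgroup.mem_normalizer_iff.mp hg _).mp hsS
      obtain ⟨k, hk⟩ := hgen _ hgs
      refine ⟨k, ?_⟩
      calc g * x * g⁻¹ = g * (s : G) ^ j * g⁻¹ := by rw [← hj]
        _ = (g * (s : G) * g⁻¹) ^ j := (conj_zpow).symm
        _ = ((s : G) ^ k) ^ j := by rw [hk]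
        _ = ((s : G) ^ j) ^ k := by rw [← zpow_mul, ← zpow_mul, mul_comm]
        _ = x ^ k := by rw [← hj]
    have hsub : ∀ (g' : G) (k : ℤ), g' * x * g'⁻¹ = x ^ k →
        ∀ c ∈ Subgroup.centralizer ({x} : Set G),
          g'⁻¹ * c * g' ∈ Subgroup.centralizer ({x} : Set G) := by
      intro g' k hk c hc
      rw [Subgroup.mem_centralizer_singleton_iff] at hc ⊢
      have hcx : c * x ^ k = x ^ k * c := ((show Commute c x from hc).zpow_right k).eq
      calc g'⁻¹ * c * g' * x = g'⁻¹ * (c * (g' * x * g'⁻¹)) * g' := by group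
        _ = g'⁻¹ * (c * x ^ k) * g' := by rw [hk]
        _ = g'⁻¹ * (x ^ k * c) * g' := by rw [hcx]
        _ = g'⁻¹ * ((g' * x * g'⁻¹) * c) * g' := by rw [hk]
        _ = x * (g'⁻¹ * c * g') := by group
    intro g hg
    have hg' : g⁻¹ ∈ Subgroup.normalizer ((S : Subgroup G) : Set G) := Subgroup.inv_mem _ hg
    obtain ⟨k, hk⟩ := hstep1 g hg
    obtain ⟨k', hk'⟩ := hstep1 g⁻¹ hg'
    have hgN : g ∈ Subgroup.normalizer
        ((Subgroup.centralizer ({x} : Set G) : Subgroup G) : Set G) := by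
      rw [Subgroup.mem_normalizer_iff]
      intro c
      constructor
      · intro hc
        have := hsub g⁻¹ k' hk' c hc
        rwa [inv_inv] at this
      · intro hc
        have := hsub g k hk _ hc
        have e : g⁻¹ * (g * c * g⁻¹) * g = c := by group
        rwa [e] at this
    have hgC : g ∈ Subgroup.centralizer ({x} : Set G) := by
      have := h _ hC
      rw [this] at hgN
      exact hgN
    have hdec : (⟨g, hgC⟩ : Subgroup.centralizer ({x} : Set G)) ∈
        B ⊔ ((S.subtype hSC : Sylow p (Subgroup.centralizer ({x} : Set G))) :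
          Subgroup (Subgroup.centralizer ({x} : Set G))) := hBStop ▸ Subgroup.mem_top _
    obtain ⟨b, hb, s', hs', hbs⟩ := Subgroup.mem_sup_of_normal_left.mp hdec
    rw [Subgroup.mem_centralizer_iff]
    intro t ht
    have ht' := (hmem ⟨t, hSC ht⟩).mpr ht
    have hs'S : (s' : G) ∈ (S : Subgroup G) := (hmem s').mp hs'
    have hg_eq : g = (b : G) * (s' : G) := by
      have := congrArg Subtype.val hbs
      simpa using this.symm
    have hbeq : (b : G) = g * (s' : G)⁻¹ := by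
      rw [hg_eq]; group
    have hbt : (b : G) * t * (b : G)⁻¹ ∈ (S : Subgroup G) := by
      have e : (b : G) * t * (b : G)⁻¹ = g * ((s' : G)⁻¹ * t * (s' : G)) * g⁻¹ := by
        rw [hbeq]; group
      rw [e]
      exact (Subgroup.mem_normalizer_iff.mp hg _).mp
        (Subgroup.mul_mem _ (Subgroup.mul_mem _ (Subgroup.inv_mem _ hs'S) ht) hs'S)
    have hcomm1 : b * ⟨t, hSC ht⟩ * b⁻¹ * (⟨t, hSC ht⟩ : Subgroup.centralizer ({x} : Set G))⁻¹ ∈
        B ⊓ ((S.subtype hSC : Sylow p (Subgroup.centralizer ({x} : Set G))) :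
          Subgroup (Subgroup.centralizer ({x} : Set G))) := by
      constructor
      · have e : b * ⟨t, hSC ht⟩ * b⁻¹ * (⟨t, hSC ht⟩ : Subgroup.centralizer ({x} : Set G))⁻¹
            = b * (⟨t, hSC ht⟩ * b⁻¹ * (⟨t, hSC ht⟩ : Subgroup.centralizer ({x} : Set G))⁻¹) := by
          group
        rw [e]
        exact B.mul_mem hb (hBn.conj_mem _ (B.inv_mem hb) _)
      · apply Subgroup.mul_mem _ _ (Subgroup.inv_mem _ ht')
        exact (hmem _).mpr (by simpa using hbt)
    rw [hBS, Subgroup.mem_bot] at hcomm1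
    have hbt' : b * (⟨t, hSC ht⟩ : Subgroup.centralizer ({x} : Set G)) = ⟨t, hSC ht⟩ * b := by
      calc b * (⟨t, hSC ht⟩ : Subgroup.centralizer ({x} : Set G))
          = (b * ⟨t, hSC ht⟩ * b⁻¹ * (⟨t, hSC ht⟩ : Subgroup.centralizer ({x} : Set G))⁻¹)
              * (⟨t, hSC ht⟩ * b) := by group
        _ = ⟨t, hSC ht⟩ * b := by rw [hcomm1, one_mul]
    have hst : (s' : G) * t = t * (s' : G) := hSc _ hs'S _ ht
    have hbtG : (b : G) * t = t * (b : G) := by
      have := congrArg Subtype.val hbt'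
      simpa using this
    rw [hg_eq]
    calc t * ((b : G) * (s' : G)) = ((b : G) * t) * (s' : G) := by rw [hbtG]; group
      _ = (b : G) * ((s' : G) * t) := by rw [hst]; group
      _ = (b : G) * (s' : G) * t := by group
  have hcomp := MonoidHom.ker_transferSylow_isComplement' S hNC
  rcases IsSimpleGroup.eq_bot_or_eq_top_of_normal _
    (MonoidHom.normal_ker (MonoidHom.transferSylow S hNC)) with hk | hk
  · rw [hk, Subgroup.isComplement'_bot_left] at hcomp
    apply hna
    rw [comm_iff_top]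
    intro a b
    exact hSc a (hcomp ▸ Subgroup.mem_top a) b (hcomp ▸ Subgroup.mem_top b)
  · rw [hk, Subgroup.isComplement'_top_left] at hcomp
    have hx1 : x ∈ (⊥ : Subgroup G) := hcomp ▸ hxS'
    rw [Subgroup.mem_bot] at hx1
    rw [hx1, orderOf_one] at hxo
    exact hp.one_lt.ne hxo

end Cfsg.Agent.Lib.helper43.SNG
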