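import Mathlib
import Cfsg.Agent.Lib.helper69.SNDefs
import Cfsg.Agent.Lib.helper69.SNStruct

/-!
# S4073 piece ODD-CA, core (helper43): the assembly with the three pieces as hypotheses
-/

set_option autoImplicit false

namespace Cfsg.Agent.Lib.helper43.SNG

open Cfsg.Agent.Lib.helper69.SNG

universe u

theorem h43_odd_ca_aux {G : Type u} [Group G] [Finite G] [IsSimpleGroup G]
    (hna : ¬ IsMulCommutative G) (h : SN G)
    (hsub : ∀ K : Subgroup G, K ≠ ⊤ → Group.IsSolvable K)
    (hSYL : ∀ (p : ℕ) [Fact p.Prime] (P : Sylow p G), IsMulCommutative P)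
    (hNE : ∀ (y : G) (A : Subgroup (Subgroup.centralizer ({y} : Set G))) [A.Normal],
      IsMulCommutative A → A.index.Prime →
      ∀ (z : Subgroup.centralizer ({y} : Set G)),
        z ∈ Subgroup.center (Subgroup.centralizer ({y} : Set G)) →
        (orderOf z).Prime → A.index ≠ orderOf z →
        IsMulCommutative (Subgroup.centralizer ({y} : Set G)))
    (hEQ : ∀ (p : ℕ) [Fact p.Prime], (∀ P : Sylow p G, IsMulCommutative P) →
      ∀ (y : G), orderOf y = p →
      ∀ (A : Subgroup (Subgroup.centralizer ({y} : Set G))) [A.Normal],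
        IsMulCommutative A → A.index = p →
        IsMulCommutative (Subgroup.centralizer ({y} : Set G)))
    (p : ℕ) (hpp : p.Prime) (y : G) (hyo : orderOf y = p) :
    IsMulCommutative (Subgroup.centralizer ({y} : Set G)) := by
  classical
  have : Fact p.Prime := ⟨hpp⟩
  by_contra hC
  have hCtop : Subgroup.centralizer ({y} : Set G) ≠ ⊤ := by
    intro htop
    have hyc : y ∈ Subgroup.center G := by
      rw [Subgroup.mem_center_iff]
      intro g
      have hg : g ∈ Subgroup.centralizer ({y} : Set G) := htop ▸ Subgroup.mem_top g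
      rw [Subgroup.mem_centralizer_singleton_iff] at hg
      exact hg
    rcases IsSimpleGroup.eq_bot_or_eq_top_of_normal (Subgroup.center G) inferInstance with hb | ht
    · rw [hb, Subgroup.mem_bot] at hyc
      rw [hyc, orderOf_one] at hyo
      exact hpp.one_lt.ne hyo
    · apply hna
      rw [comm_iff_top]
      intro a b
      have ha : a ∈ Subgroup.center G := ht ▸ Subgroup.mem_top a
      exact (Subgroup.mem_center_iff.mp ha b).symm
  have hsol := hsub _ hCtop
  obtain ⟨A, hAn, hAc, hAi⟩ := sn_solvable_index (h.subgroup _) hsol hC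
  have hyC : y ∈ Subgroup.centralizer ({y} : Set G) := by
    rw [Subgroup.mem_centralizer_singleton_iff]
  by_cases hl : A.index = p
  · exact hC (hEQ p (fun P => hSYL p P) y hyo A hAc hl)
  · refine hC (hNE y A hAc hAi ⟨y, hyC⟩ ?_ ?_ ?_)
    · rw [Subgroup.mem_center_iff]
      intro g
      apply Subtype.ext
      have hg := g.2
      rw [Subgroup.mem_centralizer_singleton_iff] at hg
      simpa using hg
    · rw [Subgroup.orderOf_mk, hyo]; exact hpp
    · rw [Subgroup.orderOf_mk, hyo]; exact hl

theorem h43_odd_ca_core {G : Type u} [Group G] [Finite G] [IsSimpleGroup G]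
    (hna : ¬ IsMulCommutative G) (h : SN G)
    (hsub : ∀ K : Subgroup G, K ≠ ⊤ → Group.IsSolvable K)
    (hSYL : ∀ (p : ℕ) [Fact p.Prime] (P : Sylow p G), IsMulCommutative P)
    (hNE : ∀ (y : G) (A : Subgroup (Subgroup.centralizer ({y} : Set G))) [A.Normal],
      IsMulCommutative A → A.index.Prime →
      ∀ (z : Subgroup.centralizer ({y} : Set G)),
        z ∈ Subgroup.center (Subgroup.centralizer ({y} : Set G)) →
        (orderOf z).Prime → A.index ≠ orderOf z →
        IsMulCommutative (Subgroup.centralizer ({y} : Set G)))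
    (hEQ : ∀ (p : ℕ) [Fact p.Prime], (∀ P : Sylow p G, IsMulCommutative P) →
      ∀ (y : G), orderOf y = p →
      ∀ (A : Subgroup (Subgroup.centralizer ({y} : Set G))) [A.Normal],
        IsMulCommutative A → A.index = p →
        IsMulCommutative (Subgroup.centralizer ({y} : Set G)))
    (x : G) (hx : x ≠ 1) :
    IsMulCommutative (Subgroup.centralizer ({x} : Set G)) := by
  classical
  have hox : orderOf x ≠ 1 := by rwa [Ne, orderOf_eq_one_iff]
  have hox0 : orderOf x ≠ 0 := (orderOf_pos x).ne'
  have hpp : ((orderOf x).minFac).Prime := Nat.minFac_prime hox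
  have hpd : (orderOf x).minFac ∣ orderOf x := Nat.minFac_dvd _
  have hyo : orderOf (x ^ (orderOf x / (orderOf x).minFac)) = (orderOf x).minFac :=
    orderOf_pow_orderOf_div hox0 hpd
  have hC := h43_odd_ca_aux hna h hsub hSYL hNE hEQ _ hpp _ hyo
  rw [comm_iff] at hC ⊢
  have hle : ∀ g ∈ Subgroup.centralizer ({x} : Set G),
      g ∈ Subgroup.centralizer ({x ^ (orderOf x / (orderOf x).minFac)} : Set G) := by
    intro g hg
    rw [Subgroup.mem_centralizer_singleton_iff] at hg ⊢
    exact ((Commute.pow_right (show Commute g x from hg) _ : Commute g _)).eq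
  intro a ha b hb
  exact hC a (hle a ha) b (hle b hb)

end Cfsg.Agent.Lib.helper43.SNG
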