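import Mathlib
import Cfsg.Agent.Lib.helper69.SNDefs
import Cfsg.Agent.Lib.helper69.SNStruct
import Cfsg.Agent.Lib.helper43.SNG_ODDCA_Core
import Cfsg.Agent.Lib.helper43.SNG_CENT_EQ
import Cfsg.Agent.Lib.helper48.SNG_CENT_NE
import Cfsg.Agent.Lib.helper19.SNG_ODD_SYL

/-!
# S4073 piece ODD-CA (helper43): assembly of ODD-SYL, CENT-NE, CENT-EQ
-/

set_option autoImplicit false

namespace Cfsg.Agent.Lib.helper43.SNG

open Cfsg.Agent.Lib.helper69.SNG

universe u

/-- **[ODD-CA]** (assembly of ODD-SYL, CENT-NE, CENT-EQ, `sn_solvable_index`) -/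
theorem sn_odd_simple_ca {G : Type u} [Group G] [Finite G] [IsSimpleGroup G]
    (hna : ¬ IsMulCommutative G) (h : SN G) (hodd : Odd (Nat.card G))
    (hsub : ∀ K : Subgroup G, K ≠ ⊤ → Group.IsSolvable K) (x : G) (hx : x ≠ 1) :
    IsMulCommutative (Subgroup.centralizer ({x} : Set G)) := by
  refine h43_odd_ca_core hna h hsub
    (fun p _ P => Cfsg.Agent.Lib.helper19.SNG.sn_odd_sylow_comm hna h hodd hsub p P)
    (fun y A _ hA hAi z hz hzo hne =>
      Cfsg.Agent.Lib.helper48.SNG.sn_center_prime_index_ne (h.subgroup _) A hA hAi z hz hzo hne)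
    (fun p _ hSyl y hyo A _ hA hAi => sn_cent_prime_index_eq hna h p hSyl y hyo A hA hAi)
    x hx

end Cfsg.Agent.Lib.helper43.SNG
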