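import Mathlib
import Cfsg.Agent.Lib.helper3.GfDefs

/-!
# S4395, piece KCOV: a minimal subgroup of the fibre product projecting onto `A` is again a cover
-/

set_option autoImplicit false

namespace Cfsg.Agent.Lib.helper3.Gf

universe u

/-- KCOV -/
theorem kcov (p q r : ℕ) [Fact p.Prime] [Fact q.Prime] (hpq : p ≠ q) {A B : Type u} [Group A] [Finite A] [Group B] [Finite B]
    (NA PA : Subgroup A) (yA : A) (hA : Cov p q r NA PA yA) (hgA : NonGen NA)
    (NB : Subgroup B) (hB : NB ≤ Subgroup.center B) (hpB : IsPGroup p ↥NB)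
    (F : Subgroup (A × B)) (hF3 : ∀ a : A, (a, (1 : B)) ∈ F ↔ a ∈ NA) (hF4 : ∀ b : B, ((1 : A), b) ∈ F ↔ b ∈ NB)
    (K : Subgroup (A × B)) (hKF : K ≤ F) (hK1 : ∀ a : A, ∃ b : B, (a, b) ∈ K)
    (hKmin : ∀ S : Subgroup (A × B), S ≤ K → (∀ a : A, ∃ b : B, (a, b) ∈ S) → S = K) :
    ∃ (N' P' : Subgroup ↥K) (y' : ↥K), Cov p q r N' P' y' ∧ NonGen N' := by
  classical
  -- the projection
  let f : ↥K →* A := (MonoidHom.fst A B).comp K.subtype
  have hf : ∀ k : ↥K, f k = (k : A × B).1 := fun k => rfl
  have hfs : Function.Surjective f := by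
    intro a
    obtain ⟨b, hb⟩ := hK1 a
    exact ⟨⟨(a, b), hb⟩, rfl⟩
  -- second coordinates over `NA` lie in `NB`
  have hsnd : ∀ k : ↥K, f k ∈ NA → (k : A × B).2 ∈ NB := by
    intro k hk
    have h1 : ((k : A × B).1, (1 : B)) ∈ F := (hF3 _).mpr hk
    have h2 : (k : A × B) ∈ F := hKF k.2
    have h3 : ((k : A × B).1, (1 : B))⁻¹ * (k : A × B) ∈ F := F.mul_mem (F.inv_mem h1) h2
    have h4 : ((k : A × B).1, (1 : B))⁻¹ * (k : A × B) = ((1 : A), (k : A × B).2) := by
      ext <;> simp
    rw [h4] at h3
    exact (hF4 _).mp h3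
  have hker : ∀ k : ↥K, f k = 1 → (k : A × B).2 ∈ NB := fun k hk => hsnd k (by rw [hk]; exact NA.one_mem)
  have hkerN : f.ker ≤ NA.comap f := by
    intro k hk
    rw [MonoidHom.mem_ker] at hk
    rw [Subgroup.mem_comap, hk]
    exact NA.one_mem
  have hNP : NA.comap f ≤ PA.comap f := Subgroup.comap_mono hA.N_le_P
  obtain ⟨y', hy'⟩ := hfs yA
  refine ⟨NA.comap f, PA.comap f, y', ?_, ?_⟩
  · refine
      { N_le_P := hNP
        N_central := ?_
        P_normal := ?_
        P_pgroup := ?_
        comm_mem := ?_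
        pow_mem := ?_
        sup_top := ?_
        ord_dvd := ?_
        ord_mem := ?_
        yq := ?_
        nontriv := ?_
        irr := ?_ }
    · -- central
      intro k hk
      rw [Subgroup.mem_comap] at hk
      rw [Subgroup.mem_center_iff]
      intro g
      have ha : f k ∈ Subgroup.center A := hA.N_central hk
      have hb : (k : A × B).2 ∈ Subgroup.center B := hB (hsnd k hk)
      rw [Subgroup.mem_center_iff] at ha hb
      apply Subtype.ext
      apply Prod.ext
      · exact ha (f g)
      · exact hb (g : A × B).2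
    · haveI := hA.P_normal
      infer_instance
    · -- `p`-group
      intro k
      have hk : f (k : ↥K) ∈ PA := k.2
      obtain ⟨n, hn⟩ := hA.P_pgroup ⟨f (k : ↥K), hk⟩
      have hn' : f ((k : ↥K) ^ p ^ n) = 1 := by
        rw [map_pow]
        exact congrArg Subtype.val hn
      obtain ⟨m, hm⟩ := hpB ⟨_, hker _ hn'⟩
      have hm' : (((k : ↥K) ^ p ^ n : ↥K) : A × B).2 ^ p ^ m = 1 := congrArg Subtype.val hm
      refine ⟨n + m, ?_⟩
      apply Subtype.ext
      apply Subtype.ext
      rw [pow_add, pow_mul]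
      apply Prod.ext
      · have : f (((k : ↥K) ^ p ^ n) ^ p ^ m) = 1 := by rw [map_pow, hn', one_pow]
        exact this
      · exact hm'
    · intro u hu v hv
      rw [Subgroup.mem_comap] at hu hv ⊢
      simp only [map_mul, map_inv]
      exact hA.comm_mem _ hu _ hv
    · intro u hu
      rw [Subgroup.mem_comap] at hu ⊢
      rw [map_pow]
      exact hA.pow_mem _ hu
    · -- sup = top
      have h1 : (PA.comap f ⊔ Subgroup.zpowers y').map f = ⊤ := by
        rw [Subgroup.map_sup, Subgroup.map_comap_eq_self_of_surjective hfs, MonoidHom.map_zpowers, hy']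
        exact hA.sup_top
      have h2 : f.ker ≤ PA.comap f ⊔ Subgroup.zpowers y' := (hkerN.trans hNP).trans le_sup_left
      rw [← Subgroup.comap_map_eq_self h2, h1, Subgroup.comap_top]
    · intro k hk
      rw [Subgroup.mem_comap, map_pow, hy'] at hk
      exact hA.ord_dvd k hk
    · rw [Subgroup.mem_comap, map_pow, hy']
      exact hA.ord_mem
    · intro u hu
      rw [Subgroup.mem_comap] at hu ⊢
      simp only [map_mul, map_inv, map_pow, hy']
      exact hA.yq _ hu
    · obtain ⟨u, hu, hne⟩ := hA.nontriv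
      obtain ⟨u', hu'⟩ := hfs u
      refine ⟨u', ?_, ?_⟩
      · rw [Subgroup.mem_comap, hu']; exact hu
      · rw [Subgroup.mem_comap]
        simp only [map_mul, map_inv, hy', hu']
        exact hne
    · intro W hNW hWP hWy
      have hkW : f.ker ≤ W := hkerN.trans hNW
      have h1 : NA ≤ W.map f := by
        have := Subgroup.map_mono (f := f) hNW
        rwa [Subgroup.map_comap_eq_self_of_surjective hfs] at this
      have h2 : W.map f ≤ PA := by
        have := Subgroup.map_mono (f := f) hWP
        rwa [Subgroup.map_comap_eq_self_of_surjective hfs] at this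
      have h3 : ∀ w ∈ W.map f, yA * w * yA⁻¹ ∈ W.map f := by
        intro w hw
        obtain ⟨w', hw', rfl⟩ := Subgroup.mem_map.mp hw
        refine Subgroup.mem_map.mpr ⟨y' * w' * y'⁻¹, hWy w' hw', ?_⟩
        simp only [map_mul, map_inv, hy']
      rcases hA.irr (W.map f) h1 h2 h3 with h | h
      · left
        rw [← Subgroup.comap_map_eq_self hkW, h]
      · right
        rw [← Subgroup.comap_map_eq_self hkW, h]
  · -- non-generators
    intro S hS
    have h1 : S.map f ⊔ NA = ⊤ := by
      have := congrArg (Subgroup.map f) hS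
      rw [Subgroup.map_sup, Subgroup.map_comap_eq_self_of_surjective hfs,
        Subgroup.map_top_of_surjective f hfs] at this
      exact this
    have h2 : S.map f = ⊤ := hgA _ h1
    have h3 : S.map K.subtype = K := by
      apply hKmin
      · intro x hx
        obtain ⟨s, _, rfl⟩ := Subgroup.mem_map.mp hx
        exact s.2
      · intro a
        have ha : a ∈ S.map f := by rw [h2]; exact Subgroup.mem_top a
        obtain ⟨s, hs, rfl⟩ := Subgroup.mem_map.mp ha
        exact ⟨(s : A × B).2, Subgroup.mem_map.mpr ⟨s, hs, rfl⟩⟩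
    rw [eq_top_iff]
    intro k _
    have hk : (k : A × B) ∈ S.map K.subtype := by rw [h3]; exact k.2
    obtain ⟨s, hs, hsk⟩ := Subgroup.mem_map.mp hk
    have : s = k := Subtype.ext hsk
    rw [← this]; exact hs

end Cfsg.Agent.Lib.helper3.Gf
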