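import Mathlib
import Cfsg.Agent.Lib.helper3.GfDefs
import Cfsg.Agent.Lib.helper3.PGroupFrattini
import Cfsg.Agent.Lib.helper1.Coprime
import Cfsg.Agent.S3736

/-!
# S4395, piece S2: a minimal non-nilpotent group `P ⋊ ⟨y⟩` is a cover with `N = Φ(P)`
-/

set_option autoImplicit false

namespace Cfsg.Agent.Lib.helper3.Gf

universe u

open scoped commutatorElement

/-- elements of coprime prime-power order commute in a finite nilpotent group -/
theorem h43_commute_of_nilpotent {G : Type*} [Group G] [Finite G] (hG : Group.IsNilpotent G)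
    {p q : ℕ} [hp : Fact p.Prime] [hq : Fact q.Prime] (hpq : p ≠ q) (x z : G)
    (hx : ∃ n : ℕ, x ^ p ^ n = 1) (hz : ∃ n : ℕ, z ^ q ^ n = 1) : Commute x z := by
  have key : ∀ (p : ℕ) [Fact p.Prime] (x : G), (∃ n : ℕ, x ^ p ^ n = 1) →
      ∀ S : Sylow p G, x ∈ (S : Subgroup G) := by
    intro p _ x hx S
    have hzp : IsPGroup p ↥(Subgroup.zpowers x) := by
      obtain ⟨n, hn⟩ := hx
      intro g
      obtain ⟨k, hk⟩ := Subgroup.mem_zpowers_iff.mp g.2
      refine ⟨n, Subtype.ext ?_⟩
      rw [Subgroup.coe_pow, Subgroup.coe_one, ← hk, ← zpow_natCast, ← zpow_mul, mul_comm, zpow_mul,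
        zpow_natCast, hn, one_zpow]
    obtain ⟨Q, hQ⟩ := hzp.exists_le_sylow
    haveI : (S : Subgroup G).Normal := inferInstance
    have hu := Sylow.unique_of_normal S inferInstance
    have : Q = S := Subsingleton.elim _ _
    rw [← this]; exact hQ (Subgroup.mem_zpowers x)
  obtain ⟨Sp⟩ : Nonempty (Sylow p G) := inferInstance
  obtain ⟨Sq⟩ : Nonempty (Sylow q G) := inferInstance
  exact Subgroup.commute_of_normal_of_disjoint _ _ inferInstance inferInstance
    (IsPGroup.disjoint_of_ne p q hpq _ _ Sp.isPGroup' Sq.isPGroup') x z (key p x hx Sp) (key q z hz Sq)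

/-- `P⟨y⟩` with `y` centralizing the `p`-group `P` is nilpotent -/
theorem h43_nilpotent_of_central_cyclic {Y : Type*} [Group Y] [Finite Y] {p : ℕ} [Fact p.Prime]
    (P : Subgroup Y) (y : Y) (hP : IsPGroup p ↥P) [hPn : P.Normal]
    (hsup : P ⊔ Subgroup.zpowers y = ⊤)
    (hc : ∀ u ∈ P, u * y = y * u) : Group.IsNilpotent Y := by
  have hyc : y ∈ Subgroup.center Y := by
    rw [Subgroup.mem_center_iff]
    intro g
    have h1 : (⊤ : Subgroup Y) ≤ Subgroup.centralizer {y} := by
      rw [← hsup]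
      refine sup_le ?_ ?_
      · intro u hu
        rw [Subgroup.mem_centralizer_iff]
        intro h hh
        rw [Set.mem_singleton_iff] at hh
        rw [hh]; exact (hc u hu).symm
      · rw [Subgroup.zpowers_le, Subgroup.mem_centralizer_iff]
        intro h hh
        rw [Set.mem_singleton_iff] at hh
        rw [hh]
    have hg := h1 (Subgroup.mem_top g)
    rw [Subgroup.mem_centralizer_iff] at hg
    exact (hg y rfl).symm
  have hZ : Subgroup.zpowers y ≤ Subgroup.center Y := Subgroup.zpowers_le.mpr hyc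
  haveI : (Subgroup.zpowers y).Normal := ⟨fun n hn g => by
    have := Subgroup.mem_center_iff.mp (hZ hn) g
    rw [this, mul_inv_cancel_right]; exact hn⟩
  have hquot : IsPGroup p (Y ⧸ Subgroup.zpowers y) := by
    refine hP.of_surjective ((QuotientGroup.mk' (Subgroup.zpowers y)).comp P.subtype) ?_
    intro x
    obtain ⟨g, rfl⟩ := QuotientGroup.mk_surjective x
    have hg : g ∈ ((P ⊔ Subgroup.zpowers y : Subgroup Y) : Set Y) := by
      rw [hsup]; exact Subgroup.mem_top g
    rw [Subgroup.normal_mul] at hg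
    obtain ⟨u, hu, z, hz, rfl⟩ := Set.mem_mul.mp hg
    refine ⟨⟨u, hu⟩, ?_⟩
    simp only [MonoidHom.comp_apply, Subgroup.coe_subtype, QuotientGroup.mk'_apply]
    rw [QuotientGroup.eq]
    simpa using hz
  haveI : Group.IsNilpotent (Y ⧸ Subgroup.zpowers y) := hquot.isNilpotent
  exact Subgroup.isNilpotent_of_ker_le_center (QuotientGroup.mk' (Subgroup.zpowers y))
    (by rw [QuotientGroup.ker_mk']; exact hZ)

/-- an element whose conjugation maps the finite subgroup `W` into itself normalizes `W` -/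
theorem h43_zpowers_le_normalizer {Y : Type*} [Group Y] [Finite Y] (W : Subgroup Y) (y : Y)
    (h : ∀ w ∈ W, y * w * y⁻¹ ∈ W) : Subgroup.zpowers y ≤ Subgroup.normalizer (W : Set Y) := by
  rw [Subgroup.zpowers_le, Subgroup.mem_normalizer_iff]
  have hpow : ∀ i : ℕ, ∀ w ∈ W, y ^ i * w * (y ^ i)⁻¹ ∈ W := by
    intro i
    induction i with
    | zero => intro w hw; simpa using hw
    | succ i ih =>
      intro w hw
      have : y ^ (i + 1) * w * (y ^ (i + 1))⁻¹ = y * (y ^ i * w * (y ^ i)⁻¹) * y⁻¹ := by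
        rw [pow_succ']; group
      rw [this]
      exact h _ (ih w hw)
  intro g
  refine ⟨h g, fun hg => ?_⟩
  have h1 := hpow (orderOf y - 1) _ hg
  have h2 : y ^ (orderOf y - 1) = y⁻¹ := by
    apply eq_inv_of_mul_eq_one_left
    rw [← pow_succ, Nat.sub_add_cancel (orderOf_pos y), pow_orderOf_eq_one]
  rw [h2] at h1
  have h3 : y⁻¹ * (y * g * y⁻¹) * y⁻¹⁻¹ = g := by group
  rwa [h3] at h1

/-- S2 (N = image of the Frattini subgroup of P; landed S3736 helps) -/
theorem cov_of_schmidt (p q r : ℕ) [Fact p.Prime] [Fact q.Prime] (hpq : p ≠ q) (hr : 1 ≤ r) {Y : Type u} [Group Y] [Finite Y]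
    (P : Subgroup Y) (y : Y) (hPn : P.Normal) (hP : IsPGroup p ↥P) (hy : orderOf y = q ^ r)
    (hsup : P ⊔ Subgroup.zpowers y = ⊤)
    (hnil : ∀ H : Subgroup Y, H ≠ ⊤ → Group.IsNilpotent ↥H) (hnn : ¬ Group.IsNilpotent Y) :
    ∃ N : Subgroup Y, Cov p q r N P y ∧ NonGen N := by
  classical
  have hpp : p.Prime := Fact.out
  have hqp : q.Prime := Fact.out
  -- elements of `P` are `p`-elements, elements of `⟨y⟩` are `q`-elements
  have hPel : ∀ u ∈ P, ∃ n : ℕ, u ^ p ^ n = 1 := by
    intro u hu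
    obtain ⟨n, hn⟩ := hP ⟨u, hu⟩
    exact ⟨n, congrArg Subtype.val hn⟩
  have hyel : ∀ z ∈ Subgroup.zpowers y, z ^ q ^ r = 1 := by
    intro z hz
    obtain ⟨k, rfl⟩ := Subgroup.mem_zpowers_iff.mp hz
    rw [← zpow_natCast, ← zpow_mul, mul_comm, zpow_mul, zpow_natCast, ← hy, pow_orderOf_eq_one,
      one_zpow]
  -- `P ∩ ⟨y⟩ = 1`
  have hdisj : ∀ z ∈ Subgroup.zpowers y, z ∈ P → z = 1 := by
    intro z hz hzP
    obtain ⟨n, hn⟩ := hPel z hzP
    have h1 : orderOf z ∣ p ^ n := orderOf_dvd_of_pow_eq_one hn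
    have h2 : orderOf z ∣ q ^ r := orderOf_dvd_of_pow_eq_one (hyel z hz)
    have h3 : Nat.Coprime (p ^ n) (q ^ r) :=
      Nat.Coprime.pow _ _ ((Nat.coprime_primes hpp hqp).mpr hpq)
    exact orderOf_eq_one_iff.mp (Nat.eq_one_of_dvd_coprimes h3 h1 h2)
  -- commuting in proper subgroups
  have hcomm : ∀ H : Subgroup Y, H ≠ ⊤ → ∀ x ∈ H, ∀ z ∈ H, (∃ n : ℕ, x ^ p ^ n = 1) →
      (∃ n : ℕ, z ^ q ^ n = 1) → x * z = z * x := by
    intro H hH x hx z hz hxn hzn
    obtain ⟨n, hn⟩ := hxn
    obtain ⟨m, hm⟩ := hzn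
    have := h43_commute_of_nilpotent (hnil H hH) hpq (⟨x, hx⟩ : ↥H) ⟨z, hz⟩
      ⟨n, Subtype.ext (by simpa using hn)⟩ ⟨m, Subtype.ext (by simpa using hm)⟩
    exact congrArg Subtype.val this.eq
  -- invariant proper subgroups of `P` generate proper subgroups with `y`
  have hproper : ∀ W : Subgroup Y, W ≤ P → W ≠ P →
      Subgroup.zpowers y ≤ Subgroup.normalizer (W : Set Y) → W ⊔ Subgroup.zpowers y ≠ ⊤ := by
    intro W hWP hne hnorm htop
    apply hne
    refine le_antisymm hWP ?_
    intro u hu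
    have hu' : u ∈ ((W ⊔ Subgroup.zpowers y : Subgroup Y) : Set Y) := by
      rw [htop]; exact Subgroup.mem_top u
    rw [Subgroup.coe_mul_of_right_le_normalizer_left W _ hnorm] at hu'
    obtain ⟨w, hw, z, hz, hwz⟩ := Set.mem_mul.mp hu'
    have hzP : z ∈ P := by
      have : z = w⁻¹ * u := by rw [← hwz]; group
      rw [this]
      exact P.mul_mem (P.inv_mem (hWP hw)) hu
    rw [hdisj z hz hzP, mul_one] at hwz
    rw [← hwz]; exact hw
  -- `y` does not centralize `P`
  have hnt : ⁅P, Subgroup.zpowers y⁆ ≠ ⊥ := by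
    intro hbot
    apply hnn
    rw [Subgroup.commutator_eq_bot_iff_le_centralizer] at hbot
    refine h43_nilpotent_of_central_cyclic P y hP hsup ?_
    intro u hu
    have := hbot hu
    rw [Subgroup.mem_centralizer_iff] at this
    exact (this y (Subgroup.mem_zpowers y)).symm
  have hyP : Subgroup.zpowers y ≤ Subgroup.normalizer (P : Set Y) := by
    rw [Subgroup.normalizer_eq_top]; exact le_top
  have hmin : ∀ U : Subgroup Y, U < P → Subgroup.zpowers y ≤ Subgroup.normalizer (U : Set Y) →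
      ⁅U, Subgroup.zpowers y⁆ = ⊥ := by
    intro U hU hnorm
    rw [Subgroup.commutator_eq_bot_iff_le_centralizer]
    intro u hu
    rw [Subgroup.mem_centralizer_iff]
    intro z hz
    exact (hcomm _ (hproper U hU.le hU.ne hnorm) u (Subgroup.mem_sup_left hu) z
      (Subgroup.mem_sup_right hz) (hPel u (hU.le hu)) ⟨r, hyel z hz⟩).symm
  have hcard : (Nat.card ↥(Subgroup.zpowers y)).Coprime p := by
    rw [Nat.card_zpowers, hy]
    exact Nat.Coprime.pow_left r ((Nat.coprime_primes hqp hpp).mpr hpq.symm)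
  obtain ⟨h1, h2, h3, -⟩ := Cfsg.Agent.S3736.result (Subgroup.zpowers y) (Subgroup.zpowers y) P hP hyP
    le_rfl Subgroup.le_normalizer hcard hnt hmin
  -- the subgroup `N`
  set N : Subgroup Y := (frattini ↥P).map P.subtype with hNdef
  have hNP : N ≤ P := Subgroup.map_subtype_le _
  have hNmem : ∀ n ∈ N, ∃ n' : ↥P, n' ∈ frattini ↥P ∧ (n' : Y) = n := by
    intro n hn
    obtain ⟨n', hn', rfl⟩ := Subgroup.mem_map.mp hn
    exact ⟨n', hn', rfl⟩
  have hNne : N ≠ P := by
    intro hNeq
    have hfr : frattini ↥P = ⊤ := by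
      rw [eq_top_iff]
      intro u _
      have hu : (u : Y) ∈ N := by rw [hNeq]; exact u.2
      obtain ⟨n', hn', hnu⟩ := hNmem _ hu
      have : n' = u := Subtype.ext hnu
      rw [← this]; exact hn'
    have hbot : (⊥ : Subgroup ↥P) = ⊤ := frattini_nongenerating (by rw [hfr, bot_sup_eq])
    apply hnn
    refine h43_nilpotent_of_central_cyclic P y hP hsup ?_
    intro u hu
    have : (⟨u, hu⟩ : ↥P) ∈ (⊥ : Subgroup ↥P) := by rw [hbot]; exact Subgroup.mem_top _
    rw [Subgroup.mem_bot] at this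
    have hu1 : u = 1 := congrArg Subtype.val this
    rw [hu1, one_mul, mul_one]
  have hyN : Subgroup.zpowers y ≤ Subgroup.normalizer (N : Set Y) :=
    hyP.trans (Cfsg.Agent.Lib.helper1.normalizer_le_normalizer_map_of_characteristic P (frattini ↥P))
  -- `N` is central
  have hNc : N ≤ Subgroup.center Y := by
    intro n hn
    rw [Subgroup.mem_center_iff]
    intro g
    have hny : n * y = y * n :=
      hcomm _ (hproper N hNP hNne hyN) n (Subgroup.mem_sup_left hn) y
        (Subgroup.mem_sup_right (Subgroup.mem_zpowers y)) (hPel n (hNP hn))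
        ⟨r, hyel y (Subgroup.mem_zpowers y)⟩
    have hnP : ∀ u ∈ P, u * n = n * u := by
      intro u hu
      obtain ⟨n', hn', rfl⟩ := hNmem n hn
      rcases h2 with hel | hsp
      · have hc := hel.1
        have := hc.is_comm.comm (⟨u, hu⟩ : ↥P) n'
        exact congrArg Subtype.val this
      · have hcen : n' ∈ Subgroup.center ↥P := by rw [← hsp.2.1]; exact hn'
        have := Subgroup.mem_center_iff.mp hcen ⟨u, hu⟩
        exact congrArg Subtype.val this
    have h1' : (⊤ : Subgroup Y) ≤ Subgroup.centralizer {n} := by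
      rw [← hsup]
      refine sup_le ?_ ?_
      · intro u hu
        rw [Subgroup.mem_centralizer_iff]
        intro h hh
        rw [Set.mem_singleton_iff] at hh
        rw [hh]; exact (hnP u hu).symm
      · rw [Subgroup.zpowers_le, Subgroup.mem_centralizer_iff]
        intro h hh
        rw [Set.mem_singleton_iff] at hh
        rw [hh]; exact hny
    have hg := h1' (Subgroup.mem_top g)
    rw [Subgroup.mem_centralizer_iff] at hg
    exact (hg n rfl).symm
  haveI hNn : N.Normal := ⟨fun n hn g => by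
    have := Subgroup.mem_center_iff.mp (hNc hn) g
    rw [this, mul_inv_cancel_right]; exact hn⟩
  -- `P ⊔ ⟨y ^ q⟩` is proper
  have hyq : P ⊔ Subgroup.zpowers (y ^ q) ≠ ⊤ := by
    intro htop
    have hy' : y ∈ ((P ⊔ Subgroup.zpowers (y ^ q) : Subgroup Y) : Set Y) := by
      rw [htop]; exact Subgroup.mem_top y
    rw [Subgroup.normal_mul] at hy'
    obtain ⟨u, hu, z, hz, huz⟩ := Set.mem_mul.mp hy'
    have hzy : z ∈ Subgroup.zpowers y :=
      (Subgroup.zpowers_le.mpr (Subgroup.pow_mem _ (Subgroup.mem_zpowers y) q)) hz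
    have hu1 : u = 1 := by
      apply hdisj u _ hu
      have : u = y * z⁻¹ := by rw [← huz]; group
      rw [this]
      exact Subgroup.mul_mem _ (Subgroup.mem_zpowers y) (Subgroup.inv_mem _ hzy)
    rw [hu1, one_mul] at huz
    obtain ⟨j, hj⟩ := Subgroup.mem_zpowers_iff.mp hz
    rw [huz] at hj
    have h4 : y ^ ((q : ℤ) * j - 1) = 1 := by
      rw [zpow_sub, zpow_mul, zpow_natCast, hj, zpow_one, mul_inv_cancel]
    have h5 : (orderOf y : ℤ) ∣ (q : ℤ) * j - 1 := orderOf_dvd_iff_zpow_eq_one.mpr h4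
    rw [hy] at h5
    have h6 : (q : ℤ) ∣ (q : ℤ) * j - 1 := by
      refine dvd_trans ?_ h5
      push_cast
      exact dvd_pow_self _ (by omega)
    have h7 : (q : ℤ) ∣ 1 := by
      have := dvd_sub (dvd_mul_right (q : ℤ) j) h6
      simpa using this
    have h8 : q ∣ 1 := by exact_mod_cast h7
    exact hqp.one_lt.ne' (Nat.dvd_one.mp h8)
  refine ⟨N, ?_, ?_⟩
  · refine
      { N_le_P := hNP
        N_central := hNc
        P_normal := hPn
        P_pgroup := hP
        comm_mem := ?_
        pow_mem := ?_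
        sup_top := hsup
        ord_dvd := ?_
        ord_mem := ?_
        yq := ?_
        nontriv := ?_
        irr := ?_ }
    · intro u hu v hv
      have hc : ⁅(⟨u, hu⟩ : ↥P), ⟨v, hv⟩⁆ ∈ commutator ↥P := by
        rw [commutator_def]
        exact Subgroup.commutator_mem_commutator (Subgroup.mem_top _) (Subgroup.mem_top _)
      have hf := Cfsg.Agent.Lib.helper3.commutator_le_frattini hP hc
      refine Subgroup.mem_map.mpr ⟨_, hf, ?_⟩
      rw [commutatorElement_def]
      rfl
    · intro u hu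
      have hf := Cfsg.Agent.Lib.helper3.pow_prime_mem_frattini hP (⟨u, hu⟩ : ↥P)
      exact Subgroup.mem_map.mpr ⟨_, hf, rfl⟩
    · intro k hk
      have := hdisj _ (Subgroup.pow_mem _ (Subgroup.mem_zpowers y) k) hk
      rw [← hy]
      exact orderOf_dvd_of_pow_eq_one this
    · rw [← hy, pow_orderOf_eq_one]; exact P.one_mem
    · intro u hu
      have hc : u * y ^ q = y ^ q * u :=
        hcomm _ hyq u (Subgroup.mem_sup_left hu) (y ^ q)
          (Subgroup.mem_sup_right (Subgroup.mem_zpowers _)) (hPel u hu)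
          ⟨r, hyel _ (Subgroup.pow_mem _ (Subgroup.mem_zpowers y) q)⟩
      have : y ^ q * u * (y ^ q)⁻¹ * u⁻¹ = 1 := by
        rw [← hc]; group
      rw [this]; exact N.one_mem
    · by_contra hcon
      push Not at hcon
      have hj : ∀ j : ℕ, ∀ u ∈ P, y ^ j * u * (y ^ j)⁻¹ * u⁻¹ ∈ N := by
        intro j
        induction j with
        | zero => intro u _; simpa using N.one_mem
        | succ j ih =>
          intro u hu
          have hv : y ^ j * u * (y ^ j)⁻¹ ∈ P := hPn.conj_mem u hu (y ^ j)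
          have : y ^ (j + 1) * u * (y ^ (j + 1))⁻¹ * u⁻¹ =
              (y * (y ^ j * u * (y ^ j)⁻¹) * y⁻¹ * (y ^ j * u * (y ^ j)⁻¹)⁻¹) *
                (y ^ j * u * (y ^ j)⁻¹ * u⁻¹) := by
            rw [pow_succ']; group
          rw [this]
          exact N.mul_mem (hcon _ hv) (ih u hu)
      have hle : ⁅P, Subgroup.zpowers y⁆ ≤ N := by
        rw [Subgroup.commutator_le]
        intro u hu z hz
        obtain ⟨j, rfl⟩ := (isOfFinOrder_of_finite y).mem_powers_iff_mem_zpowers.mpr hz
        have hm := hj j u⁻¹ (P.inv_mem hu)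
        have he : ⁅u, y ^ j⁆ = u * (y ^ j * u⁻¹ * (y ^ j)⁻¹ * u⁻¹⁻¹) * u⁻¹ := by
          rw [commutatorElement_def]; group
        rw [he]
        exact hNn.conj_mem _ hm u
      rw [h1] at hle
      exact hNne (le_antisymm hNP hle)
    · intro W hNW hWP hWy
      exact h3 W hNW hWP (h43_zpowers_le_normalizer W y hWy)
  · -- non-generators
    intro S hS
    have hPS : P ≤ S := by
      have hfr : S.subgroupOf P ⊔ frattini ↥P = ⊤ := by
        rw [eq_top_iff]
        intro x _
        have hx : (x : Y) ∈ ((S ⊔ N : Subgroup Y) : Set Y) := by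
          rw [hS]; exact Subgroup.mem_top _
        rw [Subgroup.mul_normal] at hx
        obtain ⟨s, hs, n, hn, hsn⟩ := Set.mem_mul.mp hx
        obtain ⟨n', hn', rfl⟩ := hNmem n hn
        have hsP : s ∈ P := by
          have : s = (x : Y) * (n' : Y)⁻¹ := by rw [← hsn]; group
          rw [this]
          exact P.mul_mem x.2 (P.inv_mem n'.2)
        have hxe : x = ⟨s, hsP⟩ * n' := Subtype.ext hsn.symm
        rw [hxe]
        exact Subgroup.mul_mem_sup (Subgroup.mem_subgroupOf.mpr hs) hn'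
      have := frattini_nongenerating hfr
      exact Subgroup.subgroupOf_eq_top.mp this
    rw [← hS]
    exact (sup_eq_left.mpr (hNP.trans hPS)).symm

end Cfsg.Agent.Lib.helper3.Gf
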