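import Mathlib
import Cfsg.Prelude.Def_OddOrderLocal
import Cfsg.Agent.Lib.helper86.BG1356Defs
import Cfsg.Agent.Lib.helper69.BGKappaA
import Cfsg.Agent.Lib.helper8.BG1355
import Cfsg.Agent.Lib.helper29.FittingHall
import Cfsg.Agent.S1350
import Cfsg.Agent.S1430

set_option autoImplicit false

namespace Cfsg.Agent.Lib.helper86.BG1356

open Cfsg Subgroup

variable {G : Type*} [Group G]

/-- the data of a σ-decomposition when `κ(M) ≠ ∅`. -/
theorem h43k1_setup [Finite G] (h51 : H1351 G)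
    (h52 : H1352 G) (M : Subgroup G) (hM : IsCoatom M) (hκ : (kappa M).Nonempty) :
    ∃ K U : Subgroup G, IsSigmaDecomposition M K U ∧ K ≠ ⊥ := by
  obtain ⟨K, hK⟩ := (h51 M hM).1
  have hKc : IsCyclic K := (h51 M hM).2 K hK
  obtain ⟨U, hKU⟩ := (h52 M hM K hKc hK).1
  refine ⟨K, U, hKU, ?_⟩
  intro hbot
  obtain ⟨p, hp⟩ := hκ
  have h1 := Cfsg.Agent.Lib.helper69.bgk_card_mul_relIndex hK.1
  have h2 : ¬ p ∣ K.relIndex M := hK.2.2 p hp.1 hp
  have h3 : p ∣ Nat.card K * K.relIndex M := by rw [h1]; exact hp.2.1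
  rcases (Nat.Prime.dvd_mul hp.1).mp h3 with h | h
  · rw [hbot, Subgroup.card_bot] at h
    exact hp.1.one_lt.ne' (Nat.dvd_one.mp h)
  · exact h2 h

/-- `|M| = |M'| |K|` in a σ-decomposition with `M' = U M_σ`. -/
theorem h43k1_card [Finite G] (hG : IsMinSimpleOddOrder G) (M : Subgroup G) (hM : IsCoatom M)
    (K U : Subgroup G) (hKU : IsSigmaDecomposition M K U)
    (hder : ⁅M, M⁆ = U ⊔ sigmaCore M) :
    Nat.card ↥⁅M, M⁆ * Nat.card K = Nat.card M := by
  have hHall := (Cfsg.Agent.S1350.result hG M hM).1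
  have hK := hKU.hall
  have hC := hKU.compl
  have h1 := Cfsg.Agent.Lib.helper29.IsComplIn.card_mul hC
  have h2 := Cfsg.Agent.Lib.helper69.bgk_card_sup hK hHall
  have hnorm : U ≤ normalizer (sigmaCore M : Set G) :=
    hC.1.trans (Cfsg.Agent.Lib.helper71.BGA.le_normalizer_sigmaCore M)
  have hc : IsComplIn (sigmaCore M) U (U ⊔ sigmaCore M) := by
    refine ⟨le_sup_right, le_sup_left, ?_, fun m hm => ?_⟩
    · have : sigmaCore M ⊓ U ≤ U ⊓ (K ⊔ sigmaCore M) :=
        le_inf inf_le_right (inf_le_left.trans le_sup_right)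
      rw [hC.2.2.1] at this
      exact le_bot_iff.mp this
    · rw [sup_comm] at hm
      exact Cfsg.Agent.Lib.helper29.exists_mul_of_mem_sup_of_le_normalizer hnorm hm
  have h3 := Cfsg.Agent.Lib.helper29.IsComplIn.card_mul hc
  rw [hder, ← h3, ← h1, ← h2]
  ring

/-- **K1.** (`κ(M) ≠ ∅`) an element `c ∈ M` whose `|M'|`-th power centralizes `M_F` lies in `M'`. -/
theorem mem_derived_of_pow_cent [Finite G] (hG : IsMinSimpleOddOrder G) (h51 : H1351 G)
    (h52 : H1352 G) (h64 : H1364 G) (h65 : H1365 G) (M : Subgroup G) (hM : IsCoatom M)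
    (hκ : (kappa M).Nonempty) (c : G) (hc : c ∈ M)
    (hcc : c ^ Nat.card ↥⁅M, M⁆ ∈ centralizer (fittingHallOf M : Set G)) : c ∈ ⁅M, M⁆ := by
  classical
  obtain ⟨K, U, hKU, hK1⟩ := h43k1_setup h51 h52 M hM hκ
  have hK := hKU.hall
  have hder := (h65 M hM K U hKU hK1).1
  have hcard := h43k1_card hG M hM K U hKU hder
  obtain ⟨h64a, -, h64c, h64d⟩ := h64 M hM K U hKU hK1
  have h30 := (Cfsg.Agent.S1430.result hG M hM K hK hK1).1
  have hMpos : 0 < Nat.card M := Nat.card_pos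
  have hKpos : 0 < Nat.card K := Nat.card_pos
  have hDpos : 0 < Nat.card ↥⁅M, M⁆ := Nat.card_pos
  -- `c ^ |M| = 1`
  have hcM : c ^ Nat.card M = 1 := by
    exact orderOf_dvd_iff_pow_eq_one.mp (Subgroup.orderOf_dvd_natCard M hc)
  set d : G := c ^ Nat.card ↥⁅M, M⁆ with hd
  have hdK : d ^ Nat.card K = 1 := by
    rw [hd, ← pow_mul, hcard, hcM]
  have hdM : d ∈ M := M.pow_mem hc _
  -- Step B: `d = 1`
  have hd1 : d = 1 := by
    by_contra hne
    have hord : orderOf d ≠ 1 := fun h => hne (orderOf_eq_one_iff.mp h)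
    obtain ⟨p, hp, hpd⟩ := Nat.exists_prime_and_dvd hord
    haveI : Fact p.Prime := ⟨hp⟩
    have hpK : p ∣ Nat.card K := hpd.trans (orderOf_dvd_of_pow_eq_one hdK)
    have hpκ : p ∈ kappa M := hK.2.1 p hp hpK
    set x : G := d ^ (orderOf d / p) with hx
    have hxord : orderOf x = p := by
      have hdpos : 0 < orderOf d := by
        apply orderOf_pos_iff.mpr
        exact isOfFinOrder_of_finite d
      rw [hx]
      exact orderOf_pow_orderOf_div hdpos.ne' hpd
    have hxM : x ∈ M := M.pow_mem hdM _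
    have hxc : x ∈ centralizer (fittingHallOf M : Set G) := Subgroup.pow_mem _ hcc _
    have hB : IsPGroup p (zpowers x) := by
      apply IsPGroup.of_card (n := 1)
      rw [Nat.card_zpowers, hxord, pow_one]
    have hBM : zpowers x ≤ M := by
      rw [Subgroup.zpowers_le]; exact hxM
    obtain ⟨g, hgM, hg⟩ := Cfsg.Agent.Lib.helper69.bgk_conj_into_hall hK hpκ hBM hB
    have hkK : g * x * g⁻¹ ∈ K := hg x (Subgroup.mem_zpowers x)
    have hk1 : g * x * g⁻¹ ≠ 1 := by
      intro h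
      have hx1 : x = 1 := by
        have : x = g⁻¹ * (g * x * g⁻¹) * g := by group
        rw [this, h]; group
      rw [hx1, orderOf_one] at hxord
      exact hp.one_lt.ne hxord
    have hnF := Cfsg.Agent.Lib.helper29.le_normalizer_fittingHallOf M
    rw [Subgroup.le_normalizer_iff] at hnF
    have hle : fittingHallOf M ≤ sigmaCore M ⊓ centralizer ({g * x * g⁻¹} : Set G) := by
      intro y hy
      refine ⟨Cfsg.Agent.Lib.helper8.BG1355.fittingHallOf_le_sigmaCore hG M hM hy, ?_⟩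
      show y ∈ centralizer ({g * x * g⁻¹} : Set G)
      rw [Subgroup.mem_centralizer_iff]
      intro z hz
      rw [Set.mem_singleton_iff] at hz
      subst hz
      -- `g⁻¹ y g ∈ M_F` commutes with `x`
      have h1 : g⁻¹ * y * g⁻¹⁻¹ ∈ fittingHallOf M := hnF g⁻¹ (M.inv_mem hgM) y hy
      have h2 := (Subgroup.mem_centralizer_iff.mp hxc) _ h1
      -- h2 : (g⁻¹ * y * g⁻¹⁻¹) * x = x * (g⁻¹ * y * g⁻¹⁻¹)
      have e1 : g * x * g⁻¹ * y = g * (x * (g⁻¹ * y * g⁻¹⁻¹)) * g⁻¹ := by group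
      have e2 : y * (g * x * g⁻¹) = g * ((g⁻¹ * y * g⁻¹⁻¹) * x) * g⁻¹ := by group
      rw [e1, e2, h2]
    rw [h30 _ hkK hk1] at hle
    apply h64d
    haveI := h64a
    exact Subgroup.isCyclic_of_le hle
  -- Step C
  have hcD : c ^ Nat.card ↥⁅M, M⁆ = 1 := hd1
  have hcop : (Nat.card K).Coprime (orderOf c) := by
    have h1 : orderOf c ∣ Nat.card ↥⁅M, M⁆ := orderOf_dvd_of_pow_eq_one hcD
    have h2 : (Nat.card K).Coprime (K.relIndex M) := Cfsg.Agent.Lib.helper69.bgk_hall_coprime hK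
    have h3 : K.relIndex M = Nat.card ↥⁅M, M⁆ := by
      have e1 := Cfsg.Agent.Lib.helper69.bgk_card_mul_relIndex hK.1
      rw [← hcard, mul_comm] at e1
      exact Nat.eq_of_mul_eq_mul_right hKpos e1
    rw [h3] at h2
    exact Nat.Coprime.coprime_dvd_right h1 h2
  obtain ⟨m, hm⟩ := exists_pow_eq_self_of_coprime hcop
  have hmem : c ^ Nat.card K ∈ ⁅M, M⁆ := by
    have hidx : (_root_.commutator ↥M).index = Nat.card K := by
      have e1 := Subgroup.card_mul_index (_root_.commutator ↥M)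
      have e2 : Nat.card (_root_.commutator ↥M) = Nat.card ↥⁅M, M⁆ := by
        rw [← Subgroup.map_subtype_commutator M]
        exact (Subgroup.card_map_of_injective (Subgroup.subtype_injective M)).symm
      rw [e2, ← hcard] at e1
      exact Nat.eq_of_mul_eq_mul_left hDpos e1
    have h1 : (⟨c, hc⟩ : M) ^ (_root_.commutator ↥M).index ∈ _root_.commutator ↥M :=
      Subgroup.pow_index_mem _ _
    rw [hidx] at h1
    rw [← Subgroup.map_subtype_commutator M]
    exact ⟨_, h1, rfl⟩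
  rw [← hm]
  exact Subgroup.pow_mem _ hmem _

end Cfsg.Agent.Lib.helper86.BG1356
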