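import Mathlib
import Cfsg.Prelude.Def_OddOrderLocal
import Cfsg.Agent.Lib.helper86.BG1356Defs
import Cfsg.Agent.Lib.helper86.BG1356L
import Cfsg.Agent.Lib.helper43.BG1356K1

set_option autoImplicit false

namespace Cfsg.Agent.Lib.helper86.BG1356

open Cfsg Subgroup

variable {G : Type*} [Group G]

/-- **B2.** (`κ(M) ≠ ∅`) `C_M(M_F) ≤ F(M)`. -/
theorem cent_le_fitting_of_kappa [Finite G] (hG : IsMinSimpleOddOrder G) (h51 : H1351 G)
    (h52 : H1352 G) (h55 : H1355 G) (h64 : H1364 G) (h65 : H1365 G) (M : Subgroup G)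
    (hM : IsCoatom M) (hκ : (kappa M).Nonempty) :
    M ⊓ centralizer (fittingHallOf M : Set G) ≤ fittingOf M := by
  classical
  apply le_fittingOf M _ inf_le_left
  · -- `M` normalizes `C_M(M_F)`
    rw [Subgroup.le_normalizer_iff]
    intro m hm c hc
    refine ⟨M.mul_mem (M.mul_mem hm hc.1) (M.inv_mem hm), ?_⟩
    show m * c * m⁻¹ ∈ centralizer (fittingHallOf M : Set G)
    rw [Subgroup.mem_centralizer_iff]
    intro y hy
    have hnF := Cfsg.Agent.Lib.helper29.le_normalizer_fittingHallOf M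
    rw [Subgroup.le_normalizer_iff] at hnF
    have h1 : m⁻¹ * y * m⁻¹⁻¹ ∈ fittingHallOf M := hnF m⁻¹ (M.inv_mem hm) y hy
    have h2 := (Subgroup.mem_centralizer_iff.mp hc.2) _ h1
    have e1 : y * (m * c * m⁻¹) = m * ((m⁻¹ * y * m⁻¹⁻¹) * c) * m⁻¹ := by group
    have e2 : m * c * m⁻¹ * y = m * (c * (m⁻¹ * y * m⁻¹⁻¹)) * m⁻¹ := by group
    rw [e1, e2, h2]
  · -- nilpotency
    have hCder : ∀ c ∈ M ⊓ centralizer (fittingHallOf M : Set G), c ∈ ⁅M, M⁆ := fun c hc =>
      mem_derived_of_pow_cent hG h51 h52 h64 h65 M hM hκ c hc.1 (Subgroup.pow_mem _ hc.2 _)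
    have hnil := (h55 M hM).2.2.2.2
    have hmemc : ∀ c : ↥(M ⊓ centralizer (fittingHallOf M : Set G)),
        (⟨c.1, c.2.1⟩ : ↥M) ∈ _root_.commutator ↥M := by
      intro c
      have h1 := hCder c.1 c.2
      rw [← Subgroup.map_subtype_commutator M] at h1
      obtain ⟨z, hz, hzc⟩ := h1
      have : z = ⟨c.1, c.2.1⟩ := Subtype.ext hzc
      rw [← this]
      exact hz
    let g : ↥(M ⊓ centralizer (fittingHallOf M : Set G)) →* ↥(_root_.commutator ↥M) :=
      { toFun := fun c => ⟨⟨c.1, c.2.1⟩, hmemc c⟩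
        map_one' := rfl
        map_mul' := fun a b => rfl }
    let f : ↥(M ⊓ centralizer (fittingHallOf M : Set G)) →*
        ↥((_root_.commutator ↥M).map (QuotientGroup.mk' (fittingHall ↥M))) :=
      ((QuotientGroup.mk' (fittingHall ↥M)).subgroupMap (_root_.commutator ↥M)).comp g
    haveI := hnil
    apply Subgroup.isNilpotent_of_ker_le_center f
    intro c hc
    rw [MonoidHom.mem_ker] at hc
    have h1 : ((f c : ↥((_root_.commutator ↥M).map (QuotientGroup.mk' (fittingHall ↥M)))) :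
        ↥M ⧸ fittingHall ↥M) = 1 := by
      rw [hc]; rfl
    have h2 : (QuotientGroup.mk' (fittingHall ↥M)) (⟨c.1, c.2.1⟩ : ↥M) = 1 := h1
    rw [QuotientGroup.mk'_apply, QuotientGroup.eq_one_iff] at h2
    have h3 : c.1 ∈ fittingHallOf M := ⟨⟨c.1, c.2.1⟩, h2, rfl⟩
    rw [Subgroup.mem_center_iff]
    intro c'
    have h4 := (Subgroup.mem_centralizer_iff.mp c'.2.2) c.1 h3
    -- h4 : c.1 * c'.1 = c'.1 * c.1
    apply Subtype.ext
    show c'.1 * c.1 = c.1 * c'.1
    exact h4.symm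

end Cfsg.Agent.Lib.helper86.BG1356
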