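import Mathlib
import Cfsg.Prelude.Def_OddOrderLocal
import Cfsg.Agent.Lib.helper86.BG1356Defs
import Cfsg.Agent.Lib.helper86.BG1356L
import Cfsg.Agent.Lib.helper43.BG1356K1
import Cfsg.Agent.Lib.helper1.ThompsonFpf

set_option autoImplicit false

namespace Cfsg.Agent.Lib.helper86.BG1356

open Cfsg Subgroup

variable {G : Type*} [Group G]

/-- **C1.** `F(M) ≤ M'` when `κ(M) ≠ ∅`. -/
theorem fitting_le_derived [Finite G] (hG : IsMinSimpleOddOrder G) (h51 : H1351 G)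
    (h52 : H1352 G) (h64 : H1364 G) (h65 : H1365 G) (M : Subgroup G) (hM : IsCoatom M)
    (hκ : (kappa M).Nonempty) : fittingOf M ≤ ⁅M, M⁆ := by
  intro x hx
  have hxM : x ∈ M := fittingOf_le_self M hx
  apply mem_derived_of_pow_cent hG h51 h52 h64 h65 M hM hκ x hxM
  obtain ⟨K, U, hKU, hK1⟩ := h43k1_setup h51 h52 M hM hκ
  have hK := hKU.hall
  have hder := (h65 M hM K U hKU hK1).1
  have hcard := h43k1_card hG M hM K U hKU hder
  have hHall := (Cfsg.Agent.S1350.result hG M hM).1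
  have hdF : x ^ Nat.card ↥⁅M, M⁆ ∈ fittingOf M := Subgroup.pow_mem _ hx _
  have hdK : (x ^ Nat.card ↥⁅M, M⁆) ^ Nat.card K = 1 := by
    rw [← pow_mul, hcard]
    exact orderOf_dvd_iff_pow_eq_one.mp (Subgroup.orderOf_dvd_natCard M hxM)
  rw [Subgroup.mem_centralizer_iff]
  intro y hy
  have hyF : y ∈ fittingOf M := fittingHallOf_le_fittingOf M hy
  have hyS : y ∈ sigmaCore M :=
    Cfsg.Agent.Lib.helper8.BG1355.fittingHallOf_le_sigmaCore hG M hM hy
  have hcop : (orderOf y).Coprime (orderOf (x ^ Nat.card ↥⁅M, M⁆)) := by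
    apply Nat.coprime_of_dvd
    intro k hk h1 h2
    have h3 : k ∣ Nat.card (sigmaCore M) := h1.trans (Subgroup.orderOf_dvd_natCard _ hyS)
    have h4 : k ∣ Nat.card K := h2.trans (orderOf_dvd_of_pow_eq_one hdK)
    exact (hK.2.1 k hk h4).2.2.1 (hHall.2.1 k hk h3)
  haveI := fittingOf_isNilpotent M
  have hcomm := Cfsg.Agent.Lib.helper1.commute_of_coprime_orderOf_of_isNilpotent (fittingOf M)
    ⟨y, hyF⟩ ⟨x ^ Nat.card ↥⁅M, M⁆, hdF⟩ (by rwa [Subgroup.orderOf_mk, Subgroup.orderOf_mk])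
  exact congrArg Subtype.val hcomm.eq

end Cfsg.Agent.Lib.helper86.BG1356
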