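import Mathlib
import Cfsg.Agent.Lib.helper95.APDefs

/-!
# S2276, piece B0 (racer copy by helper43), core: two full cycles (GPC statement as hypothesis)

`b := w * a⁻¹ * w⁻¹` for a short word `w` in transpositions (`a` the rotation); the odd companion
is obtained from a second word of the opposite sign.
-/

set_option autoImplicit false

namespace Cfsg.Agent.Lib.helper95.AP

open Equiv

/-- rotation on a literal -/
theorem h43_rot_mk (M i : ℕ) (h : i + 1 < M) :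
    finRotate M ⟨i, by omega⟩ = ⟨i + 1, h⟩ := by
  cases M with
  | zero => omega
  | succ n => exact finRotate_of_lt (by omega)

theorem h43_rot_inv_mk (M i : ℕ) (h : i + 1 < M) :
    (finRotate M)⁻¹ ⟨i + 1, h⟩ = ⟨i, by omega⟩ := by
  rw [Perm.inv_eq_iff_eq, h43_rot_mk M i h]

theorem h43_cycleType_conj_rot (M : ℕ) (hM : 2 ≤ M) (w : Perm (Fin M)) :
    (w * (finRotate M)⁻¹ * w⁻¹).cycleType = {M} := by
  rw [Perm.cycleType_conj, Perm.cycleType_inv]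
  exact cycleType_finRotate_of_le hM

theorem h43_conj_swap (M i j : ℕ) (hi : i + 1 < M) (hj : j + 1 < M) :
    finRotate M * swap (⟨i, by omega⟩ : Fin M) ⟨j, by omega⟩ * (finRotate M)⁻¹ =
      swap ⟨i + 1, hi⟩ ⟨j + 1, hj⟩ := by
  rw [← swap_apply_apply, h43_rot_mk M i hi, h43_rot_mk M j hj]

theorem h43_swap_val (M i j : ℕ) (hi : i < M) (hj : j < M) (z : Fin M) :
    ((swap (⟨i, hi⟩ : Fin M) ⟨j, hj⟩ z : Fin M) : ℕ) =
      if (z : ℕ) = i then j else if (z : ℕ) = j then i else (z : ℕ) := by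
  rw [swap_apply_def]
  split_ifs <;> simp_all [Fin.ext_iff]

theorem h43_b_val (M : ℕ) (w : Perm (Fin M)) (z : Fin M) (u : ℕ) (hu : u + 1 < M)
    (h : ((w⁻¹ z : Fin M) : ℕ) = u + 1) :
    (w * (finRotate M)⁻¹ * w⁻¹) z = w ⟨u, by omega⟩ := by
  have h' : w⁻¹ z = ⟨u + 1, hu⟩ := Fin.ext h
  rw [Perm.mul_apply, Perm.mul_apply, h', h43_rot_inv_mk]

/-- w = (0 1) -/
theorem h43_w01 (M : ℕ) (hM : 5 ≤ M) :
    (∀ z : Fin M, (finRotate M * (swap (⟨0, by omega⟩ : Fin M) ⟨1, by omega⟩ * (finRotate M)⁻¹ *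
        (swap (⟨0, by omega⟩ : Fin M) ⟨1, by omega⟩)⁻¹)) z = z ↔
      z ∉ ({⟨0, by omega⟩, ⟨1, by omega⟩, ⟨2, by omega⟩} : Finset (Fin M))) ∧
    (({⟨0, by omega⟩, ⟨1, by omega⟩, ⟨2, by omega⟩} : Finset (Fin M))).card = 3 ∧
    (((swap (⟨0, by omega⟩ : Fin M) ⟨1, by omega⟩ * (finRotate M)⁻¹ *
        (swap (⟨0, by omega⟩ : Fin M) ⟨1, by omega⟩)⁻¹) ⟨0, by omega⟩ : Fin M) : ℕ) = 1 ∧
    ∀ (y : ℕ) (hy : y < M), 3 ≤ y →
      (((swap (⟨0, by omega⟩ : Fin M) ⟨1, by omega⟩ * (finRotate M)⁻¹ *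
        (swap (⟨0, by omega⟩ : Fin M) ⟨1, by omega⟩)⁻¹) ⟨y, hy⟩ : Fin M) : ℕ) = y - 1 := by
  have hπ : finRotate M * (swap (⟨0, by omega⟩ : Fin M) ⟨1, by omega⟩ * (finRotate M)⁻¹ *
        (swap (⟨0, by omega⟩ : Fin M) ⟨1, by omega⟩)⁻¹) =
      swap (⟨1, by omega⟩ : Fin M) ⟨2, by omega⟩ * swap (⟨0, by omega⟩ : Fin M) ⟨1, by omega⟩ := by
    rw [← h43_conj_swap M 0 1 (by omega) (by omega), swap_inv]
    group
  refine ⟨?_, ?_, ?_, ?_⟩
  · intro z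
    rw [hπ, Fin.ext_iff]
    simp only [Perm.mul_apply, h43_swap_val, Finset.mem_insert, Finset.mem_singleton, Fin.ext_iff]
    split_ifs <;> omega
  · rw [Finset.card_insert_of_notMem, Finset.card_insert_of_notMem, Finset.card_singleton] <;>
      simp [Fin.ext_iff]
  · rw [h43_b_val M _ _ 0 (by omega) (by rw [swap_inv, h43_swap_val]; simp)]
    rw [h43_swap_val]; simp
  · intro y hy hy3
    rw [h43_b_val M _ _ (y - 1) (by omega) (by rw [swap_inv, h43_swap_val]; simp only []; split_ifs <;> omega)]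
    rw [h43_swap_val]; simp only []; split_ifs <;> omega

/-- w = (0 1)(1 2) -/
theorem h43_w012 (M : ℕ) (hM : 5 ≤ M) :
    (∀ z : Fin M, (finRotate M * (swap (⟨0, by omega⟩ : Fin M) ⟨1, by omega⟩ *
          swap (⟨1, by omega⟩ : Fin M) ⟨2, by omega⟩ * (finRotate M)⁻¹ *
        (swap (⟨0, by omega⟩ : Fin M) ⟨1, by omega⟩ *
          swap (⟨1, by omega⟩ : Fin M) ⟨2, by omega⟩)⁻¹)) z = z ↔
      z ∉ ({⟨0, by omega⟩, ⟨1, by omega⟩, ⟨3, by omega⟩} : Finset (Fin M))) ∧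
    (({⟨0, by omega⟩, ⟨1, by omega⟩, ⟨3, by omega⟩} : Finset (Fin M))).card = 3 ∧
    (((swap (⟨0, by omega⟩ : Fin M) ⟨1, by omega⟩ *
          swap (⟨1, by omega⟩ : Fin M) ⟨2, by omega⟩ * (finRotate M)⁻¹ *
        (swap (⟨0, by omega⟩ : Fin M) ⟨1, by omega⟩ *
          swap (⟨1, by omega⟩ : Fin M) ⟨2, by omega⟩)⁻¹) ⟨0, by omega⟩ : Fin M) : ℕ) = 2 ∧
    ∀ (y : ℕ) (hy : y < M), 4 ≤ y →
      (((swap (⟨0, by omega⟩ : Fin M) ⟨1, by omega⟩ *
          swap (⟨1, by omega⟩ : Fin M) ⟨2, by omega⟩ * (finRotate M)⁻¹ *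
        (swap (⟨0, by omega⟩ : Fin M) ⟨1, by omega⟩ *
          swap (⟨1, by omega⟩ : Fin M) ⟨2, by omega⟩)⁻¹) ⟨y, hy⟩ : Fin M) : ℕ) = y - 1 := by
  have e1 := h43_conj_swap M 0 1 (by omega) (by omega)
  have e2 := h43_conj_swap M 1 2 (by omega) (by omega)
  have hπ : finRotate M * (swap (⟨0, by omega⟩ : Fin M) ⟨1, by omega⟩ *
          swap (⟨1, by omega⟩ : Fin M) ⟨2, by omega⟩ * (finRotate M)⁻¹ *
        (swap (⟨0, by omega⟩ : Fin M) ⟨1, by omega⟩ *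
          swap (⟨1, by omega⟩ : Fin M) ⟨2, by omega⟩)⁻¹) =
      swap (⟨1, by omega⟩ : Fin M) ⟨2, by omega⟩ * swap (⟨2, by omega⟩ : Fin M) ⟨3, by omega⟩ *
        (swap (⟨1, by omega⟩ : Fin M) ⟨2, by omega⟩ *
          swap (⟨0, by omega⟩ : Fin M) ⟨1, by omega⟩) := by
    calc _ = (finRotate M * swap (⟨0, by omega⟩ : Fin M) ⟨1, by omega⟩ * (finRotate M)⁻¹) *
          (finRotate M * swap (⟨1, by omega⟩ : Fin M) ⟨2, by omega⟩ * (finRotate M)⁻¹) *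
          (swap (⟨0, by omega⟩ : Fin M) ⟨1, by omega⟩ *
            swap (⟨1, by omega⟩ : Fin M) ⟨2, by omega⟩)⁻¹ := by group
      _ = _ := by rw [e1, e2, mul_inv_rev, swap_inv, swap_inv]
  refine ⟨?_, ?_, ?_, ?_⟩
  · intro z
    rw [hπ, Fin.ext_iff]
    simp only [Perm.mul_apply, h43_swap_val, Finset.mem_insert, Finset.mem_singleton, Fin.ext_iff]
    split_ifs <;> omega
  · rw [Finset.card_insert_of_notMem, Finset.card_insert_of_notMem, Finset.card_singleton] <;>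
      simp [Fin.ext_iff]
  · rw [h43_b_val M _ _ 1 (by omega) (by
      rw [mul_inv_rev, swap_inv, swap_inv, Perm.mul_apply, h43_swap_val, h43_swap_val]; simp)]
    rw [Perm.mul_apply, h43_swap_val, h43_swap_val]; simp
  · intro y hy hy3
    rw [h43_b_val M _ _ (y - 1) (by omega) (by
      rw [mul_inv_rev, swap_inv, swap_inv, Perm.mul_apply, h43_swap_val, h43_swap_val]
      simp only []; split_ifs <;> omega)]
    rw [Perm.mul_apply, h43_swap_val, h43_swap_val]; simp only []; split_ifs <;> omega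

/-- w = (0 2) -/
theorem h43_w02 (M : ℕ) (hM : 5 ≤ M) :
    (∀ z : Fin M, (finRotate M * (swap (⟨0, by omega⟩ : Fin M) ⟨2, by omega⟩ * (finRotate M)⁻¹ *
        (swap (⟨0, by omega⟩ : Fin M) ⟨2, by omega⟩)⁻¹)) z = z ↔
      z ∉ ({⟨0, by omega⟩, ⟨1, by omega⟩, ⟨2, by omega⟩, ⟨3, by omega⟩} : Finset (Fin M))) ∧
    (({⟨0, by omega⟩, ⟨1, by omega⟩, ⟨2, by omega⟩, ⟨3, by omega⟩} : Finset (Fin M))).card = 4 ∧
    (((swap (⟨0, by omega⟩ : Fin M) ⟨2, by omega⟩ * (finRotate M)⁻¹ *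
        (swap (⟨0, by omega⟩ : Fin M) ⟨2, by omega⟩)⁻¹) ⟨0, by omega⟩ : Fin M) : ℕ) = 1 ∧
    ∀ (y : ℕ) (hy : y < M), 4 ≤ y →
      (((swap (⟨0, by omega⟩ : Fin M) ⟨2, by omega⟩ * (finRotate M)⁻¹ *
        (swap (⟨0, by omega⟩ : Fin M) ⟨2, by omega⟩)⁻¹) ⟨y, hy⟩ : Fin M) : ℕ) = y - 1 := by
  have hπ : finRotate M * (swap (⟨0, by omega⟩ : Fin M) ⟨2, by omega⟩ * (finRotate M)⁻¹ *
        (swap (⟨0, by omega⟩ : Fin M) ⟨2, by omega⟩)⁻¹) =
      swap (⟨1, by omega⟩ : Fin M) ⟨3, by omega⟩ * swap (⟨0, by omega⟩ : Fin M) ⟨2, by omega⟩ := by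
    rw [← h43_conj_swap M 0 2 (by omega) (by omega), swap_inv]
    group
  refine ⟨?_, ?_, ?_, ?_⟩
  · intro z
    rw [hπ, Fin.ext_iff]
    simp only [Perm.mul_apply, h43_swap_val, Finset.mem_insert, Finset.mem_singleton, Fin.ext_iff]
    split_ifs <;> omega
  · rw [Finset.card_insert_of_notMem, Finset.card_insert_of_notMem, Finset.card_insert_of_notMem,
      Finset.card_singleton] <;> simp [Fin.ext_iff]
  · rw [h43_b_val M _ _ 1 (by omega) (by rw [swap_inv, h43_swap_val]; simp)]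
    rw [h43_swap_val]; simp
  · intro y hy hy3
    rw [h43_b_val M _ _ (y - 1) (by omega) (by
      rw [swap_inv, h43_swap_val]; simp only []; split_ifs <;> omega)]
    rw [h43_swap_val]; simp only []; split_ifs <;> omega

/-- w = (0 1)(2 3) -/
theorem h43_w0123 (M : ℕ) (hM : 6 ≤ M) :
    (∀ z : Fin M, (finRotate M * (swap (⟨0, by omega⟩ : Fin M) ⟨1, by omega⟩ *
          swap (⟨2, by omega⟩ : Fin M) ⟨3, by omega⟩ * (finRotate M)⁻¹ *
        (swap (⟨0, by omega⟩ : Fin M) ⟨1, by omega⟩ *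
          swap (⟨2, by omega⟩ : Fin M) ⟨3, by omega⟩)⁻¹)) z = z ↔
      z ∉ ({⟨0, by omega⟩, ⟨1, by omega⟩, ⟨2, by omega⟩, ⟨3, by omega⟩, ⟨4, by omega⟩} :
        Finset (Fin M))) ∧
    (({⟨0, by omega⟩, ⟨1, by omega⟩, ⟨2, by omega⟩, ⟨3, by omega⟩, ⟨4, by omega⟩} :
        Finset (Fin M))).card = 5 ∧
    (((swap (⟨0, by omega⟩ : Fin M) ⟨1, by omega⟩ *
          swap (⟨2, by omega⟩ : Fin M) ⟨3, by omega⟩ * (finRotate M)⁻¹ *
        (swap (⟨0, by omega⟩ : Fin M) ⟨1, by omega⟩ *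
          swap (⟨2, by omega⟩ : Fin M) ⟨3, by omega⟩)⁻¹) ⟨0, by omega⟩ : Fin M) : ℕ) = 1 ∧
    ∀ (y : ℕ) (hy : y < M), 5 ≤ y →
      (((swap (⟨0, by omega⟩ : Fin M) ⟨1, by omega⟩ *
          swap (⟨2, by omega⟩ : Fin M) ⟨3, by omega⟩ * (finRotate M)⁻¹ *
        (swap (⟨0, by omega⟩ : Fin M) ⟨1, by omega⟩ *
          swap (⟨2, by omega⟩ : Fin M) ⟨3, by omega⟩)⁻¹) ⟨y, hy⟩ : Fin M) : ℕ) = y - 1 := by
  have e1 := h43_conj_swap M 0 1 (by omega) (by omega)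
  have e2 := h43_conj_swap M 2 3 (by omega) (by omega)
  have hπ : finRotate M * (swap (⟨0, by omega⟩ : Fin M) ⟨1, by omega⟩ *
          swap (⟨2, by omega⟩ : Fin M) ⟨3, by omega⟩ * (finRotate M)⁻¹ *
        (swap (⟨0, by omega⟩ : Fin M) ⟨1, by omega⟩ *
          swap (⟨2, by omega⟩ : Fin M) ⟨3, by omega⟩)⁻¹) =
      swap (⟨1, by omega⟩ : Fin M) ⟨2, by omega⟩ * swap (⟨3, by omega⟩ : Fin M) ⟨4, by omega⟩ *
        (swap (⟨2, by omega⟩ : Fin M) ⟨3, by omega⟩ *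
          swap (⟨0, by omega⟩ : Fin M) ⟨1, by omega⟩) := by
    calc _ = (finRotate M * swap (⟨0, by omega⟩ : Fin M) ⟨1, by omega⟩ * (finRotate M)⁻¹) *
          (finRotate M * swap (⟨2, by omega⟩ : Fin M) ⟨3, by omega⟩ * (finRotate M)⁻¹) *
          (swap (⟨0, by omega⟩ : Fin M) ⟨1, by omega⟩ *
            swap (⟨2, by omega⟩ : Fin M) ⟨3, by omega⟩)⁻¹ := by group
      _ = _ := by rw [e1, e2, mul_inv_rev, swap_inv, swap_inv]
  refine ⟨?_, ?_, ?_, ?_⟩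
  · intro z
    rw [hπ, Fin.ext_iff]
    simp only [Perm.mul_apply, h43_swap_val, Finset.mem_insert, Finset.mem_singleton, Fin.ext_iff]
    split_ifs <;> omega
  · rw [Finset.card_insert_of_notMem, Finset.card_insert_of_notMem, Finset.card_insert_of_notMem,
      Finset.card_insert_of_notMem, Finset.card_singleton] <;> simp [Fin.ext_iff]
  · rw [h43_b_val M _ _ 0 (by omega) (by
      rw [mul_inv_rev, swap_inv, swap_inv, Perm.mul_apply, h43_swap_val, h43_swap_val]; simp)]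
    rw [Perm.mul_apply, h43_swap_val, h43_swap_val]; simp
  · intro y hy hy3
    rw [h43_b_val M _ _ (y - 1) (by omega) (by
      rw [mul_inv_rev, swap_inv, swap_inv, Perm.mul_apply, h43_swap_val, h43_swap_val]
      simp only []; split_ifs <;> omega)]
    rw [Perm.mul_apply, h43_swap_val, h43_swap_val]; simp only []; split_ifs <;> omega

theorem h43_arith (p q' v : ℕ) (hp3 : 3 ≤ p) (hq1 : 1 ≤ q') (h5 : 5 ≤ p * q')
    (hpq : q' = 1 ∨ p ∣ q') (hv : v = 1 ∨ (v = 2 ∧ p ≠ 3)) :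
    ¬ (p : ℤ) ∣ (v : ℤ) - ((p * q' - q' - 1 : ℕ) : ℤ) := by
  intro h
  have h3q : 3 * q' ≤ p * q' := Nat.mul_le_mul_right _ hp3
  obtain ⟨N, hN⟩ : ∃ N, N = p * q' - q' - 1 := ⟨_, rfl⟩
  rw [← hN] at h
  have hNeq : N + 1 + q' = p * q' := by omega
  have e1 : (N : ℤ) = (p : ℤ) * q' - q' - 1 := by
    have := congrArg (fun n : ℕ => (n : ℤ)) hNeq
    push_cast at this
    linarith
  have hz : (p : ℤ) ∣ ((v + 1 + q' : ℕ) : ℤ) := by
    have e2 : ((v + 1 + q' : ℕ) : ℤ) = ((v : ℤ) - N) + p * q' := by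
      push_cast; rw [e1]; ring
    rw [e2]; exact dvd_add h (dvd_mul_right _ _)
  have hz' : p ∣ v + 1 + q' := Int.natCast_dvd_natCast.mp hz
  rcases hpq with hq | hq
  · subst hq
    rw [mul_one] at h5
    have hle := Nat.le_of_dvd (by omega) hz'
    rcases hv with rfl | ⟨rfl, _⟩ <;> omega
  · have hz'' : p ∣ v + 1 := by
      have := Nat.dvd_sub hz' hq
      rwa [Nat.add_sub_cancel] at this
    have hle := Nat.le_of_dvd (by omega) hz''
    rcases hv with rfl | ⟨rfl, h3⟩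
    · omega
    · exact h3 (by omega)

theorem h43_good_of (p : ℕ) (e : ℕ) (he : e ≠ 0)
    (hgpc : ∀ (b : Perm (Fin (p ^ e))) (x y : Fin (p ^ e)),
      ((p ^ (e - 1) : ℕ) : ℤ) ∣ ((x : ℕ) : ℤ) - ((y : ℕ) : ℤ) →
      ¬ (p : ℤ) ∣ (((b x : Fin (p ^ e)) : ℕ) : ℤ) - (((b y : Fin (p ^ e)) : ℕ) : ℤ) →
      ∀ f : ℕ, (Finset.univ.filter
          (fun z : Fin (p ^ e) => (finRotate (p ^ e) * b) z = z)).card = f →
      2 ≤ f → ¬ p ∣ f → Good p (finRotate (p ^ e)) b)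
    (b : Perm (Fin (p ^ e))) (S : Finset (Fin (p ^ e)))
    (hS : ∀ z, (finRotate (p ^ e) * b) z = z ↔ z ∉ S)
    (hc2 : S.card + 2 ≤ p ^ e) (hcp : ¬ p ∣ S.card)
    (x y : Fin (p ^ e)) (hxy : ((p ^ (e - 1) : ℕ) : ℤ) ∣ ((x : ℕ) : ℤ) - ((y : ℕ) : ℤ))
    (hb : ¬ (p : ℤ) ∣ (((b x : Fin (p ^ e)) : ℕ) : ℤ) - (((b y : Fin (p ^ e)) : ℕ) : ℤ)) :
    Good p (finRotate (p ^ e)) b := by
  have hfilt : (Finset.univ.filter
      (fun z : Fin (p ^ e) => (finRotate (p ^ e) * b) z = z)) = Sᶜ := by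
    ext z
    simp only [Finset.mem_filter, Finset.mem_univ, true_and, Finset.mem_compl]
    exact hS z
  have hcard : (Finset.univ.filter
      (fun z : Fin (p ^ e) => (finRotate (p ^ e) * b) z = z)).card = p ^ e - S.card := by
    rw [hfilt, Finset.card_compl, Fintype.card_fin]
  refine hgpc b x y hxy hb (p ^ e - S.card) hcard (by omega) ?_
  intro hdiv
  apply hcp
  have hpM : p ∣ p ^ e := dvd_pow_self p he
  have h1 := Nat.dvd_sub hpM hdiv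
  have h2 : p ^ e - (p ^ e - S.card) = S.card := by omega
  rwa [h2] at h1

/-- B0, with the statement of GPC as a hypothesis -/
theorem h43_b0_core (p : ℕ) (hp : p.Prime) (hp3 : 3 ≤ p) (e : ℕ) (h5 : 5 ≤ p ^ e)
    (hgpc : ∀ (b : Perm (Fin (p ^ e))) (x y : Fin (p ^ e)),
      ((p ^ (e - 1) : ℕ) : ℤ) ∣ ((x : ℕ) : ℤ) - ((y : ℕ) : ℤ) →
      ¬ (p : ℤ) ∣ (((b x : Fin (p ^ e)) : ℕ) : ℤ) - (((b y : Fin (p ^ e)) : ℕ) : ℤ) →
      ∀ f : ℕ, (Finset.univ.filter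
          (fun z : Fin (p ^ e) => (finRotate (p ^ e) * b) z = z)).card = f →
      2 ≤ f → ¬ p ∣ f → Good p (finRotate (p ^ e)) b) :
    ∃ b : Perm (Fin (p ^ e)), b.cycleType = {p ^ e} ∧ GoodBoth p (finRotate (p ^ e)) b := by
  have he : e ≠ 0 := by
    rintro rfl
    simp at h5
  have hq1 : 1 ≤ p ^ (e - 1) := Nat.one_le_pow _ _ hp.pos
  have hMq : p ^ e = p * p ^ (e - 1) := by
    conv_lhs => rw [← Nat.sub_add_cancel (Nat.one_le_iff_ne_zero.mpr he)]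
    rw [pow_succ, mul_comm]
  have h3q : 3 * p ^ (e - 1) ≤ p ^ e := by
    rw [hMq]; exact Nat.mul_le_mul_right _ hp3
  have hpq : p ^ (e - 1) = 1 ∨ p ∣ p ^ (e - 1) := by
    by_cases he1 : e - 1 = 0
    · left; rw [he1, pow_zero]
    · right; exact dvd_pow_self p he1
  have hyM : p ^ e - p ^ (e - 1) < p ^ e := by omega
  have hy4 : 4 ≤ p ^ e - p ^ (e - 1) := by omega
  have hyq : p ^ e - p ^ (e - 1) = p ^ (e - 1) * (p - 1) := by
    rw [hMq, Nat.mul_sub_one, mul_comm]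
  have hxy : ((p ^ (e - 1) : ℕ) : ℤ) ∣
      (((⟨0, by omega⟩ : Fin (p ^ e)) : ℕ) : ℤ) -
        (((⟨p ^ e - p ^ (e - 1), hyM⟩ : Fin (p ^ e)) : ℕ) : ℤ) := by
    show ((p ^ (e - 1) : ℕ) : ℤ) ∣ ((0 : ℕ) : ℤ) - ((p ^ e - p ^ (e - 1) : ℕ) : ℤ)
    rw [hyq]
    exact ⟨-((p - 1 : ℕ) : ℤ), by push_cast; ring⟩
  have harith : ∀ v : ℕ, (v = 1 ∨ (v = 2 ∧ p ≠ 3)) →
      ¬ (p : ℤ) ∣ (v : ℤ) - ((p ^ e - p ^ (e - 1) - 1 : ℕ) : ℤ) := by
    intro v hv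
    have := h43_arith p (p ^ (e - 1)) v hp3 hq1 (by rw [← hMq]; exact h5) hpq hv
    rw [← hMq] at this
    exact this
  by_cases hp3' : p = 3
  · -- p = 3
    have hq3 : 3 ≤ p ^ (e - 1) := by
      rcases hpq with h | h
      · rw [hMq, h, hp3'] at h5; omega
      · have := Nat.le_of_dvd (by omega) h
        omega
    have hM9 : 9 ≤ p ^ e := by omega
    have hy5 : 5 ≤ p ^ e - p ^ (e - 1) := by omega
    obtain ⟨a1, a2, a3, a4⟩ := h43_w02 (p ^ e) (by omega)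
    obtain ⟨c1, c2, c3, c4⟩ := h43_w0123 (p ^ e) (by omega)
    refine ⟨_, h43_cycleType_conj_rot (p ^ e) (by omega)
      (swap (⟨0, by omega⟩ : Fin (p ^ e)) ⟨2, by omega⟩), ?_, ?_⟩
    · refine h43_good_of p e he hgpc _ _ a1 (by rw [a2]; omega) ?_ _ _ hxy ?_
      · rw [a2, hp3']; decide
      · rw [a3, a4 _ hyM (by omega)]
        exact harith 1 (Or.inl rfl)
    · refine ⟨(swap (⟨0, by omega⟩ : Fin (p ^ e)) ⟨1, by omega⟩ *
          swap (⟨2, by omega⟩ : Fin (p ^ e)) ⟨3, by omega⟩) *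
          (swap (⟨0, by omega⟩ : Fin (p ^ e)) ⟨2, by omega⟩)⁻¹, ?_, ?_⟩
      · simp [Perm.sign_swap', Fin.ext_iff]
      · have hconj : (swap (⟨0, by omega⟩ : Fin (p ^ e)) ⟨1, by omega⟩ *
            swap (⟨2, by omega⟩ : Fin (p ^ e)) ⟨3, by omega⟩) *
            (swap (⟨0, by omega⟩ : Fin (p ^ e)) ⟨2, by omega⟩)⁻¹ *
            (swap (⟨0, by omega⟩ : Fin (p ^ e)) ⟨2, by omega⟩ * (finRotate (p ^ e))⁻¹ *
              (swap (⟨0, by omega⟩ : Fin (p ^ e)) ⟨2, by omega⟩)⁻¹) *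
            ((swap (⟨0, by omega⟩ : Fin (p ^ e)) ⟨1, by omega⟩ *
            swap (⟨2, by omega⟩ : Fin (p ^ e)) ⟨3, by omega⟩) *
            (swap (⟨0, by omega⟩ : Fin (p ^ e)) ⟨2, by omega⟩)⁻¹)⁻¹ =
            swap (⟨0, by omega⟩ : Fin (p ^ e)) ⟨1, by omega⟩ *
              swap (⟨2, by omega⟩ : Fin (p ^ e)) ⟨3, by omega⟩ * (finRotate (p ^ e))⁻¹ *
            (swap (⟨0, by omega⟩ : Fin (p ^ e)) ⟨1, by omega⟩ *
              swap (⟨2, by omega⟩ : Fin (p ^ e)) ⟨3, by omega⟩)⁻¹ := by group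
        rw [hconj]
        refine h43_good_of p e he hgpc _ _ c1 (by rw [c2]; omega) ?_ _ _ hxy ?_
        · rw [c2, hp3']; decide
        · rw [c3, c4 _ hyM hy5]
          exact harith 1 (Or.inl rfl)
  · -- p ≠ 3
    have hp5 : 5 ≤ p := by
      rcases Nat.lt_or_ge p 5 with h | h
      · exfalso
        have h4 : p ≠ 4 := by
          rintro rfl
          exact absurd hp (by decide)
        omega
      · exact h
    have hnd3 : ¬ p ∣ 3 := fun h => by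
      have := Nat.le_of_dvd (by omega) h
      omega
    obtain ⟨a1, a2, a3, a4⟩ := h43_w01 (p ^ e) h5
    obtain ⟨c1, c2, c3, c4⟩ := h43_w012 (p ^ e) h5
    refine ⟨_, h43_cycleType_conj_rot (p ^ e) (by omega)
      (swap (⟨0, by omega⟩ : Fin (p ^ e)) ⟨1, by omega⟩), ?_, ?_⟩
    · refine h43_good_of p e he hgpc _ _ a1 (by rw [a2]; omega) ?_ _ _ hxy ?_
      · rw [a2]; exact hnd3
      · rw [a3, a4 _ hyM (by omega)]
        exact harith 1 (Or.inl rfl)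
    · refine ⟨(swap (⟨0, by omega⟩ : Fin (p ^ e)) ⟨1, by omega⟩ *
          swap (⟨1, by omega⟩ : Fin (p ^ e)) ⟨2, by omega⟩) *
          (swap (⟨0, by omega⟩ : Fin (p ^ e)) ⟨1, by omega⟩)⁻¹, ?_, ?_⟩
      · simp [Perm.sign_swap', Fin.ext_iff]
      · have hconj : (swap (⟨0, by omega⟩ : Fin (p ^ e)) ⟨1, by omega⟩ *
            swap (⟨1, by omega⟩ : Fin (p ^ e)) ⟨2, by omega⟩) *
            (swap (⟨0, by omega⟩ : Fin (p ^ e)) ⟨1, by omega⟩)⁻¹ *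
            (swap (⟨0, by omega⟩ : Fin (p ^ e)) ⟨1, by omega⟩ * (finRotate (p ^ e))⁻¹ *
              (swap (⟨0, by omega⟩ : Fin (p ^ e)) ⟨1, by omega⟩)⁻¹) *
            ((swap (⟨0, by omega⟩ : Fin (p ^ e)) ⟨1, by omega⟩ *
            swap (⟨1, by omega⟩ : Fin (p ^ e)) ⟨2, by omega⟩) *
            (swap (⟨0, by omega⟩ : Fin (p ^ e)) ⟨1, by omega⟩)⁻¹)⁻¹ =
            swap (⟨0, by omega⟩ : Fin (p ^ e)) ⟨1, by omega⟩ *
              swap (⟨1, by omega⟩ : Fin (p ^ e)) ⟨2, by omega⟩ * (finRotate (p ^ e))⁻¹ *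
            (swap (⟨0, by omega⟩ : Fin (p ^ e)) ⟨1, by omega⟩ *
              swap (⟨1, by omega⟩ : Fin (p ^ e)) ⟨2, by omega⟩)⁻¹ := by group
        rw [hconj]
        refine h43_good_of p e he hgpc _ _ c1 (by rw [c2]; omega) ?_ _ _ hxy ?_
        · rw [c2]; exact hnd3
        · rw [c3, c4 _ hyM hy4]
          exact harith 2 (Or.inr ⟨rfl, hp3'⟩)

end Cfsg.Agent.Lib.helper95.AP
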