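import Mathlib
import Cfsg.Agent.Lib.helper95.APDefs
import Cfsg.Agent.Lib.helper43.APB0core
import Cfsg.Agent.Lib.helper29.APINTV

/-!
# S2276, piece B0 (racer copy by helper43): the verbatim statement, from `h43_b0_core` and the
landed racer copy `h29_gpc` of GPC.
-/

set_option autoImplicit false

namespace Cfsg.Agent.Lib.helper95.AP

open Equiv

/-- [B0] two full cycles; uses GPC (and PERF or NS for `p^e = 5`) -/
theorem h43_b0 (p : ℕ) (hp : p.Prime) (hp3 : 3 ≤ p) (e : ℕ) (h5 : 5 ≤ p ^ e) :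
    ∃ b : Perm (Fin (p ^ e)), b.cycleType = {p ^ e} ∧ GoodBoth p (finRotate (p ^ e)) b := by
  have he : 1 ≤ e := by
    rcases Nat.eq_zero_or_pos e with h | h
    · rw [h] at h5
      simp at h5
    · exact h
  exact h43_b0_core p hp hp3 e h5
    (fun b x y hxy hbxy f hf hf2 hfp => h29_gpc p hp hp3 e he b x y hxy hbxy f hf hf2 hfp)

end Cfsg.Agent.Lib.helper95.AP
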