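import Mathlib

set_option autoImplicit false

/-!
# Automorphisms of odd order of doubly transitive groups

Elementary matrix argument: if `G` is doubly transitive on `Ω` (`n` points), `α` is an
automorphism with `α ^ m = 1`, `m` odd, and `Δ` is a set of `k` points invariant under `α (G_o)`
with `gcd (k, n) = 1`, then `k = 1` or `k = n - 1`.
-/

namespace Cfsg.Agent.Lib.helper43

open Matrix

/-- Number-theoretic core. -/
theorem twotrans_nt {k n lam c d : ℤ} {m : ℕ} (hm : Odd m) (hn : 2 ≤ n) (hk1 : 1 ≤ k)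
    (hkn : k ≤ n - 1) (hcop : IsCoprime k n) (hlam0 : 0 ≤ lam)
    (h1 : k ^ 2 - k = lam * (n - 1)) (h2 : c ^ 2 = (k - lam) ^ m) (h3 : c + d * n = k ^ m) :
    k = 1 ∨ k = n - 1 := by
  obtain ⟨j, rfl⟩ := hm
  have hq1 : 1 ≤ k - lam := by
    by_contra hcon
    push Not at hcon
    have hlk : k ≤ lam := by linarith
    nlinarith
  -- natural numbers
  obtain ⟨Q, hQ⟩ : ∃ Q : ℕ, (Q : ℤ) = k - lam := ⟨(k - lam).toNat, Int.toNat_of_nonneg (by linarith)⟩
  have hQ1 : 1 ≤ Q := by exact_mod_cast (hQ ▸ hq1 : (1 : ℤ) ≤ (Q : ℤ))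
  have hC : c.natAbs ^ 2 = Q ^ (2 * j + 1) := by
    have : ((c.natAbs : ℤ)) ^ 2 = (Q : ℤ) ^ (2 * j + 1) := by
      rw [Int.natAbs_sq, hQ]; exact h2
    exact_mod_cast this
  have hdvd : Q ^ j ∣ c.natAbs := by
    have : (Q ^ j) ^ 2 ∣ c.natAbs ^ 2 := by
      rw [hC]
      exact ⟨Q, by ring⟩
    exact (Nat.pow_dvd_pow_iff (by norm_num : (2 : ℕ) ≠ 0)).mp this
  obtain ⟨s, hs⟩ := hdvd
  have hs2 : s ^ 2 = Q := by
    have h : (Q ^ j) ^ 2 * s ^ 2 = (Q ^ j) ^ 2 * Q := by
      have := hC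
      rw [hs] at this
      calc (Q ^ j) ^ 2 * s ^ 2 = (Q ^ j * s) ^ 2 := by ring
        _ = Q ^ (2 * j + 1) := this
        _ = (Q ^ j) ^ 2 * Q := by ring
    exact Nat.eq_of_mul_eq_mul_left (by positivity) h
  have hs1 : 1 ≤ s := by
    rcases Nat.eq_zero_or_pos s with h | h
    · subst h; simp at hs2; omega
    · exact h
  have hCs : c.natAbs = s ^ (2 * j + 1) := by
    rw [hs, ← hs2]; ring
  -- back to integers
  obtain ⟨S, hS⟩ : ∃ S : ℤ, S = (s : ℤ) := ⟨_, rfl⟩
  have hS1 : 1 ≤ S := by rw [hS]; exact_mod_cast hs1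
  have hS2 : S ^ 2 = k - lam := by rw [hS, ← hQ]; exact_mod_cast hs2
  have hcS : c = S ^ (2 * j + 1) ∨ c = -S ^ (2 * j + 1) := by
    have hCs' : (c.natAbs : ℤ) = S ^ (2 * j + 1) := by rw [hS]; exact_mod_cast hCs
    rcases Int.natAbs_eq c with h | h
    · left; rw [h, hCs']
    · right; rw [h, hCs']
  have hSk : S ≤ k := by nlinarith
  have hmod : n ∣ k ^ 2 - S ^ 2 := ⟨lam, by rw [hS2]; linarith⟩
  have hSn : IsCoprime S n := by
    have h : IsCoprime (k ^ 2 + n * (-lam)) n := (hcop.pow_left).add_mul_left_left (-lam)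
    have e : k ^ 2 + n * (-lam) = S * S := by rw [← sq, hS2]; linarith
    rw [e] at h
    exact h.of_mul_left_left
  have hdvd1 : n ∣ k ^ (2 * j + 1) - k * S ^ (2 * j) := by
    have h : k ^ 2 - S ^ 2 ∣ (k ^ 2) ^ j - (S ^ 2) ^ j := sub_dvd_pow_sub_pow _ _ _
    have e : k ^ (2 * j + 1) - k * S ^ (2 * j) = k * ((k ^ 2) ^ j - (S ^ 2) ^ j) := by ring
    rw [e]
    exact Dvd.dvd.mul_left (hmod.trans h) k
  have hdvd2 : n ∣ k ^ (2 * j + 1) - c := ⟨d, by linarith⟩
  have hdvd3 : n ∣ c - k * S ^ (2 * j) := by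
    have := dvd_sub hdvd1 hdvd2
    have e : k ^ (2 * j + 1) - k * S ^ (2 * j) - (k ^ (2 * j + 1) - c) = c - k * S ^ (2 * j) := by
      ring
    rwa [e] at this
  have hcopP : IsCoprime n (S ^ (2 * j)) := hSn.symm.pow_right
  rcases hcS with hc | hc
  · -- n ∣ k - S
    have h : n ∣ (S - k) * S ^ (2 * j) := by
      have e : c - k * S ^ (2 * j) = (S - k) * S ^ (2 * j) := by rw [hc]; ring
      rwa [e] at hdvd3
    have h' : n ∣ S - k := hcopP.dvd_of_dvd_mul_right h
    have hkS : k = S := by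
      by_contra hne
      have hpos : 0 < k - S := by
        rcases lt_or_eq_of_le hSk with h | h
        · linarith
        · exact absurd h.symm hne
      have : n ∣ k - S := by
        have := dvd_neg.mpr h'
        rwa [neg_sub] at this
      have := Int.le_of_dvd hpos this
      linarith
    left
    have : S ≤ 1 := by nlinarith
    linarith
  · -- n ∣ k + S
    have h : n ∣ (-(S + k)) * S ^ (2 * j) := by
      have e : c - k * S ^ (2 * j) = (-(S + k)) * S ^ (2 * j) := by rw [hc]; ring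
      rwa [e] at hdvd3
    have h' : n ∣ -(S + k) := hcopP.dvd_of_dvd_mul_right h
    have h'' : n ∣ S + k := (dvd_neg).mp h'
    obtain ⟨t, ht⟩ := h''
    have ht1 : t = 1 := by
      have hpos : 0 < n * t := by rw [← ht]; linarith
      have hlt : n * t < n * 2 := by rw [← ht]; linarith
      have h0 : 0 < t := by
        by_contra hcon
        push Not at hcon
        nlinarith
      have h2 : t < 2 := by
        by_contra hcon
        push Not at hcon
        nlinarith
      omega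
    subst ht1
    right
    have hSnk : S = n - k := by linarith
    have e1 : S ^ 2 * (n - 1) = k * S := by
      rw [hS2, hSnk]
      have : lam * (n - 1) = k ^ 2 - k := h1.symm
      nlinarith
    have e2 : S * (n - 1) = k := by
      have : S * (S * (n - 1) - k) = 0 := by nlinarith
      rcases mul_eq_zero.mp this with h | h
      · linarith
      · linarith
    nlinarith

section Mat

variable {Ω : Type*} [Fintype Ω] [DecidableEq Ω]

/-- The matrix `u • 1 + v • J`, `J` the all-ones matrix. -/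
def ijMat (Ω : Type*) [Fintype Ω] [DecidableEq Ω] (u v : ℤ) : Matrix Ω Ω ℤ :=
  Matrix.of fun x y => if x = y then u + v else v

theorem ijMat_apply (u v : ℤ) (x y : Ω) : ijMat Ω u v x y = if x = y then u + v else v := rfl

theorem ijMat_transpose (u v : ℤ) : (ijMat Ω u v)ᵀ = ijMat Ω u v := by
  ext x y
  simp only [transpose_apply, ijMat_apply]
  by_cases h : x = y
  · subst h; simp
  · rw [if_neg h, if_neg (Ne.symm h)]

theorem ijMat_mul (u v u' v' : ℤ) :
    ijMat Ω u v * ijMat Ω u' v' =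
      ijMat Ω (u * u') (u * v' + v * u' + v * v' * (Fintype.card Ω : ℤ)) := by
  ext x y
  simp only [mul_apply, ijMat_apply]
  have e1 : ∀ z : Ω, (if x = z then u + v else v) * (if z = y then u' + v' else v') =
      v * v' + (if x = z then u * (if z = y then u' + v' else v') else 0) +
        (if z = y then v * u' else 0) := by
    intro z
    by_cases h1 : x = z
    · subst h1
      by_cases h2 : x = y
      · subst h2; simp; ring
      · simp [h2]; ring
    · by_cases h2 : z = y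
      · subst h2; simp [h1]; ring
      · simp [h1, h2]
  rw [Finset.sum_congr rfl (fun z _ => e1 z), Finset.sum_add_distrib, Finset.sum_add_distrib,
    Finset.sum_ite_eq, Finset.sum_ite_eq', Finset.sum_const, Finset.card_univ]
  simp only [Finset.mem_univ, if_true, nsmul_eq_mul]
  by_cases h : x = y
  · simp [h]; ring
  · simp [h]; ring

theorem ijMat_inj {u v u' v' : ℤ} {a b : Ω} (hab : a ≠ b) (h : ijMat Ω u v = ijMat Ω u' v') :
    u = u' ∧ v = v' := by
  have h1 := congrFun (congrFun h a) b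
  have h2 := congrFun (congrFun h a) a
  simp only [ijMat_apply, if_neg hab, if_true] at h1 h2
  exact ⟨by linarith, h1⟩

theorem ijMat_one : ijMat Ω 1 0 = 1 := by
  ext x y
  simp [ijMat_apply, Matrix.one_apply]

theorem ijMat_smul (t u v : ℤ) : t • ijMat Ω u v = ijMat Ω (t * u) (t * v) := by
  ext x y
  simp only [Matrix.smul_apply, ijMat_apply, smul_eq_mul]
  split_ifs <;> ring

theorem ijMat_add (u v u' v' : ℤ) : ijMat Ω u v + ijMat Ω u' v' = ijMat Ω (u + u') (v + v') := by
  ext x y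
  simp only [Matrix.add_apply, ijMat_apply]
  split_ifs <;> ring

variable {G : Type*} [Group G] [MulAction G Ω]

/-- Matrix core. -/
theorem twotrans_matrix (ht : ∀ x y : Ω, ∃ g : G, g • x = y)
    (h2 : ∀ x x' y y' : Ω, x ≠ x' → y ≠ y' → ∃ g : G, g • x = y ∧ g • x' = y')
    (α : MulAut G) (m : ℕ) (hαm : α ^ m = 1) (A : Matrix Ω Ω ℤ)
    (h01 : ∀ x y, A x y = 0 ∨ A x y = 1)
    (hT : ∀ (g : G) (x y : Ω), A (α g • x) (g • y) = A x y)
    (k : ℤ) (hcol : ∀ y, ∑ x, A x y = k) (a b : Ω) (hab : a ≠ b) :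
    ∃ lam c d : ℤ, 0 ≤ lam ∧ k ^ 2 - k = lam * ((Fintype.card Ω : ℤ) - 1) ∧
      c ^ 2 = (k - lam) ^ m ∧ c + d * (Fintype.card Ω : ℤ) = k ^ m := by
  have hn0 : (Fintype.card Ω : ℤ) ≠ 0 := by
    have : 0 < Fintype.card Ω := Fintype.card_pos_iff.mpr ⟨a⟩
    exact_mod_cast this.ne'
  -- α-twisted transitivity
  have htα : ∀ x y : Ω, ∃ g : G, α g • x = y := by
    intro x y
    obtain ⟨h, hh⟩ := ht x y
    exact ⟨α⁻¹ h, by rw [MulAut.apply_inv_self]; exact hh⟩
  have h2α : ∀ x x' y y' : Ω, x ≠ x' → y ≠ y' → ∃ g : G, α g • x = y ∧ α g • x' = y' := by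
    intro x x' y y' hx hy
    obtain ⟨h, hh⟩ := h2 x x' y y' hx hy
    exact ⟨α⁻¹ h, by rw [MulAut.apply_inv_self]; exact hh⟩
  -- row sums
  have hrowinv : ∀ (g : G) (x : Ω), ∑ y, A (α g • x) y = ∑ y, A x y := by
    intro g x
    calc ∑ y, A (α g • x) y = ∑ y, A (α g • x) (g • y) :=
          (Equiv.sum_comp (MulAction.toPerm g) (fun y => A (α g • x) y)).symm
      _ = ∑ y, A x y := Finset.sum_congr rfl (fun y _ => hT g x y)
  have hrow : ∀ x, ∑ y, A x y = k := by
    have hconst : ∀ x, ∑ y, A x y = ∑ y, A a y := by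
      intro x
      obtain ⟨g, hg⟩ := htα a x
      rw [← hg, hrowinv]
    have htot : ∑ x, ∑ y, A x y = (Fintype.card Ω : ℤ) * k := by
      have hsw : ∑ x, ∑ y, A x y = ∑ y, ∑ x, A x y := Finset.sum_comm
      rw [hsw, Finset.sum_congr rfl (fun y _ => hcol y), Finset.sum_const,
        Finset.card_univ, nsmul_eq_mul]
    have htot' : ∑ x, ∑ y, A x y = (Fintype.card Ω : ℤ) * ∑ y, A a y := by
      rw [Finset.sum_congr rfl (fun x _ => hconst x), Finset.sum_const, Finset.card_univ,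
        nsmul_eq_mul]
    intro x
    rw [hconst x]
    exact mul_left_cancel₀ hn0 (htot'.symm.trans htot)
  -- J relations
  have hAJ : A * ijMat Ω 0 1 = ijMat Ω 0 k := by
    ext x y
    simp only [mul_apply, ijMat_apply]
    simp [hrow x]
  have hJAt : ijMat Ω 0 1 * Aᵀ = ijMat Ω 0 k := by
    ext x y
    simp only [mul_apply, ijMat_apply, transpose_apply]
    simp [hrow y]
  have hAtJ : Aᵀ * ijMat Ω 0 1 = ijMat Ω 0 k := by
    ext x y
    simp only [mul_apply, ijMat_apply, transpose_apply]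
    simp [hcol x]
  -- Gram matrix
  have hgraminv : ∀ (g : G) (x x' : Ω), (A * Aᵀ) (α g • x) (α g • x') = (A * Aᵀ) x x' := by
    intro g x x'
    simp only [mul_apply, transpose_apply]
    calc ∑ y, A (α g • x) y * A (α g • x') y
        = ∑ y, A (α g • x) (g • y) * A (α g • x') (g • y) :=
          (Equiv.sum_comp (MulAction.toPerm g) (fun y => A (α g • x) y * A (α g • x') y)).symm
      _ = ∑ y, A x y * A x' y := Finset.sum_congr rfl (fun y _ => by rw [hT, hT])
  obtain ⟨lam, hlam⟩ : ∃ lam : ℤ, lam = (A * Aᵀ) a b := ⟨_, rfl⟩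
  have hlam0 : 0 ≤ lam := by
    rw [hlam]
    simp only [mul_apply, transpose_apply]
    apply Finset.sum_nonneg
    intro y _
    rcases h01 a y with h | h <;> rcases h01 b y with h' | h' <;> simp [h, h']
  have hgram : A * Aᵀ = ijMat Ω (k - lam) lam := by
    ext x x'
    rw [ijMat_apply]
    by_cases h : x = x'
    · subst h
      rw [if_pos rfl]
      simp only [mul_apply, transpose_apply]
      have : ∀ y, A x y * A x y = A x y := by
        intro y
        rcases h01 x y with h | h <;> simp [h]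
      rw [Finset.sum_congr rfl (fun y _ => this y), hrow x]
      ring
    · rw [if_neg h]
      obtain ⟨g, hg1, hg2⟩ := h2α a b x x' hab h
      rw [← hg1, ← hg2, hgraminv, hlam]
  -- (iv)
  have hD : k ^ 2 - k = lam * ((Fintype.card Ω : ℤ) - 1) := by
    have e1 : (A * Aᵀ) * ijMat Ω 0 1 = ijMat Ω 0 (k * k) := by
      rw [Matrix.mul_assoc, hAtJ]
      have : ijMat Ω 0 k = k • ijMat Ω 0 1 := by rw [ijMat_smul]; simp
      rw [this, Matrix.mul_smul, hAJ, ijMat_smul]
      simp
    rw [hgram, ijMat_mul] at e1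
    have := (ijMat_inj hab e1).2
    linarith
  -- powers: invariance
  have hpowinv : ∀ (j : ℕ) (g : G) (x y : Ω), (A ^ j) ((α ^ j) g • x) (g • y) = (A ^ j) x y := by
    intro j
    induction j with
    | zero =>
      intro g x y
      simp only [pow_zero, MulAut.one_apply, Matrix.one_apply]
      by_cases h : x = y
      · subst h; simp
      · rw [if_neg h, if_neg]
        intro h'
        exact h (MulAction.injective g h')
    | succ j ih =>
      intro g x y
      rw [pow_succ, mul_apply, mul_apply]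
      calc ∑ z, (A ^ j) ((α ^ (j + 1)) g • x) z * A z (g • y)
          = ∑ z, (A ^ j) ((α ^ (j + 1)) g • x) (α g • z) * A (α g • z) (g • y) :=
            (Equiv.sum_comp (MulAction.toPerm (α g))
              (fun z => (A ^ j) ((α ^ (j + 1)) g • x) z * A z (g • y))).symm
        _ = ∑ z, (A ^ j) x z * A z y := by
            apply Finset.sum_congr rfl
            intro z _
            have e : (α ^ (j + 1)) g = (α ^ j) (α g) := by
              rw [pow_succ, MulAut.mul_apply]
            rw [e, ih (α g) x z, hT]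
  have hminv : ∀ (g : G) (x y : Ω), (A ^ m) (g • x) (g • y) = (A ^ m) x y := by
    intro g x y
    have := hpowinv m g x y
    rwa [hαm, MulAut.one_apply] at this
  obtain ⟨d, hd⟩ : ∃ d : ℤ, d = (A ^ m) a b := ⟨_, rfl⟩
  obtain ⟨c, hc⟩ : ∃ c : ℤ, c = (A ^ m) a a - d := ⟨_, rfl⟩
  have hAm : A ^ m = ijMat Ω c d := by
    ext x y
    rw [ijMat_apply]
    by_cases h : x = y
    · subst h
      rw [if_pos rfl]
      obtain ⟨g, hg⟩ := ht a x
      rw [← hg, hminv, hc]
      ring
    · rw [if_neg h]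
      obtain ⟨g, hg1, hg2⟩ := h2 a b x y hab h
      rw [← hg1, ← hg2, hminv, hd]
  -- powers times J
  have hpowJ : ∀ j : ℕ, A ^ j * ijMat Ω 0 1 = ijMat Ω 0 (k ^ j) := by
    intro j
    induction j with
    | zero => simp
    | succ j ih =>
      rw [pow_succ, Matrix.mul_assoc, hAJ]
      have : ijMat Ω 0 k = k • ijMat Ω 0 1 := by rw [ijMat_smul]; simp
      rw [this, Matrix.mul_smul, ih, ijMat_smul]
      congr 1
      · ring
      · ring
  have hJpow : ∀ j : ℕ, ijMat Ω 0 1 * Aᵀ ^ j = ijMat Ω 0 (k ^ j) := by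
    intro j
    induction j with
    | zero => simp
    | succ j ih =>
      rw [pow_succ', ← Matrix.mul_assoc, hJAt]
      have : ijMat Ω 0 k = k • ijMat Ω 0 1 := by rw [ijMat_smul]; simp
      rw [this, Matrix.smul_mul, ih, ijMat_smul]
      congr 1
      · ring
      · ring
  have hsum : c + d * (Fintype.card Ω : ℤ) = k ^ m := by
    have e := hpowJ m
    rw [hAm, ijMat_mul] at e
    have := (ijMat_inj hab e).2
    linarith
  -- A^j (Aᵀ)^j
  have hpp : ∀ j : ℕ, ∃ e : ℤ, A ^ j * Aᵀ ^ j = ijMat Ω ((k - lam) ^ j) e := by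
    intro j
    induction j with
    | zero => exact ⟨0, by simp [ijMat_one]⟩
    | succ j ih =>
      obtain ⟨e, he⟩ := ih
      refine ⟨(k - lam) * e + lam * (k ^ j * k ^ j), ?_⟩
      have e1 : A ^ (j + 1) * Aᵀ ^ (j + 1) = A ^ j * (A * Aᵀ) * Aᵀ ^ j := by
        rw [pow_succ, pow_succ']
        simp only [Matrix.mul_assoc]
      have e2 : ijMat Ω (k - lam) lam = (k - lam) • (1 : Matrix Ω Ω ℤ) + lam • ijMat Ω 0 1 := by
        rw [← ijMat_one, ijMat_smul, ijMat_smul, ijMat_add]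
        congr 1 <;> ring
      rw [e1, hgram, e2, Matrix.mul_add, Matrix.add_mul, Matrix.mul_smul, Matrix.smul_mul,
        Matrix.mul_one, he, Matrix.mul_smul, Matrix.smul_mul, hpowJ]
      have e3 : ijMat Ω 0 (k ^ j) * Aᵀ ^ j = ijMat Ω 0 (k ^ j * k ^ j) := by
        have : ijMat Ω 0 (k ^ j) = (k ^ j) • ijMat Ω 0 1 := by rw [ijMat_smul]; simp
        rw [this, Matrix.smul_mul, hJpow, ijMat_smul]
        simp
      rw [e3, ijMat_smul, ijMat_smul, ijMat_add]
      congr 1 <;> ring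
  obtain ⟨e, he⟩ := hpp m
  have hc2 : c ^ 2 = (k - lam) ^ m := by
    have e1 : A ^ m * Aᵀ ^ m = ijMat Ω c d * ijMat Ω c d := by
      rw [← Matrix.transpose_pow, hAm, ijMat_transpose]
    rw [he, ijMat_mul] at e1
    have := (ijMat_inj hab e1).1
    linarith
  exact ⟨lam, c, d, hlam0, hD, hc2, hsum⟩

/-- Abstract form: a set `Δ` of `k` points invariant under `α (G_o)`, `gcd (k, n) = 1`,
`α` of odd order, `G` doubly transitive: `k = 1` or `k = n - 1`. -/
theorem twotrans_odd_aut_card (ht : ∀ x y : Ω, ∃ g : G, g • x = y)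
    (h2 : ∀ x x' y y' : Ω, x ≠ x' → y ≠ y' → ∃ g : G, g • x = y ∧ g • x' = y')
    (α : MulAut G) (m : ℕ) (hm : Odd m) (hαm : α ^ m = 1) (o : Ω) (Δ : Finset Ω)
    (hΔ : ∀ g : G, g • o = o → ∀ x : Ω, α g • x ∈ Δ ↔ x ∈ Δ)
    (hcop : Nat.Coprime Δ.card (Fintype.card Ω)) (hn : 2 ≤ Fintype.card Ω) :
    Δ.card = 1 ∨ Δ.card = Fintype.card Ω - 1 := by
  choose c hc using fun y => ht o y
  obtain ⟨A, hA⟩ : ∃ A : Matrix Ω Ω ℤ,
      A = Matrix.of fun x y => if (α (c y))⁻¹ • x ∈ Δ then (1 : ℤ) else 0 := ⟨_, rfl⟩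
  have hAapp : ∀ x y, A x y = if (α (c y))⁻¹ • x ∈ Δ then (1 : ℤ) else 0 := by
    intro x y; rw [hA]; rfl
  have h01 : ∀ x y, A x y = 0 ∨ A x y = 1 := by
    intro x y
    rw [hAapp]
    split_ifs
    · right; rfl
    · left; rfl
  have hT : ∀ (g : G) (x y : Ω), A (α g • x) (g • y) = A x y := by
    intro g x y
    rw [hAapp, hAapp]
    have hu : ((c (g • y))⁻¹ * g * c y) • o = o := by
      rw [mul_smul, mul_smul, hc y, inv_smul_eq_iff, hc]
    have key := hΔ _ hu ((α (c y))⁻¹ • x)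
    have e : α ((c (g • y))⁻¹ * g * c y) • (α (c y))⁻¹ • x = (α (c (g • y)))⁻¹ • α g • x := by
      rw [map_mul, map_mul, map_inv, mul_smul, mul_smul, smul_inv_smul]
    rw [e] at key
    by_cases h : (α (c y))⁻¹ • x ∈ Δ
    · rw [if_pos h, if_pos (key.mpr h)]
    · rw [if_neg h, if_neg (fun h' => h (key.mp h'))]
  have hcol : ∀ y, ∑ x, A x y = (Δ.card : ℤ) := by
    intro y
    calc ∑ x, A x y = ∑ x, (if (α (c y))⁻¹ • x ∈ Δ then (1 : ℤ) else 0) :=
          Finset.sum_congr rfl (fun x _ => hAapp x y)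
      _ = ∑ x, (if x ∈ Δ then (1 : ℤ) else 0) :=
          Equiv.sum_comp (MulAction.toPerm (α (c y))⁻¹) (fun x => if x ∈ Δ then (1 : ℤ) else 0)
      _ = (Δ.card : ℤ) := by
          rw [Finset.sum_ite_mem, Finset.univ_inter, Finset.sum_const, nsmul_eq_mul, mul_one]
  obtain ⟨a, b, hab⟩ := Fintype.exists_pair_of_one_lt_card (by omega : 1 < Fintype.card Ω)
  obtain ⟨lam, cc, d, hlam0, hD, hc2, hsum⟩ :=
    twotrans_matrix ht h2 α m hαm A h01 hT (Δ.card : ℤ) hcol a b hab
  have hk0 : Δ.card ≠ 0 := by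
    intro h
    rw [h, Nat.coprime_zero_left] at hcop
    omega
  have hkn : Δ.card ≠ Fintype.card Ω := by
    intro h
    rw [h, Nat.coprime_self] at hcop
    omega
  have hkle : Δ.card ≤ Fintype.card Ω := Finset.card_le_univ Δ
  have hres := twotrans_nt (k := (Δ.card : ℤ)) (n := (Fintype.card Ω : ℤ)) hm
    (by exact_mod_cast hn) (by omega) (by omega) (Nat.isCoprime_iff_coprime.mpr hcop) hlam0 hD hc2
    hsum
  omega

end Mat

end Cfsg.Agent.Lib.helper43
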