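import Mathlib
import Cfsg.Agent.Lib.helper43.AutTwoTrans
import Cfsg.Agent.S4275

set_option autoImplicit false

/-!
# Odd-order automorphisms of doubly transitive permutation groups are induced by permutations
-/

namespace Cfsg.Agent.Lib.helper43

open MulAction

/-- `G` doubly transitive on `Ω`, `α` an automorphism of odd order, and `α (G_o)` has an orbit of
length coprime to `|Ω|`: then `α` is induced by a permutation normalizing `G`, and the orbit has
length `1` or `|Ω| - 1`. -/
theorem aut_induced_of_orbit_coprime {Ω : Type*} [Fintype Ω] (G : Subgroup (Equiv.Perm Ω))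
    (h2 : MulAction.IsMultiplyPretransitive G Ω 2) (o : Ω) (α : MulAut G) (hα : Odd (orderOf α))
    (ω : Ω)
    (hk : (Nat.card (MulAction.orbit ((MulAction.stabilizer G o).map α.toMonoidHom) ω)).Coprime
      (Fintype.card Ω)) :
    (∃ σ : Equiv.Perm Ω, σ ∈ Subgroup.normalizer (G : Set (Equiv.Perm Ω)) ∧
      ∀ g : G, ((α g : G) : Equiv.Perm Ω) = σ * (g : Equiv.Perm Ω) * σ⁻¹) ∧
    (Nat.card (MulAction.orbit ((MulAction.stabilizer G o).map α.toMonoidHom) ω) = 1 ∨
      Nat.card (MulAction.orbit ((MulAction.stabilizer G o).map α.toMonoidHom) ω) =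
        Fintype.card Ω - 1) := by
  classical
  haveI htr : MulAction.IsPretransitive G Ω := MulAction.isPretransitive_of_is_two_pretransitive
  have hmemH' : ∀ g : G, g • o = o → α g ∈ (MulAction.stabilizer G o).map α.toMonoidHom :=
    fun g hg => Subgroup.mem_map.mpr ⟨g, MulAction.mem_stabilizer_iff.mpr hg, rfl⟩
  have hS : ∀ (K : Subgroup G) (ω : Ω), (∀ g : G, g • o = o → α g ∈ K) →
      (∀ ω' : Ω, (∀ g ∈ K, g • ω' = ω') →
        ∃ σ : Equiv.Perm Ω, σ ∈ Subgroup.normalizer (G : Set (Equiv.Perm Ω)) ∧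
          ∀ g : G, ((α g : G) : Equiv.Perm Ω) = σ * (g : Equiv.Perm Ω) * σ⁻¹) →
      (Nat.card (MulAction.orbit K ω)).Coprime (Fintype.card Ω) →
      (∃ σ : Equiv.Perm Ω, σ ∈ Subgroup.normalizer (G : Set (Equiv.Perm Ω)) ∧
        ∀ g : G, ((α g : G) : Equiv.Perm Ω) = σ * (g : Equiv.Perm Ω) * σ⁻¹) ∧
      (Nat.card (MulAction.orbit K ω) = 1 ∨
        Nat.card (MulAction.orbit K ω) = Fintype.card Ω - 1) := by
    intro K ω hmemK hfixK hk
    have horb_inv : ∀ h ∈ K, ∀ x : Ω, h • x ∈ MulAction.orbit K ω ↔ x ∈ MulAction.orbit K ω := by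
      intro h hh x
      constructor
      · intro hx
        obtain ⟨u, hu⟩ := MulAction.mem_orbit_iff.mp hx
        refine MulAction.mem_orbit_iff.mpr ⟨(⟨h, hh⟩ : K)⁻¹ * u, ?_⟩
        have hu' : u • ω = (⟨h, hh⟩ : K) • x := hu
        rw [mul_smul, hu', inv_smul_smul]
      · intro hx
        obtain ⟨u, rfl⟩ := MulAction.mem_orbit_iff.mp hx
        exact MulAction.mem_orbit_iff.mpr ⟨(⟨h, hh⟩ : K) * u, by rw [mul_smul]; rfl⟩
    obtain ⟨Δ, hΔdef⟩ : ∃ Δ : Finset Ω, Δ = (MulAction.orbit K ω).toFinset := ⟨_, rfl⟩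
    have hΔ : ∀ x, x ∈ Δ ↔ x ∈ MulAction.orbit K ω := by
      intro x; rw [hΔdef, Set.mem_toFinset]
    have hcard : Nat.card (MulAction.orbit K ω) = Δ.card := by
      rw [hΔdef, Nat.card_coe_set_eq, Set.ncard_eq_toFinset_card']
    have hpos : 0 < Fintype.card Ω := Fintype.card_pos_iff.mpr ⟨o⟩
    have hcase : Nat.card (MulAction.orbit K ω) = 1 ∨
        Nat.card (MulAction.orbit K ω) = Fintype.card Ω - 1 := by
      by_cases hn : 2 ≤ Fintype.card Ω
      · rw [hcard]
        refine twotrans_odd_aut_card (G := G) (Ω := Ω)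
          (fun x y => MulAction.exists_smul_eq G x y)
          (fun x x' y y' hx hy => (MulAction.is_two_pretransitive_iff.mp h2) hx hy)
          α (orderOf α) hα (pow_orderOf_eq_one α) o Δ ?_ ?_ hn
        · intro g hg x
          rw [hΔ, hΔ]
          exact horb_inv (α g) (hmemK g hg) x
        · rw [← hcard]; exact hk
      · left
        have hsub : Subsingleton Ω := Fintype.card_le_one_iff_subsingleton.mp (by omega)
        rw [Nat.card_eq_one_iff_unique]
        exact ⟨inferInstance, ⟨⟨ω, MulAction.mem_orbit_self ω⟩⟩⟩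
    refine ⟨?_, hcase⟩
    rcases hcase with h1 | h1
    · apply hfixK ω
      intro g hg
      have hs : Subsingleton (MulAction.orbit K ω) := (Nat.card_eq_one_iff_unique.mp h1).1
      have hmem : g • ω ∈ MulAction.orbit K ω := MulAction.mem_orbit_iff.mpr ⟨⟨g, hg⟩, rfl⟩
      have := Subsingleton.elim (⟨g • ω, hmem⟩ : MulAction.orbit K ω)
        ⟨ω, MulAction.mem_orbit_self ω⟩
      exact congrArg Subtype.val this
    · have hc : Δᶜ.card = 1 := by
        rw [Finset.card_compl, ← hcard, h1]
        omega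
      obtain ⟨ω', hω'⟩ := Finset.card_eq_one.mp hc
      apply hfixK ω'
      intro g hg
      have hmem : ω' ∈ Δᶜ := by rw [hω']; exact Finset.mem_singleton_self _
      have hnot : ω' ∉ MulAction.orbit K ω := by
        rw [Finset.mem_compl, hΔ] at hmem
        exact hmem
      have hmem2 : g • ω' ∈ Δᶜ := by
        rw [Finset.mem_compl, hΔ, horb_inv g hg]
        exact hnot
      rw [hω', Finset.mem_singleton] at hmem2
      exact hmem2
  exact hS _ ω hmemH' (fun ω' hω' => (Cfsg.Agent.S4275.result G htr o α).mpr ⟨ω', hω'⟩) hk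

/-- `G` doubly transitive with Hall point stabilizer: every automorphism of odd order is induced
by a permutation normalizing `G`. -/
theorem aut_induced_of_hall {Ω : Type*} [Fintype Ω] (G : Subgroup (Equiv.Perm Ω))
    (h2 : MulAction.IsMultiplyPretransitive G Ω 2) (o : Ω)
    (hHall : (Nat.card (MulAction.stabilizer G o)).Coprime (MulAction.stabilizer G o).index)
    (α : MulAut G) (hα : Odd (orderOf α)) :
    ∃ σ : Equiv.Perm Ω, σ ∈ Subgroup.normalizer (G : Set (Equiv.Perm Ω)) ∧
      ∀ g : G, ((α g : G) : Equiv.Perm Ω) = σ * (g : Equiv.Perm Ω) * σ⁻¹ := by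
  classical
  haveI htr : MulAction.IsPretransitive G Ω := MulAction.isPretransitive_of_is_two_pretransitive
  refine (aut_induced_of_orbit_coprime G h2 o α hα o ?_).1
  have hidx : (MulAction.stabilizer G o).index = Fintype.card Ω := by
    rw [MulAction.index_stabilizer_of_transitive, Nat.card_eq_fintype_card]
  rw [hidx] at hHall
  have hgen : ∀ K : Subgroup G, Nat.card K = Nat.card (MulAction.stabilizer G o) →
      Nat.card (MulAction.orbit K o) ∣ Nat.card (MulAction.stabilizer G o) := by
    intro K hK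
    have h1 : Nat.card (MulAction.orbit K o) = (MulAction.stabilizer K o).index := by
      rw [MulAction.index_stabilizer, Nat.card_coe_set_eq]
    rw [h1, ← hK]
    exact Subgroup.index_dvd_card _
  exact Nat.Coprime.coprime_dvd_left
    (hgen _ (Subgroup.card_map_of_injective (MulEquiv.injective α))) hHall

end Cfsg.Agent.Lib.helper43
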