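import Mathlib
import Cfsg.Agent.Lib.helper29.OmegaFix

/-!
S1421 piece PM: a `p'`-automorphism of an abelian `p`-group that is a power map on `Ω_1` is a
power map (`bg8_power_map`).
-/

set_option autoImplicit false

namespace Cfsg.Agent.Lib.helper43

/-- arithmetic: for `p ∤ k` there is `K'` with `K' * k ≡ 1 [MOD p]` and
`K' ^ (p - 1) ≡ 1 [MOD p ^ n]`. -/
theorem pm_arith (p : ℕ) [hp : Fact p.Prime] (k n : ℕ) (hk : ¬ p ∣ k) :
    ∃ K : ℕ, K * k ≡ 1 [MOD p] ∧ K ^ (p - 1) ≡ 1 [MOD p ^ n] := by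
  refine ⟨(k ^ (p - 2)) ^ (p ^ n), ?_, ?_⟩
  · have hk0 : (k : ZMod p) ≠ 0 := by
      intro h
      exact hk ((ZMod.natCast_eq_zero_iff k p).mp h)
    rw [← ZMod.natCast_eq_natCast_iff]
    push_cast
    rw [ZMod.pow_card_pow, ← pow_succ]
    have h2 : p - 2 + 1 = p - 1 := by
      have := hp.out.two_le
      omega
    rw [h2]
    exact ZMod.pow_card_sub_one_eq_one hk0
  · have hcop : Nat.Coprime (k ^ (p - 2)) (p ^ (n + 1)) := by
      apply Nat.Coprime.pow
      exact ((Nat.Prime.coprime_iff_not_dvd hp.out).mpr hk).symm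
    have h1 := Nat.ModEq.pow_totient hcop
    rw [Nat.totient_prime_pow_succ hp.out] at h1
    rw [← pow_mul]
    exact Nat.ModEq.of_dvd (pow_dvd_pow p (Nat.le_succ n)) h1

theorem bg8_power_map {G : Type*} [Group G] [Finite G] (p : ℕ) [Fact p.Prime] (S : Subgroup G)
    (hS : IsPGroup p S) (hSab : ∀ x ∈ S, ∀ y ∈ S, x * y = y * x) (e : G)
    (heS : e ∈ Subgroup.normalizer (S : Set G)) (m : ℕ) (hm : m.Coprime p)
    (hem : e ^ m ∈ Subgroup.centralizer (S : Set G)) (k : ℕ)
    (hk : ∀ a ∈ S, a ^ p = 1 → e * a * e⁻¹ = a ^ k) :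
    ∀ s ∈ S, e * s * e⁻¹ ∈ Subgroup.zpowers s := by
  have hp : p.Prime := Fact.out
  by_cases hbot : S = ⊥
  · intro s hs
    rw [hbot, Subgroup.mem_bot] at hs
    rw [hs, mul_one, mul_inv_cancel]
    exact Subgroup.one_mem _
  -- `p ∤ k`
  have hpk : ¬ p ∣ k := by
    intro hdvd
    have hcard : p ∣ Nat.card S := by
      obtain ⟨n, hn⟩ := IsPGroup.iff_card.mp hS
      rw [hn]
      have hn0 : n ≠ 0 := by
        rintro rfl
        rw [pow_zero] at hn
        exact hbot (Subgroup.card_eq_one.mp hn)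
      exact dvd_pow_self p hn0
    obtain ⟨a, ha⟩ := exists_prime_orderOf_dvd_card' p hcard
    have ha1 : (a : G) ^ p = 1 := by
      rw [← Subgroup.coe_pow, ← ha, pow_orderOf_eq_one, Subgroup.coe_one]
    have h1 := hk a a.2 ha1
    obtain ⟨c, rfl⟩ := hdvd
    rw [pow_mul, ha1, one_pow] at h1
    have h2 : (a : G) = 1 := by
      have := congrArg (fun x => e⁻¹ * x * e) h1
      simpa [mul_assoc] using this
    have h3 : a = 1 := Subtype.ext h2
    rw [h3, orderOf_one] at ha
    exact hp.one_lt.ne ha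
  obtain ⟨n, hn⟩ := IsPGroup.iff_card.mp hS
  obtain ⟨K, hK1, hK2⟩ := pm_arith p k n hpk
  letI : CommGroup S :=
    { (inferInstance : Group S) with mul_comm := fun a b => Subtype.ext (hSab a a.2 b b.2) }
  have hval : ∀ (x : Subgroup.normalizer (S : Set G)) (a : S),
      ((S.normalizerMonoidHom x a : S) : G) = (x : G) * a * (x : G)⁻¹ := fun x a => rfl
  -- powers killing `S`
  have hpowS : ∀ (x : S) (a b : ℕ), a ≡ b [MOD p ^ n] → x ^ a = x ^ b := by
    intro x a b hab
    rw [pow_eq_pow_iff_modEq]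
    apply Nat.ModEq.of_dvd _ hab
    apply orderOf_dvd_of_pow_eq_one
    rw [← hn]
    exact pow_card_eq_one'
  let φ : MulAut S := S.normalizerMonoidHom ⟨e, heS⟩
  have hφm : φ ^ m = 1 := by
    show (S.normalizerMonoidHom ⟨e, heS⟩) ^ m = 1
    rw [← map_pow]
    apply MulEquiv.ext
    intro a
    apply Subtype.ext
    rw [hval, Subgroup.coe_pow]
    have := Subgroup.mem_centralizer_iff.mp hem a a.2
    show e ^ m * a * (e ^ m)⁻¹ = _
    rw [MulAut.one_apply, ← this, mul_inv_cancel_right]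
  let f : S →* S := (powMonoidHom K).comp φ.toMonoidHom
  have hf : ∀ x : S, f x = (φ x) ^ K := fun x => rfl
  have hiter : ∀ (j : ℕ) (x : S), (f^[j]) x = ((φ ^ j) x) ^ (K ^ j) := by
    intro j
    induction j with
    | zero => intro x; simp
    | succ j ih =>
      intro x
      rw [Function.iterate_succ_apply', ih, hf, map_pow, ← pow_mul, pow_succ' φ j, pow_succ]
      rfl
  have hfm : ∀ x : S, (f^[m * (p - 1)]) x = x := by
    intro x
    rw [hiter, pow_mul φ, hφm, one_pow, MulAut.one_apply, mul_comm m, pow_mul]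
    have h1 : (K ^ (p - 1)) ^ m ≡ 1 [MOD p ^ n] := by
      have := hK2.pow m
      rwa [one_pow] at this
    rw [hpowS x _ 1 h1, pow_one]
  have hcop : (m * (p - 1)).Coprime p := by
    apply Nat.Coprime.mul_left hm
    have h1 : ¬ p ∣ p - 1 := by
      intro h
      have := Nat.le_of_dvd (by have := hp.two_le; omega) h
      have := hp.two_le
      omega
    exact ((Nat.Prime.coprime_iff_not_dvd hp).mpr h1).symm
  have hfix : ∀ x : S, x ^ p = 1 → f x = x := by
    intro x hx
    have h1 : (φ x : S) = x ^ k := by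
      apply Subtype.ext
      have hx' : (x : G) ^ p = 1 := by
        rw [← Subgroup.coe_pow, hx, Subgroup.coe_one]
      exact hk x x.2 hx'
    rw [hf, h1, ← pow_mul, mul_comm]
    have h2 : x ^ (K * k) = x ^ 1 := by
      rw [pow_eq_pow_iff_modEq]
      exact Nat.ModEq.of_dvd (orderOf_dvd_of_pow_eq_one hx) hK1
    rw [h2, pow_one]
  have hall := Cfsg.Agent.Lib.helper29.end_fix_of_fix_omega p hS f (m * (p - 1)) hfm hcop hfix
  intro s hs
  have h1 := hall ⟨s, hs⟩
  rw [hf] at h1
  have h2 : (e * s * e⁻¹) ^ K = s := congrArg Subtype.val h1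
  -- `s` is a power of its conjugate, and both have the same order
  have hle : Subgroup.zpowers s ≤ Subgroup.zpowers (e * s * e⁻¹) := by
    rw [Subgroup.zpowers_le]
    have h3 := Subgroup.npow_mem_zpowers (e * s * e⁻¹) K
    rwa [h2] at h3
  have hcard : Nat.card (Subgroup.zpowers (e * s * e⁻¹)) = Nat.card (Subgroup.zpowers s) := by
    rw [Nat.card_zpowers, Nat.card_zpowers]
    have hsc : SemiconjBy e s (e * s * e⁻¹) := by
      show e * s = e * s * e⁻¹ * e
      rw [inv_mul_cancel_right]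
    exact (hsc.orderOf_eq).symm
  have heq : Subgroup.zpowers s = Subgroup.zpowers (e * s * e⁻¹) :=
    Subgroup.eq_of_le_of_card_ge hle hcard.le
  rw [heq]
  exact Subgroup.mem_zpowers _

end Cfsg.Agent.Lib.helper43
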