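import Mathlib
import Cfsg.Agent.Lib.helper30.RankTwoD

/-!
# Quotients of B-groups by normal subgroups of odd order (S3911)

A finite group is a *B-group* here when any two abelian subgroups of the same order are conjugate.
We show that the quotient of a B-group by a normal subgroup `M` of odd order is again a B-group,
without any solvability hypothesis: every abelian subgroup of `G ⧸ M` is the image of an abelian
subgroup `H` of `G` (a minimal supplement) whose order only depends on the order of the image.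
-/

set_option autoImplicit false

namespace Cfsg.Agent.Lib.helper43

section MinSupp

variable {H A : Type*} [Group H] [Finite H] [Group A]

/-- `ψ` has commutative image and no proper subgroup of `H` has the same image. -/
structure MinSupp (ψ : H →* A) : Prop where
  comm : ∀ x y : H, ψ x * ψ y = ψ y * ψ x
  min : ∀ K : Subgroup H, (∀ h : H, ∃ k ∈ K, ψ k = ψ h) → K = ⊤

theorem MinSupp.sylow_normal {ψ : H →* A} (h : MinSupp ψ) {q : ℕ} [Fact q.Prime]
    (Q : Sylow q H) : (Q : Subgroup H).Normal := by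
  classical
  let N' : Subgroup H := ((Q : Subgroup H).map ψ).comap ψ
  have hN' : N'.Normal := by
    constructor
    intro n hn g
    have hn' : ψ n ∈ (Q : Subgroup H).map ψ := hn
    show ψ (g * n * g⁻¹) ∈ (Q : Subgroup H).map ψ
    have : ψ (g * n * g⁻¹) = ψ n := by
      rw [map_mul, map_mul, map_inv, h.comm g n, mul_assoc, mul_inv_cancel, mul_one]
    rw [this]; exact hn'
  have hQN : (Q : Subgroup H) ≤ N' := Subgroup.le_comap_map ψ _
  have hsup := Sylow.normalizer_sup_eq_top' Q hQN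
  have htop : Subgroup.normalizer ((Q : Subgroup H) : Set H) = ⊤ := by
    apply h.min
    intro x
    have hx : x ∈ Subgroup.normalizer ((Q : Subgroup H) : Set H) ⊔ N' := by
      have : x ∈ (⊤ : Subgroup H) := Subgroup.mem_top x
      rw [← hsup] at this; exact this
    obtain ⟨k, hk, n, hn, rfl⟩ := Subgroup.mem_sup_of_normal_right.mp hx
    obtain ⟨y, hy, hyn⟩ := Subgroup.mem_map.mp (Subgroup.mem_comap.mp hn)
    refine ⟨k * y, mul_mem hk (Subgroup.le_normalizer hy), ?_⟩
    rw [map_mul, map_mul, hyn]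
  exact Subgroup.normalizer_eq_top_iff.mp htop

theorem MinSupp.not_dvd_card {ψ : H →* A} (h : MinSupp ψ) {q : ℕ} [hq : Fact q.Prime]
    (hqr : ¬ q ∣ Nat.card ψ.range) : ¬ q ∣ Nat.card H := by
  classical
  obtain ⟨Q⟩ : Nonempty (Sylow q H) := inferInstance
  have hQn := h.sylow_normal Q
  have hker : ∀ x ∈ (Q : Subgroup H), ψ x = 1 := by
    intro x hx
    obtain ⟨k, hk⟩ := Q.isPGroup' ⟨x, hx⟩
    have hxk : x ^ (q ^ k) = 1 := by simpa using congrArg Subtype.val hk
    have h1 : orderOf (ψ x) ∣ q ^ k :=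
      orderOf_dvd_of_pow_eq_one (by rw [← map_pow, hxk, map_one])
    have h2 : orderOf (ψ x) ∣ Nat.card ψ.range := Subgroup.orderOf_dvd_natCard _ ⟨x, rfl⟩
    obtain ⟨j, hj, hj'⟩ := (Nat.dvd_prime_pow hq.out).mp h1
    rcases Nat.eq_zero_or_pos j with rfl | hjpos
    · rw [pow_zero] at hj'; exact orderOf_eq_one_iff.mp hj'
    · exfalso; apply hqr; exact dvd_trans (hj' ▸ dvd_pow_self q hjpos.ne') h2
  obtain ⟨K, hK⟩ := Subgroup.exists_right_complement'_of_coprime (Sylow.card_coprime_index Q)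
  have hKtop : K = ⊤ := by
    apply h.min
    intro x
    obtain ⟨⟨⟨n, hn⟩, ⟨k, hk⟩⟩, hnk⟩ := hK.2 x
    refine ⟨k, hk, ?_⟩
    have : n * k = x := hnk
    rw [← this, map_mul, hker n hn, one_mul]
  have hcard := hK.card_mul_card
  rw [hKtop, Subgroup.card_top] at hcard
  have hQ1 : Nat.card (Q : Subgroup H) = 1 := by
    have hpos : 0 < Nat.card H := Nat.card_pos
    exact Nat.eq_of_mul_eq_mul_right hpos (by rw [hcard, one_mul])
  rw [Sylow.card_eq_multiplicity] at hQ1
  intro hdvd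
  have h1 : 1 ≤ (Nat.card H).factorization q :=
    (hq.out.dvd_iff_one_le_factorization Nat.card_pos.ne').mp hdvd
  have h2 := Nat.one_lt_pow (by omega : (Nat.card H).factorization q ≠ 0) hq.out.one_lt
  omega

theorem comm_of_sylow (hn : ∀ (q : ℕ) [Fact q.Prime] (Q : Sylow q H), (Q : Subgroup H).Normal)
    (hc : ∀ (q : ℕ) [Fact q.Prime] (Q : Sylow q H), ∀ x ∈ (Q : Subgroup H),
      ∀ y ∈ (Q : Subgroup H), x * y = y * x) :
    ∀ x y : H, x * y = y * x := by
  classical
  let e := Sylow.directProductOfNormal (G := H) (fun {p} _ P => hn p P)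
  intro x y
  obtain ⟨u, rfl⟩ := e.surjective x
  obtain ⟨v, rfl⟩ := e.surjective y
  rw [← map_mul, ← map_mul]
  congr 1
  funext p P
  haveI : Fact (p : ℕ).Prime := ⟨Nat.prime_of_mem_primeFactors p.2⟩
  exact Subtype.ext (hc p P _ (u p P).2 _ (v p P).2)

end MinSupp

section BG

variable {G : Type*} [Group G] [Finite G]

/-- The hypothesis of S3911: abelian subgroups of the same order are conjugate. -/
def BGc (G : Type*) [Group G] : Prop :=
  ∀ A B : Subgroup G, IsMulCommutative ↥A → IsMulCommutative ↥B → Nat.card ↥A = Nat.card ↥B →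
    ∃ g : G, B = A.map (MulAut.conj g).toMonoidHom

theorem bgc_elim (hB : BGc G) (A B : Subgroup G) (hA : ∀ x ∈ A, ∀ y ∈ A, x * y = y * x)
    (hBc : ∀ x ∈ B, ∀ y ∈ B, x * y = y * x) (h : Nat.card A = Nat.card B) :
    ∃ g : G, B = A.map (MulAut.conj g).toMonoidHom :=
  hB A B ⟨⟨fun a b => Subtype.ext (hA a a.2 b b.2)⟩⟩ ⟨⟨fun a b => Subtype.ext (hBc a a.2 b b.2)⟩⟩ h

theorem zpowers_comm (a : G) : ∀ x ∈ Subgroup.zpowers a, ∀ y ∈ Subgroup.zpowers a, x * y = y * x := by
  intro x hx y hy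
  obtain ⟨i, rfl⟩ := Subgroup.mem_zpowers_iff.mp hx
  obtain ⟨j, rfl⟩ := Subgroup.mem_zpowers_iff.mp hy
  rw [← zpow_add, ← zpow_add, add_comm]

/-- In a B-group a normal subgroup contains every element whose order is the order of one of
its elements. -/
theorem bgc_mem_of_orderOf (hB : BGc G) (M : Subgroup G) [hMn : M.Normal] {m a : G} (hm : m ∈ M)
    (h : orderOf a = orderOf m) : a ∈ M := by
  obtain ⟨g, hg⟩ := bgc_elim hB (Subgroup.zpowers m) (Subgroup.zpowers a) (zpowers_comm m)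
    (zpowers_comm a) (by rw [Nat.card_zpowers, Nat.card_zpowers, h])
  have ha : a ∈ (Subgroup.zpowers m).map (MulAut.conj g).toMonoidHom :=
    hg ▸ Subgroup.mem_zpowers a
  obtain ⟨y, hy, rfl⟩ := Subgroup.mem_map.mp ha
  have hyM : y ∈ M := (Subgroup.zpowers_le.mpr hm) hy
  simpa using hMn.conj_mem y hyM g

/-- In a B-group with an element of order `q ^ 2` (`q` odd), every `q`-subgroup is cyclic. -/
theorem bgc_cyclic (hB : BGc G) {q : ℕ} [hq : Fact q.Prime] (hq2 : q ≠ 2) {c : G}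
    (hc : orderOf c = q ^ 2) (T : Subgroup G) (hT : IsPGroup q T) : IsCyclic ↥T := by
  classical
  by_cases hTb : T = ⊥
  · subst hTb; infer_instance
  have hTnt : Nontrivial T := (Subgroup.nontrivial_iff_ne_bot T).mpr hTb
  have hcen : Nontrivial (Subgroup.center T) := hT.center_nontrivial
  have hcard : q ∣ Nat.card (Subgroup.center T) := by
    obtain ⟨n, hn⟩ := IsPGroup.iff_card.mp (hT.to_subgroup (Subgroup.center T))
    rw [hn]
    have hn0 : n ≠ 0 := by
      rintro rfl
      rw [pow_zero] at hn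
      have := Finite.one_lt_card (α := Subgroup.center T)
      omega
    exact dvd_pow_self q hn0
  obtain ⟨z, hz⟩ := exists_prime_orderOf_dvd_card' q hcard
  have hz'T : ((z : T) : G) ∈ T := (z : T).2
  have hz'o : orderOf ((z : T) : G) = q := by
    rw [← hz, Subgroup.orderOf_coe, Subgroup.orderOf_coe]
  have hz'q : ((z : T) : G) ^ q = 1 := by rw [← hz'o]; exact pow_orderOf_eq_one _
  have hz'c : ∀ x ∈ T, x * ((z : T) : G) = ((z : T) : G) * x := by
    intro x hx
    have := Subgroup.mem_center_iff.mp z.2 ⟨x, hx⟩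
    exact (congrArg Subtype.val this)
  apply Cfsg.Agent.Lib.helper30.isCyclic_of_omega_le q hq2 T (Subgroup.zpowers ((z : T) : G)) hT
    (by rw [Nat.card_zpowers, hz'o])
  intro x hx hxq
  by_contra hxz
  -- the abelian subgroup generated by `z` and `x`
  have hpair : ∀ a ∈ ({((z : T) : G), x} : Set G), ∀ b ∈ ({((z : T) : G), x} : Set G),
      a * b = b * a := by
    intro a ha b hb
    rcases ha with ha | ha <;> rcases hb with hb | hb
    · rw [ha, hb]
    · rw [ha, hb]; exact (hz'c x hx).symm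
    · rw [ha, hb]; exact hz'c x hx
    · rw [ha, hb]
  let E : Subgroup G := Subgroup.closure {((z : T) : G), x}
  have hEcomm : ∀ a ∈ E, ∀ b ∈ E, a * b = b * a := by
    intro a ha b hb
    haveI := Subgroup.isMulCommutative_closure hpair
    exact setLike_mul_comm ha hb
  have hEexp : ∀ e ∈ E, e ^ q = 1 := by
    intro e he
    induction he using Subgroup.closure_induction with
    | mem y hy =>
      rcases hy with rfl | rfl
      · exact hz'q
      · exact hxq
    | one => exact one_pow q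
    | mul a b ha hb iha ihb =>
      have hab : Commute a b := hEcomm a ha b hb
      rw [hab.mul_pow, iha, ihb, one_mul]
    | inv a ha iha => rw [inv_pow, iha, inv_one]
  have hzE : ((z : T) : G) ∈ E := Subgroup.subset_closure (by simp)
  have hxE : x ∈ E := Subgroup.subset_closure (by simp)
  have hEp : IsPGroup q E := fun e => ⟨1, by rw [pow_one]; exact Subtype.ext (hEexp e e.2)⟩
  obtain ⟨n, hn⟩ := IsPGroup.iff_card.mp hEp
  have hn2 : 2 ≤ n := by
    by_contra hlt
    have hle : Nat.card E ≤ Nat.card (Subgroup.zpowers ((z : T) : G)) := by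
      rw [hn, Nat.card_zpowers, hz'o]
      calc q ^ n ≤ q ^ 1 := Nat.pow_le_pow_right hq.out.pos (by omega)
        _ = q := pow_one q
    have heq := Subgroup.eq_of_le_of_card_ge (Subgroup.zpowers_le.mpr hzE) hle
    exact hxz (heq ▸ hxE)
  have hdvd : q ^ 2 ∣ Nat.card E := by rw [hn]; exact pow_dvd_pow q hn2
  obtain ⟨K, hK⟩ := Sylow.exists_subgroup_card_pow_prime q hdvd
  have hK' : Nat.card (K.map E.subtype) = q ^ 2 := by
    rw [Subgroup.card_map_of_injective E.subtype_injective, hK]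
  have hKE : K.map E.subtype ≤ E := Subgroup.map_subtype_le K
  obtain ⟨g, hg⟩ := bgc_elim hB (Subgroup.zpowers c) (K.map E.subtype) (zpowers_comm c)
    (fun a ha b hb => hEcomm a (hKE ha) b (hKE hb)) (by rw [Nat.card_zpowers, hc, hK'])
  have hgc : g * c * g⁻¹ ∈ K.map E.subtype := by
    rw [hg]
    exact ⟨c, Subgroup.mem_zpowers c, by simp⟩
  have h1 : (g * c * g⁻¹) ^ q = 1 := hEexp _ (hKE hgc)
  rw [conj_pow] at h1
  have h2 : c ^ q = 1 := by
    have := congrArg (fun w => g⁻¹ * w * g) h1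
    simpa [mul_assoc] using this
  have h3 : orderOf c ∣ q := orderOf_dvd_of_pow_eq_one h2
  rw [hc] at h3
  have h4 := Nat.le_of_dvd hq.out.pos h3
  have h5 : 2 ≤ q := hq.out.two_le
  nlinarith

theorem orderOf_pow_prime_pow {x : G} {q a b : ℕ} (hq : q.Prime) (hxo : orderOf x = q ^ a)
    (hb : b ≤ a) : orderOf (x ^ q ^ (a - b)) = q ^ b := by
  rw [orderOf_pow' _ (pow_ne_zero _ hq.ne_zero), hxo,
    Nat.gcd_eq_right (pow_dvd_pow q (Nat.sub_le a b)), Nat.pow_div (Nat.sub_le a b) hq.pos]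
  congr 1; omega

/-- Key case: a `q`-element of `G` outside `M`, where `q` divides `|M|`. -/
theorem bgc_key (hB : BGc G) (M : Subgroup G) [hMn : M.Normal] (hM : Odd (Nat.card M))
    {q : ℕ} [hq : Fact q.Prime] (hqM : q ∣ Nat.card M) {x : G} (hxM : x ∉ M) {a : ℕ}
    (hxo : orderOf x = q ^ a) :
    (∀ T : Subgroup G, IsPGroup q T → IsCyclic ↥T) ∧
      ∃ w ∈ Subgroup.zpowers x, w ∈ M ∧ orderOf w = q ^ (Nat.card M).factorization q := by
  classical
  have hq2 : q ≠ 2 := by
    rintro rfl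
    exact (Nat.not_even_iff_odd.mpr hM) (even_iff_two_dvd.mpr hqM)
  obtain ⟨m₀, hm₀⟩ := exists_prime_orderOf_dvd_card' q hqM
  have hm₀' : orderOf (m₀ : G) = q := by rw [Subgroup.orderOf_coe]; exact hm₀
  have ha2 : 2 ≤ a := by
    by_contra hlt
    have h01 : a = 0 ∨ a = 1 := by omega
    rcases h01 with rfl | rfl
    · rw [pow_zero, orderOf_eq_one_iff] at hxo; exact hxM (hxo ▸ M.one_mem)
    · rw [pow_one] at hxo
      exact hxM (bgc_mem_of_orderOf hB M m₀.2 (hxo.trans hm₀'.symm))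
  have hc : orderOf (x ^ q ^ (a - 2)) = q ^ 2 := orderOf_pow_prime_pow hq.out hxo ha2
  have hcyc : ∀ T : Subgroup G, IsPGroup q T → IsCyclic ↥T :=
    fun T hT => bgc_cyclic hB hq2 hc T hT
  refine ⟨hcyc, ?_⟩
  obtain ⟨T⟩ : Nonempty (Sylow q M) := inferInstance
  have hTc : IsCyclic ↥((T : Subgroup M).map M.subtype) := hcyc _ (T.isPGroup'.map M.subtype)
  obtain ⟨t, ht⟩ := hTc.exists_generator
  have hto : orderOf (t : G) = q ^ (Nat.card M).factorization q := by
    rw [Subgroup.orderOf_coe, orderOf_eq_card_of_forall_mem_zpowers ht,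
      Subgroup.card_map_of_injective M.subtype_injective, Sylow.card_eq_multiplicity]
  have htM : (t : G) ∈ M := Subgroup.map_subtype_le _ t.2
  have hav : (Nat.card M).factorization q < a := by
    by_contra hle
    have hle' : a ≤ (Nat.card M).factorization q := by omega
    have h1 : orderOf ((t : G) ^ q ^ ((Nat.card M).factorization q - a)) = q ^ a :=
      orderOf_pow_prime_pow hq.out hto hle'
    exact hxM (bgc_mem_of_orderOf hB M (M.pow_mem htM _) (hxo.trans h1.symm))
  have h1 : orderOf (x ^ q ^ (a - (Nat.card M).factorization q)) =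
      q ^ (Nat.card M).factorization q := orderOf_pow_prime_pow hq.out hxo hav.le
  exact ⟨x ^ q ^ (a - (Nat.card M).factorization q),
    Subgroup.pow_mem _ (Subgroup.mem_zpowers x) _,
    bgc_mem_of_orderOf hB M htM (h1.trans hto.symm), h1⟩

/-- Every abelian subgroup of `G ⧸ M` lifts to an abelian subgroup of `G` whose intersection
with `M` has an order determined by the order of the image. -/
theorem bgc_lift (hB : BGc G) (M : Subgroup G) [hMn : M.Normal] (hM : Odd (Nat.card M))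
    (Ab : Subgroup (G ⧸ M)) (hAb : ∀ x ∈ Ab, ∀ y ∈ Ab, x * y = y * x) :
    ∃ H : Subgroup G, (∀ x ∈ H, ∀ y ∈ H, x * y = y * x) ∧ H.map (QuotientGroup.mk' M) = Ab ∧
      (∀ q : ℕ, q.Prime → q ∣ Nat.card ↥(H ⊓ M) → q ∣ Nat.card Ab) ∧
      (∀ q : ℕ, q.Prime → q ∣ Nat.card Ab → ∀ k : ℕ, q ^ k ∣ Nat.card M →
        q ^ k ∣ Nat.card ↥(H ⊓ M)) ∧
      Nat.card H = Nat.card Ab * Nat.card ↥(H ⊓ M) := by
  classical
  have hex : ∃ H : Subgroup G, H.map (QuotientGroup.mk' M) = Ab :=
    ⟨Ab.comap (QuotientGroup.mk' M),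
      Subgroup.map_comap_eq_self_of_surjective (QuotientGroup.mk'_surjective M) Ab⟩
  obtain ⟨H, hHA, hHmin'⟩ := WellFounded.has_min
    (measure fun K : Subgroup G => Nat.card K).wf
    {H : Subgroup G | H.map (QuotientGroup.mk' M) = Ab} hex
  have hHA : H.map (QuotientGroup.mk' M) = Ab := hHA
  have hHmin : ∀ K : Subgroup G, K ≤ H → K.map (QuotientGroup.mk' M) = Ab → K = H := by
    intro K hKH hK
    have h1 : ¬ Nat.card K < Nat.card H := hHmin' K hK
    exact Subgroup.eq_of_le_of_card_ge hKH (by omega)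
  let ψ : ↥H →* G ⧸ M := (QuotientGroup.mk' M).comp H.subtype
  have hψrange : ψ.range = Ab := by
    rw [MonoidHom.range_comp, Subgroup.range_subtype, hHA]
  have hψ : MinSupp ψ := by
    refine ⟨?_, ?_⟩
    · intro x y
      exact hAb _ (hψrange ▸ ⟨x, rfl⟩) _ (hψrange ▸ ⟨y, rfl⟩)
    · intro K hK
      have hK' : (K.map H.subtype).map (QuotientGroup.mk' M) = Ab := by
        apply le_antisymm
        · rw [← hHA]; exact Subgroup.map_mono (Subgroup.map_subtype_le K)
        · rw [← hHA]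
          rintro _ ⟨h, hh, rfl⟩
          obtain ⟨k, hk, hkh⟩ := hK ⟨h, hh⟩
          exact ⟨(k : G), Subgroup.mem_map_of_mem _ hk, hkh⟩
      have h1 := hHmin (K.map H.subtype) (Subgroup.map_subtype_le K) hK'
      rw [eq_top_iff]
      intro x _
      have hx : (x : G) ∈ K.map H.subtype := by rw [h1]; exact x.2
      obtain ⟨y, hy, hyx⟩ := Subgroup.mem_map.mp hx
      have hyx' : y = x := Subtype.ext hyx
      rwa [← hyx']
  have hker : ∀ x : ↥H, ψ x = 1 ↔ (x : G) ∈ M := by
    intro x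
    show (QuotientGroup.mk' M) (x : G) = 1 ↔ _
    exact QuotientGroup.eq_one_iff _
  have hkercard : Nat.card ψ.ker = Nat.card ↥(H ⊓ M) := by
    have h1 : ψ.ker = M.subgroupOf H := by
      ext x
      rw [MonoidHom.mem_ker, hker, Subgroup.mem_subgroupOf]
    rw [h1, ← Subgroup.card_map_of_injective H.subtype_injective,
      Subgroup.subgroupOf_map_subtype, inf_comm]
  have hcardH : Nat.card H = Nat.card Ab * Nat.card ↥(H ⊓ M) := by
    have h1 := Subgroup.card_mul_index ψ.ker
    rw [Subgroup.index_ker, hψrange, hkercard] at h1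
    rw [← h1, mul_comm]
  -- a `q`-element of `H` outside `M` when `q` divides `|Ab|`
  have hout : ∀ (q : ℕ) [Fact q.Prime] (Q : Sylow q ↥H), q ∣ Nat.card Ab →
      ∃ x ∈ (Q : Subgroup ↥H), (x : G) ∉ M := by
    intro q _ Q hqA
    by_contra hall
    push Not at hall
    have hQk : (Q : Subgroup ↥H) ≤ ψ.ker := fun x hx => (hker x).mpr (hall x hx)
    have h1 : ψ.ker.index ∣ (Q : Subgroup ↥H).index := Subgroup.index_dvd_of_le hQk
    rw [Subgroup.index_ker, hψrange] at h1
    exact Q.not_dvd_index (dvd_trans hqA h1)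
  have hpel : ∀ (q : ℕ) [Fact q.Prime] (Q : Sylow q ↥H), ∀ x ∈ (Q : Subgroup ↥H),
      ∃ a : ℕ, orderOf (x : G) = q ^ a := by
    intro q hq Q x hx
    obtain ⟨k, hk⟩ := Q.isPGroup' ⟨x, hx⟩
    have hxk : (x : G) ^ (q ^ k) = 1 := by
      have := congrArg (fun y : (Q : Subgroup ↥H) => ((y : ↥H) : G)) hk
      simpa using this
    obtain ⟨j, -, hj'⟩ := (Nat.dvd_prime_pow hq.out).mp (orderOf_dvd_of_pow_eq_one hxk)
    exact ⟨j, hj'⟩
  have hsylcomm : ∀ (q : ℕ) [Fact q.Prime] (Q : Sylow q ↥H), ∀ x ∈ (Q : Subgroup ↥H),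
      ∀ y ∈ (Q : Subgroup ↥H), x * y = y * x := by
    intro q hq Q x hx y hy
    by_cases hqM : q ∣ Nat.card M
    · by_cases hqA : q ∣ Nat.card Ab
      · obtain ⟨u, hu, huM⟩ := hout q Q hqA
        obtain ⟨a, ha⟩ := hpel q Q u hu
        have hcyc := (bgc_key hB M hM hqM huM ha).1 ((Q : Subgroup ↥H).map H.subtype)
          (Q.isPGroup'.map H.subtype)
        have hxy := Cfsg.Agent.Lib.helper59.comm_of_isCyclic_subgroup _ hcyc (x : G)
          (Subgroup.mem_map_of_mem _ hx) (y : G) (Subgroup.mem_map_of_mem _ hy)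
        exact Subtype.ext hxy
      · have hqH : ¬ q ∣ Nat.card ↥H := hψ.not_dvd_card (by rw [hψrange]; exact hqA)
        have hQ1 : Nat.card (Q : Subgroup ↥H) = 1 := by
          rw [Sylow.card_eq_multiplicity, Nat.factorization_eq_zero_of_not_dvd hqH, pow_zero]
        have hQb : (Q : Subgroup ↥H) = ⊥ := Subgroup.card_eq_one.mp hQ1
        rw [hQb, Subgroup.mem_bot] at hx hy
        rw [hx, hy]
    · -- `Q` meets the kernel trivially
      have hw : (x * y * (y * x)⁻¹ : ↥H) ∈ (Q : Subgroup ↥H) :=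
        mul_mem (mul_mem hx hy) (inv_mem (mul_mem hy hx))
      have hwk : ψ (x * y * (y * x)⁻¹) = 1 := by
        rw [map_mul, map_inv, map_mul, map_mul, hψ.comm x y, mul_inv_cancel]
      have hwM : ((x * y * (y * x)⁻¹ : ↥H) : G) ∈ M := (hker _).mp hwk
      obtain ⟨a, ha⟩ := hpel q Q _ hw
      have h1 : orderOf ((x * y * (y * x)⁻¹ : ↥H) : G) ∣ Nat.card M :=
        Subgroup.orderOf_dvd_natCard _ hwM
      have ha0 : a = 0 := by
        by_contra hne
        exact hqM (dvd_trans (ha ▸ dvd_pow_self q hne) h1)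
      rw [ha0, pow_zero, orderOf_eq_one_iff] at ha
      have h2 : x * y * (y * x)⁻¹ = 1 := Subtype.ext ha
      exact mul_inv_eq_one.mp h2
  have hHcomm := comm_of_sylow (fun q _ Q => hψ.sylow_normal Q) hsylcomm
  refine ⟨H, fun x hx y hy => congrArg Subtype.val (hHcomm ⟨x, hx⟩ ⟨y, hy⟩), hHA, ?_, ?_, hcardH⟩
  · intro q hq hqd
    by_contra hqA
    haveI : Fact q.Prime := ⟨hq⟩
    have hqH : ¬ q ∣ Nat.card ↥H := hψ.not_dvd_card (by rw [hψrange]; exact hqA)
    exact hqH (dvd_trans hqd (Subgroup.card_dvd_of_le inf_le_left))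
  · intro q hq hqA k hk
    haveI : Fact q.Prime := ⟨hq⟩
    by_cases hqM : q ∣ Nat.card M
    · obtain ⟨Q⟩ : Nonempty (Sylow q ↥H) := inferInstance
      obtain ⟨u, hu, huM⟩ := hout q Q hqA
      obtain ⟨a, ha⟩ := hpel q Q u hu
      obtain ⟨w, hwz, hwM, hwo⟩ := (bgc_key hB M hM hqM huM ha).2
      have hwH : w ∈ H := (Subgroup.zpowers_le.mpr u.2) hwz
      have h1 : orderOf w ∣ Nat.card ↥(H ⊓ M) :=
        Subgroup.orderOf_dvd_natCard _ (Subgroup.mem_inf.mpr ⟨hwH, hwM⟩)
      rw [hwo] at h1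
      have h2 : k ≤ (Nat.card M).factorization q :=
        (hq.pow_dvd_iff_le_factorization Nat.card_pos.ne').mp hk
      exact dvd_trans (pow_dvd_pow q h2) h1
    · have hk0 : k = 0 := by
        by_contra hne
        exact hqM (dvd_trans (dvd_pow_self q hne) hk)
      rw [hk0, pow_zero]; exact one_dvd _

/-- Two numbers with the same "profile" relative to `m` and `a` are equal. -/
theorem nat_eq_of_profile {m a n n' : ℕ} (hn : n ∣ m) (hn' : n' ∣ m)
    (h2 : ∀ q : ℕ, q.Prime → q ∣ n → q ∣ a) (h2' : ∀ q : ℕ, q.Prime → q ∣ n' → q ∣ a)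
    (h3 : ∀ q : ℕ, q.Prime → q ∣ a → ∀ k : ℕ, q ^ k ∣ m → q ^ k ∣ n)
    (h3' : ∀ q : ℕ, q.Prime → q ∣ a → ∀ k : ℕ, q ^ k ∣ m → q ^ k ∣ n') : n = n' := by
  apply Nat.dvd_antisymm
  · rw [Nat.dvd_iff_prime_pow_dvd_dvd]
    intro q k hq hqk
    rcases Nat.eq_zero_or_pos k with rfl | hk
    · rw [pow_zero]; exact one_dvd _
    · exact h3' q hq (h2 q hq (dvd_trans (dvd_pow_self q hk.ne') hqk)) k (dvd_trans hqk hn)
  · rw [Nat.dvd_iff_prime_pow_dvd_dvd]
    intro q k hq hqk
    rcases Nat.eq_zero_or_pos k with rfl | hk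
    · rw [pow_zero]; exact one_dvd _
    · exact h3 q hq (h2' q hq (dvd_trans (dvd_pow_self q hk.ne') hqk)) k (dvd_trans hqk hn')

/-- **S3911**: the quotient of a B-group by a normal subgroup of odd order is a B-group. -/
theorem bgc_quotient_odd (hB : BGc G) (M : Subgroup G) [hMn : M.Normal]
    (hM : Odd (Nat.card M)) : BGc (G ⧸ M) := by
  intro A B hA hBc hcard
  obtain ⟨HA, hHAc, hHA, hA2, hA3, hAcard⟩ := bgc_lift hB M hM A
    (fun x hx y hy => setLike_mul_comm hx hy)
  obtain ⟨HB, hHBc, hHB, hB2, hB3, hBcard⟩ := bgc_lift hB M hM B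
    (fun x hx y hy => setLike_mul_comm hx hy)
  have hinf : Nat.card ↥(HA ⊓ M) = Nat.card ↥(HB ⊓ M) :=
    nat_eq_of_profile (a := Nat.card A) (Subgroup.card_dvd_of_le inf_le_right)
      (Subgroup.card_dvd_of_le inf_le_right) hA2 (hcard ▸ hB2) hA3 (hcard ▸ hB3)
  have hHcard : Nat.card HA = Nat.card HB := by rw [hAcard, hBcard, hinf, hcard]
  obtain ⟨g, hg⟩ := bgc_elim hB HA HB hHAc hHBc hHcard
  refine ⟨QuotientGroup.mk' M g, ?_⟩
  rw [← hHB, hg, ← hHA, Subgroup.map_map, Subgroup.map_map]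
  congr 1

end BG

end Cfsg.Agent.Lib.helper43
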