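import Mathlib
import Cfsg.Prelude.Def_Blocks
import Cfsg.Prelude.Def_Characters
import Cfsg.Agent.Lib.helper79.GaloisChar
import Cfsg.Agent.Lib.helper81.CharBasic

/-!
# Shared definitions for SP-E of the defect-one project (S4441 / S0960): helper43

`frow p f b` is the pure Fourier "row" of a function `f` on `ZMod p`;
`row p x χ b` is the row of `χ` along the element `x` of order `p`; `rowZ` its integer part;
`gal τ χ` the Galois conjugate of an irreducible character; `kset p P` the `p`-regular elements of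
the centralizer of `P`; `bfin M G` the principal block as a `Finset`.
The structures `Grp`, `Blk`, `RowData` bundle the facts proved by the pieces.
-/

set_option autoImplicit false

namespace Cfsg.Agent.Lib.helper43.D1

open Cfsg
open scoped ComplexConjugate

universe u

/-- The pure Fourier row of `f : ZMod p → ℂ`:
`frow p f b = p⁻¹ * ∑ u, (e(-b u) - 1) * f u` with `e = ZMod.stdAddChar`. -/
noncomputable def frow (p : ℕ) [NeZero p] (f : ZMod p → ℂ) (b : ZMod p) : ℂ :=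
  (p : ℂ)⁻¹ * ∑ u : ZMod p, (ZMod.stdAddChar (-(b * u)) - 1) * f u

/-- The row of `χ` along `x`. -/
noncomputable def row (p : ℕ) [NeZero p] {G : Type u} [Group G] (x : G) (χ : G → ℂ)
    (b : ZMod p) : ℂ :=
  frow p (fun u => χ (x ^ u.val)) b

/-- The row of `χ` along `x`, rounded to an integer. -/
noncomputable def rowZ (p : ℕ) [NeZero p] {G : Type u} [Group G] (x : G) (χ : G → ℂ)
    (b : ZMod p) : ℤ :=
  ⌊(row p x χ b).re⌋

/-- The Galois conjugate of an irreducible character. -/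
noncomputable def gal {G : Type u} [Group G] [Finite G] (τ : ℂ ≃+* ℂ) (χ : IrrCharacter G) :
    IrrCharacter G :=
  ⟨fun g => τ ((χ : G → ℂ) g),
    Cfsg.Agent.Lib.helper79.isIrrCharacter_ringHom_comp (τ : ℂ →+* ℂ) χ.2⟩

theorem gal_apply {G : Type u} [Group G] [Finite G] (τ : ℂ ≃+* ℂ) (χ : IrrCharacter G) (g : G) :
    (gal τ χ : G → ℂ) g = τ ((χ : G → ℂ) g) := rfl

/-- The `p`-regular elements of the centralizer of `P`. -/
noncomputable def kset (p : ℕ) {G : Type u} [Group G] [Fintype G] (P : Subgroup G) : Finset G :=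
  @Finset.filter G (fun y => y ∈ Subgroup.centralizer (P : Set G) ∧ ¬ p ∣ orderOf y)
    (Classical.decPred _) Finset.univ

theorem mem_kset (p : ℕ) {G : Type u} [Group G] [Fintype G] (P : Subgroup G) (y : G) :
    y ∈ kset p P ↔ y ∈ Subgroup.centralizer (P : Set G) ∧ ¬ p ∣ orderOf y := by
  unfold kset
  rw [@Finset.mem_filter _ _ (Classical.decPred _)]
  exact ⟨fun h => h.2, fun h => ⟨Finset.mem_univ _, h⟩⟩

/-- The principal block as a `Finset`. -/
noncomputable def bfin (M : Ideal AlgInt) (G : Type u) [Group G] [Finite G] :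
    Finset (IrrCharacter G) :=
  @Finset.filter (IrrCharacter G) (fun χ => χ ∈ principalBlock M G)
    (Classical.decPred _) Finset.univ

theorem mem_bfin (M : Ideal AlgInt) {G : Type u} [Group G] [Finite G] (χ : IrrCharacter G) :
    χ ∈ bfin M G ↔ χ ∈ principalBlock M G := by
  unfold bfin
  rw [@Finset.mem_filter _ _ (Classical.decPred _)]
  exact ⟨fun h => h.2, fun h => ⟨Finset.mem_univ _, h⟩⟩

/-- Group-theoretic facts: `P` a Sylow `p`-subgroup of order `p`, `x` a generator, `H` the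
fusion subgroup of `(ZMod p)ˣ`. -/
structure Grp (p : ℕ) [Fact p.Prime] {G : Type u} [Group G] [Fintype G] (P : Sylow p G) (x : G)
    (H : Subgroup (ZMod p)ˣ) : Prop where
  hx : x ∈ (P : Subgroup G)
  hx1 : x ≠ 1
  ord : orderOf x = p
  gen : ∀ z ∈ (P : Subgroup G), ∃ u : ZMod p, z = x ^ u.val
  hH : ∀ r : (ZMod p)ˣ, r ∈ H ↔ ∃ n : G, n * x * n⁻¹ = x ^ ((r : ZMod p).val)
  cardH : Nat.card H = (Subgroup.centralizer ((P : Subgroup G) : Set G)).relIndex
      (Subgroup.normalizer ((P : Subgroup G) : Set G))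
  fus : ∀ u v : ZMod p, u ≠ 0 →
      (IsConj (x ^ u.val) (x ^ v.val) ↔ ∃ h ∈ H, v = ((h : (ZMod p)ˣ) : ZMod p) * u)
  one_mem : (1 : G) ∈ kset p (P : Subgroup G)
  cardC : ∀ u : ZMod p, u ≠ 0 →
      Nat.card (Subgroup.centralizer ({x ^ u.val} : Set G)) = p * (kset p (P : Subgroup G)).card
  idx : ∀ u : ZMod p, u ≠ 0 → ¬ p ∣ (Subgroup.centralizer ({x ^ u.val} : Set G)).index
  sing : ∀ u : ZMod p, u ≠ 0 → ∀ y ∈ kset p (P : Subgroup G), p ∣ orderOf (x ^ u.val * y)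
  conj_one : ∀ u v : ZMod p, u ≠ 0 → ∀ y ∈ kset p (P : Subgroup G),
      IsConj (x ^ u.val * y) (x ^ v.val) → y = 1
  decomp : ∀ F : G → ℂ,
      ∑ c : G, Set.indicator
        {c : G | c ∈ Subgroup.centralizer ((P : Subgroup G) : Set G) ∧ p ∣ orderOf c} F c
        = ∑ u : ZMod p, if u = 0 then 0 else ∑ y ∈ kset p (P : Subgroup G), F (x ^ u.val * y)

/-- Block-theoretic facts about the values of the characters on the `p`-singular elements of the
centralizer of `P`. -/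
structure Blk (p : ℕ) [Fact p.Prime] {G : Type u} [Group G] [Fintype G] (M : Ideal AlgInt)
    (P : Sylow p G) (x : G) : Prop where
  const : ∀ χ : IrrCharacter G, χ ∈ principalBlock M G → ∀ u : ZMod p, u ≠ 0 →
      ∀ y ∈ kset p (P : Subgroup G), (χ : G → ℂ) (x ^ u.val * y) = (χ : G → ℂ) (x ^ u.val)
  vanish : ∀ χ : IrrCharacter G, χ ∉ principalBlock M G → ∀ u : ZMod p, u ≠ 0 →
      ∑ y ∈ kset p (P : Subgroup G), (χ : G → ℂ) (x ^ u.val * y) = 0
  ne_zero : ∀ χ : IrrCharacter G, χ ∈ principalBlock M G → ∀ u : ZMod p, u ≠ 0 →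
      (χ : G → ℂ) (x ^ u.val) ≠ 0

open Classical in
/-- The facts about the integer rows `r χ b` (`χ` in the principal block, `b` a unit mod `p`). -/
structure RowData (p : ℕ) [Fact p.Prime] {G : Type u} [Group G] [Fintype G] (M : Ideal AlgInt)
    (x : G) (H : Subgroup (ZMod p)ˣ) (r : IrrCharacter G → (ZMod p)ˣ → ℤ) : Prop where
  inv : ∀ χ : IrrCharacter G, χ ∈ principalBlock M G → ∀ u : ZMod p, u ≠ 0 →
      (χ : G → ℂ) (x ^ u.val)
        = ∑ b : (ZMod p)ˣ, (r χ b : ℂ) * ZMod.stdAddChar (((b : (ZMod p)ˣ) : ZMod p) * u)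
  hH : ∀ χ : IrrCharacter G, χ ∈ principalBlock M G → ∀ b : (ZMod p)ˣ, ∀ h ∈ H,
      r χ (b * h) = r χ b
  gram : ∀ b b' : (ZMod p)ˣ, ∑ χ ∈ bfin M G, r χ b * r χ b'
      = (Nat.card H : ℤ) + if b⁻¹ * b' ∈ H then 1 else 0
  reg : ∀ (b : (ZMod p)ˣ) (g : G), ¬ p ∣ orderOf g →
      ∑ χ ∈ bfin M G, (r χ b : ℂ) * (χ : G → ℂ) g = 0
  gal : ∀ (τ : ℂ ≃+* ℂ) (c : (ZMod p)ˣ),
      (∀ v : ZMod p, τ (ZMod.stdAddChar v) = ZMod.stdAddChar (((c : (ZMod p)ˣ) : ZMod p) * v)) →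
      ∀ χ : IrrCharacter G, χ ∈ principalBlock M G → ∀ b : (ZMod p)ˣ,
        r (D1.gal τ χ) (c * b) = r χ b
  stab : ∀ (τ : ℂ ≃+* ℂ) (χ : IrrCharacter G), χ ∈ principalBlock M G →
      D1.gal τ χ ∈ principalBlock M G
  deg : ∀ χ : IrrCharacter G, χ ∈ principalBlock M G → ∃ m : ℤ,
      (χ : G → ℂ) 1 + ∑ u : ZMod p, (if u = 0 then 0 else (χ : G → ℂ) (x ^ u.val)) = (p : ℂ) * m
  exc : ∀ τ : ℂ ≃+* ℂ, ∃ c : (ZMod p)ˣ,
      ∀ v : ZMod p, τ (ZMod.stdAddChar v) = ZMod.stdAddChar (((c : (ZMod p)ˣ) : ZMod p) * v)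
  exτ : ∀ c : (ZMod p)ˣ, ∃ τ : ℂ ≃+* ℂ,
      ∀ v : ZMod p, τ (ZMod.stdAddChar v) = ZMod.stdAddChar (((c : (ZMod p)ˣ) : ZMod p) * v)

end Cfsg.Agent.Lib.helper43.D1
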