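-- helper43: the degree classification of the irreducible characters of GL₂(q).
import Mathlib
import Cfsg.Prelude.Def_Characters
import Cfsg.Prelude.Def_ParabolicCharacters
import Cfsg.Agent.Lib.helper43.DegClass
import Cfsg.Agent.S2330

set_option autoImplicit false

namespace Cfsg.Agent.Lib.helper43

open Matrix

section GL2

variable {F : Type*} [Field F]

/-- upper unitriangular element of `GL₂` -/
noncomputable def uGL (b : F) : GL (Fin 2) F :=
  Matrix.GeneralLinearGroup.mkOfDetNeZero !![1, b; 0, 1] (by simp [Matrix.det_fin_two_of])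

/-- lower unitriangular element of `GL₂` -/
noncomputable def lGL (b : F) : GL (Fin 2) F :=
  Matrix.GeneralLinearGroup.mkOfDetNeZero !![1, 0; b, 1] (by simp [Matrix.det_fin_two_of])

/-- the Weyl element of `GL₂` -/
noncomputable def wGL : GL (Fin 2) F :=
  Matrix.GeneralLinearGroup.mkOfDetNeZero !![0, 1; 1, 0] (by simp [Matrix.det_fin_two_of])

/-- the diagonal element `diag(a, 1)` of `GL₂` -/
noncomputable def dGL (a : Fˣ) : GL (Fin 2) F :=
  Matrix.GeneralLinearGroup.mkOfDetNeZero !![(a : F), 0; 0, 1] (by simp [Matrix.det_fin_two_of])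

theorem uGL_val (b : F) :
    ((uGL b : GL (Fin 2) F) : Matrix (Fin 2) (Fin 2) F) = !![1, b; 0, 1] := rfl

theorem lGL_val (b : F) :
    ((lGL b : GL (Fin 2) F) : Matrix (Fin 2) (Fin 2) F) = !![1, 0; b, 1] := rfl

theorem wGL_val : ((wGL : GL (Fin 2) F) : Matrix (Fin 2) (Fin 2) F) = !![0, 1; 1, 0] := rfl

theorem dGL_val (a : Fˣ) :
    ((dGL a : GL (Fin 2) F) : Matrix (Fin 2) (Fin 2) F) = !![(a : F), 0; 0, 1] := rfl

theorem gl2_ext {g h : GL (Fin 2) F}
    (h00 : (g : Matrix (Fin 2) (Fin 2) F) 0 0 = (h : Matrix (Fin 2) (Fin 2) F) 0 0)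
    (h01 : (g : Matrix (Fin 2) (Fin 2) F) 0 1 = (h : Matrix (Fin 2) (Fin 2) F) 0 1)
    (h10 : (g : Matrix (Fin 2) (Fin 2) F) 1 0 = (h : Matrix (Fin 2) (Fin 2) F) 1 0)
    (h11 : (g : Matrix (Fin 2) (Fin 2) F) 1 1 = (h : Matrix (Fin 2) (Fin 2) F) 1 1) : g = h := by
  apply Units.ext
  ext i j
  fin_cases i <;> fin_cases j <;> assumption

theorem uGL_mul (a b : F) : uGL a * uGL b = uGL (a + b) := by
  apply gl2_ext <;>
    simp [uGL_val, Matrix.mul_apply, Fin.sum_univ_two, add_comm]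

theorem uGL_zero : uGL (0 : F) = 1 := by
  apply gl2_ext <;> simp [uGL_val]

theorem uGL_injective : Function.Injective (uGL : F → GL (Fin 2) F) := by
  intro a b h
  have := congrArg (fun g : GL (Fin 2) F => (g : Matrix (Fin 2) (Fin 2) F) 0 1) h
  simpa [uGL_val] using this

theorem uGL_inv (a : F) : (uGL a)⁻¹ = uGL (-a) := by
  apply inv_eq_of_mul_eq_one_right
  rw [uGL_mul, add_neg_cancel, uGL_zero]

theorem lGL_mul (a b : F) : lGL a * lGL b = lGL (a + b) := by
  apply gl2_ext <;>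
    simp [lGL_val, Matrix.mul_apply, Fin.sum_univ_two, add_comm]

theorem lGL_zero : lGL (0 : F) = 1 := by
  apply gl2_ext <;> simp [lGL_val]

theorem lGL_inv (a : F) : (lGL a)⁻¹ = lGL (-a) := by
  apply inv_eq_of_mul_eq_one_right
  rw [lGL_mul, add_neg_cancel, lGL_zero]

theorem wGL_mul_self : (wGL : GL (Fin 2) F) * wGL = 1 := by
  apply gl2_ext <;> simp [wGL_val, Matrix.mul_apply, Fin.sum_univ_two]

theorem wGL_inv : (wGL : GL (Fin 2) F)⁻¹ = wGL :=
  inv_eq_of_mul_eq_one_right wGL_mul_self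

theorem dGL_conj (a : Fˣ) : dGL a * uGL 1 * (dGL a)⁻¹ = uGL (a : F) := by
  rw [mul_inv_eq_iff_eq_mul]
  apply gl2_ext <;> simp [uGL_val, dGL_val, Matrix.mul_apply, Fin.sum_univ_two]

theorem wGL_conj (b : F) : wGL * uGL b * wGL⁻¹ = lGL b := by
  rw [mul_inv_eq_iff_eq_mul]
  apply gl2_ext <;> simp [uGL_val, lGL_val, wGL_val, Matrix.mul_apply, Fin.sum_univ_two]

/-- the upper unitriangular subgroup of `GL₂` -/
noncomputable def UGL (F : Type*) [Field F] : Subgroup (GL (Fin 2) F) where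
  carrier := Set.range (uGL : F → GL (Fin 2) F)
  mul_mem' := by
    rintro _ _ ⟨a, rfl⟩ ⟨b, rfl⟩
    exact ⟨a + b, (uGL_mul a b).symm⟩
  one_mem' := ⟨0, uGL_zero⟩
  inv_mem' := by
    rintro _ ⟨a, rfl⟩
    exact ⟨-a, (uGL_inv a).symm⟩

theorem mem_UGL_iff (g : GL (Fin 2) F) : g ∈ UGL F ↔ ∃ b : F, uGL b = g := Iff.rfl

theorem uGL_mem (b : F) : uGL b ∈ UGL F := ⟨b, rfl⟩

theorem UGL_comm : ∀ a ∈ UGL F, ∀ b ∈ UGL F, a * b = b * a := by
  rintro _ ⟨a, rfl⟩ _ ⟨b, rfl⟩
  rw [uGL_mul, uGL_mul, add_comm]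

theorem card_UGL [Finite F] : Nat.card (UGL F) = Nat.card F :=
  Nat.card_range_of_injective uGL_injective

theorem uGL_one_ne_one : uGL (1 : F) ≠ 1 := by
  intro h
  rw [← uGL_zero] at h
  exact one_ne_zero (uGL_injective h)

theorem UGL_conj : ∀ u ∈ UGL F, u ≠ 1 → ∃ g : GL (Fin 2) F, g * uGL 1 * g⁻¹ = u := by
  rintro _ ⟨b, rfl⟩ hb
  have hb0 : b ≠ 0 := by
    rintro rfl
    exact hb uGL_zero
  exact ⟨dGL (Units.mk0 b hb0), dGL_conj _⟩

theorem mem_upperGL_iff (g : GL (Fin 2) F) :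
    g ∈ Cfsg.upperTriangularGL 2 F ↔ (g : Matrix (Fin 2) (Fin 2) F) 1 0 = 0 := by
  constructor
  · intro h
    exact h (show (id (0 : Fin 2)) < id 1 by decide)
  · intro h i j hij
    fin_cases i <;> fin_cases j
    · exact absurd hij (by decide)
    · exact absurd hij (by decide)
    · exact h
    · exact absurd hij (by decide)

theorem UGL_le_upper : UGL F ≤ Cfsg.upperTriangularGL 2 F := by
  rintro _ ⟨b, rfl⟩
  rw [mem_upperGL_iff, uGL_val]
  simp

/-- the diagonal of an upper triangular matrix, as a monoid homomorphism -/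
noncomputable def diagHomGL (F : Type*) [Field F] : (Cfsg.upperTriangularGL 2 F) →* F × F where
  toFun b := (((b : GL (Fin 2) F) : Matrix (Fin 2) (Fin 2) F) 0 0,
    ((b : GL (Fin 2) F) : Matrix (Fin 2) (Fin 2) F) 1 1)
  map_one' := by simp
  map_mul' := by
    intro b c
    have hb := (mem_upperGL_iff _).1 b.2
    have hc := (mem_upperGL_iff _).1 c.2
    simp only [Subgroup.coe_mul, Matrix.GeneralLinearGroup.coe_mul, Matrix.mul_apply,
      Fin.sum_univ_two, hb, hc, zero_mul, mul_zero, add_zero, zero_add, Prod.mk_mul_mk]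

theorem upper_comm_mod_UGL : ∀ a ∈ Cfsg.upperTriangularGL 2 F, ∀ b ∈ Cfsg.upperTriangularGL 2 F,
    ∃ u ∈ UGL F, a * b = b * a * u := by
  intro a ha b hb
  refine ⟨(b * a)⁻¹ * (a * b), ?_, by group⟩
  set B := Cfsg.upperTriangularGL 2 F
  let a' : B := ⟨a, ha⟩
  let b' : B := ⟨b, hb⟩
  let c' : B := (b' * a')⁻¹ * (a' * b')
  have hc : diagHomGL F c' = 1 := by
    have h1 : diagHomGL F (a' * b') = diagHomGL F (b' * a') := by
      rw [map_mul, map_mul, mul_comm]
    have h2 : diagHomGL F c' = diagHomGL F ((b' * a')⁻¹) * diagHomGL F (a' * b') := by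
      rw [← map_mul]
    rw [h2, h1, ← map_mul, inv_mul_cancel, map_one]
  have hc00 : ((c' : GL (Fin 2) F) : Matrix (Fin 2) (Fin 2) F) 0 0 = 1 :=
    congrArg Prod.fst hc
  have hc11 : ((c' : GL (Fin 2) F) : Matrix (Fin 2) (Fin 2) F) 1 1 = 1 :=
    congrArg Prod.snd hc
  have hc10 := (mem_upperGL_iff _).1 c'.2
  refine ⟨((c' : GL (Fin 2) F) : Matrix (Fin 2) (Fin 2) F) 0 1, ?_⟩
  show _ = (c' : GL (Fin 2) F)
  apply gl2_ext
  · rw [hc00]; simp [uGL_val]
  · simp [uGL_val]
  · rw [hc10]; simp [uGL_val]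
  · rw [hc11]; simp [uGL_val]

theorem index_upperGL_le [Fintype F] :
    (Cfsg.upperTriangularGL 2 F).index ≤ Fintype.card F + 1 := by
  classical
  let rep : Option F → GL (Fin 2) F ⧸ Cfsg.upperTriangularGL 2 F := fun o =>
    match o with
    | none => QuotientGroup.mk wGL
    | some c => QuotientGroup.mk (lGL c)
  have hsurj : Function.Surjective rep := by
    intro x
    induction x using QuotientGroup.induction_on with
    | H g =>
      by_cases hp : (g : Matrix (Fin 2) (Fin 2) F) 0 0 = 0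
      · refine ⟨none, ?_⟩
        show (QuotientGroup.mk wGL : GL (Fin 2) F ⧸ Cfsg.upperTriangularGL 2 F) = QuotientGroup.mk g
        rw [QuotientGroup.eq, wGL_inv, mem_upperGL_iff]
        simp [wGL_val, Matrix.mul_apply, Fin.sum_univ_two, hp]
      · refine ⟨some ((g : Matrix (Fin 2) (Fin 2) F) 1 0 / (g : Matrix (Fin 2) (Fin 2) F) 0 0), ?_⟩
        show (QuotientGroup.mk (lGL _) : GL (Fin 2) F ⧸ Cfsg.upperTriangularGL 2 F) =
          QuotientGroup.mk g
        rw [QuotientGroup.eq, lGL_inv, mem_upperGL_iff]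
        simp [lGL_val, Matrix.mul_apply, Fin.sum_univ_two]
        field_simp
        ring
  have h := Nat.card_le_card_of_surjective rep hsurj
  rw [Subgroup.index]
  calc Nat.card (GL (Fin 2) F ⧸ Cfsg.upperTriangularGL 2 F) ≤ Nat.card (Option F) := h
    _ = Fintype.card F + 1 := by
      rw [Nat.card_eq_fintype_card, Fintype.card_option]

end GL2

section GL2N

variable {F : Type*} [Field F]

/-- the kernel of the determinant, i.e. `SL₂` inside `GL₂` -/
noncomputable def NGL (F : Type*) [Field F] : Subgroup (GL (Fin 2) F) :=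
  (Matrix.GeneralLinearGroup.det : GL (Fin 2) F →* Fˣ).ker

instance NGL_normal : (NGL F).Normal := by
  unfold NGL
  infer_instance

theorem mem_NGL_iff (g : GL (Fin 2) F) :
    g ∈ NGL F ↔ (g : Matrix (Fin 2) (Fin 2) F).det = 1 := by
  unfold NGL
  rw [MonoidHom.mem_ker]
  constructor
  · intro h
    have := congrArg (fun u : Fˣ => (u : F)) h
    simpa using this
  · intro h
    apply Units.ext
    simpa using h

theorem uGL_mem_NGL (b : F) : uGL b ∈ NGL F := by
  rw [mem_NGL_iff, uGL_val]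
  simp [Matrix.det_fin_two_of]

theorem lGL_mem_NGL (b : F) : lGL b ∈ NGL F := by
  rw [mem_NGL_iff, lGL_val]
  simp [Matrix.det_fin_two_of]

/-- `SL₂` is the normal closure of the transvection `u(1)` in `GL₂`. -/
theorem NGL_le_of_normal (K : Subgroup (GL (Fin 2) F)) (hK : K.Normal) (hu : uGL (1 : F) ∈ K) :
    NGL F ≤ K := by
  have hu' : ∀ b : F, uGL b ∈ K := by
    intro b
    by_cases hb : b = 0
    · rw [hb, uGL_zero]; exact K.one_mem
    · have := hK.conj_mem _ hu (dGL (Units.mk0 b hb))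
      rw [dGL_conj] at this
      exact this
  have hl : ∀ b : F, lGL b ∈ K := by
    intro b
    have := hK.conj_mem _ (hu' b) wGL
    rw [wGL_conj] at this
    exact this
  have key : ∀ g : GL (Fin 2) F, g ∈ NGL F → (g : Matrix (Fin 2) (Fin 2) F) 1 0 ≠ 0 → g ∈ K := by
    intro g hg hc
    rw [mem_NGL_iff, Matrix.det_fin_two] at hg
    have : g = uGL (((g : Matrix (Fin 2) (Fin 2) F) 0 0 - 1) / (g : Matrix (Fin 2) (Fin 2) F) 1 0) *
        lGL ((g : Matrix (Fin 2) (Fin 2) F) 1 0) *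
        uGL (((g : Matrix (Fin 2) (Fin 2) F) 1 1 - 1) / (g : Matrix (Fin 2) (Fin 2) F) 1 0) := by
      apply gl2_ext
      · simp [uGL_val, lGL_val, Matrix.mul_apply, Fin.sum_univ_two]
        field_simp
        ring
      · simp [uGL_val, lGL_val, Matrix.mul_apply, Fin.sum_univ_two]
        field_simp
        linear_combination -hg
      · simp [uGL_val, lGL_val, Matrix.mul_apply, Fin.sum_univ_two]
      · simp [uGL_val, lGL_val, Matrix.mul_apply, Fin.sum_univ_two]
        field_simp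
        ring
    rw [this]
    exact K.mul_mem (K.mul_mem (hu' _) (hl _)) (hu' _)
  intro g hg
  by_cases hc : (g : Matrix (Fin 2) (Fin 2) F) 1 0 = 0
  · have hg' := hg
    rw [mem_NGL_iff, Matrix.det_fin_two, hc] at hg'
    have ha : (g : Matrix (Fin 2) (Fin 2) F) 0 0 ≠ 0 := by
      intro h0
      rw [h0] at hg'
      simp at hg'
    have h1 : lGL 1 * g ∈ K := by
      apply key
      · exact (NGL F).mul_mem (lGL_mem_NGL 1) hg
      · simp [lGL_val, Matrix.mul_apply, Fin.sum_univ_two, hc, ha]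
    have h2 : g = (lGL 1)⁻¹ * (lGL 1 * g) := by group
    rw [h2]
    exact K.mul_mem (K.inv_mem (hl 1)) h1
  · exact key g hg hc

theorem NGL_quot_comm : ∀ a b : GL (Fin 2) F ⧸ NGL F, a * b = b * a := by
  have h : ∀ a b : GL (Fin 2) F ⧸ (Matrix.GeneralLinearGroup.det : GL (Fin 2) F →* Fˣ).ker,
      a * b = b * a := by
    intro a b
    apply QuotientGroup.kerLift_injective (Matrix.GeneralLinearGroup.det : GL (Fin 2) F →* Fˣ)
    rw [map_mul, map_mul, mul_comm]
  exact h

theorem det_dGL (a : Fˣ) : Matrix.GeneralLinearGroup.det (dGL a) = a := by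
  apply Units.ext
  simp [dGL_val, Matrix.det_fin_two_of]

theorem index_NGL [Fintype F] : (NGL F).index = Fintype.card F - 1 := by
  classical
  unfold NGL
  rw [Subgroup.index_ker]
  have hr : (Matrix.GeneralLinearGroup.det : GL (Fin 2) F →* Fˣ).range = ⊤ := by
    rw [MonoidHom.range_eq_top]
    intro a
    exact ⟨dGL a, det_dGL a⟩
  rw [hr, Subgroup.card_top, Nat.card_eq_fintype_card, Fintype.card_units]

theorem card_GL2 [Fintype F] :
    Nat.card (GL (Fin 2) F) =
      (Fintype.card F ^ 2 - 1) * (Fintype.card F ^ 2 - Fintype.card F) := by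
  rw [Matrix.card_GL_field, Fin.prod_univ_two]
  simp

theorem mem_centralizer_uGL_iff (h : GL (Fin 2) F) :
    h ∈ Subgroup.centralizer ({uGL (1 : F)} : Set (GL (Fin 2) F)) ↔
      (h : Matrix (Fin 2) (Fin 2) F) 1 0 = 0 ∧
        (h : Matrix (Fin 2) (Fin 2) F) 0 0 = (h : Matrix (Fin 2) (Fin 2) F) 1 1 := by
  rw [Subgroup.mem_centralizer_singleton_iff]
  constructor
  · intro hc
    have hM : (h : Matrix (Fin 2) (Fin 2) F) * (uGL (1 : F) : Matrix (Fin 2) (Fin 2) F) =
        (uGL (1 : F) : Matrix (Fin 2) (Fin 2) F) * (h : Matrix (Fin 2) (Fin 2) F) := by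
      have := congrArg (fun x : GL (Fin 2) F => (x : Matrix (Fin 2) (Fin 2) F)) hc
      simpa using this
    have e00 := congrFun (congrFun hM 0) 0
    have e01 := congrFun (congrFun hM 0) 1
    simp [uGL_val, Matrix.mul_apply, Fin.sum_univ_two] at e00 e01
    exact ⟨e00, by linear_combination e01⟩
  · rintro ⟨k10, k00⟩
    apply gl2_ext <;> simp [uGL_val, Matrix.mul_apply, Fin.sum_univ_two, k10, k00, add_comm]

theorem card_centralizer_uGL [Fintype F] :
    Nat.card (Subgroup.centralizer ({uGL (1 : F)} : Set (GL (Fin 2) F))) =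
      (Fintype.card F - 1) * Fintype.card F := by
  classical
  let f : Fˣ × F → Subgroup.centralizer ({uGL (1 : F)} : Set (GL (Fin 2) F)) := fun p =>
    ⟨Matrix.GeneralLinearGroup.mkOfDetNeZero !![(p.1 : F), p.2; 0, (p.1 : F)]
      (by simp [Matrix.det_fin_two_of]), by
      rw [mem_centralizer_uGL_iff]
      exact ⟨rfl, rfl⟩⟩
  have hf : Function.Bijective f := by
    constructor
    · intro p p' hpp
      have h1 := congrArg (fun x : Subgroup.centralizer ({uGL (1 : F)} : Set (GL (Fin 2) F)) =>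
        ((x : GL (Fin 2) F) : Matrix (Fin 2) (Fin 2) F)) hpp
      have e00 := congrFun (congrFun h1 0) 0
      have e01 := congrFun (congrFun h1 0) 1
      simp only [f] at e00 e01
      change (p.1 : F) = (p'.1 : F) at e00
      change p.2 = p'.2 at e01
      exact Prod.ext (Units.ext e00) e01
    · rintro ⟨h, hh⟩
      obtain ⟨k10, k00⟩ := (mem_centralizer_uGL_iff h).1 hh
      have hdet : (h : Matrix (Fin 2) (Fin 2) F).det ≠ 0 := by
        have := Matrix.GeneralLinearGroup.det_ne_zero h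
        exact this
      rw [Matrix.det_fin_two, k10] at hdet
      have hx : (h : Matrix (Fin 2) (Fin 2) F) 0 0 ≠ 0 := by
        intro h0; apply hdet; rw [h0]; ring
      refine ⟨(Units.mk0 _ hx, (h : Matrix (Fin 2) (Fin 2) F) 0 1), ?_⟩
      apply Subtype.ext
      apply gl2_ext
      · rfl
      · rfl
      · exact k10.symm
      · exact k00
  rw [← Nat.card_congr (Equiv.ofBijective f hf), Nat.card_prod, Nat.card_eq_fintype_card,
    Nat.card_eq_fintype_card, Fintype.card_units]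

end GL2N

section GL2Final

variable (F : Type*) [Field F] [Fintype F]

/-- **Classification of the irreducible characters of `GL₂(q)` by their restriction to the
unipotent subgroup**: every irreducible character `χ` has `χ 1 = m + (q - 1) r` and
`χ (u 1) = m - r` with `(m, r)` one of `(1, 0)` (degree `1`, `q - 1` characters), `(0, 1)`
(degree `q - 1`, `q (q - 1) / 2` characters), `(1, 1)` (degree `q`, `q - 1` characters),
`(2, 1)` (degree `q + 1`, `(q - 1) (q - 2) / 2` characters). -/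
theorem gl2_classification [Fintype (GL (Fin 2) F)]
    [Fintype (Cfsg.IrrCharacter (GL (Fin 2) F))] :
    ∃ m r : Cfsg.IrrCharacter (GL (Fin 2) F) → ℕ,
      (∀ χ : Cfsg.IrrCharacter (GL (Fin 2) F),
        (χ : GL (Fin 2) F → ℂ) 1 = (m χ : ℂ) + ((Fintype.card F : ℂ) - 1) * r χ) ∧
      (∀ χ : Cfsg.IrrCharacter (GL (Fin 2) F),
        (χ : GL (Fin 2) F → ℂ) (uGL 1) = (m χ : ℂ) - r χ) ∧
      (∀ χ, (r χ = 0 ∧ m χ = 1) ∨ (r χ = 1 ∧ m χ ≤ 2)) ∧
      (Finset.univ.filter (fun χ => r χ = 0)).card = Fintype.card F - 1 ∧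
      (Finset.univ.filter (fun χ => r χ = 1 ∧ m χ = 1)).card = Fintype.card F - 1 ∧
      2 * (Finset.univ.filter (fun χ => r χ = 1 ∧ m χ = 2)).card =
        (Fintype.card F - 1) * (Fintype.card F - 2) ∧
      2 * (Finset.univ.filter (fun χ => r χ = 1 ∧ m χ = 0)).card =
        Fintype.card F * (Fintype.card F - 1) := by
  classical
  have hq : 2 ≤ Fintype.card F := Fintype.one_lt_card
  obtain ⟨a, ha⟩ : ∃ a, Fintype.card F = a + 1 := ⟨Fintype.card F - 1, by omega⟩
  have ha1 : 1 ≤ a := by omega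
  have hk : Nat.card (ConjClasses (GL (Fin 2) F)) * Fintype.card F ^ 2 =
      Nat.card (GL (Fin 2) F) +
        Nat.card (Subgroup.centralizer ({uGL (1 : F)} : Set (GL (Fin 2) F))) +
        (Fintype.card F - 1) * Fintype.card F ^ 2 := by
    rw [Cfsg.Agent.S2330.result, card_GL2, card_centralizer_uGL, ha]
    have e1 : (a + 1) ^ 2 - 1 = a * (a + 2) := by
      rw [Nat.sub_eq_iff_eq_add (Nat.one_le_pow 2 (a + 1) (by omega))]; ring
    have e2 : (a + 1) ^ 2 - (a + 1) = a * (a + 1) := by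
      rw [Nat.sub_eq_iff_eq_add (by nlinarith)]; ring
    rw [e1, e2, Nat.add_sub_cancel]
    ring
  obtain ⟨m, r, hdeg, hval, hcls, hL, e2, e3, e4⟩ :=
    degree_classification (G := GL (Fin 2) F) (Fintype.card F) (Fintype.card F - 1) hq
      (UGL F) (Cfsg.upperTriangularGL 2 F) (NGL F) (uGL 1)
      UGL_comm (by rw [card_UGL, Nat.card_eq_fintype_card]) (uGL_mem 1) uGL_one_ne_one UGL_conj
      UGL_le_upper upper_comm_mod_UGL index_upperGL_le (uGL_mem_NGL 1) NGL_le_of_normal
      NGL_quot_comm index_NGL hk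
  refine ⟨m, r, hdeg, hval, hcls, hL, ?_⟩
  rw [card_GL2, card_centralizer_uGL] at e2 e3
  rw [Cfsg.Agent.S2330.result] at e4
  rw [ha] at e2 e3 e4 ⊢
  have e1' : (a + 1) ^ 2 - 1 = a * (a + 2) := by
    rw [Nat.sub_eq_iff_eq_add (Nat.one_le_pow 2 (a + 1) (by omega))]; ring
  have e2' : (a + 1) ^ 2 - (a + 1) = a * (a + 1) := by
    rw [Nat.sub_eq_iff_eq_add (by nlinarith)]; ring
  rw [e1', e2', Nat.add_sub_cancel] at e2 e3
  rw [e1', Nat.add_sub_cancel] at e4
  set n₀ := (Finset.univ.filter (fun χ => r χ = 1 ∧ m χ = 0)).card with hn₀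
  set n₁ := (Finset.univ.filter (fun χ => r χ = 1 ∧ m χ = 1)).card with hn₁
  set n₂ := (Finset.univ.filter (fun χ => r χ = 1 ∧ m χ = 2)).card with hn₂
  have hpos : 0 < (a + 1) ^ 2 := by positivity
  have f2 : n₁ + 2 * n₂ = a * a := by
    apply Nat.eq_of_mul_eq_mul_left hpos
    nlinarith
  have f3 : a + n₁ + 4 * n₂ = 2 * (a * a) := by
    apply Nat.eq_of_mul_eq_mul_left hpos
    nlinarith
  have f4 : a + n₀ + n₁ + n₂ = a * a + 2 * a := by
    rw [e4]; ring
  have g1 : a * (a + 1 - 2) + a = a * a := by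
    obtain ⟨b, rfl⟩ : ∃ b, a = b + 1 := ⟨a - 1, by omega⟩
    simp
    ring
  have g2 : (a + 1) * a = a * a + a := by ring
  rw [Nat.add_sub_cancel, g2]
  generalize a * a = A2 at f2 f3 f4 g1
  generalize a * (a + 1 - 2) = A3 at g1
  refine ⟨?_, ?_, ?_⟩ <;> omega

end GL2Final

end Cfsg.Agent.Lib.helper43
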