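-- helper43: values of irreducible characters of GL₂(q) on split regular and elliptic elements.
import Mathlib
import Cfsg.Prelude.Def_Characters
import Cfsg.Prelude.Def_ParabolicCharacters
import Cfsg.Agent.Lib.helper43.GL2Deg
import Cfsg.Agent.Lib.helper43.Constituent

set_option autoImplicit false

namespace Cfsg.Agent.Lib.helper43

open Matrix Cfsg.Agent.Lib.helper4

section GL2Values

variable {F : Type*} [Field F]

theorem index_upperGL [Fintype F] :
    (Cfsg.upperTriangularGL 2 F).index = Fintype.card F + 1 := by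
  classical
  apply le_antisymm index_upperGL_le
  let rep : Option F → GL (Fin 2) F ⧸ Cfsg.upperTriangularGL 2 F := fun o =>
    match o with
    | none => QuotientGroup.mk wGL
    | some c => QuotientGroup.mk (lGL c)
  have hinj : Function.Injective rep := by
    intro o o' h
    rcases o with _ | c <;> rcases o' with _ | c'
    · rfl
    · exfalso
      have h' : (QuotientGroup.mk wGL : GL (Fin 2) F ⧸ Cfsg.upperTriangularGL 2 F) =
          QuotientGroup.mk (lGL c') := h
      rw [QuotientGroup.eq, wGL_inv, mem_upperGL_iff] at h'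
      simp [wGL_val, lGL_val, Matrix.mul_apply, Fin.sum_univ_two] at h'
    · exfalso
      have h' : (QuotientGroup.mk (lGL c) : GL (Fin 2) F ⧸ Cfsg.upperTriangularGL 2 F) =
          QuotientGroup.mk wGL := h
      rw [QuotientGroup.eq, lGL_inv, mem_upperGL_iff] at h'
      simp [wGL_val, lGL_val, Matrix.mul_apply, Fin.sum_univ_two] at h'
    · have h' : (QuotientGroup.mk (lGL c) : GL (Fin 2) F ⧸ Cfsg.upperTriangularGL 2 F) =
          QuotientGroup.mk (lGL c') := h
      rw [QuotientGroup.eq, lGL_inv, lGL_mul, mem_upperGL_iff] at h'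
      simp [lGL_val] at h'
      congr 1
      linear_combination -h'
  have h := Nat.card_le_card_of_injective rep hinj
  rw [Subgroup.index]
  calc Fintype.card F + 1 = Nat.card (Option F) := by
        rw [Nat.card_eq_fintype_card, Fintype.card_option]
    _ ≤ _ := h

/-- A diagonal matrix with distinct entries is conjugate to its product with any upper
unitriangular matrix. -/
theorem exists_conj_diag_mul_uGL (g : GL (Fin 2) F)
    (h01 : (g : Matrix (Fin 2) (Fin 2) F) 0 1 = 0) (h10 : (g : Matrix (Fin 2) (Fin 2) F) 1 0 = 0)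
    (hne : (g : Matrix (Fin 2) (Fin 2) F) 0 0 ≠ (g : Matrix (Fin 2) (Fin 2) F) 1 1) (c : F) :
    ∃ x : GL (Fin 2) F, x * g * x⁻¹ = g * uGL c := by
  have hne' : (g : Matrix (Fin 2) (Fin 2) F) 1 1 - (g : Matrix (Fin 2) (Fin 2) F) 0 0 ≠ 0 :=
    fun h => hne (sub_eq_zero.1 h).symm
  refine ⟨uGL ((g : Matrix (Fin 2) (Fin 2) F) 0 0 * c /
    ((g : Matrix (Fin 2) (Fin 2) F) 1 1 - (g : Matrix (Fin 2) (Fin 2) F) 0 0)), ?_⟩
  rw [mul_inv_eq_iff_eq_mul]
  apply gl2_ext
  · simp [uGL_val, Matrix.mul_apply, Fin.sum_univ_two, h01, h10]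
  · simp [uGL_val, Matrix.mul_apply, Fin.sum_univ_two, h01, h10]
    field_simp
    ring
  · simp [uGL_val, Matrix.mul_apply, Fin.sum_univ_two, h01, h10]
  · simp [uGL_val, Matrix.mul_apply, Fin.sum_univ_two, h01, h10]

/-- An element of `GL₂` with no eigenvector has no conjugate in the upper triangular
subgroup. -/
theorem elliptic_not_conj_upper (g : GL (Fin 2) F)
    (hg : ∀ (c : F) (v : Fin 2 → F), v ≠ 0 → (g : Matrix (Fin 2) (Fin 2) F).mulVec v ≠ c • v)
    (x : GL (Fin 2) F) : x⁻¹ * g * x ∉ Cfsg.upperTriangularGL 2 F := by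
  intro hmem
  rw [mem_upperGL_iff] at hmem
  set y := x⁻¹ * g * x with hy
  have hxy : g * x = x * y := by rw [hy]; group
  have hM : (g : Matrix (Fin 2) (Fin 2) F) * (x : Matrix (Fin 2) (Fin 2) F) =
      (x : Matrix (Fin 2) (Fin 2) F) * (y : Matrix (Fin 2) (Fin 2) F) := by
    have := congrArg (fun z : GL (Fin 2) F => (z : Matrix (Fin 2) (Fin 2) F)) hxy
    simpa using this
  let v : Fin 2 → F := fun i => (x : Matrix (Fin 2) (Fin 2) F) i 0
  have hv : v ≠ 0 := by
    intro h0
    have hdet : (x : Matrix (Fin 2) (Fin 2) F).det ≠ 0 := Matrix.GeneralLinearGroup.det_ne_zero x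
    apply hdet
    rw [Matrix.det_fin_two]
    have e0 : (x : Matrix (Fin 2) (Fin 2) F) 0 0 = 0 := congrFun h0 0
    have e1 : (x : Matrix (Fin 2) (Fin 2) F) 1 0 = 0 := congrFun h0 1
    rw [e0, e1]
    ring
  apply hg ((y : Matrix (Fin 2) (Fin 2) F) 0 0) v hv
  funext i
  have e := congrFun (congrFun hM i) 0
  simp only [Matrix.mul_apply, Fin.sum_univ_two, hmem, mul_zero, add_zero] at e
  simp only [Matrix.mulVec, dotProduct, Fin.sum_univ_two, Pi.smul_apply, smul_eq_mul, v]
  rw [e, mul_comm]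

/-- The sum of a class function over the unipotent subgroup. -/
theorem sum_UGL [Fintype F] [Fintype (UGL F)] (χ : GL (Fin 2) F → ℂ)
    (hχ : Cfsg.IsClassFunction (GL (Fin 2) F) χ) :
    ∑ u : UGL F, χ (u : GL (Fin 2) F) = χ 1 + ((Fintype.card F : ℂ) - 1) * χ (uGL 1) := by
  rw [sum_subgroup_of_const (UGL F) (uGL 1) χ, card_UGL, Nat.card_eq_fintype_card]
  intro u hu hu1
  obtain ⟨g, rfl⟩ := UGL_conj u hu hu1
  exact hχ _ g

/-- The sum of a class function over the coset `g U` of a diagonal matrix `g` with distinct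
entries. -/
theorem sum_UGL_mul_diag [Fintype F] [Fintype (UGL F)] (χ : GL (Fin 2) F → ℂ)
    (hχ : Cfsg.IsClassFunction (GL (Fin 2) F) χ) (g : GL (Fin 2) F)
    (h01 : (g : Matrix (Fin 2) (Fin 2) F) 0 1 = 0) (h10 : (g : Matrix (Fin 2) (Fin 2) F) 1 0 = 0)
    (hne : (g : Matrix (Fin 2) (Fin 2) F) 0 0 ≠ (g : Matrix (Fin 2) (Fin 2) F) 1 1) :
    ∑ u : UGL F, χ (g * (u : GL (Fin 2) F)) = (Fintype.card F : ℂ) * χ g := by
  have h : ∀ u : UGL F, χ (g * (u : GL (Fin 2) F)) = χ g := by
    rintro ⟨_, c, rfl⟩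
    obtain ⟨x, hx⟩ := exists_conj_diag_mul_uGL g h01 h10 hne c
    show χ (g * uGL c) = χ g
    rw [← hx]
    exact hχ g x
  rw [Finset.sum_congr rfl (fun u _ => h u), Finset.sum_const, Finset.card_univ, nsmul_eq_mul,
    ← Nat.card_eq_fintype_card, card_UGL, Nat.card_eq_fintype_card]

/-- A homomorphism from a finite group to `ℂˣ` has values of norm one. -/
theorem hom_norm_eq_one {H : Type*} [Group H] [Finite H] (f : H →* ℂˣ) (h : H) :
    ‖((f h : ℂˣ) : ℂ)‖ = 1 := by
  have h1 : ((f h : ℂˣ) : ℂ) ^ Nat.card H = 1 := by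
    have : f h ^ Nat.card H = 1 := by
      rw [← map_pow, pow_card_eq_one', map_one]
    have := congrArg (fun u : ℂˣ => (u : ℂ)) this
    simpa using this
  exact Complex.norm_eq_one_of_pow_eq_one h1 Nat.card_pos.ne'

end GL2Values

end Cfsg.Agent.Lib.helper43
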