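import Mathlib
import Cfsg.Prelude.Def_HallClasses

set_option autoImplicit false

namespace Cfsg.Agent.Lib.helper43

open Cfsg

universe u

section General

variable {G : Type*} [Group G] [Finite G]

theorem piHall_fact_eq {π : Set ℕ} {H : Subgroup G} (hH : IsPiHall π H) {p : ℕ}
    (hp : p.Prime) (hpπ : p ∈ π) :
    (Nat.card H).factorization p = (Nat.card G).factorization p := by
  have h1 := H.card_mul_index
  have hnd := hH.2 p hp hpπ
  have hi : H.index ≠ 0 := Subgroup.index_ne_zero_of_finite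
  rw [← h1, Nat.factorization_mul Nat.card_pos.ne' hi]
  simp [Nat.factorization_eq_zero_of_not_dvd hnd]

theorem isPiHall_of_fact {π : Set ℕ} {H : Subgroup G}
    (h1 : ∀ p : ℕ, p.Prime → p ∣ Nat.card H → p ∈ π)
    (h2 : ∀ p : ℕ, p.Prime → p ∈ π →
      (Nat.card G).factorization p ≤ (Nat.card H).factorization p) :
    IsPiHall π H := by
  refine ⟨h1, fun p hp hpπ hd => ?_⟩
  have h3 := H.card_mul_index
  have hi : H.index ≠ 0 := Subgroup.index_ne_zero_of_finite
  have h4 := h2 p hp hpπ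
  rw [← h3, Nat.factorization_mul Nat.card_pos.ne' hi] at h4
  have h5 : 1 ≤ H.index.factorization p := (hp.dvd_iff_one_le_factorization hi).mp hd
  simp only [Finsupp.coe_add, Pi.add_apply] at h4
  omega

theorem hall_split {Q₁ Q₂ : Type*} [Group Q₁] [Finite Q₁] [Group Q₂] [Finite Q₂] {π : Set ℕ}
    {H : Subgroup G} (hH : IsPiHall π H) (f : H →* Q₁) (g : f.ker →* Q₂)
    (hg : Function.Injective g) (hdvd : Nat.card Q₁ * Nat.card Q₂ ∣ Nat.card G) :
    IsPiHall π f.range ∧ IsPiHall π g.range ∧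
      ∀ p : ℕ, p.Prime → p ∈ π →
        (Nat.card G).factorization p =
          (Nat.card Q₁).factorization p + (Nat.card Q₂).factorization p := by
  have hcard : Nat.card H = Nat.card f.range * Nat.card g.range := by
    rw [Subgroup.card_eq_card_quotient_mul_card_subgroup f.ker,
      Nat.card_congr (QuotientGroup.quotientKerEquivRange f).toEquiv,
      Nat.card_congr (MonoidHom.ofInjective hg).toEquiv]
  have hr1 : Nat.card f.range ∣ Nat.card Q₁ := Subgroup.card_subgroup_dvd_card _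
  have hr2 : Nat.card g.range ∣ Nat.card Q₂ := Subgroup.card_subgroup_dvd_card _
  have hpos1 : Nat.card f.range ≠ 0 := Nat.card_pos.ne'
  have hpos2 : Nat.card g.range ≠ 0 := Nat.card_pos.ne'
  have hq1 : Nat.card Q₁ ≠ 0 := Nat.card_pos.ne'
  have hq2 : Nat.card Q₂ ≠ 0 := Nat.card_pos.ne'
  have hG0 : Nat.card G ≠ 0 := Nat.card_pos.ne'
  have key : ∀ p : ℕ, p.Prime → p ∈ π →
      (Nat.card f.range).factorization p = (Nat.card Q₁).factorization p ∧
      (Nat.card g.range).factorization p = (Nat.card Q₂).factorization p ∧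
      (Nat.card G).factorization p =
        (Nat.card Q₁).factorization p + (Nat.card Q₂).factorization p := by
    intro p hp hpπ
    have e1 := piHall_fact_eq hH hp hpπ
    rw [hcard, Nat.factorization_mul hpos1 hpos2] at e1
    simp only [Finsupp.coe_add, Pi.add_apply] at e1
    have l1 : (Nat.card f.range).factorization p ≤ (Nat.card Q₁).factorization p :=
      (Nat.factorization_le_iff_dvd hpos1 hq1).mpr hr1 p
    have l2 : (Nat.card g.range).factorization p ≤ (Nat.card Q₂).factorization p :=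
      (Nat.factorization_le_iff_dvd hpos2 hq2).mpr hr2 p
    have l3 : (Nat.card Q₁ * Nat.card Q₂).factorization p ≤ (Nat.card G).factorization p :=
      (Nat.factorization_le_iff_dvd (Nat.mul_ne_zero hq1 hq2) hG0).mpr hdvd p
    rw [Nat.factorization_mul hq1 hq2] at l3
    simp only [Finsupp.coe_add, Pi.add_apply] at l3
    omega
  refine ⟨isPiHall_of_fact ?_ ?_, isPiHall_of_fact ?_ ?_, fun p hp hpπ => (key p hp hpπ).2.2⟩
  · intro p hp hd
    exact hH.1 p hp (hcard ▸ Dvd.dvd.mul_right hd _)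
  · intro p hp hpπ; exact (key p hp hpπ).1.ge
  · intro p hp hd
    exact hH.1 p hp (hcard ▸ Dvd.dvd.mul_left hd _)
  · intro p hp hpπ; exact (key p hp hpπ).2.1.ge

omit [Finite G] in
theorem isPiHall_map_equiv {G' : Type*} [Group G'] [Finite G'] (φ : G ≃* G') {π : Set ℕ}
    {H : Subgroup G} (hH : IsPiHall π H) : IsPiHall π (H.map φ.toMonoidHom) := by
  refine ⟨fun p hp hd => hH.1 p hp ?_, fun p hp hpπ hd => hH.2 p hp hpπ ?_⟩
  · rwa [Subgroup.card_map_of_injective φ.injective] at hd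
  · have := Subgroup.index_map_equiv (H := H) φ
    rw [← this]; exact hd

end General

theorem hall_pi_eval {ι : Type*} [Fintype ι] [DecidableEq ι] {Gf : ι → Type*}
    [∀ i, Group (Gf i)] [∀ i, Finite (Gf i)]
    {π : Set ℕ} {H : Subgroup (∀ i, Gf i)} (hH : IsPiHall π H) (i : ι) :
    IsPiHall π (H.map (Pi.evalMonoidHom Gf i)) := by
  let f : H →* Gf i := (Pi.evalMonoidHom Gf i).comp H.subtype
  let g : f.ker →* (∀ j : {j // j ≠ i}, Gf j) :=
    { toFun := fun x j => (x : H).1 j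
      map_one' := rfl
      map_mul' := fun _ _ => rfl }
  have hg : Function.Injective g := by
    intro x y hxy
    apply Subtype.ext; apply Subtype.ext
    funext j
    by_cases hj : j = i
    · subst hj
      have hx : f x.1 = 1 := x.2
      have hy : f y.1 = 1 := y.2
      exact hx.trans hy.symm
    · exact congrFun hxy ⟨j, hj⟩
  have hdvd : Nat.card (Gf i) * Nat.card (∀ j : {j // j ≠ i}, Gf j) ∣ Nat.card (∀ j, Gf j) := by
    rw [← Nat.card_prod, Nat.card_congr (Equiv.piSplitAt i Gf)]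
  have h1 := (hall_split hH f g hg hdvd).1
  have hr : f.range = H.map (Pi.evalMonoidHom Gf i) := by
    rw [MonoidHom.range_comp, Subgroup.range_subtype]
  rwa [hr] at h1

theorem hall_perm_congr {α β : Type*} [Finite α] [Finite β] (e : α ≃ β) {π : Set ℕ}
    (h : ∃ K : Subgroup (Equiv.Perm α), IsPiHall π K) :
    ∃ K : Subgroup (Equiv.Perm β), IsPiHall π K := by
  obtain ⟨K, hK⟩ := h
  exact ⟨_, isPiHall_map_equiv e.permCongrHom hK⟩

/-- A Hall subgroup of `Perm α` leaving `Δ` invariant. -/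
theorem hall_intransitive {α : Type*} [Finite α] {π : Set ℕ}
    {H : Subgroup (Equiv.Perm α)} (hH : IsPiHall π H) (Δ : Set α)
    (hΔ : ∀ σ ∈ H, ∀ x ∈ Δ, σ x ∈ Δ) :
    (∃ K : Subgroup (Equiv.Perm Δ), IsPiHall π K) ∧
    (∃ K : Subgroup (Equiv.Perm (Δᶜ : Set α)), IsPiHall π K) ∧
    ∀ p : ℕ, p.Prime → p ∈ π →
      ¬ p ∣ Nat.choose (Nat.card Δ + Nat.card (Δᶜ : Set α)) (Nat.card Δ) := by
  classical
  have hiff : ∀ σ ∈ H, ∀ x, σ x ∈ Δ ↔ x ∈ Δ := by
    intro σ hσ x
    refine ⟨fun hx => ?_, hΔ σ hσ x⟩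
    have := hΔ σ⁻¹ (H.inv_mem hσ) (σ x) hx
    simpa using this
  have hiffc : ∀ σ ∈ H, ∀ x, σ x ∈ Δᶜ ↔ x ∈ Δᶜ := fun σ hσ x => not_congr (hiff σ hσ x)
  let f : H →* Equiv.Perm Δ :=
    { toFun := fun σ => Equiv.Perm.subtypePerm σ.1 (hiff σ.1 σ.2)
      map_one' := by ext x; rfl
      map_mul' := fun σ τ => by ext x; rfl }
  let g : f.ker →* Equiv.Perm (Δᶜ : Set α) :=
    { toFun := fun σ => Equiv.Perm.subtypePerm σ.1.1 (hiffc σ.1.1 σ.1.2)
      map_one' := by ext x; rfl
      map_mul' := fun σ τ => by ext x; rfl }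
  have hg : Function.Injective g := by
    intro σ τ hστ
    apply Subtype.ext; apply Subtype.ext
    ext x
    by_cases hx : x ∈ Δ
    · have h1 : f σ.1 = 1 := σ.2
      have h2 : f τ.1 = 1 := τ.2
      have h3 := congrArg (fun k : Equiv.Perm Δ => (k ⟨x, hx⟩ : α)) (h1.trans h2.symm)
      exact h3
    · have h3 := congrArg (fun k : Equiv.Perm (Δᶜ : Set α) => (k ⟨x, hx⟩ : α)) hστ
      exact h3
  have hsum : Nat.card Δ + Nat.card (Δᶜ : Set α) = Nat.card α := by
    rw [Nat.card_coe_set_eq, Nat.card_coe_set_eq, Set.ncard_add_ncard_compl]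
  have hdvd : Nat.card (Equiv.Perm Δ) * Nat.card (Equiv.Perm (Δᶜ : Set α)) ∣
      Nat.card (Equiv.Perm α) := by
    rw [Nat.card_perm, Nat.card_perm, Nat.card_perm, ← hsum]
    exact Nat.factorial_mul_factorial_dvd_factorial_add _ _
  obtain ⟨h1, h2, h3⟩ := hall_split hH f g hg hdvd
  refine ⟨⟨_, h1⟩, ⟨_, h2⟩, fun p hp hpπ hd => ?_⟩
  have e := h3 p hp hpπ
  rw [Nat.card_perm, Nat.card_perm, Nat.card_perm, ← hsum] at e
  have hc := Nat.add_choose_mul_factorial_mul_factorial (Nat.card (Δᶜ : Set α)) (Nat.card Δ)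
  rw [add_comm] at hc
  have hc0 : Nat.choose (Nat.card Δ + Nat.card (Δᶜ : Set α)) (Nat.card Δ) ≠ 0 :=
    (Nat.choose_pos (Nat.le_add_right _ _)).ne'
  rw [← hc, Nat.factorization_mul (Nat.mul_ne_zero hc0 (Nat.factorial_ne_zero _))
    (Nat.factorial_ne_zero _), Nat.factorization_mul hc0 (Nat.factorial_ne_zero _)] at e
  simp only [Finsupp.coe_add, Pi.add_apply] at e
  have h5 : 1 ≤ (Nat.choose (Nat.card Δ + Nat.card (Δᶜ : Set α)) (Nat.card Δ)).factorization p :=
    (hp.dvd_iff_one_le_factorization hc0).mp hd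
  omega

/-- A Hall `π`-subgroup of `Perm α` contains an `s`-cycle for each prime `s ∈ π`, `s ≤ |α|`. -/
theorem hall_exists_cycle {α : Type*} [Fintype α] [DecidableEq α] {π : Set ℕ}
    {H : Subgroup (Equiv.Perm α)} (hH : IsPiHall π H) {s : ℕ} (hs : s.Prime) (hsπ : s ∈ π)
    (hsn : s ≤ Fintype.card α) : ∃ g ∈ H, g.IsCycle ∧ g.support.card = s := by
  have hfact : Fact s.Prime := ⟨hs⟩
  obtain ⟨c, hc⟩ := (Equiv.Perm.exists_with_cycleType_iff (α := α) (m := {s})).mpr
    ⟨by simpa using hsn, by intro a ha; rw [Multiset.mem_singleton] at ha; rw [ha]; exact hs.two_le⟩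
  have hcyc : c.IsCycle := by
    rw [← Equiv.Perm.card_cycleType_eq_one, hc]; rfl
  have hsupp : c.support.card = s := by
    rw [← Equiv.Perm.sum_cycleType, hc]; rfl
  have hord : orderOf c = s := by rw [hcyc.orderOf, hsupp]
  have hpg : IsPGroup s (Subgroup.zpowers c) := by
    apply IsPGroup.of_card (n := 1)
    rw [Nat.card_zpowers, hord, pow_one]
  obtain ⟨R, hR⟩ := hpg.exists_le_sylow
  let Q : Sylow s H := default
  have hQcard : Nat.card (Q.1.map H.subtype) = s ^ (Nat.card (Equiv.Perm α)).factorization s := by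
    rw [Subgroup.card_map_of_injective H.subtype_injective, Q.card_eq_multiplicity,
      piHall_fact_eq hH hs hsπ]
  let Q' : Sylow s (Equiv.Perm α) := Sylow.ofCard (Q.1.map H.subtype) hQcard
  obtain ⟨x, hx⟩ := MulAction.exists_smul_eq (Equiv.Perm α) R Q'
  have hcR : c ∈ (R : Subgroup (Equiv.Perm α)) := hR (Subgroup.mem_zpowers c)
  have hmem : x * c * x⁻¹ ∈ (Q' : Subgroup (Equiv.Perm α)) := by
    rw [← hx, Sylow.coe_subgroup_smul]
    have h1 := Subgroup.smul_mem_pointwise_smul c (MulAut.conj x) (R : Subgroup _) hcR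
    simpa [MulAut.smul_def] using h1
  have hmemH : x * c * x⁻¹ ∈ H := by
    have h1 : (Q' : Subgroup (Equiv.Perm α)) = Q.1.map H.subtype := Sylow.coe_ofCard _ _
    rw [h1] at hmem
    obtain ⟨y, -, hy⟩ := hmem
    rw [← hy]; exact y.2
  exact ⟨x * c * x⁻¹, hmemH, hcyc.conj, by rw [Equiv.Perm.card_support_conj, hsupp]⟩

end Cfsg.Agent.Lib.helper43
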