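import Mathlib
import Cfsg.Prelude.Def_HallClasses
import Cfsg.Agent.Lib.helper43.HallBasic

set_option autoImplicit false

/-!
# Generic lemmas on Hall subgroups (helper43)
-/

namespace Cfsg.Agent.Lib.helper43

open Cfsg
open scoped Pointwise

section GeneralHall

variable {G : Type*} [Group G] [Finite G]

/-- A Hall `π`-subgroup is maximal among `π`-subgroups. -/
theorem hall_eq_of_le {π : Set ℕ} {H K : Subgroup G} (hH : IsPiHall π H) (hle : H ≤ K)
    (hK : ∀ p : ℕ, p.Prime → p ∣ Nat.card K → p ∈ π) : H = K := by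
  have h1 : H.relIndex K ∣ H.index := Subgroup.relIndex_dvd_index_of_le hle
  have h2 : H.relIndex K ∣ Nat.card K := Subgroup.relIndex_dvd_card H K
  have h3 : H.relIndex K = 1 := by
    by_contra hne
    obtain ⟨p, hp, hpd⟩ := Nat.exists_prime_and_dvd hne
    exact hH.2 p hp (hK p hp (dvd_trans hpd h2)) (dvd_trans hpd h1)
  exact le_antisymm hle (Subgroup.relIndex_eq_one.mp h3)

theorem isPiHall_map_of_surjective {G' : Type*} [Group G'] [Finite G'] {π : Set ℕ}
    {H : Subgroup G} (hH : IsPiHall π H) (f : G →* G') (hf : Function.Surjective f) :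
    IsPiHall π (H.map f) :=
  ⟨fun p hp hd => hH.1 p hp (dvd_trans hd (Subgroup.card_map_dvd H f)),
    fun p hp hpπ hd => hH.2 p hp hpπ (dvd_trans hd (Subgroup.index_map_dvd H hf))⟩

theorem relIndex_dvd_index_of_normal_right (H N : Subgroup G) [N.Normal] :
    H.relIndex N ∣ H.index := by
  have h1 : (H ⊓ N).index = H.relIndex N * N.index := by
    rw [← Subgroup.inf_relIndex_right, Subgroup.relIndex_mul_index inf_le_right]
  have h2 : (H ⊓ N).index = N.relIndex H * H.index := by
    rw [← Subgroup.inf_relIndex_left, Subgroup.relIndex_mul_index inf_le_left]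
  have h3 : N.index = N.relIndex H * (H ⊔ N).index := by
    rw [← Subgroup.relIndex_sup_right, Subgroup.relIndex_mul_index le_sup_right]
  have h4 : N.relIndex H ≠ 0 := (Subgroup.index_ne_zero_of_finite : (N.subgroupOf H).index ≠ 0)
  have h5 : N.relIndex H * (H.relIndex N * (H ⊔ N).index) = N.relIndex H * H.index := by
    rw [← h2, h1, h3]; ring
  exact Dvd.intro _ (Nat.eq_of_mul_eq_mul_left (Nat.pos_of_ne_zero h4) h5)

/-- The intersection of a Hall subgroup with a normal subgroup is a Hall subgroup of it. -/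
theorem isPiHall_subgroupOf_normal {π : Set ℕ} {H : Subgroup G} (hH : IsPiHall π H)
    (N : Subgroup G) [N.Normal] : IsPiHall π (H.subgroupOf N) := by
  refine ⟨fun p hp hd => hH.1 p hp (dvd_trans hd ?_), fun p hp hpπ hd => hH.2 p hp hpπ
    (dvd_trans hd (relIndex_dvd_index_of_normal_right H N))⟩
  have h1 : (H ⊓ N).subgroupOf N = H.subgroupOf N := Subgroup.inf_subgroupOf_right H N
  rw [← h1, Nat.card_congr (Subgroup.subgroupOfEquivOfLe (inf_le_right : H ⊓ N ≤ N)).toEquiv]
  exact Subgroup.card_dvd_of_le inf_le_left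

theorem hall_eq_top {π : Set ℕ} (h : ∀ r : ℕ, r.Prime → r ∣ Nat.card G → r ∈ π)
    {H : Subgroup G} (hH : IsPiHall π H) : H = ⊤ := by
  rw [← Subgroup.index_eq_one]
  by_contra hne
  obtain ⟨p, hp, hpd⟩ := Nat.exists_prime_and_dvd hne
  exact hH.2 p hp (h p hp (dvd_trans hpd (Subgroup.index_dvd_card H))) hpd

theorem isPiHall_top {π : Set ℕ} (h : ∀ r : ℕ, r.Prime → r ∣ Nat.card G → r ∈ π) :
    IsPiHall π (⊤ : Subgroup G) := by
  refine ⟨fun p hp hd => h p hp ?_, fun p hp _ hd => ?_⟩
  · rwa [Subgroup.card_top] at hd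
  · rw [Subgroup.index_top] at hd
    exact hp.one_lt.ne' (Nat.dvd_one.mp hd)

/-- If at most one prime of `π` divides `|G|`, Hall `π`-subgroups are conjugate. -/
theorem hall_conj_of_unique_prime {π : Set ℕ}
    (h1 : ∀ r s : ℕ, r.Prime → s.Prime → r ∈ π → s ∈ π → r ∣ Nat.card G → s ∣ Nat.card G → r = s)
    {H K : Subgroup G} (hH : IsPiHall π H) (hK : IsPiHall π K) :
    ∃ g : G, K = H.map (MulAut.conj g).toMonoidHom := by
  by_cases hex : ∃ s : ℕ, s.Prime ∧ s ∈ π ∧ s ∣ Nat.card G
  · obtain ⟨s, hs, hsπ, hsG⟩ := hex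
    have hfact : Fact s.Prime := ⟨hs⟩
    have key : ∀ L : Subgroup G, IsPiHall π L →
        Nat.card L = s ^ (Nat.card G).factorization s := by
      intro L hL
      have h2 : ∀ {d : ℕ}, d.Prime → d ∣ Nat.card L → d = s := by
        intro d hd hdL
        exact h1 d s hd hs (hL.1 d hd hdL) hsπ (dvd_trans hdL (Subgroup.card_subgroup_dvd_card L))
          hsG
      have h3 := Nat.eq_prime_pow_of_unique_prime_dvd (Nat.card_pos (α := L)).ne' h2
      have h4 := piHall_fact_eq hL hs hsπ
      rw [h3] at h4 ⊢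
      rw [Nat.factorization_pow, Finsupp.smul_apply, hs.factorization_self, smul_eq_mul,
        mul_one] at h4
      rw [h4]
    let P : Sylow s G := Sylow.ofCard H (key H hH)
    let Q : Sylow s G := Sylow.ofCard K (key K hK)
    obtain ⟨g, hg⟩ := MulAction.exists_smul_eq G P Q
    refine ⟨g, ?_⟩
    have h5 : (Q : Subgroup G) = MulAut.conj g • (P : Subgroup G) := by
      rw [← hg, Sylow.coe_subgroup_smul]
    have h6 : (Q : Subgroup G) = K := Sylow.coe_ofCard _ _
    have h7 : (P : Subgroup G) = H := Sylow.coe_ofCard _ _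
    rw [h6, h7] at h5
    rw [h5]
    rfl
  · push Not at hex
    have key : ∀ L : Subgroup G, IsPiHall π L → L = ⊥ := by
      intro L hL
      rw [← Subgroup.card_eq_one]
      by_contra hne
      obtain ⟨p, hp, hpd⟩ := Nat.exists_prime_and_dvd hne
      exact hex p hp (hL.1 p hp hpd) (dvd_trans hpd (Subgroup.card_subgroup_dvd_card L))
    refine ⟨1, ?_⟩
    rw [key H hH, key K hK, Subgroup.map_bot]

/-- A proper subgroup of a finite simple group has index `k` with `|G| ∣ k!`. -/
theorem card_dvd_factorial_index_of_simple [IsSimpleGroup G] {H : Subgroup G} (hH : H ≠ ⊤) :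
    Nat.card G ∣ H.index.factorial := by
  have hn : H.normalCore.Normal := inferInstance
  rcases hn.eq_bot_or_eq_top with h | h
  · rw [Subgroup.normalCore_eq_ker] at h
    have hinj : Function.Injective (MulAction.toPermHom G (G ⧸ H)) :=
      (MonoidHom.ker_eq_bot_iff _).mp h
    have := Subgroup.card_dvd_of_injective _ hinj
    rwa [Nat.card_perm, ← Subgroup.index_eq_card] at this
  · exact absurd (top_le_iff.mp (h ▸ Subgroup.normalCore_le H)) hH

/-- a subgroup not contained in a normal subgroup of index two meets it in half of itself -/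
theorem card_eq_two_mul_card_inf (N : Subgroup G) [N.Normal] (hN : N.index = 2) (W : Subgroup G)
    (hW : ¬ W ≤ N) : Nat.card W = 2 * Nat.card ↥(W ⊓ N) := by
  have h1 := (N.subgroupOf W).card_mul_index
  have h2 : (N.subgroupOf W).index = 2 := by
    have h3 : N.relIndex W ∣ 2 := hN ▸ Subgroup.relIndex_dvd_index_of_normal N W
    have h4 : N.relIndex W ≠ 1 := fun h => hW (Subgroup.relIndex_eq_one.mp h)
    have h5 := Nat.le_of_dvd (by norm_num) h3
    have h6 : N.relIndex W ≠ 0 := (Subgroup.index_ne_zero_of_finite : (N.subgroupOf W).index ≠ 0)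
    show N.relIndex W = 2
    omega
  have h3 : (W ⊓ N).subgroupOf W = N.subgroupOf W := Subgroup.inf_subgroupOf_left N W
  rw [h2, ← h3, Nat.card_congr (Subgroup.subgroupOfEquivOfLe (inf_le_left : W ⊓ N ≤ W)).toEquiv]
    at h1
  omega

end GeneralHall

end Cfsg.Agent.Lib.helper43
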