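import Mathlib

set_option autoImplicit false

namespace Cfsg.Agent.Lib.helper43

open Nat

/-- Kummer: a carry at position `i` forces `p ∣ choose (a+b) a`. -/
theorem dvd_choose_of_carry {p a b i : ℕ} (hp : p.Prime)
    (h : p ^ i ≤ a % p ^ i + b % p ^ i) : p ∣ Nat.choose (a + b) a := by
  have hi : 1 ≤ i := by
    rcases Nat.eq_zero_or_pos i with rfl | hi
    · simp [Nat.mod_one] at h
    · exact hi
  have hle : p ^ i ≤ a + b := le_trans h (Nat.add_le_add (Nat.mod_le _ _) (Nat.mod_le _ _))
  have hlog : i ≤ Nat.log p (a + b) := Nat.le_log_of_pow_le hp.one_lt hle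
  have hfac := Nat.factorization_choose' (p := p) (n := b) (k := a)
    (b := Nat.log p (b + a) + 1) hp (Nat.lt_succ_self _)
  have hmem : i ∈ Finset.filter (fun i => p ^ i ≤ a % p ^ i + b % p ^ i)
      (Finset.Ico 1 (Nat.log p (b + a) + 1)) := by
    rw [Finset.mem_filter, Finset.mem_Ico]
    exact ⟨⟨hi, by rw [add_comm b a]; omega⟩, h⟩
  have hpos : (Nat.choose (b + a) a).factorization p ≠ 0 := by
    rw [hfac]
    exact Finset.card_ne_zero_of_mem hmem
  have := Nat.dvd_of_factorization_pos hpos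
  rwa [add_comm b a] at this

theorem no_carry_of_not_dvd {p a b : ℕ} (hp : p.Prime) (h : ¬ p ∣ Nat.choose (a + b) a) (i : ℕ) :
    a % p ^ i + b % p ^ i < p ^ i := by
  by_contra hc
  exact h (dvd_choose_of_carry hp (not_lt.mp hc))

theorem mod_of_dvd_succ {M q : ℕ} (hq : 0 < q) (h : q ∣ M + 1) : M % q = q - 1 := by
  obtain ⟨t, ht⟩ := h
  have ht1 : 1 ≤ t := by
    rcases Nat.eq_zero_or_pos t with rfl | h
    · omega
    · exact h
  obtain ⟨t', rfl⟩ : ∃ t', t = t' + 1 := ⟨t - 1, by omega⟩
  have : M = q - 1 + q * t' := by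
    have : q * (t' + 1) = q * t' + q := by ring
    omega
  rw [this, Nat.add_mul_mod_self_left]
  exact Nat.mod_eq_of_lt (by omega)

/-- if `M` is not a power of two then `2 ∣ choose ((M-1)+M) (M-1)`. -/
theorem two_dvd_choose_pred {M : ℕ} (hM : 1 ≤ M) (h : M ≠ 2 ^ Nat.log 2 M) :
    2 ∣ Nat.choose (M - 1 + M) (M - 1) := by
  have h1 : 2 ^ Nat.log 2 M ≤ M := Nat.pow_log_le_self 2 (by omega)
  have h2 : M < 2 ^ (Nat.log 2 M + 1) := Nat.lt_pow_succ_log_self (by norm_num) M
  apply dvd_choose_of_carry (i := Nat.log 2 M + 1) Nat.prime_two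
  rw [Nat.mod_eq_of_lt (by omega : M - 1 < 2 ^ (Nat.log 2 M + 1)), Nat.mod_eq_of_lt h2]
  have : 2 ^ (Nat.log 2 M + 1) = 2 * 2 ^ Nat.log 2 M := by ring
  have : 2 ^ Nat.log 2 M < M := lt_of_le_of_ne h1 (Ne.symm h)
  omega

theorem two_dvd_choose_pred_of_odd {b : ℕ} (hb : 3 ≤ b) (hodd : ¬ 2 ∣ b) :
    2 ∣ Nat.choose (b - 1 + b) (b - 1) := by
  apply two_dvd_choose_pred (by omega)
  intro he
  rcases Nat.eq_zero_or_pos (Nat.log 2 b) with h0 | h0
  · rw [h0] at he
    norm_num at he
    omega
  · apply hodd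
    rw [he]
    exact dvd_pow_self 2 (by omega)

/-- The key arithmetic fact (a special case of Ecklund's theorem). -/
theorem nt1 {m M : ℕ} (hm : 2 ≤ m) (hmM : m ≤ M)
    (h : ∀ p : ℕ, p.Prime → p ≤ M → ¬ p ∣ Nat.choose (m + M) m) : m = 3 ∧ M = 4 := by
  have hK : ∀ p : ℕ, p.Prime → p ≤ M → ∀ i, m % p ^ i + M % p ^ i < p ^ i :=
    fun p hp hpM i => no_carry_of_not_dvd hp (h p hp hpM) i
  -- Step 1: m < M
  have hlt : m < M := by
    rcases lt_or_eq_of_le hmM with h1 | h1
    · exact h1
    · exfalso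
      subst h1
      have := hK 2 Nat.prime_two (by omega) (Nat.log 2 m + 1)
      have h1 : 2 ^ Nat.log 2 m ≤ m := Nat.pow_log_le_self 2 (by omega)
      have h2 : m < 2 ^ (Nat.log 2 m + 1) := Nat.lt_pow_succ_log_self (by norm_num) m
      rw [Nat.mod_eq_of_lt h2] at this
      have : 2 ^ (Nat.log 2 m + 1) = 2 * 2 ^ Nat.log 2 m := by ring
      omega
  -- Step 2: n prime
  have hn : (m + M).Prime := by
    by_contra hnp
    have hdvd : m + M ∣ m := by
      rw [← Nat.factorization_prime_le_iff_dvd (by omega) (by omega)]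
      intro p hp
      by_cases hpn : p ∣ m + M
      · have hpM : p ≤ M := by
          obtain ⟨c, hc⟩ := hpn
          have hc2 : 2 ≤ c := by
            rcases c with _ | _ | c
            · omega
            · exfalso; apply hnp; rw [hc, zero_add, mul_one]; exact hp
            · omega
          have : p * 2 ≤ p * c := Nat.mul_le_mul_left p hc2
          omega
        have hq : p ^ (m + M).factorization p ∣ m + M := Nat.ordProj_dvd _ _
        have hlt' := hK p hp hpM ((m + M).factorization p)
        have h0 : (m % p ^ (m + M).factorization p + M % p ^ (m + M).factorization p)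
            % p ^ (m + M).factorization p = 0 := by
          rw [← Nat.add_mod]; exact Nat.mod_eq_zero_of_dvd hq
        rw [Nat.mod_eq_of_lt hlt'] at h0
        have hm0 : m % p ^ (m + M).factorization p = 0 := (Nat.add_eq_zero_iff.mp h0).1
        exact (hp.pow_dvd_iff_le_factorization (by omega)).mp (Nat.dvd_of_mod_eq_zero hm0)
      · rw [Nat.factorization_eq_zero_of_not_dvd hpn]; exact Nat.zero_le _
    have := Nat.le_of_dvd (by omega) hdvd
    omega
  -- Step 3: M + 1 prime
  have hM1 : (M + 1).Prime := by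
    by_contra hnp
    have hdvd : M + 1 ∣ m := by
      rw [← Nat.factorization_prime_le_iff_dvd (by omega) (by omega)]
      intro p hp
      by_cases hpn : p ∣ M + 1
      · have hpM : p ≤ M := by
          have := Nat.le_of_dvd (by omega) hpn
          rcases lt_or_eq_of_le this with h1 | h1
          · omega
          · exfalso; apply hnp; rw [← h1]; exact hp
        have hqd : p ^ (M + 1).factorization p ∣ M + 1 := Nat.ordProj_dvd _ _
        have hqpos : 0 < p ^ (M + 1).factorization p := pow_pos hp.pos _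
        have hlt' := hK p hp hpM ((M + 1).factorization p)
        rw [mod_of_dvd_succ hqpos hqd] at hlt'
        have hm0 : m % p ^ (M + 1).factorization p = 0 := by
          generalize m % p ^ (M + 1).factorization p = x at hlt'
          omega
        exact (hp.pow_dvd_iff_le_factorization (by omega)).mp (Nat.dvd_of_mod_eq_zero hm0)
      · rw [Nat.factorization_eq_zero_of_not_dvd hpn]; exact Nat.zero_le _
    have := Nat.le_of_dvd (by omega) hdvd
    omega
  -- Step 4: m + 1 ∣ M
  have hm1 : m + 1 ∣ M := by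
    rw [← Nat.factorization_prime_le_iff_dvd (by omega) (by omega)]
    intro p hp
    by_cases hpn : p ∣ m + 1
    · have hpM : p ≤ M := by
        have := Nat.le_of_dvd (by omega) hpn
        omega
      have hqd : p ^ (m + 1).factorization p ∣ m + 1 := Nat.ordProj_dvd _ _
      have hqpos : 0 < p ^ (m + 1).factorization p := pow_pos hp.pos _
      have hlt' := hK p hp hpM ((m + 1).factorization p)
      rw [mod_of_dvd_succ hqpos hqd, add_comm] at hlt'
      have hm0 : M % p ^ (m + 1).factorization p = 0 := by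
        generalize M % p ^ (m + 1).factorization p = x at hlt'
        omega
      exact (hp.pow_dvd_iff_le_factorization (by omega)).mp (Nat.dvd_of_mod_eq_zero hm0)
    · rw [Nat.factorization_eq_zero_of_not_dvd hpn]; exact Nat.zero_le _
  -- Step 5
  have hD : m + M - 1 ∣ m * (m - 1) := by
    rw [← Nat.factorization_prime_le_iff_dvd (by omega) (Nat.mul_ne_zero (by omega) (by omega))]
    intro p hp
    by_cases hpn : p ∣ m + M - 1
    · have hpM : p ≤ M := by
        obtain ⟨c, hc⟩ := hpn
        have hc2 : 2 ≤ c := by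
          rcases c with _ | _ | c
          · omega
          · exfalso
            rw [zero_add, mul_one] at hc
            have hn2 : (p + 1).Prime := by
              have : p + 1 = m + M := by omega
              rw [this]; exact hn
            rcases hp.eq_two_or_odd with h2 | h2
            · omega
            · have h2' : 2 ∣ p + 1 := by omega
              have := (Nat.prime_dvd_prime_iff_eq Nat.prime_two hn2).mp h2'
              omega
          · omega
        have : p * 2 ≤ p * c := Nat.mul_le_mul_left p hc2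
        omega
      have hqd : p ^ (m + M - 1).factorization p ∣ m + M - 1 := Nat.ordProj_dvd _ _
      have hq2 : 2 ≤ p ^ (m + M - 1).factorization p := by
        have h1 : 1 ≤ (m + M - 1).factorization p :=
          (hp.dvd_iff_one_le_factorization (by omega)).mp hpn
        calc 2 ≤ p := hp.two_le
          _ = p ^ 1 := (pow_one p).symm
          _ ≤ p ^ (m + M - 1).factorization p := Nat.pow_le_pow_right hp.pos h1
      have hlt' := hK p hp hpM ((m + M - 1).factorization p)
      have hqm : p ^ (m + M - 1).factorization p ∣ m * (m - 1) := by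
        generalize p ^ (m + M - 1).factorization p = q at hqd hq2 hlt'
        have h1 : (m % q + M % q) % q = 1 := by
          rw [← Nat.add_mod]
          obtain ⟨c, hc⟩ := hqd
          have : m + M = 1 + q * c := by omega
          rw [this, Nat.add_mul_mod_self_left]
          exact Nat.mod_eq_of_lt hq2
        rw [Nat.mod_eq_of_lt hlt'] at h1
        have hcases : m % q = 0 ∨ m % q = 1 := by
          generalize m % q = x at h1
          generalize M % q = y at h1
          omega
        rcases hcases with h0 | h0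
        · exact Dvd.dvd.mul_right (Nat.dvd_of_mod_eq_zero h0) _
        · apply Dvd.dvd.mul_left
          apply Nat.dvd_of_mod_eq_zero
          apply Nat.sub_mod_eq_zero_of_mod_eq
          rw [h0, Nat.mod_eq_of_lt hq2]
      exact (hp.pow_dvd_iff_le_factorization (Nat.mul_ne_zero (by omega) (by omega))).mp hqm
    · rw [Nat.factorization_eq_zero_of_not_dvd hpn]; exact Nat.zero_le _
  -- Step 6: M = m + 1
  obtain ⟨t, ht⟩ := hm1
  obtain ⟨k, hk⟩ := hD
  have ht1 : 1 ≤ t := by
    rcases Nat.eq_zero_or_pos t with rfl | h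
    · omega
    · exact h
  have hk1 : 1 ≤ k := by
    rcases Nat.eq_zero_or_pos k with rfl | h
    · have : 0 < m * (m - 1) := Nat.mul_pos (by omega) (by omega)
      omega
    · exact h
  obtain ⟨a, rfl⟩ : ∃ a, m = a + 2 := ⟨m - 2, by omega⟩
  have e1 : (a + 2) * (a + 1) = (a + 1 + (a + 3) * t) * k := by
    have h1 : a + 2 + M - 1 = a + 1 + (a + 3) * t := by
      rw [ht, show a + 2 + 1 = a + 3 from rfl]; omega
    rw [show a + 2 - 1 = a + 1 by omega, h1] at hk
    exact hk
  have e2 : (a + 3) * (k * (1 + t)) = (a + 3) * a + (2 * k + 2) := by nlinarith [e1]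
  have hdv : a + 3 ∣ 2 * k + 2 := by
    have h1 : a + 3 ∣ (a + 3) * a + (2 * k + 2) := ⟨k * (1 + t), e2.symm⟩
    exact (Nat.dvd_add_right (dvd_mul_right _ _)).mp h1
  have hka : k ≤ a := by
    by_contra hc
    have h1 : a + 1 ≤ k := by omega
    have h2 : (a + 3) * 1 * (a + 1) ≤ (a + 3) * t * k :=
      Nat.mul_le_mul (Nat.mul_le_mul (le_refl (a + 3)) ht1) h1
    nlinarith [e1, h2]
  have h2k : 2 * k + 2 = a + 3 := by
    obtain ⟨c, hc⟩ := hdv
    have hc1 : c = 1 := by
      rcases c with _ | _ | c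
      · omega
      · rfl
      · exfalso
        have : (a + 3) * 2 ≤ (a + 3) * (c + 1 + 1) := Nat.mul_le_mul_left _ (by omega)
        omega
    rw [hc1] at hc; omega
  have hat : t = 1 := by
    obtain ⟨k', rfl⟩ : ∃ k', k = k' + 1 := ⟨k - 1, by omega⟩
    have ha : a = 2 * k' + 1 := by omega
    subst ha
    by_contra hc
    have h2 : 2 ≤ t := by omega
    have h3 : (2 * k' + 4) * (k' + 1) * 2 ≤ (2 * k' + 4) * (k' + 1) * t := Nat.mul_le_mul_left _ h2
    nlinarith [e1, h3]
  have hM : M = a + 3 := by rw [ht, hat]; ring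
  -- Step 7: M is a power of two
  have hpow : M = 2 ^ Nat.log 2 M := by
    by_contra hne
    have h2 := two_dvd_choose_pred (M := M) (by omega) hne
    apply h 2 Nat.prime_two (by omega)
    have : M - 1 = a + 2 := by omega
    rw [this] at h2
    exact h2
  generalize Nat.log 2 M = e at hpow
  have he2 : 2 ≤ e := by
    by_contra hc
    have h1 : e ≤ 1 := by omega
    have h2 : 2 ^ e ≤ 2 ^ 1 := Nat.pow_le_pow_right (by norm_num) h1
    omega
  have heven : Even e := by
    by_contra hodd
    rw [Nat.not_even_iff_odd] at hodd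
    obtain ⟨j, hj⟩ := hodd
    have h3 : 3 ∣ M + 1 := by
      rw [hpow, hj, pow_succ, pow_mul]
      apply Nat.dvd_of_mod_eq_zero
      rw [Nat.add_mod, Nat.mul_mod, Nat.pow_mod]
      norm_num
    have := (Nat.prime_dvd_prime_iff_eq Nat.prime_three hM1).mp h3
    omega
  have hnprime : (2 ^ (e + 1) - 1).Prime := by
    have h1 : a + 2 + M = 2 ^ (e + 1) - 1 := by
      have : 2 ^ (e + 1) = 2 * 2 ^ e := by ring
      omega
    rw [← h1]; exact hn
  have hM1' : (2 ^ e + 1).Prime := by rw [← hpow]; exact hM1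
  have he3 : e % 3 = 0 ∨ e % 3 = 1 ∨ e % 3 = 2 := by omega
  rcases he3 with h0 | h1 | h2
  · exfalso
    obtain ⟨j, hj⟩ : ∃ j, e = 3 * j := ⟨e / 3, by omega⟩
    have hj1 : 1 ≤ j := by omega
    have hd : 2 ^ j + 1 ∣ 2 ^ e + 1 := by
      have h1 := Odd.nat_add_dvd_pow_add_pow (2 ^ j) 1 (show Odd 3 by decide)
      rw [one_pow, ← pow_mul, mul_comm j 3, ← hj] at h1
      exact h1
    rcases (Nat.dvd_prime hM1').mp hd with h | h
    · have : 0 < 2 ^ j := by positivity
      omega
    · have : 2 ^ j < 2 ^ e := Nat.pow_lt_pow_right (by norm_num) (by omega)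
      omega
  · exfalso
    obtain ⟨j, hj⟩ : ∃ j, e = 6 * j + 4 := by
      obtain ⟨c, hc⟩ := heven
      exact ⟨e / 6, by omega⟩
    have hM9 : M % 9 = 7 := by
      rw [hpow, hj, pow_add, pow_mul, Nat.mul_mod, Nat.pow_mod]
      norm_num
    have h9 := hK 3 Nat.prime_three (by omega) 2
    have hm9 : (a + 2) % 9 = 6 := by omega
    norm_num at h9
    omega
  · obtain ⟨j, hj⟩ : ∃ j, e + 1 = 3 * j := ⟨(e + 1) / 3, by omega⟩
    have hd : 7 ∣ 2 ^ (e + 1) - 1 := by
      have h1 := Nat.sub_dvd_pow_sub_pow 8 1 j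
      rw [one_pow] at h1
      rw [hj, pow_mul]
      exact h1
    have h7 := (Nat.prime_dvd_prime_iff_eq (by norm_num) hnprime).mp hd
    have hpos : 0 < 2 ^ (e + 1) := by positivity
    have h8 : 2 ^ (e + 1) = 2 ^ 3 := by omega
    have he' : e + 1 = 3 := Nat.pow_right_injective (le_refl 2) h8
    have hee : e = 2 := by omega
    have hM4 : M = 4 := by rw [hpow, hee]; norm_num
    exact ⟨by omega, hM4⟩

/-- criterion: `q = p^i` odd, `q ∣ 2b - s` with `s` odd, `s < q` implies
`p ∣ choose ((b-1)+b) (b-1)`. -/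
theorem dvd_choose_pred_of_dvd {p i b s : ℕ} (hp : p.Prime) (hb : 1 ≤ b) (hs : Odd s)
    (hsq : s < p ^ i) (hodd : Odd (p ^ i)) (hs2 : s ≤ 2 * b) (hd : p ^ i ∣ 2 * b - s) :
    p ∣ Nat.choose (b - 1 + b) (b - 1) := by
  apply dvd_choose_of_carry (i := i) hp
  generalize p ^ i = q at hsq hodd hd ⊢
  have hqpos : 0 < q := by omega
  obtain ⟨β, hβ⟩ : ∃ β, β = b % q := ⟨_, rfl⟩
  have hβq : β < q := by rw [hβ]; exact Nat.mod_lt _ hqpos
  have h2b : (2 * b) % q = s := by
    obtain ⟨c, hc⟩ := hd
    have : 2 * b = s + q * c := by omega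
    rw [this, Nat.add_mul_mod_self_left]
    exact Nat.mod_eq_of_lt hsq
  have h2 : (2 * β) % q = s := by
    calc (2 * β) % q = (2 % q * (β % q)) % q := Nat.mul_mod _ _ _
      _ = (2 % q * (b % q)) % q := by rw [hβ, Nat.mod_mod]
      _ = (2 * b) % q := (Nat.mul_mod _ _ _).symm
      _ = s := h2b
  have hcase : 2 * β = s ∨ 2 * β = s + q := by
    rcases lt_or_ge (2 * β) q with h | h
    · left; rwa [Nat.mod_eq_of_lt h] at h2
    · right
      have h3 : (2 * β - q) % q = s := by rw [← h2]; exact (Nat.mod_eq_sub_mod h).symm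
      rw [Nat.mod_eq_of_lt (by omega)] at h3
      omega
  obtain ⟨s', hs'⟩ := hs
  obtain ⟨q', hq'⟩ := hodd
  have hβ2 : 2 * β = s + q := by omega
  have hβ1 : 1 ≤ β := by omega
  have hb1 : (b - 1) % q = β - 1 := by
    have h4 := Nat.div_add_mod b q
    rw [← hβ] at h4
    have : b - 1 = (β - 1) + q * (b / q) := by omega
    rw [this, Nat.add_mul_mod_self_left]
    exact Nat.mod_eq_of_lt (by omega)
  rw [hb1, ← hβ]
  omega

theorem block_pow_two {b k : ℕ} (hb : 3 ≤ b) (hk : 2 ≤ k)
    (h : ∀ p : ℕ, p.Prime → p ≤ b → ∀ j, 1 ≤ j → j ≤ k → ¬ p ∣ Nat.choose (j * b - 1) (b - 1)) :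
    b = 4 ∧ k = 2 := by
  have h2 : ∀ p : ℕ, p.Prime → p ≤ b → ¬ p ∣ Nat.choose (b - 1 + b) (b - 1) := by
    intro p hp hpb
    have := h p hp hpb 2 (by norm_num) hk
    rwa [show 2 * b - 1 = b - 1 + b by omega] at this
  have hpow : b = 2 ^ Nat.log 2 b := by
    by_contra hne
    exact h2 2 Nat.prime_two (by omega) (two_dvd_choose_pred (by omega) hne)
  generalize Nat.log 2 b = L at hpow
  have hb4 : b = 4 := by
    by_contra hb4
    have hL3 : 3 ≤ L := by
      by_contra hc
      have : L ≤ 2 := by omega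
      interval_cases L <;> norm_num at hpow <;> omega
    rcases Nat.eq_or_lt_of_le hL3 with h3 | h3
    · have hb8 : b = 8 := by rw [hpow, ← h3]; norm_num
      apply h2 3 Nat.prime_three (by omega)
      rw [hb8]; decide
    · have hb16 : 16 ≤ b := by
        rw [hpow]
        calc 16 = 2 ^ 4 := by norm_num
          _ ≤ 2 ^ L := Nat.pow_le_pow_right (by norm_num) (by omega)
      have hnd : ∀ p : ℕ, p.Prime → p ≠ 2 → ¬ p ∣ 2 * b := by
        intro p hp hp2 hd
        rw [hpow, ← pow_succ'] at hd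
        have := (Nat.prime_dvd_prime_iff_eq hp Nat.prime_two).mp (hp.dvd_of_dvd_pow hd)
        exact hp2 this
      have crit : ∀ p i s : ℕ, p.Prime → p ≠ 2 → p ≤ b → Odd s → s < p ^ i → s ≤ 2 * b →
          p ^ i ∣ 2 * b - s → False := by
        intro p i s hp hp2 hpb hs hsq hs2 hd
        exact h2 p hp hpb (dvd_choose_pred_of_dvd hp (by omega) hs hsq
          ((hp.odd_of_ne_two hp2).pow) hs2 hd)
      have key : ∀ s : ℕ, Odd s → s ≤ 5 → ¬ (2 * b - s).Prime →
          ∃ p, p.Prime ∧ p ≠ 2 ∧ p ≤ s ∧ p ∣ 2 * b - s := by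
        intro s hs hs5 hnp
        have hmf : (2 * b - s).minFac.Prime := Nat.minFac_prime (by omega)
        have hmf2 : (2 * b - s).minFac ≠ 2 := by
          intro h2'
          have h2d : 2 ∣ 2 * b - s := by
            have h2e := Nat.minFac_dvd (2 * b - s)
            rw [h2'] at h2e
            exact h2e
          obtain ⟨s', hs'⟩ := hs
          omega
        refine ⟨(2 * b - s).minFac, hmf, hmf2, ?_, Nat.minFac_dvd _⟩
        by_contra hc
        have hlt : s < (2 * b - s).minFac := by omega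
        have hsq := Nat.minFac_sq_le_self (by omega : 0 < 2 * b - s) hnp
        have hpb : (2 * b - s).minFac ≤ b := by
          by_contra hc2
          have h4 : b + 1 ≤ (2 * b - s).minFac := by omega
          have h5 : (b + 1) * (b + 1) ≤ (2 * b - s).minFac * (2 * b - s).minFac :=
            Nat.mul_le_mul h4 h4
          have h6 : 2 * b - s ≤ 2 * b := Nat.sub_le _ _
          nlinarith [h5, h6, hsq]
        exact crit _ 1 s hmf hmf2 hpb hs (by rwa [pow_one]) (by omega)
          (by rw [pow_one]; exact Nat.minFac_dvd _)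
      have p1 : (2 * b - 1).Prime := by
        by_contra hnp
        obtain ⟨p, hp, hp2, hp1, -⟩ := key 1 (by decide) (by norm_num) hnp
        have := hp.two_le; omega
      have p3 : (2 * b - 3).Prime := by
        by_contra hnp
        obtain ⟨p, hp, hp2, hp3, hd⟩ := key 3 (by decide) (by norm_num) hnp
        have hp3' : p = 3 := by have := hp.two_le; omega
        subst hp3'
        apply hnd 3 hp (by norm_num)
        have : 2 * b = (2 * b - 3) + 3 := by omega
        rw [this]; exact Dvd.dvd.add hd (dvd_refl 3)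
      have h35 : 3 ∣ 2 * b - 5 := by
        have h31 : ¬ 3 ∣ 2 * b - 1 := fun hd => by
          have := (Nat.prime_dvd_prime_iff_eq Nat.prime_three p1).mp hd; omega
        have h33 : ¬ 3 ∣ 2 * b - 3 := fun hd => by
          have := (Nat.prime_dvd_prime_iff_eq Nat.prime_three p3).mp hd; omega
        have hb3 : b % 3 = 0 ∨ b % 3 = 1 ∨ b % 3 = 2 := by omega
        rcases hb3 with h | h | h <;> omega
      have h95 : ¬ 9 ∣ 2 * b - 5 := by
        intro hd
        exact crit 3 2 5 Nat.prime_three (by norm_num) (by omega) (by decide) (by norm_num)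
          (by omega) (by norm_num; exact hd)
      obtain ⟨N', hN'⟩ := h35
      have hN'9 : 9 ≤ N' := by omega
      have hN'3 : ¬ 3 ∣ N' := by
        rintro ⟨c, hc⟩; apply h95; exact ⟨c, by rw [hN', hc]; ring⟩
      have hN'odd : ¬ 2 ∣ N' := by
        rintro ⟨c, hc⟩; omega
      have hp'prime : N'.minFac.Prime := Nat.minFac_prime (by omega)
      have hp'd : N'.minFac ∣ N' := Nat.minFac_dvd _
      have hp'2 : N'.minFac ≠ 2 := fun h2' => hN'odd (h2' ▸ hp'd)
      have hp'3 : N'.minFac ≠ 3 := fun h3' => hN'3 (h3' ▸ hp'd)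
      have hp'N : N'.minFac ∣ 2 * b - 5 := by rw [hN']; exact Dvd.dvd.mul_left hp'd 3
      have hp'le : N'.minFac ≤ b := by
        have := Nat.le_of_dvd (by omega) hp'd
        omega
      by_cases hp'5 : N'.minFac = 5
      · apply hnd 5 (by norm_num) (by norm_num)
        have : 2 * b = (2 * b - 5) + 5 := by omega
        rw [this]; exact Dvd.dvd.add (hp'5 ▸ hp'N) (dvd_refl 5)
      · have hp'7 : 5 < N'.minFac := by
          have := hp'prime.two_le
          by_contra hc
          have h4 : N'.minFac = 4 := by omega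
          rw [h4] at hp'prime; exact absurd hp'prime (by decide)
        exact crit N'.minFac 1 5 hp'prime hp'2 hp'le (by decide) (by rwa [pow_one]) (by omega)
          (by rw [pow_one]; exact hp'N)
  refine ⟨hb4, ?_⟩
  by_contra hk2
  have hk3 : 3 ≤ k := by omega
  have := h 3 Nat.prime_three (by omega) 3 (by norm_num) hk3
  rw [hb4] at this
  exact this (by decide)

theorem small_case_seven {m : ℕ} (h1 : 1 ≤ m) (h7 : m ≤ 7) : 2 ∣ Nat.choose (m + 7) m := by
  interval_cases m <;> decide

theorem small_case_eight {m : ℕ} (h1 : 1 ≤ m) (h8 : m ≤ 8) :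
    2 ∣ Nat.choose (m + 8) m ∨ 3 ∣ Nat.choose (m + 8) m := by
  interval_cases m <;> decide

theorem factorial_mul_eq (b : ℕ) (hb : 1 ≤ b) (k : ℕ) :
    (k * b)! = (b !) ^ k * k ! * ∏ j ∈ Finset.range k, Nat.choose ((j + 1) * b - 1) (b - 1) := by
  induction k with
  | zero => simp
  | succ k ih =>
    have h1 : ((k + 1) * b)! = Nat.choose (k * b + b) b * (k * b)! * b ! := by
      rw [show (k + 1) * b = k * b + b by ring]
      exact (Nat.add_choose_mul_factorial_mul_factorial (k * b) b).symm
    have h2 : Nat.choose (k * b + b) b = (k + 1) * Nat.choose ((k + 1) * b - 1) (b - 1) := by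
      obtain ⟨b', rfl⟩ : ∃ b', b = b' + 1 := ⟨b - 1, by omega⟩
      have h3 := Nat.add_one_mul_choose_eq (k * (b' + 1) + b') b'
      have e : k * (b' + 1) + b' + 1 = (k + 1) * (b' + 1) := by ring
      rw [e] at h3
      have e2 : (k + 1) * (b' + 1) - 1 = k * (b' + 1) + b' := by rw [← e]; omega
      rw [e2, show b' + 1 - 1 = b' by omega,
        show k * (b' + 1) + (b' + 1) = (k + 1) * (b' + 1) by ring]
      apply Nat.eq_of_mul_eq_mul_right (show 0 < b' + 1 by omega)
      rw [← h3]; ring
    rw [h1, h2, ih, Finset.prod_range_succ, Nat.factorial_succ, pow_succ]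
    ring

theorem exists_dvd_choose_of_gt {p b k : ℕ} (hp : p.Prime) (hb : 2 ≤ b) (hpb : b < p)
    (hpn : p ≤ k * b) : ∃ j, 1 ≤ j ∧ j ≤ k ∧ p ∣ Nat.choose (j * b - 1) (b - 1) := by
  classical
  have hex : ∃ j, p ≤ j * b := ⟨k, hpn⟩
  have hjle : p ≤ Nat.find hex * b := Nat.find_spec hex
  have hjk : Nat.find hex ≤ k := Nat.find_min' hex hpn
  have hjm : ∀ j', p ≤ j' * b → Nat.find hex ≤ j' := fun j' h => Nat.find_min' hex h
  generalize Nat.find hex = j at hjle hjk hjm
  have hj2 : 2 ≤ j := by
    by_contra hc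
    have h1 : j ≤ 1 := by omega
    have h2 : j * b ≤ 1 * b := Nat.mul_le_mul_right b h1
    omega
  obtain ⟨j', rfl⟩ : ∃ j', j = j' + 1 := ⟨j - 1, by omega⟩
  have hjm' : j' * b < p := by
    by_contra hc
    have := hjm j' (not_lt.mp hc)
    omega
  have hexp : (j' + 1) * b = j' * b + b := by ring
  have hne : p ≠ (j' + 1) * b := by
    intro he
    have hbd : b ∣ p := ⟨j' + 1, by rw [he]; ring⟩
    rcases (Nat.dvd_prime hp).mp hbd with h | h <;> omega
  refine ⟨j' + 1, by omega, hjk, ?_⟩
  have hfact := Nat.choose_mul_factorial_mul_factorial (n := (j' + 1) * b - 1) (k := b - 1)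
    (by omega)
  have hsub : (j' + 1) * b - 1 - (b - 1) = j' * b := by omega
  rw [hsub] at hfact
  have hd : p ∣ ((j' + 1) * b - 1)! := (hp.dvd_factorial).mpr (by omega)
  rw [← hfact] at hd
  rcases (hp.dvd_mul).mp hd with h | h
  · rcases (hp.dvd_mul).mp h with h | h
    · exact h
    · exact absurd ((hp.dvd_factorial).mp h) (by omega)
  · exact absurd ((hp.dvd_factorial).mp h) (by omega)

theorem two_dvd_choose_self {m : ℕ} (hm : 1 ≤ m) : 2 ∣ Nat.choose (m + m) m := by
  apply dvd_choose_of_carry (i := Nat.log 2 m + 1) Nat.prime_two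
  have h1 : 2 ^ Nat.log 2 m ≤ m := Nat.pow_log_le_self 2 (by omega)
  have h2 : m < 2 ^ (Nat.log 2 m + 1) := Nat.lt_pow_succ_log_self (by norm_num) m
  rw [Nat.mod_eq_of_lt h2]
  have : 2 ^ (Nat.log 2 m + 1) = 2 * 2 ^ Nat.log 2 m := by ring
  omega

theorem not_dvd_choose_prime {M m : ℕ} (hM : M.Prime) (hm : m < M) :
    ¬ M ∣ Nat.choose (m + M) m := by
  intro hd
  have h1 := Nat.ascFactorial_eq_factorial_mul_choose M m
  have h2 : M ∣ (M + 1).ascFactorial m := by
    rw [h1, add_comm M m]; exact Dvd.dvd.mul_left hd _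
  rw [Nat.ascFactorial_eq_prod_range] at h2
  obtain ⟨i, hi, hdi⟩ := (Prime.dvd_finsetProd_iff (Nat.prime_iff.mp hM) _).mp h2
  rw [Finset.mem_range] at hi
  have h3 : M ∣ 1 + i := by
    have : M + 1 + i = M + (1 + i) := by ring
    rw [this] at hdi
    exact (Nat.dvd_add_right (dvd_refl M)).mp hdi
  have := Nat.le_of_dvd (by omega) h3
  omega

end Cfsg.Agent.Lib.helper43
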