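import Mathlib

set_option autoImplicit false

/-!
# Jordan's theorem for prime cycles (helper43)

A primitive permutation group of degree `n` containing a `p`-cycle, `p` prime, `p + 3 ≤ n`,
contains the alternating group (Wielandt 13.9).
-/

namespace Cfsg.Agent.Lib.helper43

open Equiv Equiv.Perm MulAction

theorem exists_mem_eqOn_of_multiplyPretransitive {α : Type*} [Finite α]
    {G : Subgroup (Perm α)} {d : ℕ} (hd : IsMultiplyPretransitive G α d) (Δ : Set α)
    (hΔ : Nat.card Δ = d) (τ : Perm α) : ∃ x ∈ G, ∀ z ∈ Δ, x z = τ z := by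
  let e : Δ ≃ Fin d := Finite.equivFinOfCardEq hΔ
  let emb₁ : Fin d ↪ α := e.symm.toEmbedding.trans (Function.Embedding.subtype _)
  let emb₂ : Fin d ↪ α := emb₁.trans τ.toEmbedding
  obtain ⟨σ, hσ⟩ := hd.exists_smul_eq emb₁ emb₂
  refine ⟨σ.1, σ.2, fun z hz => ?_⟩
  have h1 := congrArg (fun f : Fin d ↪ α => f (e ⟨z, hz⟩)) hσ
  simpa [emb₁, emb₂, Subgroup.smul_def] using h1

theorem alternatingGroup_le_of_isPreprimitive_of_prime_cycle {α : Type*} [Fintype α]
    [DecidableEq α] {G : Subgroup (Perm α)} (hG : IsPreprimitive G α)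
    {p : ℕ} (hp : p.Prime) (hp' : p + 3 ≤ Nat.card α)
    {g : Perm α} (hgc : g.IsCycle) (hgp : g.support.card = p) (hg : g ∈ G) :
    alternatingGroup α ≤ G := by
  classical
  have hfact : Fact p.Prime := ⟨hp⟩
  obtain ⟨Δ, hΔdef⟩ : ∃ Δ : Set α, Δ = (g.support : Set α)ᶜ := ⟨_, rfl⟩
  have hmemΔ : ∀ z, z ∈ Δ ↔ g z = z := by
    intro z; simp [hΔdef]
  have hcardΔ : Δ.ncard + p = Nat.card α := by
    rw [hΔdef, ← hgp, ← Set.ncard_coe_finset g.support, add_comm]
    exact Set.ncard_add_ncard_compl _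
  obtain ⟨d', hd'⟩ : ∃ d', Δ.ncard = d' + 3 := ⟨Δ.ncard - 3, by omega⟩
  have hp2 := hp.two_le
  have hmp : IsMultiplyPreprimitive G α (d' + 2 + 2) := by
    apply hG.isMultiplyPreprimitive (s := Δ) (n := d' + 2) (by omega) (by omega)
    rw [hΔdef]
    have := isPretransitive_of_isCycle_mem hgc hg
    apply IsPreprimitive.of_prime_card
    convert! hp
    rw [Nat.card_eq_fintype_card, Fintype.card_subtype, ← hgp]
    apply congr_arg
    ext x
    simp [SubMulAction.mem_ofFixingSubgroup_iff]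
  have hmt : IsMultiplyPretransitive G α (d' + 3) := by
    have h1 : IsMultiplyPretransitive G α (d' + 2 + 2) :=
      IsMultiplyPreprimitive.isMultiplyPretransitive ..
    exact isMultiplyPretransitive_of_le (n := d' + 2 + 2) (by omega) (by omega)
  have hcardΔ' : Nat.card Δ = d' + 3 := by rw [Nat.card_coe_set_eq, hd']
  obtain ⟨a, b, c, ha, hb, hc, hab, hac, hbc⟩ :
      ∃ a b c, a ∈ Δ ∧ b ∈ Δ ∧ c ∈ Δ ∧ a ≠ b ∧ a ≠ c ∧ b ≠ c := by
    have h3 : 2 < Δ.ncard := by omega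
    rw [Set.two_lt_ncard_iff] at h3
    exact h3
  -- the pointwise stabiliser of Δ in G
  let L : Subgroup (Perm α) := G ⊓
    { carrier := {h | ∀ z ∈ Δ, h z = z}
      one_mem' := fun z _ => rfl
      mul_mem' := fun {h k} hh hk z hz => by
        show h (k z) = z
        rw [hk z hz, hh z hz]
      inv_mem' := fun {h} hh z hz => by
        show h⁻¹ z = z
        rw [Perm.inv_eq_iff_eq, hh z hz] }
  have hLmem : ∀ h, h ∈ L ↔ h ∈ G ∧ ∀ z ∈ Δ, h z = z := fun h => Iff.rfl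
  have hgL : g ∈ L := (hLmem g).mpr ⟨hg, fun z hz => (hmemΔ z).mp hz⟩
  have hordg : orderOf g = p := by rw [hgc.orderOf, hgp]
  -- order of L
  have hL1 : p ∣ Nat.card L := by
    have h1 : orderOf (⟨g, hgL⟩ : L) = p := by rw [Subgroup.orderOf_mk, hordg]
    rw [← h1]; exact orderOf_dvd_natCard _
  have hLsupp : ∀ h ∈ L, ∀ x, h x ∈ g.support ↔ x ∈ g.support := by
    intro h hh x
    have h2 := ((hLmem h).mp hh).2
    have hiff : h x ∈ Δ ↔ x ∈ Δ := by
      constructor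
      · intro hx
        have h3 := h2 (h x) hx
        have h4 : h x = x := h.injective h3
        rw [← h4]; exact hx
      · intro hx; rw [h2 x hx]; exact hx
    have e1 : ∀ y, y ∈ g.support ↔ y ∉ Δ := by
      intro y; rw [hmemΔ, Perm.mem_support]
    rw [e1, e1, hiff]
  have hL2 : ¬ p ^ 2 ∣ Nat.card L := by
    let r : L →* Perm {x // x ∈ g.support} :=
      { toFun := fun h => Perm.subtypePerm h.1 (hLsupp h.1 h.2)
        map_one' := by ext x; rfl
        map_mul' := fun _ _ => by ext x; rfl }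
    have hr : Function.Injective r := by
      intro h k hhk
      apply Subtype.ext
      ext x
      by_cases hx : x ∈ g.support
      · exact congrArg (fun f : Perm {x // x ∈ g.support} => (f ⟨x, hx⟩ : α)) hhk
      · have hxΔ : x ∈ Δ := by rw [hmemΔ]; simpa using hx
        rw [((hLmem h.1).mp h.2).2 x hxΔ, ((hLmem k.1).mp k.2).2 x hxΔ]
    have h1 := Subgroup.card_dvd_of_injective r hr
    have hcs : Nat.card {x // x ∈ g.support} = p := by
      rw [Nat.card_eq_fintype_card, Fintype.card_coe, hgp]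
    rw [Nat.card_perm, hcs] at h1
    intro h2
    have h3 : p ^ 2 ∣ p.factorial := dvd_trans h2 h1
    obtain ⟨p', rfl⟩ : ∃ p', p = p' + 1 := ⟨p - 1, by omega⟩
    rw [Nat.factorial_succ, pow_two] at h3
    have h4 : p' + 1 ∣ p'.factorial := Nat.dvd_of_mul_dvd_mul_left (by omega) h3
    have := (hp.dvd_factorial).mp h4
    omega
  have hLfac : (Nat.card L).factorization p = 1 := by
    have hL0 : Nat.card L ≠ 0 := Nat.card_pos.ne'
    have h1 : 1 ≤ (Nat.card L).factorization p := (hp.dvd_iff_one_le_factorization hL0).mp hL1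
    have h2 : ¬ 2 ≤ (Nat.card L).factorization p := fun h =>
      hL2 ((hp.pow_dvd_iff_le_factorization hL0).mpr h)
    omega
  -- the key step: elements of the normaliser of ⟨g⟩ inducing a transposition on Δ
  have key : ∀ u v, u ∈ Δ → v ∈ Δ →
      ∃ x ∈ G, (∀ z ∈ Δ, x z = swap u v z) ∧ ∃ i : ℤ, x * g * x⁻¹ = g ^ i := by
    intro u v hu hv
    obtain ⟨σ, hσG, hσ⟩ := exists_mem_eqOn_of_multiplyPretransitive hmt Δ hcardΔ' (swap u v)
    have hswΔ : ∀ z ∈ Δ, swap u v z ∈ Δ := by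
      intro z hz
      rw [Equiv.swap_apply_def]
      split_ifs <;> assumption
    have hσinv : ∀ z ∈ Δ, σ⁻¹ z = swap u v z := by
      intro z hz
      rw [Perm.inv_eq_iff_eq, hσ _ (hswΔ z hz), Equiv.swap_apply_self]
    have hg₁L : σ * g * σ⁻¹ ∈ L := by
      refine (hLmem _).mpr ⟨G.mul_mem (G.mul_mem hσG hg) (G.inv_mem hσG), fun z hz => ?_⟩
      show σ (g (σ⁻¹ z)) = z
      have h1 : σ⁻¹ z ∈ Δ := by rw [hσinv z hz]; exact hswΔ z hz
      rw [(hmemΔ _).mp h1]
      simp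
    have hord₁ : orderOf (σ * g * σ⁻¹) = p := by
      rw [(hgc.conj (g := σ)).orderOf, Perm.card_support_conj, hgp]
    have hc1 : Nat.card (Subgroup.zpowers (⟨g, hgL⟩ : L)) = p ^ (Nat.card L).factorization p := by
      rw [Nat.card_zpowers, Subgroup.orderOf_mk, hordg, hLfac, pow_one]
    have hc2 : Nat.card (Subgroup.zpowers (⟨σ * g * σ⁻¹, hg₁L⟩ : L)) =
        p ^ (Nat.card L).factorization p := by
      rw [Nat.card_zpowers, Subgroup.orderOf_mk, hord₁, hLfac, pow_one]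
    obtain ⟨ℓ, hℓ⟩ := MulAction.exists_smul_eq L (Sylow.ofCard _ hc2) (Sylow.ofCard _ hc1)
    have hmem : ℓ * ⟨σ * g * σ⁻¹, hg₁L⟩ * ℓ⁻¹ ∈
        (Sylow.ofCard _ hc1 : Subgroup L) := by
      rw [← hℓ, Sylow.coe_subgroup_smul]
      have h1 := Subgroup.smul_mem_pointwise_smul (⟨σ * g * σ⁻¹, hg₁L⟩ : L) (MulAut.conj ℓ)
        (Sylow.ofCard _ hc2 : Subgroup L)
        (by rw [Sylow.coe_ofCard]; exact Subgroup.mem_zpowers _)
      simpa [MulAut.smul_def] using h1
    rw [Sylow.coe_ofCard, Subgroup.mem_zpowers_iff] at hmem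
    obtain ⟨k, hk⟩ := hmem
    have hk' : g ^ k = ℓ.1 * (σ * g * σ⁻¹) * ℓ.1⁻¹ := by
      have := congrArg (fun t : L => (t : Perm α)) hk
      simpa using this
    refine ⟨ℓ.1 * σ, G.mul_mem ((hLmem _).mp ℓ.2).1 hσG, fun z hz => ?_, k, ?_⟩
    · show ℓ.1 (σ z) = swap u v z
      rw [hσ z hz]
      exact ((hLmem _).mp ℓ.2).2 _ (hswΔ z hz)
    · rw [hk']; group
  obtain ⟨x, hxG, hxΔ, i, hxi⟩ := key a b ha hb
  obtain ⟨y, hyG, hyΔ, j, hyj⟩ := key b c hb hc
  have hswΔ : ∀ u v, u ∈ Δ → v ∈ Δ → ∀ z ∈ Δ, swap u v z ∈ Δ := by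
    intro u v hu hv z hz
    rw [Equiv.swap_apply_def]
    split_ifs <;> assumption
  have hxinv : ∀ z ∈ Δ, x⁻¹ z = swap a b z := by
    intro z hz
    rw [Perm.inv_eq_iff_eq, hxΔ _ (hswΔ a b ha hb z hz), Equiv.swap_apply_self]
  have hyinv : ∀ z ∈ Δ, y⁻¹ z = swap b c z := by
    intro z hz
    rw [Perm.inv_eq_iff_eq, hyΔ _ (hswΔ b c hb hc z hz), Equiv.swap_apply_self]
  obtain ⟨w, hwdef⟩ : ∃ w : Perm α, w = x⁻¹ * y⁻¹ * x * y := ⟨_, rfl⟩
  have hwG : w ∈ G := by
    rw [hwdef]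
    exact G.mul_mem (G.mul_mem (G.mul_mem (G.inv_mem hxG) (G.inv_mem hyG)) hxG) hyG
  have hwΔ : ∀ z ∈ Δ, w z = (swap a b * swap b c * swap a b * swap b c) z := by
    intro z hz
    have h1 : swap b c z ∈ Δ := hswΔ b c hb hc z hz
    have h2 : swap a b (swap b c z) ∈ Δ := hswΔ a b ha hb _ h1
    have h3 : swap b c (swap a b (swap b c z)) ∈ Δ := hswΔ b c hb hc _ h2
    rw [hwdef]
    show x⁻¹ (y⁻¹ (x (y z))) = swap a b (swap b c (swap a b (swap b c z)))
    rw [hyΔ z hz, hxΔ _ h1, hyinv _ h2, hxinv _ h3]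
  have hcomm : w * g = g * w := by
    have h1 : (x * y) * g * (x * y)⁻¹ = g ^ (i * j) := by
      calc (x * y) * g * (x * y)⁻¹ = x * (y * g * y⁻¹) * x⁻¹ := by group
        _ = x * g ^ j * x⁻¹ := by rw [hyj]
        _ = (x * g * x⁻¹) ^ j := (conj_zpow).symm
        _ = g ^ (i * j) := by rw [hxi, zpow_mul]
    have h2 : (y * x) * g * (y * x)⁻¹ = g ^ (i * j) := by
      calc (y * x) * g * (y * x)⁻¹ = y * (x * g * x⁻¹) * y⁻¹ := by group
        _ = y * g ^ i * y⁻¹ := by rw [hxi]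
        _ = (y * g * y⁻¹) ^ i := (conj_zpow).symm
        _ = g ^ (i * j) := by rw [hyj, ← zpow_mul, mul_comm]
    have h3 := h1.trans h2.symm
    rw [hwdef]
    calc x⁻¹ * y⁻¹ * x * y * g = (y * x)⁻¹ * ((x * y) * g * (x * y)⁻¹) * (x * y) := by group
      _ = (y * x)⁻¹ * ((y * x) * g * (y * x)⁻¹) * (x * y) := by rw [h3]
      _ = g * (x⁻¹ * y⁻¹ * x * y) := by group
  have hcommz : ∀ n : ℤ, w * g ^ n = g ^ n * w := fun n =>
    (Commute.zpow_right (show Commute w g from hcomm) n).eq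
  -- w preserves the support of g
  have hwsupp : ∀ z, g z ≠ z → g (w z) ≠ w z := by
    intro z hz h1
    have h2 : (w * g) z = (g * w) z := by rw [hcomm]
    rw [Perm.mul_apply, Perm.mul_apply, h1] at h2
    exact hz (w.injective h2)
  obtain ⟨s₀, hs₀⟩ : ∃ s₀, s₀ ∈ g.support := by
    apply Finset.card_pos.mp; omega
  rw [Perm.mem_support] at hs₀
  obtain ⟨k, hk⟩ := hgc.exists_zpow_eq hs₀ (hwsupp s₀ hs₀)
  have hwS : ∀ z, g z ≠ z → w z = (g ^ k) z := by
    intro z hz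
    obtain ⟨n, hn⟩ := hgc.exists_zpow_eq hs₀ hz
    rw [← hn]
    have h1 : w ((g ^ n) s₀) = (g ^ n) (w s₀) := by
      have := congrArg (fun f : Perm α => f s₀) (hcommz n)
      simpa using this
    rw [h1, ← hk, ← Perm.mul_apply, ← Perm.mul_apply, ← zpow_add, ← zpow_add, add_comm]
  obtain ⟨t, htdef⟩ : ∃ t : Perm α, t = (g ^ k)⁻¹ * w := ⟨_, rfl⟩
  have htG : t ∈ G := by
    rw [htdef]; exact G.mul_mem (G.inv_mem (G.zpow_mem hg k)) hwG
  have hteq : t = swap a b * swap b c * swap a b * swap b c := by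
    ext z
    by_cases hz : z ∈ Δ
    · have h1 : w z ∈ Δ := by
        rw [hwΔ z hz]
        exact hswΔ a b ha hb _ (hswΔ b c hb hc _ (hswΔ a b ha hb _ (hswΔ b c hb hc z hz)))
      have h2 : (g ^ k) (w z) = w z :=
        Perm.zpow_apply_eq_self_of_apply_eq_self ((hmemΔ _).mp h1) k
      rw [htdef, Perm.mul_apply, Perm.inv_eq_iff_eq, ← hwΔ z hz, h2]
    · have hgz : g z ≠ z := fun h => hz ((hmemΔ z).mpr h)
      have hza : z ≠ a := fun h => hz (h ▸ ha)
      have hzb : z ≠ b := fun h => hz (h ▸ hb)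
      have hzc : z ≠ c := fun h => hz (h ▸ hc)
      rw [htdef, Perm.mul_apply, Perm.inv_eq_iff_eq]
      simp only [Perm.mul_apply]
      rw [Equiv.swap_apply_of_ne_of_ne hzb hzc, Equiv.swap_apply_of_ne_of_ne hza hzb,
        Equiv.swap_apply_of_ne_of_ne hzb hzc, Equiv.swap_apply_of_ne_of_ne hza hzb]
      exact hwS z hgz
  have h3 : IsThreeCycle (swap b a * swap b c) :=
    isThreeCycle_swap_mul_swap_same hab.symm hbc hac
  have h3sq := h3.isThreeCycle_sq
  have ht3 : IsThreeCycle t := by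
    rw [hteq, Equiv.swap_comm a b]
    have : swap b a * swap b c * swap b a * swap b c =
        swap b a * swap b c * (swap b a * swap b c) := by group
    rw [this]; exact h3sq
  exact alternatingGroup_le_of_isPreprimitive_of_isThreeCycle_mem hG ht3 htG

end Cfsg.Agent.Lib.helper43
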