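import Mathlib
import Cfsg.Agent.Lib.helper43.HallArith
import Cfsg.Agent.Lib.helper43.HallBasic
import Cfsg.Agent.Lib.helper43.JordanPrime

set_option autoImplicit false

/-!
# Hall subgroups of symmetric groups: structure lemmas (helper43)
-/

namespace Cfsg.Agent.Lib.helper43

open Cfsg Equiv MulAction
open scoped Pointwise

universe u

/-- two distinct primes of `π` below `n` and a prime below `n` outside `π` -/
def HallMixed (n : ℕ) (π : Set ℕ) : Prop :=
  (∃ r s : ℕ, r.Prime ∧ s.Prime ∧ r ≠ s ∧ r ∈ π ∧ s ∈ π ∧ r ≤ n ∧ s ≤ n) ∧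
  (∃ r : ℕ, r.Prime ∧ r ≤ n ∧ r ∉ π)

def HallGoal (n : ℕ) (π : Set ℕ) : Prop :=
  (n.Prime ∧ ∀ r : ℕ, r.Prime → r ≤ n → (r ∈ π ↔ r < n)) ∨
  ((n = 7 ∨ n = 8) ∧ ∀ r : ℕ, r.Prime → r ≤ n → (r ∈ π ↔ (r = 2 ∨ r = 3)))

theorem hall_imprimitive {α : Type*} [Fintype α] [DecidableEq α] {π : Set ℕ}
    {H : Subgroup (Perm α)} (hH : IsPiHall π H) [IsPretransitive H α] (B : Set α)
    (hB : IsBlock H B) (hBne : B.Nonempty) :
    ∃ k : ℕ, B.ncard * k = Nat.card α ∧ (∃ K : Subgroup (Perm B), IsPiHall π K) ∧
      ∀ p : ℕ, p.Prime → p ∈ π → ∀ j, 1 ≤ j → j ≤ k →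
        ¬ p ∣ Nat.choose (j * B.ncard - 1) (B.ncard - 1) := by
  classical
  have hk := hB.ncard_block_mul_ncard_orbit_eq hBne
  refine ⟨(orbit H B).ncard, hk, ?_⟩
  have hTfin : Finite (orbit H B) := inferInstance
  have hTft : Fintype (orbit H B) := Fintype.ofFinite _
  let f : H →* Perm (orbit H B) := MulAction.toPermHom H (orbit H B)
  have hker : ∀ σ : f.ker, ∀ t : orbit H B, (σ.1 : H) • (t : Set α) = t := by
    intro σ t
    have h1 : f σ.1 = 1 := σ.2
    have h2 := congrArg (fun τ : Perm (orbit H B) => ((τ t : orbit H B) : Set α)) h1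
    exact h2
  have hkmem : ∀ σ : f.ker, ∀ t : orbit H B, ∀ x : α,
      (σ.1.1 : Perm α) x ∈ (t : Set α) ↔ x ∈ (t : Set α) := by
    intro σ t x
    have h1 := hker σ t
    constructor
    · intro hx
      have h2 : (σ.1 : H) • x ∈ (σ.1 : H) • (t : Set α) := by rw [h1]; exact hx
      exact Set.smul_mem_smul_set_iff.mp h2
    · intro hx
      have h2 : (σ.1 : H) • x ∈ (σ.1 : H) • (t : Set α) := Set.smul_mem_smul_set hx
      rw [h1] at h2
      exact h2
  let g : f.ker →* (∀ t : orbit H B, Perm (t : Set α)) :=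
    { toFun := fun σ t => Perm.subtypePerm σ.1.1 (hkmem σ t)
      map_one' := by funext t; ext x; rfl
      map_mul' := fun σ τ => by funext t; ext x; rfl }
  have hg : Function.Injective g := by
    intro σ τ hστ
    apply Subtype.ext; apply Subtype.ext
    ext x
    obtain ⟨b, hb⟩ := hBne
    obtain ⟨h, hh⟩ := exists_smul_eq H b x
    have hxt : x ∈ h • B := by rw [← hh]; exact Set.smul_mem_smul_set hb
    have h3 := congrArg (fun F : (∀ t : orbit H B, Perm (t : Set α)) =>
      ((F ⟨h • B, mem_orbit B h⟩ ⟨x, hxt⟩ : _) : α)) hστ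
    exact h3
  have hb1 : 1 ≤ B.ncard := (Set.ncard_pos).mpr hBne
  have hQ1 : Nat.card (Perm (orbit H B)) = ((orbit H B).ncard).factorial := by
    rw [Nat.card_perm, Nat.card_coe_set_eq]
  have hQ2 : Nat.card (∀ t : orbit H B, Perm (t : Set α)) =
      (B.ncard.factorial) ^ (orbit H B).ncard := by
    rw [Nat.card_pi]
    have h1 : ∀ t : orbit H B, Nat.card (Perm (t : Set α)) = B.ncard.factorial := by
      intro t
      obtain ⟨h, hh⟩ := t.2
      rw [Nat.card_perm, Nat.card_coe_set_eq]
      have h2 : (t : Set α) = h • B := hh.symm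
      rw [h2, Set.ncard_smul_set]
    rw [Finset.prod_congr rfl (fun t _ => h1 t), Finset.prod_const, Finset.card_univ,
      ← Nat.card_eq_fintype_card, Nat.card_coe_set_eq]
  have hGc : Nat.card (Perm α) = ((orbit H B).ncard * B.ncard).factorial := by
    rw [Nat.card_perm, ← hk, mul_comm]
  have hfm := factorial_mul_eq B.ncard hb1 (orbit H B).ncard
  have hdvd : Nat.card (Perm (orbit H B)) * Nat.card (∀ t : orbit H B, Perm (t : Set α)) ∣
      Nat.card (Perm α) := by
    rw [hQ1, hQ2, hGc, hfm]
    have h0 : (orbit H B).ncard.factorial * B.ncard.factorial ^ (orbit H B).ncard =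
        B.ncard.factorial ^ (orbit H B).ncard * (orbit H B).ncard.factorial := mul_comm _ _
    rw [h0]
    exact dvd_mul_right _ _
  obtain ⟨h1, h2, h3⟩ := hall_split hH f g hg hdvd
  refine ⟨⟨_, hall_pi_eval h2 ⟨B, mem_orbit_self B⟩⟩, ?_⟩
  intro p hp hpπ j hj1 hjk hd
  have e := h3 p hp hpπ
  rw [hQ1, hQ2, hGc, hfm] at e
  have hN0 : (∏ j ∈ Finset.range (orbit H B).ncard,
      Nat.choose ((j + 1) * B.ncard - 1) (B.ncard - 1)) ≠ 0 := by
    rw [Finset.prod_ne_zero_iff]
    intro i _
    apply (Nat.choose_pos _).ne'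
    have : 1 * B.ncard ≤ (i + 1) * B.ncard := Nat.mul_le_mul_right _ (by omega)
    omega
  have hpN : p ∣ ∏ j ∈ Finset.range (orbit H B).ncard,
      Nat.choose ((j + 1) * B.ncard - 1) (B.ncard - 1) := by
    have hmem : j - 1 ∈ Finset.range (orbit H B).ncard := by
      rw [Finset.mem_range]; omega
    have h4 := Finset.dvd_prod_of_mem
      (fun j => Nat.choose ((j + 1) * B.ncard - 1) (B.ncard - 1)) hmem
    have h5 : j - 1 + 1 = j := by omega
    simp only [h5] at h4
    exact dvd_trans hd h4
  have hA0 : B.ncard.factorial ^ (orbit H B).ncard ≠ 0 := pow_ne_zero _ (Nat.factorial_ne_zero _)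
  have hB0 : ((orbit H B).ncard).factorial ≠ 0 := Nat.factorial_ne_zero _
  rw [Nat.factorization_mul (Nat.mul_ne_zero hA0 hB0) hN0, Nat.factorization_mul hA0 hB0] at e
  simp only [Finsupp.coe_add, Pi.add_apply] at e
  have h5 : 1 ≤ (∏ j ∈ Finset.range (orbit H B).ncard,
      Nat.choose ((j + 1) * B.ncard - 1) (B.ncard - 1)).factorization p :=
    (hp.dvd_iff_one_le_factorization hN0).mp hpN
  omega

theorem hall_primitive_false {α : Type*} [Fintype α] [DecidableEq α] {π : Set ℕ}
    {H : Subgroup (Perm α)} (hH : IsPiHall π H) (hprim : IsPreprimitive H α)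
    (h2 : ∃ r s : ℕ, r.Prime ∧ s.Prime ∧ r ≠ s ∧ r ∈ π ∧ s ∈ π ∧ r ≤ Fintype.card α ∧
      s ≤ Fintype.card α)
    (hns : ∃ r : ℕ, r.Prime ∧ r ≤ Fintype.card α ∧ r ∉ π) : False := by
  classical
  obtain ⟨q, hq, hqn, hqπ⟩ := hns
  obtain ⟨n, hn⟩ : ∃ n, n = Fintype.card α := ⟨_, rfl⟩
  rw [← hn] at hqn h2
  have step : ∀ t : ℕ, t.Prime → t ∈ π → t + 3 ≤ n → False := by
    intro t ht htπ htn
    obtain ⟨g, hgH, hgc, hgs⟩ := hall_exists_cycle hH ht htπ (by omega)
    have hA := alternatingGroup_le_of_isPreprimitive_of_prime_cycle hprim ht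
      (by rw [Nat.card_eq_fintype_card, ← hn]; exact htn) hgc hgs hgH
    have hcard : Nat.card (alternatingGroup α) ∣ Nat.card H := Subgroup.card_dvd_of_le hA
    have hnt : Nontrivial α := by rw [← Fintype.one_lt_card_iff_nontrivial]; omega
    have h2A : 2 * Nat.card (alternatingGroup α) = n.factorial := by
      rw [two_mul_nat_card_alternatingGroup, Nat.card_perm, Nat.card_eq_fintype_card, hn]
    have hqA : q ∣ Nat.card (alternatingGroup α) := by
      have hfac : q ∣ n.factorial := (hq.dvd_factorial).mpr hqn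
      rcases eq_or_ne q 2 with rfl | hq2
      · have ht2 := ht.two_le
        have h4 : 4 ∣ n.factorial := Nat.dvd_factorial (by norm_num) (by omega)
        rw [← h2A] at h4
        omega
      · rw [← h2A] at hfac
        exact (Nat.Coprime.dvd_mul_left ((Nat.coprime_primes hq Nat.prime_two).mpr hq2)).mp hfac
    exact hqπ (hH.1 q hq (dvd_trans hqA hcard))
  obtain ⟨r, s, hr, hs, hrs, hrπ, hsπ, hrn, hsn⟩ := h2
  wlog hlt : r < s generalizing r s
  · exact this s r hs hr hrs.symm hsπ hrπ hsn hrn (by omega)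
  by_cases hr3 : r + 3 ≤ n
  · exact step r hr hrπ hr3
  · by_cases hn4 : n ≤ 4
    · have hr2 := hr.two_le
      have h23 : r = 2 ∧ s = 3 := by
        have hs4 : s ≤ 4 := by omega
        have hs' : s ≠ 4 := fun h => by rw [h] at hs; exact absurd hs (by decide)
        omega
      obtain ⟨rfl, rfl⟩ := h23
      have hq2 := hq.two_le
      have hq4 : q ≠ 4 := fun h => by rw [h] at hq; exact absurd hq (by decide)
      have hq23 : q = 2 ∨ q = 3 := by omega
      rcases hq23 with rfl | rfl
      · exact hqπ hrπ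
      · exact hqπ hsπ
    · have hr3' : 3 ≤ r := by omega
      have hrodd : ¬ 2 ∣ r := fun h => by
        have := (Nat.prime_dvd_prime_iff_eq Nat.prime_two hr).mp h; omega
      have hsodd : ¬ 2 ∣ s := fun h => by
        have := (Nat.prime_dvd_prime_iff_eq Nat.prime_two hs).mp h; omega
      have hrn2 : r + 2 = n := by omega
      obtain ⟨g, hgH, hgc, hgs⟩ := hall_exists_cycle hH hr hrπ (by omega)
      have h2t : IsMultiplyPretransitive H α 2 := by
        apply hprim.is_two_pretransitive (s := (g.support : Set α)ᶜ) (n := 1)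
        · have h1 := Set.ncard_add_ncard_compl (g.support : Set α)
          rw [Set.ncard_coe_finset, hgs, Nat.card_eq_fintype_card, ← hn] at h1
          omega
        · rw [Nat.card_eq_fintype_card, ← hn]; omega
        · exact Equiv.Perm.isPretransitive_of_isCycle_mem hgc hgH
      have h2π : 2 ∈ π := by
        have hnt : Nontrivial α := by rw [← Fintype.one_lt_card_iff_nontrivial]; omega
        obtain ⟨a, b, hab⟩ := exists_pair_ne α
        obtain ⟨h, ha, hb⟩ := (is_two_pretransitive_iff.mp h2t) hab hab.symm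
        apply hH.1 2 Nat.prime_two
        have hord : 2 ∣ orderOf h := by
          by_contra hodd
          have h2a : (h ^ 2) • a = a := by rw [pow_two, mul_smul, ha, hb]
          have hpow : ∀ m : ℕ, (h ^ (2 * m)) • a = a := by
            intro m
            induction m with
            | zero => simp
            | succ m ih => rw [Nat.mul_succ, pow_add, mul_smul, h2a, ih]
          obtain ⟨m, hm⟩ : ∃ m, orderOf h + 1 = 2 * m := ⟨(orderOf h + 1) / 2, by omega⟩
          have h1 := hpow m
          rw [← hm, pow_succ, pow_orderOf_eq_one, one_mul, ha] at h1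
          exact hab h1.symm
        exact dvd_trans hord (orderOf_dvd_natCard h)
      exact step 2 Nat.prime_two h2π (by omega)

theorem intrans_core {n m M : ℕ} {π : Set ℕ} (hm1 : 1 ≤ m) (hmM : m ≤ M) (hn : m + M = n)
    (hcop : ∀ p : ℕ, p.Prime → p ∈ π → ¬ p ∣ Nat.choose (m + M) m)
    (hmix : HallMixed n π) (hcls : HallMixed M π → HallGoal M π) : HallGoal n π := by
  obtain ⟨⟨r, s, hr, hs, hrs, hrπ, hsπ, hrn, hsn⟩, ⟨q, hq, hqn, hqπ⟩⟩ := hmix
  have hle : ∀ p : ℕ, p.Prime → p ∈ π → p ≤ n → p ≤ M := by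
    intro p hp hpπ hpn
    by_contra hc
    apply hcop p hp hpπ
    have hfact := Nat.add_choose_mul_factorial_mul_factorial M m
    have hd : p ∣ (M + m).factorial := (hp.dvd_factorial).mpr (by omega)
    rw [← hfact] at hd
    rcases (hp.dvd_mul).mp hd with h | h
    · rcases (hp.dvd_mul).mp h with h | h
      · rwa [add_comm] at h
      · exact absurd ((hp.dvd_factorial).mp h) (by omega)
    · exact absurd ((hp.dvd_factorial).mp h) (by omega)
  have hrM := hle r hr hrπ hrn
  have hsM := hle s hs hsπ hsn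
  by_cases hall : ∀ t : ℕ, t.Prime → t ≤ M → t ∈ π
  · rcases Nat.lt_or_ge m 2 with hm2 | hm2
    · have hm : m = 1 := by omega
      subst hm
      left
      have hnp : n.Prime := by
        by_contra hnp
        have h2 : 2 ≤ n := by have := hr.two_le; omega
        have hmf := Nat.minFac_prime (show n ≠ 1 by omega)
        have hmfd := Nat.minFac_dvd n
        have hmfle : n.minFac ≤ M := by
          have h1 := Nat.minFac_le (show 0 < n by omega)
          rcases lt_or_eq_of_le h1 with h | h
          · omega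
          · exfalso; apply hnp; rw [← h]; exact hmf
        apply hcop _ hmf (hall _ hmf hmfle)
        rw [Nat.choose_one_right, hn]; exact hmfd
      refine ⟨hnp, fun t ht htn => ⟨fun htπ => ?_, fun htlt => hall t ht (by omega)⟩⟩
      have := hle t ht htπ htn; omega
    · obtain ⟨h3, h4⟩ := nt1 hm2 hmM (fun p hp hpM => hcop p hp (hall p hp hpM))
      subst h3; subst h4
      right
      refine ⟨Or.inl (by omega), fun t ht htn => ⟨fun htπ => ?_, fun h23 => ?_⟩⟩
      · have h4 := hle t ht htπ htn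
        have h2 := ht.two_le
        have : t ≠ 4 := fun h => by rw [h] at ht; exact absurd ht (by decide)
        omega
      · rcases h23 with rfl | rfl
        · exact hall 2 Nat.prime_two (by norm_num)
        · exact hall 3 Nat.prime_three (by norm_num)
  · exfalso
    push Not at hall
    obtain ⟨t, ht, htM, htπ⟩ := hall
    have hmixM : HallMixed M π := ⟨⟨r, s, hr, hs, hrs, hrπ, hsπ, hrM, hsM⟩, ⟨t, ht, htM, htπ⟩⟩
    rcases hcls hmixM with ⟨hMp, hMπ⟩ | ⟨hM78, hMπ⟩
    · have hM5 : 5 ≤ M := by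
        have h1 : r < M := (hMπ r hr hrM).mp hrπ
        have h2 : s < M := (hMπ s hs hsM).mp hsπ
        have := hr.two_le; have := hs.two_le
        by_contra hc
        have hM4 : M ≤ 4 := by omega
        have : M ≠ 4 := fun h => by rw [h] at hMp; exact absurd hMp (by decide)
        omega
      have h2π : 2 ∈ π := (hMπ 2 Nat.prime_two (by omega)).mpr (by omega)
      rcases lt_or_eq_of_le hmM with hlt | heq
      · have hall' : ∀ p : ℕ, p.Prime → p ≤ M → ¬ p ∣ Nat.choose (m + M) m := by
          intro p hp hpM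
          rcases lt_or_eq_of_le hpM with h | h
          · exact hcop p hp ((hMπ p hp hpM).mpr h)
          · subst h
            exact not_dvd_choose_prime hp hlt
        rcases Nat.lt_or_ge m 2 with hm2 | hm2
        · have hm : m = 1 := by omega
          subst hm
          apply hcop 2 Nat.prime_two h2π
          rw [Nat.choose_one_right]
          have hodd : ¬ 2 ∣ M := fun h => by
            have := (Nat.prime_dvd_prime_iff_eq Nat.prime_two hMp).mp h; omega
          omega
        · obtain ⟨h3, h4⟩ := nt1 hm2 hmM hall'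
          rw [h4] at hMp; exact absurd hMp (by decide)
      · subst heq
        exact hcop 2 Nat.prime_two h2π (two_dvd_choose_self (by omega))
    · have h2π : 2 ∈ π := (hMπ 2 Nat.prime_two (by omega)).mpr (Or.inl rfl)
      have h3π : 3 ∈ π := (hMπ 3 Nat.prime_three (by omega)).mpr (Or.inr rfl)
      rcases hM78 with rfl | rfl
      · exact hcop 2 Nat.prime_two h2π (small_case_seven hm1 hmM)
      · rcases small_case_eight hm1 hmM with h | h
        · exact hcop 2 Nat.prime_two h2π h
        · exact hcop 3 Nat.prime_three h3π h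

theorem imprim_core {n b k : ℕ} {π : Set ℕ} (hb : 2 ≤ b) (hk : 2 ≤ k) (hn : b * k = n)
    (hcop : ∀ p : ℕ, p.Prime → p ∈ π → ∀ j, 1 ≤ j → j ≤ k →
      ¬ p ∣ Nat.choose (j * b - 1) (b - 1))
    (hmix : HallMixed n π) (hcls : HallMixed b π → HallGoal b π) : HallGoal n π := by
  obtain ⟨⟨r, s, hr, hs, hrs, hrπ, hsπ, hrn, hsn⟩, ⟨q, hq, hqn, hqπ⟩⟩ := hmix
  have hle : ∀ p : ℕ, p.Prime → p ∈ π → p ≤ n → p ≤ b := by
    intro p hp hpπ hpn
    by_contra hc
    obtain ⟨j, hj1, hjk, hd⟩ := exists_dvd_choose_of_gt hp hb (by omega)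
      (by rw [mul_comm, hn]; exact hpn)
    exact hcop p hp hpπ j hj1 hjk hd
  have hrb := hle r hr hrπ hrn
  have hsb := hle s hs hsπ hsn
  have hb3 : 3 ≤ b := by
    have := hr.two_le; have := hs.two_le; omega
  by_cases hall : ∀ t : ℕ, t.Prime → t ≤ b → t ∈ π
  · obtain ⟨h4, h2⟩ := block_pow_two hb3 hk
      (fun p hp hpb j hj1 hjk => hcop p hp (hall p hp hpb) j hj1 hjk)
    subst h4; subst h2
    right
    refine ⟨Or.inr (by omega), fun t ht htn => ⟨fun htπ => ?_, fun h23 => ?_⟩⟩
    · have h4 := hle t ht htπ htn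
      have h2 := ht.two_le
      have : t ≠ 4 := fun h => by rw [h] at ht; exact absurd ht (by decide)
      omega
    · rcases h23 with rfl | rfl
      · exact hall 2 Nat.prime_two (by norm_num)
      · exact hall 3 Nat.prime_three (by norm_num)
  · exfalso
    push Not at hall
    obtain ⟨t, ht, htb, htπ⟩ := hall
    have hmixb : HallMixed b π := ⟨⟨r, s, hr, hs, hrs, hrπ, hsπ, hrb, hsb⟩, ⟨t, ht, htb, htπ⟩⟩
    have hcop2 : ∀ p : ℕ, p.Prime → p ∈ π → ¬ p ∣ Nat.choose (b - 1 + b) (b - 1) := by
      intro p hp hpπ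
      have := hcop p hp hpπ 2 (by norm_num) hk
      rwa [show 2 * b - 1 = b - 1 + b by omega] at this
    rcases hcls hmixb with ⟨hbp, hbπ⟩ | ⟨hb78, hbπ⟩
    · have hb5 : 5 ≤ b := by
        have h1 : r < b := (hbπ r hr hrb).mp hrπ
        have h2 : s < b := (hbπ s hs hsb).mp hsπ
        have := hr.two_le; have := hs.two_le
        by_contra hc
        have hb4 : b ≤ 4 := by omega
        have : b ≠ 4 := fun h => by rw [h] at hbp; exact absurd hbp (by decide)
        omega
      have h2π : 2 ∈ π := (hbπ 2 Nat.prime_two (by omega)).mpr (by omega)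
      have hodd : ¬ 2 ∣ b := fun h => by
        have := (Nat.prime_dvd_prime_iff_eq Nat.prime_two hbp).mp h; omega
      exact hcop2 2 Nat.prime_two h2π (two_dvd_choose_pred_of_odd hb3 hodd)
    · have h2π : 2 ∈ π := (hbπ 2 Nat.prime_two (by omega)).mpr (Or.inl rfl)
      have h3π : 3 ∈ π := (hbπ 3 Nat.prime_three (by omega)).mpr (Or.inr rfl)
      rcases hb78 with rfl | rfl
      · exact hcop2 2 Nat.prime_two h2π (by decide)
      · exact hcop2 3 Nat.prime_three h3π (by decide)

theorem hall_sym_main : ∀ (n : ℕ) (α : Type u) [Fintype α] [DecidableEq α],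
    Fintype.card α = n → ∀ (π : Set ℕ) (H : Subgroup (Perm α)), IsPiHall π H →
    HallMixed n π → HallGoal n π := by
  intro n
  induction n using Nat.strong_induction_on with
  | _ n ih =>
  intro α _ _ hcard π H hH hmix
  classical
  by_cases htrans : IsPretransitive H α
  · by_cases hprim : IsPreprimitive H α
    · exact (hall_primitive_false hH hprim (hcard ▸ hmix.1) (hcard ▸ hmix.2)).elim
    · have hblock : ∃ B : Set α, IsBlock H B ∧ ¬ IsTrivialBlock B := by
        by_contra hc
        push Not at hc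
        exact hprim { toIsPretransitive := htrans
                      isTrivialBlock_of_isBlock := fun {B} hB => hc B hB }
      obtain ⟨B, hB, hBnt⟩ := hblock
      have hBne : B.Nonempty := by
        by_contra hc
        rw [Set.not_nonempty_iff_eq_empty] at hc
        exact hBnt (Or.inl (hc ▸ Set.subsingleton_empty))
      obtain ⟨k, hk, hK, hcop⟩ := hall_imprimitive hH B hB hBne
      have hb2 : 2 ≤ B.ncard := by
        by_contra hc
        apply hBnt; left
        have h1 : B.ncard ≤ 1 := by omega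
        exact Set.ncard_le_one_iff_subsingleton.mp h1
      have hbn : B.ncard < n := by
        rw [← hcard, ← Nat.card_eq_fintype_card]
        exact Set.ncard_lt_card (fun h => hBnt (Or.inr h))
      have hkn : B.ncard * k = n := by rw [hk, Nat.card_eq_fintype_card, hcard]
      have hk2 : 2 ≤ k := by
        by_contra hc
        have h1 : k ≤ 1 := by omega
        interval_cases k <;> omega
      refine imprim_core hb2 hk2 hkn hcop hmix (fun hmixb => ?_)
      obtain ⟨K, hK⟩ := hK
      have hft : Fintype B := Fintype.ofFinite B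
      exact ih B.ncard hbn B (by rw [← Nat.card_eq_fintype_card, Nat.card_coe_set_eq]) π K hK
        hmixb
  · have hne : Nonempty α := by
      rw [← Fintype.card_pos_iff, hcard]
      obtain ⟨⟨r, s, hr, -, -, -, -, hrn, -⟩, -⟩ := hmix
      have := hr.two_le; omega
    obtain ⟨x⟩ := hne
    have hΔinv : ∀ σ ∈ H, ∀ z ∈ orbit H x, σ z ∈ orbit H x := by
      rintro σ hσ z ⟨h, rfl⟩
      refine ⟨⟨σ, hσ⟩ * h, ?_⟩
      show (⟨σ, hσ⟩ * h : H) • x = σ (h • x)
      rw [mul_smul]; rfl
    have hΔne : (orbit H x).Nonempty := ⟨x, mem_orbit_self x⟩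
    have hΔuniv : orbit H x ≠ Set.univ := by
      intro h
      apply htrans
      constructor
      intro a b
      obtain ⟨ga, hga⟩ : a ∈ orbit H x := h ▸ Set.mem_univ a
      obtain ⟨gb, hgb⟩ : b ∈ orbit H x := h ▸ Set.mem_univ b
      exact ⟨gb * ga⁻¹, by rw [← hga, ← hgb, mul_smul, inv_smul_smul]⟩
    obtain ⟨⟨K₁, hK₁⟩, ⟨K₂, hK₂⟩, hcop⟩ := hall_intransitive hH (orbit H x) hΔinv
    have hsum : Nat.card (orbit H x) + Nat.card ((orbit H x)ᶜ : Set α) = n := by
      rw [Nat.card_coe_set_eq, Nat.card_coe_set_eq, Set.ncard_add_ncard_compl,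
        Nat.card_eq_fintype_card, hcard]
    have h1 : 1 ≤ Nat.card (orbit H x) := by
      rw [Nat.card_coe_set_eq]; exact (Set.ncard_pos).mpr hΔne
    have h2 : 1 ≤ Nat.card ((orbit H x)ᶜ : Set α) := by
      rw [Nat.card_coe_set_eq]; apply (Set.ncard_pos).mpr
      rw [Set.nonempty_compl]; exact hΔuniv
    rcases le_total (Nat.card (orbit H x)) (Nat.card ((orbit H x)ᶜ : Set α)) with hle | hle
    · refine intrans_core h1 hle hsum hcop hmix (fun hmixM => ?_)
      exact ih (Nat.card ((orbit H x)ᶜ : Set α)) (by omega) ((orbit H x)ᶜ : Set α)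
        (Nat.card_eq_fintype_card).symm π K₂ hK₂ hmixM
    · refine intrans_core h2 hle (by omega) ?_ hmix (fun hmixM => ?_)
      · intro p hp hpπ hd
        apply hcop p hp hpπ
        rw [Nat.choose_symm_add, add_comm] at hd
        exact hd
      · exact ih (Nat.card (orbit H x)) (by omega) (orbit H x)
          (Nat.card_eq_fintype_card).symm π K₁ hK₁ hmixM

end Cfsg.Agent.Lib.helper43
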