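import Mathlib

set_option autoImplicit false

/-!
# Transitive groups of prime degree and order `2 ^ e * p` (helper43)
-/

namespace Cfsg.Agent.Lib.helper43

open Equiv MulAction

/-- A transitive permutation group of prime degree `p` and order `2 ^ e * p` has
`2 ^ e ≤ p - 1` (its Sylow `p`-subgroup is normal and self-centralising). -/
theorem trans_prime_two_pow {Ω : Type*} [Fintype Ω] [DecidableEq Ω] {p e : ℕ} (hp : p.Prime)
    (hΩ : Fintype.card Ω = p) (X : Subgroup (Perm Ω)) [IsPretransitive X Ω]
    (hX : Nat.card X = 2 ^ e * p) : 2 ^ e ≤ p - 1 := by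
  classical
  have hp2 := hp.two_le
  rcases Nat.eq_zero_or_pos e with he0 | hepos
  · subst he0; simp; omega
  have hfp : Fact p.Prime := ⟨hp⟩
  have hf2 : Fact (Nat.Prime 2) := ⟨Nat.prime_two⟩
  have hcardΩ : Nat.card Ω = p := by rw [Nat.card_eq_fintype_card, hΩ]
  have hpodd : p ≠ 2 := by
    intro h2
    have h1 : Nat.card X ≤ Nat.card (Perm Ω) := Subgroup.card_le_card_group X
    rw [Nat.card_perm, hcardΩ, hX, h2] at h1
    have h3 : 2 ^ 1 ≤ 2 ^ e := Nat.pow_le_pow_right (by norm_num) hepos
    have h4 : Nat.factorial 2 = 2 := rfl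
    omega
  have hstab : ∀ x : Ω, Nat.card (stabilizer X x) = 2 ^ e := by
    intro x
    have h1 := (stabilizer X x).card_mul_index
    rw [index_stabilizer_of_transitive, hcardΩ, hX] at h1
    exact Nat.eq_of_mul_eq_mul_right hp.pos h1
  have hpg : ∀ x : Ω, IsPGroup 2 (stabilizer X x) := fun x => IsPGroup.of_card (hstab x)
  have hpow : ∀ g : X, orderOf g = p → ∀ (k : ℕ) (x : Ω), (g ^ k) • x = x → p ∣ k := by
    intro g hg k x hk
    have h1 : (⟨g ^ k, hk⟩ : stabilizer X x) ^ Nat.card (stabilizer X x) = 1 := pow_card_eq_one'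
    rw [hstab] at h1
    have h2 : (g ^ k) ^ (2 ^ e) = 1 := by
      have := congrArg Subtype.val h1
      simpa using this
    rw [← pow_mul] at h2
    have h3 : p ∣ k * 2 ^ e := by rw [← hg]; exact orderOf_dvd_of_pow_eq_one h2
    rcases (hp.dvd_mul).mp h3 with h | h
    · exact h
    · exfalso
      have := hp.dvd_of_dvd_pow h
      exact hpodd ((Nat.prime_dvd_prime_iff_eq hp Nat.prime_two).mp this)
  have hreg : ∀ g : X, orderOf g = p → ∀ x w : Ω, ∃ k : ℕ, (g ^ k) • x = w := by
    intro g hg x w
    have key : ∀ i j : ℕ, i ≤ j → j < p → (g ^ i) • x = (g ^ j) • x → i = j := by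
      intro i j hij hjp h
      have h1 : (g ^ (j - i)) • x = x := by
        have h2 : g ^ j = g ^ i * g ^ (j - i) := by rw [← pow_add]; congr 1; omega
        rw [h2, mul_smul] at h
        exact (smul_left_cancel _ h).symm
      have h3 := hpow g hg _ x h1
      have h4 := Nat.eq_zero_of_dvd_of_lt h3 (by omega)
      omega
    have hinj : Function.Injective (fun i : Fin p => (g ^ (i : ℕ)) • x) := by
      intro i j h
      apply Fin.ext
      rcases le_total (i : ℕ) (j : ℕ) with hij | hij
      · exact key _ _ hij j.2 h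
      · exact (key _ _ hij i.2 h.symm).symm
    have hbij := (Fintype.bijective_iff_injective_and_card _).mpr ⟨hinj, by simp [hΩ]⟩
    obtain ⟨i, hi⟩ := hbij.2 w
    exact ⟨i, hi⟩
  -- two-point stabilisers are trivial
  have hD : ∀ x y : Ω, x ≠ y → stabilizer X x ⊓ stabilizer X y = ⊥ := by
    by_contra hcon
    push Not at hcon
    obtain ⟨x₀, y₀, hxy₀, hD₀⟩ := hcon
    have hne : ((Finset.univ : Finset (Ω × Ω)).filter (fun q => q.1 ≠ q.2)).Nonempty :=
      ⟨(x₀, y₀), by simp [hxy₀]⟩
    obtain ⟨⟨x, y⟩, hmem, hmax⟩ := Finset.exists_max_image _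
      (fun q : Ω × Ω => Nat.card ↥(stabilizer X q.1 ⊓ stabilizer X q.2)) hne
    have hxy : x ≠ y := by simpa using hmem
    have hmax' : ∀ x' y' : Ω, x' ≠ y' →
        Nat.card ↥(stabilizer X x' ⊓ stabilizer X y') ≤
          Nat.card ↥(stabilizer X x ⊓ stabilizer X y) :=
      fun x' y' h => hmax (x', y') (by simp [h])
    have hDne : stabilizer X x ⊓ stabilizer X y ≠ ⊥ := by
      rw [← Subgroup.one_lt_card_iff_ne_bot]
      have h1 := (Subgroup.one_lt_card_iff_ne_bot _).mpr hD₀
      exact lt_of_lt_of_le h1 (hmax' x₀ y₀ hxy₀)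
    have aux : ∀ x y z : Ω, x ≠ y → z ≠ x →
        (∀ x' y' : Ω, x' ≠ y' → Nat.card ↥(stabilizer X x' ⊓ stabilizer X y') ≤
          Nat.card ↥(stabilizer X x ⊓ stabilizer X y)) →
        (∀ σ ∈ Subgroup.normalizer ((stabilizer X x ⊓ stabilizer X y : Subgroup X) : Set X),
          σ • z = z) → False := by
      intro x y z hxy hzx hmax hN
      obtain ⟨D, hDdef⟩ : ∃ D : Subgroup X, D = stabilizer X x ⊓ stabilizer X y := ⟨_, rfl⟩
      rw [← hDdef] at hmax hN
      have hDx : D ≤ stabilizer X x := hDdef ▸ inf_le_left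
      have hDy : D ≤ stabilizer X y := hDdef ▸ inf_le_right
      have hDz : D ≤ stabilizer X z := fun σ hσ => hN σ (Subgroup.le_normalizer hσ)
      have h1 : stabilizer X x ⊓ stabilizer X z = D := by
        symm
        apply Subgroup.eq_of_le_of_card_ge (le_inf hDx hDz)
        exact hmax x z (Ne.symm hzx)
      have h2 : ∀ σ : X, σ ∈ Subgroup.normalizer (D : Set X) → σ ∈ stabilizer X x → σ ∈ D := by
        intro σ hσN hσx
        rw [← h1]
        exact ⟨hσx, hN σ hσN⟩
      have h3 : stabilizer X x ≤ D := by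
        have hnil : Group.IsNilpotent (stabilizer X x) := (hpg x).isNilpotent
        have hnc := (normalizerCondition_iff_only_full_group_self_normalizing).mp
          (Group.normalizerCondition_of_isNilpotent (G := stabilizer X x))
        have h4 : D.subgroupOf (stabilizer X x) = ⊤ := by
          apply hnc
          apply le_antisymm _ Subgroup.le_normalizer
          intro u hu
          rw [Subgroup.mem_subgroupOf]
          apply h2 u.1 _ u.2
          rw [Subgroup.mem_normalizer_iff] at hu ⊢
          intro d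
          constructor
          · intro hd
            have := (hu ⟨d, hDx hd⟩).mp (by rw [Subgroup.mem_subgroupOf]; exact hd)
            rw [Subgroup.mem_subgroupOf] at this
            simpa using this
          · intro hd
            have hdx : d ∈ stabilizer X x := by
              have h5 : u.1 * d * u.1⁻¹ ∈ stabilizer X x := hDx hd
              have h6 := (stabilizer X x).mul_mem
                ((stabilizer X x).mul_mem ((stabilizer X x).inv_mem u.2) h5) u.2
              simpa [mul_assoc] using h6
            have := (hu ⟨d, hdx⟩).mpr (by rw [Subgroup.mem_subgroupOf]; simpa using hd)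
            rw [Subgroup.mem_subgroupOf] at this
            exact this
        intro σ hσ
        have : (⟨σ, hσ⟩ : stabilizer X x) ∈ D.subgroupOf (stabilizer X x) := by
          rw [h4]; trivial
        exact this
      have h5 : stabilizer X x = D := le_antisymm h3 hDx
      have h6 : stabilizer X x = stabilizer X y := by
        apply Subgroup.eq_of_le_of_card_ge (h5 ▸ hDy)
        rw [hstab, hstab]
      have h7 : stabilizer X x = stabilizer X z := by
        apply Subgroup.eq_of_le_of_card_ge (h5 ▸ hDz)
        rw [hstab, hstab]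
      obtain ⟨g, hg⟩ := exists_smul_eq X x y
      have hgN : g ∈ Subgroup.normalizer (D : Set X) := by
        rw [Subgroup.mem_normalizer_iff]
        intro h
        rw [← h5]
        constructor
        · intro hh
          rw [h6, mem_stabilizer_iff, mul_smul, mul_smul, ← hg, inv_smul_smul]
          rw [mem_stabilizer_iff] at hh
          rw [hh]
        · intro hh
          rw [h6, mem_stabilizer_iff, mul_smul, mul_smul, ← hg, inv_smul_smul] at hh
          rw [mem_stabilizer_iff]
          exact smul_left_cancel _ hh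
      have hgz : g ∈ stabilizer X z := hN g hgN
      rw [← h7, mem_stabilizer_iff] at hgz
      exact hxy (hgz.symm.trans hg)
    obtain ⟨D, hDdef⟩ : ∃ D : Subgroup X, D = stabilizer X x ⊓ stabilizer X y := ⟨_, rfl⟩
    have hDx : D ≤ stabilizer X x := hDdef ▸ inf_le_left
    have hpN : p ∣ Nat.card (Subgroup.normalizer (D : Set X)) := by
      by_contra hnd
      have h1 : Nat.card (Subgroup.normalizer (D : Set X)) ∣ 2 ^ e * p :=
        hX ▸ Subgroup.card_subgroup_dvd_card _
      have hcop : Nat.Coprime (Nat.card ↥(Subgroup.normalizer (D : Set X))) p :=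
        (Nat.Coprime.symm ((Nat.Prime.coprime_iff_not_dvd hp).mpr hnd))
      have h2 : Nat.card ↥(Subgroup.normalizer (D : Set X)) ∣ 2 ^ e :=
        hcop.dvd_of_dvd_mul_right h1
      obtain ⟨j, -, hj⟩ := (Nat.dvd_prime_pow Nat.prime_two).mp h2
      have hNpg : IsPGroup 2 (Subgroup.normalizer (D : Set X)) := IsPGroup.of_card hj
      have hnd2 : ¬ 2 ∣ Nat.card Ω := by
        rw [hcardΩ]; intro h
        exact hpodd ((Nat.prime_dvd_prime_iff_eq Nat.prime_two hp).mp h).symm
      obtain ⟨z, hz⟩ := hNpg.nonempty_fixed_point_of_prime_not_dvd_card Ω hnd2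
      have hz' : ∀ σ ∈ Subgroup.normalizer (D : Set X), σ • z = z := fun σ hσ => hz ⟨σ, hσ⟩
      by_cases hzx : z = x
      · have hzy : z ≠ y := hzx ▸ hxy
        refine aux y x z hxy.symm hzy ?_ ?_
        · intro x' y' h; rw [inf_comm (stabilizer X y)]; exact hmax' x' y' h
        · intro σ hσ; rw [inf_comm, ← hDdef] at hσ; exact hz' σ hσ
      · refine aux x y z hxy hzx hmax' ?_
        intro σ hσ; rw [← hDdef] at hσ; exact hz' σ hσ
    obtain ⟨gN, hgN⟩ := exists_prime_orderOf_dvd_card' (G := ↥(Subgroup.normalizer (D : Set X))) p hpN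
    have hg : orderOf (gN : X) = p := by rw [Subgroup.orderOf_coe]; exact hgN
    apply hDne
    rw [← hDdef, Subgroup.eq_bot_iff_forall]
    intro d hd
    apply Subtype.ext
    apply Perm.ext
    intro w
    obtain ⟨k, hk⟩ := hreg gN.1 hg x w
    have hgk : (gN.1) ^ k ∈ Subgroup.normalizer (D : Set X) := Subgroup.pow_mem _ gN.2 k
    have h1 := (Subgroup.mem_normalizer_iff''.mp hgk d).mp hd
    have h2 : ((gN.1 ^ k)⁻¹ * d * gN.1 ^ k) • x = x := hDx h1
    rw [mul_smul, mul_smul, hk] at h2
    have h3 : d • w = w := by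
      have := congrArg (fun t => (gN.1 ^ k) • t) h2
      simp only [smul_inv_smul] at this
      rw [this, hk]
    exact h3
  -- an element of order p
  have hpX : p ∣ Nat.card X := by rw [hX]; exact dvd_mul_left _ _
  obtain ⟨g, hg⟩ := exists_prime_orderOf_dvd_card' (G := ↥X) p hpX
  have hgfpf : ∀ w : Ω, g • w ≠ w := by
    intro w hw
    have h1 := hpow g hg 1 w (by simpa using hw)
    have h2 := Nat.le_of_dvd (by norm_num) h1
    omega
  obtain ⟨x⟩ : Nonempty Ω := by
    rw [← Fintype.card_pos_iff, hΩ]; exact hp.pos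
  have hψ : Nat.card (stabilizer X x) ≤ Nat.card {h : X // ∀ w : Ω, h • w ≠ w} := by
    have hconj : ∀ u : stabilizer X x, ∀ w : Ω, (u.1 * g * u.1⁻¹) • w ≠ w := by
      intro u w hw
      apply hgfpf (u.1⁻¹ • w)
      have := congrArg (fun t => u.1⁻¹ • t) hw
      simpa [mul_smul] using this
    apply Nat.card_le_card_of_injective
      (fun u : stabilizer X x => (⟨u.1 * g * u.1⁻¹, hconj u⟩ : {h : X // ∀ w : Ω, h • w ≠ w}))
    intro u v huv
    have h1 : u.1 * g * u.1⁻¹ = v.1 * g * v.1⁻¹ := congrArg Subtype.val huv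
    have hcomm : Commute (v.1⁻¹ * u.1) g := by
      have : v.1⁻¹ * (u.1 * g * u.1⁻¹) * u.1 = v.1⁻¹ * (v.1 * g * v.1⁻¹) * u.1 := by rw [h1]
      show (v.1⁻¹ * u.1) * g = g * (v.1⁻¹ * u.1)
      simpa [mul_assoc] using this
    have hx : (v.1⁻¹ * u.1) • x = x := by
      rw [mul_smul, mem_stabilizer_iff.mp u.2, inv_smul_eq_iff, mem_stabilizer_iff.mp v.2]
    have hone : v.1⁻¹ * u.1 = 1 := by
      apply Subtype.ext
      apply Perm.ext
      intro w
      obtain ⟨k, hk⟩ := hreg g hg x w
      have hc : (v.1⁻¹ * u.1) * g ^ k = g ^ k * (v.1⁻¹ * u.1) := hcomm.pow_right k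
      have h2 : (v.1⁻¹ * u.1) • w = w := by
        rw [← hk, ← mul_smul, hc, mul_smul, hx]
      exact h2
    apply Subtype.ext
    exact (inv_mul_eq_one.mp hone).symm
  -- counting
  have hcount : Nat.card {h : X // ∀ w : Ω, h • w ≠ w} + 2 ^ e * p + 1 ≤ 2 ^ e * p + p := by
    have hinj : Function.Injective
        (fun o : Option ({h : X // ∀ w : Ω, h • w ≠ w} ⊕ (Σ x : Ω, stabilizer X x)) =>
          (match o with
           | none => Sum.inl (1 : X)
           | some (Sum.inl f) => Sum.inl f.1
           | some (Sum.inr ⟨x, u⟩) => if u.1 = 1 then Sum.inr x else Sum.inl u.1 : X ⊕ Ω)) := by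
      rintro (_ | (f | ⟨x, u⟩)) (_ | (f' | ⟨x', u'⟩)) h
      · rfl
      · exfalso
        simp only [Sum.inl.injEq] at h
        exact f'.2 x (by rw [← h]; exact one_smul _ _)
      · exfalso
        simp only at h
        split_ifs at h with h1
        · exact h1 (Sum.inl.inj h).symm
      · exfalso
        simp only [Sum.inl.injEq] at h
        exact f.2 x (by rw [h]; exact one_smul _ _)
      · simp only [Sum.inl.injEq] at h
        have : f = f' := Subtype.ext h
        rw [this]
      · exfalso
        simp only at h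
        split_ifs at h with h1
        · have h2 : f.1 = u'.1 := Sum.inl.inj h
          exact f.2 x' (by rw [h2]; exact mem_stabilizer_iff.mp u'.2)
      · exfalso
        simp only at h
        split_ifs at h with h1
        · exact h1 (Sum.inl.inj h)
      · exfalso
        simp only at h
        split_ifs at h with h1
        · have h2 : u.1 = f'.1 := Sum.inl.inj h
          exact f'.2 x (by rw [← h2]; exact mem_stabilizer_iff.mp u.2)
      · simp only at h
        split_ifs at h with h1 h2 h2
        · have hxx : x = x' := Sum.inr.inj h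
          subst hxx
          have : u = u' := Subtype.ext (h1.trans h2.symm)
          rw [this]
        · have huu : u.1 = u'.1 := Sum.inl.inj h
          have hxx : x = x' := by
            by_contra hne
            have h3 : u.1 ∈ stabilizer X x ⊓ stabilizer X x' := ⟨u.2, huu ▸ u'.2⟩
            rw [hD x x' hne, Subgroup.mem_bot] at h3
            exact h1 h3
          subst hxx
          have : u = u' := Subtype.ext huu
          rw [this]
    have h1 := Nat.card_le_card_of_injective _ hinj
    rw [Finite.card_option, Nat.card_sum, Nat.card_sigma, Nat.card_sum] at h1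
    simp only [hstab, Finset.sum_const, Finset.card_univ, hΩ, smul_eq_mul, hX, hcardΩ] at h1
    have h2 : p * 2 ^ e = 2 ^ e * p := mul_comm _ _
    omega
  rw [hstab] at hψ
  omega

end Cfsg.Agent.Lib.helper43
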