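import Mathlib
import Cfsg.Agent.Lib.helper43.HallStruct
import Cfsg.Agent.Lib.helper43.HallGen
import Cfsg.Agent.Lib.helper43.TransPrime

set_option autoImplicit false

/-!
# Hall subgroups of alternating groups (helper43)
-/

namespace Cfsg.Agent.Lib.helper43

open Cfsg Equiv MulAction
open scoped Pointwise

universe u

theorem two_pow_mul_factorial_dvd (m : ℕ) : 2 ^ m * m.factorial ∣ (2 * m).factorial := by
  induction m with
  | zero => simp
  | succ m ih =>
    have h1 : (2 * (m + 1)).factorial = (2 * m + 2) * ((2 * m + 1) * (2 * m).factorial) := by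
      rw [show 2 * (m + 1) = (2 * m + 1) + 1 by ring, Nat.factorial_succ, Nat.factorial_succ]
    have h2 : 2 ^ (m + 1) * (m + 1).factorial = (2 * m + 2) * (2 ^ m * m.factorial) := by
      rw [Nat.factorial_succ, pow_succ]; ring
    rw [h1, h2]
    exact Nat.mul_dvd_mul_left _ (Dvd.dvd.mul_left ih _)

theorem two_pow_dvd_factorial_two_pow (a : ℕ) : 2 ^ (2 ^ a - 1) ∣ (2 ^ a).factorial := by
  induction a with
  | zero => simp
  | succ a ih =>
    have h1 := two_pow_mul_factorial_dvd (2 ^ a)
    have h2 : 2 ^ (2 ^ (a + 1) - 1) = 2 ^ (2 ^ a) * 2 ^ (2 ^ a - 1) := by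
      rw [← pow_add]; congr 1
      have : 1 ≤ 2 ^ a := Nat.one_le_two_pow
      rw [pow_succ]; omega
    rw [h2, pow_succ, mul_comm (2 ^ a) 2]
    exact dvd_trans (Nat.mul_dvd_mul_left _ ih) h1

theorem lt_two_pow_of_three_le {a : ℕ} (ha : 3 ≤ a) : 2 * a + 1 < 2 ^ a := by
  induction a, ha using Nat.le_induction with
  | base => norm_num
  | succ a ha ih => rw [pow_succ]; omega

theorem perm_smul_set_eq {α : Type*} (σ : Perm α) (t : Set α) (h : ∀ x, σ x ∈ t ↔ x ∈ t) :
    σ • t = t := by
  ext y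
  rw [Set.mem_smul_set_iff_inv_smul_mem]
  have := h (σ⁻¹ y)
  rw [show σ (σ⁻¹ y) = y from Equiv.apply_symm_apply σ y] at this
  exact this.symm

theorem perm_mem_iff_of_smul_set_eq {α : Type*} (σ : Perm α) (t : Set α) (h1 : σ • t = t)
    (x : α) : σ x ∈ t ↔ x ∈ t := by
  constructor
  · intro hx
    have h2 : σ • x ∈ σ • t := by rw [h1]; exact hx
    exact Set.smul_mem_smul_set_iff.mp h2
  · intro hx
    have h2 : σ • x ∈ σ • t := Set.smul_mem_smul_set hx
    rw [h1] at h2
    exact h2

/-- A Hall `π`-subgroup of the alternating group contains an `s`-cycle for each odd prime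
`s ∈ π`, `s ≤ |α|`. -/
theorem hall_alt_exists_cycle {α : Type*} [Fintype α] [DecidableEq α] {π : Set ℕ}
    {M : Subgroup (Perm α)}
    (hH : IsPiHall π (M.subgroupOf (alternatingGroup α))) {s : ℕ} (hs : s.Prime) (hsπ : s ∈ π)
    (hs2 : s ≠ 2) (hsn : s ≤ Fintype.card α) : ∃ g ∈ M, g.IsCycle ∧ g.support.card = s := by
  have hfact : Fact s.Prime := ⟨hs⟩
  obtain ⟨c, hc⟩ := (Equiv.Perm.exists_with_cycleType_iff (α := α) (m := {s})).mpr
    ⟨by simpa using hsn, by intro a ha; rw [Multiset.mem_singleton] at ha; rw [ha]; exact hs.two_le⟩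
  have hcyc : c.IsCycle := by
    rw [← Equiv.Perm.card_cycleType_eq_one, hc]; rfl
  have hsupp : c.support.card = s := by
    rw [← Equiv.Perm.sum_cycleType, hc]; rfl
  have hord : orderOf c = s := by rw [hcyc.orderOf, hsupp]
  have hcA : c ∈ alternatingGroup α := by
    rw [Equiv.Perm.mem_alternatingGroup, hcyc.sign, hsupp]
    have hodd : Odd s := hs.odd_of_ne_two hs2
    rw [hodd.neg_one_pow]; simp
  obtain ⟨c', hc'⟩ : ∃ c' : alternatingGroup α, c' = ⟨c, hcA⟩ := ⟨_, rfl⟩
  have hc'1 : c'.1 = c := by rw [hc']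
  have hord' : orderOf c' = s := by rw [← Subgroup.orderOf_coe, hc'1]; exact hord
  have hpg : IsPGroup s (Subgroup.zpowers c') := by
    apply IsPGroup.of_card (n := 1)
    rw [Nat.card_zpowers, hord', pow_one]
  obtain ⟨R, hR⟩ := hpg.exists_le_sylow
  let Q : Sylow s (M.subgroupOf (alternatingGroup α)) := default
  have hQcard : Nat.card (Q.1.map (M.subgroupOf (alternatingGroup α)).subtype) =
      s ^ (Nat.card (alternatingGroup α)).factorization s := by
    rw [Subgroup.card_map_of_injective (Subgroup.subtype_injective _), Q.card_eq_multiplicity,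
      piHall_fact_eq hH hs hsπ]
  let Q' : Sylow s (alternatingGroup α) :=
    Sylow.ofCard (Q.1.map (M.subgroupOf (alternatingGroup α)).subtype) hQcard
  obtain ⟨x, hx⟩ := MulAction.exists_smul_eq (alternatingGroup α) R Q'
  have hcR : c' ∈ (R : Subgroup (alternatingGroup α)) := hR (Subgroup.mem_zpowers c')
  have hmem : x * c' * x⁻¹ ∈ (Q' : Subgroup (alternatingGroup α)) := by
    rw [← hx, Sylow.coe_subgroup_smul]
    have h1 := Subgroup.smul_mem_pointwise_smul c' (MulAut.conj x) (R : Subgroup _) hcR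
    simpa [MulAut.smul_def] using h1
  have hmemH : x * c' * x⁻¹ ∈ M.subgroupOf (alternatingGroup α) := by
    have h1 : (Q' : Subgroup (alternatingGroup α)) =
        Q.1.map (M.subgroupOf (alternatingGroup α)).subtype := Sylow.coe_ofCard _ _
    rw [h1] at hmem
    obtain ⟨y, -, hy⟩ := hmem
    rw [← hy]; exact y.2
  have hmemM : x.1 * c * x.1⁻¹ ∈ M := by
    have := Subgroup.mem_subgroupOf.mp hmemH
    rw [← hc'1]; exact this
  exact ⟨x.1 * c * x.1⁻¹, hmemM, hcyc.conj, by rw [Equiv.Perm.card_support_conj, hsupp]⟩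

/-- A Hall subgroup of the alternating group leaving `Δ` invariant. -/
theorem hall_alt_intransitive {α : Type*} [Fintype α] [DecidableEq α] {π : Set ℕ}
    {M : Subgroup (Perm α)}
    (hH : IsPiHall π (M.subgroupOf (alternatingGroup α))) (Δ : Set α)
    [Fintype (Δᶜ : Set α)]
    (hΔ : ∀ σ ∈ M, ∀ z ∈ Δ, σ z ∈ Δ) (hc : 2 ≤ Nat.card (Δᶜ : Set α)) :
    (∃ K₁ : Subgroup (Perm Δ), IsPiHall π K₁) ∧
    (∃ K₂ : Subgroup (Perm (Δᶜ : Set α)), K₂ ≤ alternatingGroup (Δᶜ : Set α) ∧
       IsPiHall π (K₂.subgroupOf (alternatingGroup (Δᶜ : Set α)))) ∧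
    ∀ p : ℕ, p.Prime → p ∈ π →
      ¬ p ∣ Nat.choose (Nat.card Δ + Nat.card (Δᶜ : Set α)) (Nat.card Δ) := by
  classical
  have hiff : ∀ σ ∈ M, ∀ x, σ x ∈ Δ ↔ x ∈ Δ := by
    intro σ hσ x
    refine ⟨fun hx => ?_, hΔ σ hσ x⟩
    have := hΔ σ⁻¹ (M.inv_mem hσ) (σ x) hx
    simpa using this
  have hiffc : ∀ σ ∈ M, ∀ x, σ x ∈ Δᶜ ↔ x ∈ Δᶜ := fun σ hσ x => not_congr (hiff σ hσ x)
  let f : M.subgroupOf (alternatingGroup α) →* Perm Δ :=
    { toFun := fun σ => Perm.subtypePerm σ.1.1 (hiff σ.1.1 (Subgroup.mem_subgroupOf.mp σ.2))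
      map_one' := by ext x; rfl
      map_mul' := fun σ τ => by ext x; rfl }
  have hfix : ∀ σ : f.ker, ∀ x, σ.1.1.1 x ≠ x → x ∈ Δᶜ := by
    intro σ x hx hxΔ
    have h1 : f σ.1 = 1 := σ.2
    have h3 := congrArg (fun k : Perm Δ => (k ⟨x, hxΔ⟩ : α)) h1
    exact hx h3
  have hsign : ∀ σ : f.ker, Perm.subtypePerm σ.1.1.1
      (hiffc σ.1.1.1 (Subgroup.mem_subgroupOf.mp σ.1.2)) ∈ alternatingGroup (Δᶜ : Set α) := by
    intro σ
    rw [Perm.mem_alternatingGroup, ← Perm.sign_ofSubtype, Perm.ofSubtype_subtypePerm _ (hfix σ)]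
    exact Perm.mem_alternatingGroup.mp σ.1.1.2
  let g : f.ker →* alternatingGroup (Δᶜ : Set α) :=
    { toFun := fun σ => ⟨_, hsign σ⟩
      map_one' := by apply Subtype.ext; ext x; rfl
      map_mul' := fun σ τ => by apply Subtype.ext; ext x; rfl }
  have hg : Function.Injective g := by
    intro σ τ hστ
    apply Subtype.ext; apply Subtype.ext; apply Subtype.ext
    ext x
    by_cases hx : x ∈ Δ
    · have h1 : f σ.1 = 1 := σ.2
      have h2 : f τ.1 = 1 := τ.2
      have h3 := congrArg (fun k : Perm Δ => (k ⟨x, hx⟩ : α)) (h1.trans h2.symm)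
      exact h3
    · have h3 := congrArg (fun k : alternatingGroup (Δᶜ : Set α) => (k.1 ⟨x, hx⟩ : α)) hστ
      exact h3
  have hsum : Nat.card Δ + Nat.card (Δᶜ : Set α) = Nat.card α := by
    rw [Nat.card_coe_set_eq, Nat.card_coe_set_eq, Set.ncard_add_ncard_compl]
  have hntc : Nontrivial (Δᶜ : Set α) := Finite.one_lt_card_iff_nontrivial.mp (by omega)
  have hnt : Nontrivial α := Finite.one_lt_card_iff_nontrivial.mp (by omega)
  have hA2 : 2 * Nat.card (alternatingGroup α) =
      (Nat.card Δ + Nat.card (Δᶜ : Set α)).factorial := by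
    rw [two_mul_nat_card_alternatingGroup, Nat.card_perm, hsum]
  have hAc2 : 2 * Nat.card (alternatingGroup (Δᶜ : Set α)) =
      (Nat.card (Δᶜ : Set α)).factorial := by
    rw [two_mul_nat_card_alternatingGroup, Nat.card_perm]
  have hch := Nat.add_choose_mul_factorial_mul_factorial (Nat.card (Δᶜ : Set α)) (Nat.card Δ)
  rw [add_comm] at hch
  have hAeq : Nat.card (alternatingGroup α) =
      Nat.choose (Nat.card Δ + Nat.card (Δᶜ : Set α)) (Nat.card Δ) *
        (Nat.card Δ).factorial * Nat.card (alternatingGroup (Δᶜ : Set α)) := by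
    have h1 : 2 * Nat.card (alternatingGroup α) =
        2 * (Nat.choose (Nat.card Δ + Nat.card (Δᶜ : Set α)) (Nat.card Δ) *
        (Nat.card Δ).factorial * Nat.card (alternatingGroup (Δᶜ : Set α))) := by
      rw [hA2, ← hch, ← hAc2]; ring
    exact Nat.eq_of_mul_eq_mul_left (by norm_num) h1
  have hdvd : Nat.card (Perm Δ) * Nat.card (alternatingGroup (Δᶜ : Set α)) ∣
      Nat.card (alternatingGroup α) := by
    rw [Nat.card_perm, hAeq]
    exact ⟨Nat.choose (Nat.card Δ + Nat.card (Δᶜ : Set α)) (Nat.card Δ), by ring⟩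
  obtain ⟨h1, h2, h3⟩ := hall_split hH f g hg hdvd
  refine ⟨⟨_, h1⟩, ⟨g.range.map (alternatingGroup (Δᶜ : Set α)).subtype,
    Subgroup.map_subtype_le _, ?_⟩, fun p hp hpπ hd => ?_⟩
  · have h4 : (g.range.map (alternatingGroup (Δᶜ : Set α)).subtype).subgroupOf
        (alternatingGroup (Δᶜ : Set α)) = g.range :=
      Subgroup.comap_map_eq_self_of_injective (Subgroup.subtype_injective _) _
    rw [h4]; exact h2
  · have e := h3 p hp hpπ
    rw [Nat.card_perm, hAeq] at e
    have hc0 : Nat.choose (Nat.card Δ + Nat.card (Δᶜ : Set α)) (Nat.card Δ) ≠ 0 :=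
      (Nat.choose_pos (Nat.le_add_right _ _)).ne'
    rw [Nat.factorization_mul (Nat.mul_ne_zero hc0 (Nat.factorial_ne_zero _))
      Nat.card_pos.ne', Nat.factorization_mul hc0 (Nat.factorial_ne_zero _)] at e
    simp only [Finsupp.coe_add, Pi.add_apply] at e
    have h5 : 1 ≤ (Nat.choose (Nat.card Δ + Nat.card (Δᶜ : Set α))
        (Nat.card Δ)).factorization p :=
      (hp.dvd_iff_one_le_factorization hc0).mp hd
    omega

/-- A transitive Hall subgroup of the alternating group with a nontrivial block `B`. -/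
theorem hall_alt_imprimitive {α : Type*} [Fintype α] [DecidableEq α] {π : Set ℕ}
    {M : Subgroup (Perm α)}
    (hH : IsPiHall π (M.subgroupOf (alternatingGroup α))) [IsPretransitive M α] (B : Set α)
    (hB : IsBlock M B) (hBne : B.Nonempty) (hb2 : 2 ≤ B.ncard) (hBuniv : B ≠ Set.univ) :
    ∃ k : ℕ, B.ncard * k = Nat.card α ∧ (∃ K : Subgroup (Perm B), IsPiHall π K) ∧
      ∀ p : ℕ, p.Prime → p ∈ π → ∀ j, 1 ≤ j → j ≤ k →
        ¬ p ∣ Nat.choose (j * B.ncard - 1) (B.ncard - 1) := by
  classical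
  have hk := hB.ncard_block_mul_ncard_orbit_eq hBne
  refine ⟨(orbit M B).ncard, hk, ?_⟩
  have hTfin : Finite (orbit M B) := inferInstance
  have hTft : Fintype (orbit M B) := Fintype.ofFinite _
  have hdisjT : ∀ t ∈ orbit M B, ∀ t' ∈ orbit M B, t ≠ t' → Disjoint t t' := by
    rintro t ⟨m, rfl⟩ t' ⟨m', rfl⟩ hne
    exact hB hne
  let 𝒦 : Subgroup (Perm α) :=
    { carrier := {σ | ∀ t ∈ orbit M B, σ • t = t}
      mul_mem' := fun {a b} ha hb t ht => by rw [mul_smul, hb t ht, ha t ht]
      one_mem' := fun t _ => one_smul _ t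
      inv_mem' := fun {a} ha t ht => by
        have := ha t ht
        rw [inv_smul_eq_iff]; exact this.symm }
  have hKmem : ∀ σ ∈ 𝒦, ∀ t ∈ orbit M B, ∀ x : α, σ x ∈ t ↔ x ∈ t :=
    fun σ hσ t ht x => perm_mem_iff_of_smul_set_eq σ t (hσ t ht) x
  let res : 𝒦 →* (∀ t : orbit M B, Perm (t : Set α)) :=
    { toFun := fun σ t => Perm.subtypePerm σ.1 (hKmem σ.1 σ.2 t.1 t.2)
      map_one' := by funext t; ext x; rfl
      map_mul' := fun σ τ => by funext t; ext x; rfl }
  have hres : Function.Injective res := by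
    intro σ τ hστ
    apply Subtype.ext
    ext x
    obtain ⟨b, hb⟩ := hBne
    obtain ⟨h, hh⟩ := exists_smul_eq M b x
    have hxt : x ∈ h • B := by rw [← hh]; exact Set.smul_mem_smul_set hb
    have h3 := congrArg (fun F : (∀ t : orbit M B, Perm (t : Set α)) =>
      ((F ⟨h • B, mem_orbit B h⟩ ⟨x, hxt⟩ : _) : α)) hστ
    exact h3
  let ι : M.subgroupOf (alternatingGroup α) →* M :=
    { toFun := fun σ => ⟨σ.1.1, Subgroup.mem_subgroupOf.mp σ.2⟩
      map_one' := rfl
      map_mul' := fun _ _ => rfl }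
  let f : M.subgroupOf (alternatingGroup α) →* Perm (orbit M B) :=
    (MulAction.toPermHom M (orbit M B)).comp ι
  have hker : ∀ σ : f.ker, σ.1.1.1 ∈ 𝒦 := by
    intro σ t ht
    have h1 : f σ.1 = 1 := σ.2
    have h2 := congrArg (fun τ : Perm (orbit M B) => ((τ ⟨t, ht⟩ : orbit M B) : Set α)) h1
    exact h2
  let g : f.ker →* ↥(𝒦 ⊓ alternatingGroup α) :=
    { toFun := fun σ => ⟨σ.1.1.1, ⟨hker σ, σ.1.1.2⟩⟩
      map_one' := rfl
      map_mul' := fun _ _ => rfl }
  have hg : Function.Injective g := by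
    intro σ τ hστ
    apply Subtype.ext; apply Subtype.ext; apply Subtype.ext
    exact congrArg (fun k : ↥(𝒦 ⊓ alternatingGroup α) => k.1) hστ
  have hb1 : 1 ≤ B.ncard := by omega
  have hQ1 : Nat.card (Perm (orbit M B)) = ((orbit M B).ncard).factorial := by
    rw [Nat.card_perm, Nat.card_coe_set_eq]
  have hQ2 : Nat.card (∀ t : orbit M B, Perm (t : Set α)) =
      (B.ncard.factorial) ^ (orbit M B).ncard := by
    rw [Nat.card_pi]
    have h1 : ∀ t : orbit M B, Nat.card (Perm (t : Set α)) = B.ncard.factorial := by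
      intro t
      obtain ⟨h, hh⟩ := t.2
      rw [Nat.card_perm, Nat.card_coe_set_eq]
      have h2 : (t : Set α) = h • B := hh.symm
      rw [h2, Set.ncard_smul_set]
    rw [Finset.prod_congr rfl (fun t _ => h1 t), Finset.prod_const, Finset.card_univ,
      ← Nat.card_eq_fintype_card, Nat.card_coe_set_eq]
  have hnt : Nontrivial α := by
    apply Finite.one_lt_card_iff_nontrivial.mp
    have := Set.ncard_le_card B
    omega
  have hA2 : 2 * Nat.card (alternatingGroup α) = ((orbit M B).ncard * B.ncard).factorial := by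
    rw [two_mul_nat_card_alternatingGroup, Nat.card_perm, ← hk, mul_comm]
  have hfm := factorial_mul_eq B.ncard hb1 (orbit M B).ncard
  obtain ⟨c, hcB, d, hdB, hcd⟩ := Set.one_lt_ncard_iff_nontrivial.mp (show 1 < B.ncard by omega)
  have hswap : ∀ t ∈ orbit M B, ∀ c d : α, c ∈ t → d ∈ t → swap c d ∈ 𝒦 := by
    intro t ht c d hc hd t' ht'
    apply perm_smul_set_eq
    intro x
    by_cases htt : t' = t
    · rw [htt]
      by_cases hxc : x = c
      · rw [hxc, swap_apply_left]; simp [hc, hd]
      · by_cases hxd : x = d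
        · rw [hxd, swap_apply_right]; simp [hc, hd]
        · rw [swap_apply_of_ne_of_ne hxc hxd]
    · have hdisj : Disjoint t' t := hdisjT t' ht' t ht htt
      have hc' : c ∉ t' := fun h => Set.disjoint_left.mp hdisj h hc
      have hd' : d ∉ t' := fun h => Set.disjoint_left.mp hdisj h hd
      by_cases hxc : x = c
      · rw [hxc, swap_apply_left]; simp [hc', hd']
      · by_cases hxd : x = d
        · rw [hxd, swap_apply_right]; simp [hc', hd']
        · rw [swap_apply_of_ne_of_ne hxc hxd]
  have hKnotA : ¬ 𝒦 ≤ alternatingGroup α := by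
    intro hle
    have h1 := hle (hswap B (mem_orbit_self B) c d hcB hdB)
    rw [Perm.mem_alternatingGroup, Perm.sign_swap hcd] at h1
    exact absurd h1 (by decide)
  have hKcard : Nat.card 𝒦 = 2 * Nat.card ↥(𝒦 ⊓ alternatingGroup α) :=
    card_eq_two_mul_card_inf (alternatingGroup α) alternatingGroup.index_eq_two 𝒦 hKnotA
  have hKdvd : Nat.card 𝒦 ∣ (B.ncard.factorial) ^ (orbit M B).ncard := by
    rw [← hQ2]; exact Subgroup.card_dvd_of_injective res hres
  obtain ⟨cK, hcK⟩ := hKdvd
  have hAeq : Nat.card (alternatingGroup α) =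
      Nat.card ↥(𝒦 ⊓ alternatingGroup α) * cK * ((orbit M B).ncard).factorial *
        ∏ j ∈ Finset.range (orbit M B).ncard,
          Nat.choose ((j + 1) * B.ncard - 1) (B.ncard - 1) := by
    have h1 : 2 * Nat.card (alternatingGroup α) =
        2 * (Nat.card ↥(𝒦 ⊓ alternatingGroup α) * cK * ((orbit M B).ncard).factorial *
        ∏ j ∈ Finset.range (orbit M B).ncard,
          Nat.choose ((j + 1) * B.ncard - 1) (B.ncard - 1)) := by
      rw [hA2, hfm, hcK, hKcard]; ring
    exact Nat.eq_of_mul_eq_mul_left (by norm_num) h1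
  have hdvd : Nat.card (Perm (orbit M B)) * Nat.card ↥(𝒦 ⊓ alternatingGroup α) ∣
      Nat.card (alternatingGroup α) := by
    rw [hQ1, hAeq]
    exact ⟨cK * ∏ j ∈ Finset.range (orbit M B).ncard,
      Nat.choose ((j + 1) * B.ncard - 1) (B.ncard - 1), by ring⟩
  obtain ⟨h1, h2, h3⟩ := hall_split hH f g hg hdvd
  have hBmem : ∀ σ : ↥(𝒦 ⊓ alternatingGroup α), ∀ x, σ.1 x ∈ B ↔ x ∈ B :=
    fun σ x => hKmem σ.1 σ.2.1 B (mem_orbit_self B) x
  let resB : ↥(𝒦 ⊓ alternatingGroup α) →* Perm B :=
    { toFun := fun σ => Perm.subtypePerm σ.1 (hBmem σ)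
      map_one' := by ext x; rfl
      map_mul' := fun σ τ => by ext x; rfl }
  have hresB : Function.Surjective resB := by
    intro τ
    obtain ⟨y, hy⟩ : ∃ y, y ∉ B := by
      by_contra hcon; push Not at hcon
      exact hBuniv (Set.eq_univ_of_forall hcon)
    obtain ⟨b, hb⟩ := hBne
    obtain ⟨m, hm⟩ := exists_smul_eq M b y
    have hyt : y ∈ m • B := by rw [← hm]; exact Set.smul_mem_smul_set hb
    have hB2 : m • B ≠ B := fun h => hy (h ▸ hyt)
    have hdisj2 : Disjoint (m • B) B := (hB.smul_eq_or_disjoint m).resolve_left hB2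
    have hcm : (m.1 c) ∈ m • B := Set.smul_mem_smul_set (a := m) hcB
    have hdm : (m.1 d) ∈ m • B := Set.smul_mem_smul_set (a := m) hdB
    have hcdm : m.1 c ≠ m.1 d := fun h => hcd (m.1.injective h)
    have hsw : swap (m.1 c) (m.1 d) ∈ 𝒦 := hswap (m • B) (mem_orbit B m) _ _ hcm hdm
    have hof : Perm.ofSubtype τ ∈ 𝒦 := by
      intro t ht
      apply perm_smul_set_eq
      intro x
      by_cases htB : t = B
      · rw [htB]
        by_cases hx : x ∈ B
        · rw [Perm.ofSubtype_apply_of_mem τ hx]; simp [hx]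
        · rw [Perm.ofSubtype_apply_of_not_mem τ hx]
      · have hdisj : Disjoint t B := hdisjT t ht B (mem_orbit_self B) htB
        by_cases hx : x ∈ B
        · rw [Perm.ofSubtype_apply_of_mem τ hx]
          have h1 : x ∉ t := fun h => Set.disjoint_left.mp hdisj h hx
          have h2 : (τ ⟨x, hx⟩ : α) ∉ t := fun h => Set.disjoint_left.mp hdisj h (τ ⟨x, hx⟩).2
          simp [h1, h2]
        · rw [Perm.ofSubtype_apply_of_not_mem τ hx]
    rcases Int.units_eq_one_or (Perm.sign (Perm.ofSubtype τ)) with hs | hs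
    · refine ⟨⟨Perm.ofSubtype τ, hof, Perm.mem_alternatingGroup.mpr hs⟩, ?_⟩
      ext x
      show (Perm.ofSubtype τ x.1 : α) = τ x
      rw [Perm.ofSubtype_apply_of_mem τ x.2]
    · refine ⟨⟨Perm.ofSubtype τ * swap (m.1 c) (m.1 d), 𝒦.mul_mem hof hsw, ?_⟩, ?_⟩
      · show Perm.ofSubtype τ * swap (m.1 c) (m.1 d) ∈ alternatingGroup α
        rw [Perm.mem_alternatingGroup, Perm.sign_mul, hs, Perm.sign_swap hcdm]; rfl
      · ext x
        show (Perm.ofSubtype τ (swap (m.1 c) (m.1 d) x.1) : α) = τ x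
        have hx1 : x.1 ≠ m.1 c := fun h => Set.disjoint_left.mp hdisj2 hcm (h ▸ x.2)
        have hx2 : x.1 ≠ m.1 d := fun h => Set.disjoint_left.mp hdisj2 hdm (h ▸ x.2)
        rw [swap_apply_of_ne_of_ne hx1 hx2, Perm.ofSubtype_apply_of_mem τ x.2]
  refine ⟨⟨_, isPiHall_map_of_surjective h2 resB hresB⟩, ?_⟩
  intro p hp hpπ j hj1 hjk hd
  have e := h3 p hp hpπ
  rw [hQ1, hAeq] at e
  have hN0 : (∏ j ∈ Finset.range (orbit M B).ncard,
      Nat.choose ((j + 1) * B.ncard - 1) (B.ncard - 1)) ≠ 0 := by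
    rw [Finset.prod_ne_zero_iff]
    intro i _
    apply (Nat.choose_pos _).ne'
    have : 1 * B.ncard ≤ (i + 1) * B.ncard := Nat.mul_le_mul_right _ (by omega)
    omega
  have hpN : p ∣ ∏ j ∈ Finset.range (orbit M B).ncard,
      Nat.choose ((j + 1) * B.ncard - 1) (B.ncard - 1) := by
    have hmem : j - 1 ∈ Finset.range (orbit M B).ncard := by
      rw [Finset.mem_range]; omega
    have h4 := Finset.dvd_prod_of_mem
      (fun j => Nat.choose ((j + 1) * B.ncard - 1) (B.ncard - 1)) hmem
    have h5 : j - 1 + 1 = j := by omega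
    simp only [h5] at h4
    exact dvd_trans hd h4
  have hK0 : Nat.card ↥(𝒦 ⊓ alternatingGroup α) ≠ 0 := Nat.card_pos.ne'
  have hcK0 : cK ≠ 0 := by
    rintro rfl
    rw [mul_zero] at hcK
    exact (pow_ne_zero _ (Nat.factorial_ne_zero _)) hcK
  have hB0 : ((orbit M B).ncard).factorial ≠ 0 := Nat.factorial_ne_zero _
  rw [Nat.factorization_mul (Nat.mul_ne_zero (Nat.mul_ne_zero hK0 hcK0) hB0) hN0,
    Nat.factorization_mul (Nat.mul_ne_zero hK0 hcK0) hB0, Nat.factorization_mul hK0 hcK0] at e
  simp only [Finsupp.coe_add, Pi.add_apply] at e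
  have h5 : 1 ≤ (∏ j ∈ Finset.range (orbit M B).ncard,
      Nat.choose ((j + 1) * B.ncard - 1) (B.ncard - 1)).factorization p :=
    (hp.dvd_iff_one_le_factorization hN0).mp hpN
  omega

theorem card_pred_dvd_of_two_pretransitive {α : Type*} [Fintype α] [DecidableEq α]
    (M : Subgroup (Perm α)) (h2t : IsMultiplyPretransitive M α 2) (hn : 2 ≤ Fintype.card α) :
    (Fintype.card α - 1) ∣ Nat.card M := by
  have hnt : Nontrivial α := Fintype.one_lt_card_iff_nontrivial.mp (by omega)
  obtain ⟨x, y, hxy⟩ := exists_pair_ne α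
  have horb : orbit (stabilizer M x) y = {x}ᶜ := by
    ext z
    constructor
    · rintro ⟨h, rfl⟩ hz
      have h1 : (h : M) • x = x := h.2
      have h2 : (h : M) • y = x := hz
      exact hxy.symm (smul_left_cancel (h : M) (h2.trans h1.symm))
    · intro hz
      have hzx : z ≠ x := hz
      obtain ⟨g, hg1, hg2⟩ := (is_two_pretransitive_iff.mp h2t) hxy hzx.symm
      exact ⟨⟨g, hg1⟩, hg2⟩
  have h3 := MulAction.index_stabilizer (G := stabilizer M x) (x := y)
  rw [horb, Set.ncard_compl, Set.ncard_singleton, Nat.card_eq_fintype_card] at h3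
  exact dvd_trans (h3 ▸ Subgroup.index_dvd_card _) (Subgroup.card_subgroup_dvd_card _)

/-- A Hall subgroup of the alternating group for a mixed `π ∋ 2` is not primitive. -/
theorem hall_alt_primitive_false {α : Type*} [Fintype α] [DecidableEq α] {π : Set ℕ}
    {M : Subgroup (Perm α)} (hle : M ≤ alternatingGroup α)
    (hH : IsPiHall π (M.subgroupOf (alternatingGroup α))) (hprim : IsPreprimitive M α)
    (h2π : 2 ∈ π) (hmix : HallMixed (Fintype.card α) π) : False := by
  classical
  obtain ⟨⟨r, s, hr, hs, hrs, hrπ, hsπ, hrn, hsn⟩, ⟨q, hq, hqn, hqπ⟩⟩ := hmix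
  obtain ⟨n, hn⟩ : ∃ n, n = Fintype.card α := ⟨_, rfl⟩
  rw [← hn] at hrn hsn hqn
  have hq2 : q ≠ 2 := fun h => hqπ (h ▸ h2π)
  have hr2 := hr.two_le
  have hs2 := hs.two_le
  have hqq := hq.two_le
  have h4 : ∀ t : ℕ, t.Prime → t ≠ 4 := fun t ht h => by
    rw [h] at ht; exact absurd ht (by decide)
  have hn5 : 5 ≤ n := by
    have := h4 r hr; have := h4 s hs; have := h4 q hq
    have hqr : q ≠ r := fun h => hqπ (h ▸ hrπ)
    have hqs : q ≠ s := fun h => hqπ (h ▸ hsπ)
    omega
  have hnt : Nontrivial α := by rw [← Fintype.one_lt_card_iff_nontrivial]; omega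
  have hcardα : Nat.card α = n := by rw [Nat.card_eq_fintype_card, hn]
  have h2A : 2 * Nat.card (alternatingGroup α) = n.factorial := by
    rw [two_mul_nat_card_alternatingGroup, Nat.card_perm, hcardα]
  have hMH : Nat.card (M.subgroupOf (alternatingGroup α)) = Nat.card M :=
    Nat.card_congr (Subgroup.subgroupOfEquivOfLe hle).toEquiv
  have hMπ : ∀ p : ℕ, p.Prime → p ∣ Nat.card M → p ∈ π := fun p hp hd => hH.1 p hp (hMH ▸ hd)
  have hMA : Nat.card M ∣ Nat.card (alternatingGroup α) := Subgroup.card_dvd_of_le hle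
  have hMfac : Nat.card M ∣ n.factorial := by rw [← h2A]; exact Dvd.dvd.mul_left hMA 2
  have hple : ∀ p : ℕ, p.Prime → p ∣ Nat.card M → p ≤ n :=
    fun p hp hd => (hp.dvd_factorial).mp (dvd_trans hd hMfac)
  have hqA : q ∣ Nat.card (alternatingGroup α) := by
    have hfac : q ∣ n.factorial := (hq.dvd_factorial).mpr hqn
    rw [← h2A] at hfac
    exact (Nat.Coprime.dvd_mul_left ((Nat.coprime_primes hq Nat.prime_two).mpr hq2)).mp hfac
  have htrans : IsPretransitive M α := hprim.toIsPretransitive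
  have hstab : ∀ x : α, Nat.card (stabilizer M x) * n = Nat.card M := by
    intro x
    have h1 := (stabilizer M x).card_mul_index
    rwa [index_stabilizer_of_transitive, hcardα] at h1
  obtain ⟨x₀⟩ : Nonempty α := inferInstance
  have hnM : n ∣ Nat.card M := Dvd.intro_left _ (hstab x₀)
  have hv2 : (Nat.card M).factorization 2 + 1 = (n.factorial).factorization 2 := by
    have h1 := piHall_fact_eq hH Nat.prime_two h2π
    rw [hMH] at h1
    rw [← h2A, Nat.factorization_mul (by norm_num) Nat.card_pos.ne', Finsupp.coe_add,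
      Pi.add_apply, Nat.prime_two.factorization_self, h1]
    ring
  have step : ∀ t : ℕ, t.Prime → t ∈ π → t ≠ 2 → t + 3 ≤ n → False := by
    intro t ht htπ ht2 htn
    obtain ⟨g, hgM, hgc, hgs⟩ := hall_alt_exists_cycle hH ht htπ ht2 (by omega)
    have hA := alternatingGroup_le_of_isPreprimitive_of_prime_cycle hprim ht
      (by rw [hcardα]; exact htn) hgc hgs hgM
    have hcard : Nat.card (alternatingGroup α) ∣ Nat.card M := Subgroup.card_dvd_of_le hA
    exact hqπ (hMπ q hq (dvd_trans hqA hcard))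
  have hbig : ∀ t : ℕ, t.Prime → t ∈ π → t ≠ 2 → t ≤ n → n ≤ t + 2 := by
    intro t ht htπ ht2 htn
    by_contra hc
    exact step t ht htπ ht2 (by omega)
  have hodd : ∀ t : ℕ, t.Prime → t ≠ 2 → ¬ 2 ∣ t := fun t ht ht2 h =>
    ht2 ((Nat.prime_dvd_prime_iff_eq Nat.prime_two ht).mp h).symm
  -- case (I): `n - 2` is a prime of `π`
  have caseI : ∀ t : ℕ, t.Prime → t ∈ π → t ≠ 2 → t + 2 = n → False := by
    intro t ht htπ ht2 htn
    have htodd := hodd t ht ht2
    obtain ⟨g, hgM, hgc, hgs⟩ := hall_alt_exists_cycle hH ht htπ ht2 (by omega)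
    have h2t : IsMultiplyPretransitive M α 2 := by
      apply hprim.is_two_pretransitive (s := (g.support : Set α)ᶜ) (n := 1)
      · have h1 := Set.ncard_add_ncard_compl (g.support : Set α)
        rw [Set.ncard_coe_finset, hgs, hcardα] at h1
        omega
      · rw [hcardα]; omega
      · exact Equiv.Perm.isPretransitive_of_isCycle_mem hgc hgM
    have hn1 : (n - 1) ∣ Nat.card M := by
      have := card_pred_dvd_of_two_pretransitive M h2t (by omega)
      rwa [← hn] at this
    have hpow : ∀ {u : ℕ}, u.Prime → u ∣ n - 1 → u = 2 := by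
      intro u hu hud
      by_contra hu2
      have huπ := hMπ u hu (dvd_trans hud hn1)
      have hu3 : 3 ≤ u := by have := hu.two_le; omega
      have h2u : 2 * u ∣ n - 1 := by
        apply Nat.Coprime.mul_dvd_of_dvd_of_dvd
          ((Nat.coprime_primes Nat.prime_two hu).mpr (Ne.symm hu2)) _ hud
        omega
      have := Nat.le_of_dvd (by omega) h2u
      exact step u hu huπ hu2 (by omega)
    obtain ⟨a, ha⟩ : ∃ a, n - 1 = 2 ^ a :=
      ⟨_, Nat.eq_prime_pow_of_unique_prime_dvd (by omega) hpow⟩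
    have h3n1 : ¬ 3 ∣ n - 1 := by
      rw [ha]; intro h
      have := Nat.prime_three.dvd_of_dvd_pow h
      omega
    have hnp : n.Prime := by
      have hmf := Nat.minFac_prime (show n ≠ 1 by omega)
      have hmfd := Nat.minFac_dvd n
      have hmfπ := hMπ _ hmf (dvd_trans hmfd hnM)
      have hmf2 : n.minFac ≠ 2 := by
        intro h; rw [h] at hmfd; omega
      have hle' := Nat.minFac_le (show 0 < n by omega)
      have hb := hbig _ hmf hmfπ hmf2 hle'
      obtain ⟨c, hc⟩ := hmfd
      have hmf3 : 3 ≤ n.minFac := by have := hmf.two_le; omega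
      have hc1 : c = 1 := by
        rcases Nat.lt_or_ge c 2 with h | h
        · interval_cases c
          · omega
          · rfl
        · exfalso
          have : n.minFac * 2 ≤ n.minFac * c := Nat.mul_le_mul_left _ h
          omega
      rw [hc1, mul_one] at hc
      exact (Nat.prime_def_minFac).mpr ⟨by omega, hc.symm⟩
    have hnπ : n ∈ π := hMπ n hnp hnM
    have h3 : 3 ∣ n ∨ 3 ∣ t := by
      have h5 : n % 3 = 0 ∨ n % 3 = 1 ∨ n % 3 = 2 := by omega
      rcases h5 with h5 | h5 | h5
      · left; omega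
      · exfalso; apply h3n1; omega
      · right; omega
    rcases h3 with h | h
    · have := (Nat.prime_dvd_prime_iff_eq Nat.prime_three hnp).mp h; omega
    · have h3t := (Nat.prime_dvd_prime_iff_eq Nat.prime_three ht).mp h
      have hq3 : q = 3 ∨ q = 5 := by
        have := h4 q hq
        omega
      rcases hq3 with rfl | rfl
      · exact hqπ (h3t ▸ htπ)
      · exact hqπ ((show n = 5 by omega) ▸ hnπ)
  -- case (IIa): `n - 1` is a prime of `π`
  have caseIIa : ∀ t : ℕ, t.Prime → t ∈ π → t ≠ 2 → t + 1 = n → False := by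
    intro t ht htπ ht2 htn
    have htodd := hodd t ht ht2
    have ht3 : 3 ≤ t := by have := ht.two_le; omega
    have hpow : ∀ {u : ℕ}, u.Prime → u ∣ n → u = 2 := by
      intro u hu hud
      by_contra hu2
      have huπ := hMπ u hu (dvd_trans hud hnM)
      have h2u : 2 * u ∣ n := by
        apply Nat.Coprime.mul_dvd_of_dvd_of_dvd
          ((Nat.coprime_primes Nat.prime_two hu).mpr (Ne.symm hu2)) _ hud
        omega
      have := Nat.le_of_dvd (by omega) h2u
      have hu3 : 3 ≤ u := by have := hu.two_le; omega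
      exact step u hu huπ hu2 (by omega)
    obtain ⟨a, ha⟩ : ∃ a, n = 2 ^ a := ⟨_, Nat.eq_prime_pow_of_unique_prime_dvd (by omega) hpow⟩
    have ha3 : 3 ≤ a := by
      by_contra hc
      have h5 : a ≤ 2 := by omega
      have h6 : 2 ^ a ≤ 2 ^ 2 := Nat.pow_le_pow_right (by norm_num) h5
      omega
    obtain ⟨g, hgM, hgc, hgs⟩ := hall_alt_exists_cycle hH ht htπ ht2 (by omega)
    obtain ⟨x, hx⟩ : ∃ x, x ∉ g.support := by
      by_contra hcon; push Not at hcon
      have h5 : g.support = Finset.univ := Finset.eq_univ_iff_forall.mpr hcon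
      rw [h5, Finset.card_univ] at hgs
      omega
    have hgx : g x = x := by simpa using hx
    have hsupp : ∀ y, y ≠ x → g y ≠ y := by
      intro y hy hgy
      have hsub : g.support ⊆ (Finset.univ.erase x).erase y := by
        intro z hz
        rw [Finset.mem_erase, Finset.mem_erase]
        refine ⟨?_, ?_, Finset.mem_univ z⟩
        · rintro rfl; exact (Perm.mem_support.mp hz) hgy
        · rintro rfl; exact (Perm.mem_support.mp hz) hgx
      have h5 := Finset.card_le_card hsub
      rw [Finset.card_erase_of_mem (by simp [hy]), Finset.card_erase_of_mem (Finset.mem_univ x),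
        Finset.card_univ, hgs] at h5
      omega
    have hmemx : ∀ h : stabilizer M x, ∀ y, h.1.1 y ≠ x ↔ y ≠ x := by
      intro h y
      have hh : h.1.1 x = x := h.2
      constructor
      · intro h1 h2; exact h1 (h2 ▸ hh)
      · intro h1 h2; exact h1 (h.1.1.injective (h2.trans hh.symm))
    let ρ : stabilizer M x →* Perm {y : α // y ≠ x} :=
      { toFun := fun h => Perm.subtypePerm h.1.1 (hmemx h)
        map_one' := by ext y; rfl
        map_mul' := fun _ _ => by ext y; rfl }
    have hρ : Function.Injective ρ := by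
      intro h h' hh
      apply Subtype.ext; apply Subtype.ext
      ext y
      by_cases hy : y = x
      · rw [hy]; exact (show h.1.1 x = x from h.2).trans (show h'.1.1 x = x from h'.2).symm
      · exact congrArg (fun k : Perm {y : α // y ≠ x} => (k ⟨y, hy⟩ : α)) hh
    have hΩ : Fintype.card {y : α // y ≠ x} = t := by
      rw [Fintype.card_subtype_compl, Fintype.card_subtype_eq]
      omega
    have hXcard : Nat.card ρ.range = Nat.card (stabilizer M x) :=
      (Nat.card_congr (MonoidHom.ofInjective hρ).toEquiv).symm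
    have hgstab : (⟨g, hgM⟩ : M) ∈ stabilizer M x := hgx
    have hXtrans : IsPretransitive ρ.range {y : α // y ≠ x} := by
      constructor
      intro y y'
      obtain ⟨i, hi⟩ := hgc.exists_zpow_eq (hsupp y.1 y.2) (hsupp y'.1 y'.2)
      refine ⟨⟨ρ (⟨⟨g, hgM⟩, hgstab⟩ ^ i), MonoidHom.mem_range.mpr ⟨_, rfl⟩⟩, ?_⟩
      apply Subtype.ext
      show ((⟨⟨g, hgM⟩, hgstab⟩ ^ i : stabilizer M x).1.1 y.1 : α) = y'.1
      rw [Subgroup.coe_zpow, Subgroup.coe_zpow]; exact hi
    obtain ⟨y₀⟩ : Nonempty {y : α // y ≠ x} := by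
      rw [← Fintype.card_pos_iff, hΩ]; omega
    have hΩ' : Nat.card {y : α // y ≠ x} = t := by rw [Nat.card_eq_fintype_card, hΩ]
    have hXstab := (stabilizer ρ.range y₀).card_mul_index
    rw [index_stabilizer_of_transitive, hΩ'] at hXstab
    have hXfac : Nat.card ρ.range ∣ t.factorial := by
      have h5 := Subgroup.card_subgroup_dvd_card ρ.range
      rwa [Nat.card_perm, hΩ'] at h5
    have hm2 : ∀ {u : ℕ}, u.Prime → u ∣ Nat.card (stabilizer ρ.range y₀) → u = 2 := by
      intro u hu hud
      by_contra hu2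
      have hudX : u ∣ Nat.card ρ.range := dvd_trans hud (Dvd.intro _ hXstab)
      have hudM : u ∣ Nat.card M := by
        rw [hXcard] at hudX
        exact dvd_trans hudX (Subgroup.card_subgroup_dvd_card _)
      have huπ := hMπ u hu hudM
      have hun := hple u hu hudM
      have hb := hbig u hu huπ hu2 hun
      have huodd := hodd u hu hu2
      have hut : u = t := by omega
      have h1 : t * t ∣ Nat.card ρ.range := by
        rw [← hXstab]; exact Nat.mul_dvd_mul (hut ▸ hud) (dvd_refl t)
      have h3 : t * t ∣ t * (t - 1).factorial := by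
        have h5 : t.factorial = t * (t - 1).factorial := by
          obtain ⟨t', rfl⟩ : ∃ t', t = t' + 1 := ⟨t - 1, by omega⟩
          simp [Nat.factorial_succ]
        rw [← h5]; exact dvd_trans h1 hXfac
      have h6 : t ∣ (t - 1).factorial := Nat.dvd_of_mul_dvd_mul_left (by omega) h3
      have := (ht.dvd_factorial).mp h6
      omega
    obtain ⟨e, he⟩ : ∃ e, Nat.card (stabilizer ρ.range y₀) = 2 ^ e :=
      ⟨_, Nat.eq_prime_pow_of_unique_prime_dvd Nat.card_pos.ne' hm2⟩
    have hXc : Nat.card ρ.range = 2 ^ e * t := by rw [← hXstab, he]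
    have hT := trans_prime_two_pow ht hΩ ρ.range hXc
    have hMc : Nat.card M = 2 ^ (a + e) * t := by
      rw [← hstab x, ← hXcard, hXc, ha, pow_add]; ring
    have hv : (Nat.card M).factorization 2 = a + e := by
      rw [hMc, Nat.factorization_mul (pow_ne_zero _ (by norm_num)) (by omega)]
      simp [Nat.factorization_pow, Nat.prime_two.factorization_self,
        Nat.factorization_eq_zero_of_not_dvd htodd]
    have hdv := two_pow_dvd_factorial_two_pow a
    rw [← ha] at hdv
    have hle2 : n - 1 ≤ (n.factorial).factorization 2 :=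
      (Nat.prime_two.pow_dvd_iff_le_factorization (Nat.factorial_ne_zero n)).mp hdv
    have hea : e < a := by
      have h5 : 2 ^ e < 2 ^ a := by rw [← ha]; omega
      exact (Nat.pow_lt_pow_iff_right (by norm_num)).mp h5
    have := lt_two_pow_of_three_le ha3
    omega
  -- an odd prime of `π`
  obtain ⟨t, ht, htπ, ht2, htn⟩ : ∃ t : ℕ, t.Prime ∧ t ∈ π ∧ t ≠ 2 ∧ t ≤ n := by
    by_cases h : r = 2
    · exact ⟨s, hs, hsπ, fun h' => hrs (h.trans h'.symm), hsn⟩
    · exact ⟨r, hr, hrπ, h, hrn⟩
  have htodd := hodd t ht ht2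
  have htn' := hbig t ht htπ ht2 htn
  rcases (show t + 2 = n ∨ t + 1 = n ∨ t = n by omega) with h | h | h
  · exact caseI t ht htπ ht2 h
  · exact caseIIa t ht htπ ht2 h
  · -- case (IIb)
    have hnp : n.Prime := h ▸ ht
    have hnπ : n ∈ π := h ▸ htπ
    have hnodd : ¬ 2 ∣ n := h ▸ htodd
    have hpr : ∀ u : ℕ, u.Prime → u ∣ Nat.card M → u = 2 ∨ u = n := by
      intro u hu hud
      by_contra hcon
      push Not at hcon
      have huπ := hMπ u hu hud
      have hun := hple u hu hud
      have hb := hbig u hu huπ hcon.1 hun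
      have huodd := hodd u hu hcon.1
      have h5 : u + 2 = n := by omega
      exact caseI u hu huπ hcon.1 h5
    have hm2 : ∀ {u : ℕ}, u.Prime → u ∣ Nat.card (stabilizer M x₀) → u = 2 := by
      intro u hu hud
      have hudM : u ∣ Nat.card M := dvd_trans hud (Dvd.intro _ (hstab x₀))
      rcases hpr u hu hudM with h2 | hun
      · exact h2
      · exfalso
        have h1 : n * n ∣ Nat.card M := by
          rw [← hstab x₀]; exact Nat.mul_dvd_mul (hun ▸ hud) (dvd_refl n)
        have h3 : n * n ∣ n * (n - 1).factorial := by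
          have h5 : n.factorial = n * (n - 1).factorial := by
            obtain ⟨n', rfl⟩ : ∃ n', n = n' + 1 := ⟨n - 1, by omega⟩
            simp [Nat.factorial_succ]
          rw [← h5]; exact dvd_trans h1 hMfac
        have h6 : n ∣ (n - 1).factorial := Nat.dvd_of_mul_dvd_mul_left (by omega) h3
        have := (hnp.dvd_factorial).mp h6
        omega
    obtain ⟨e, he⟩ : ∃ e, Nat.card (stabilizer M x₀) = 2 ^ e :=
      ⟨_, Nat.eq_prime_pow_of_unique_prime_dvd Nat.card_pos.ne' hm2⟩
    have hMc : Nat.card M = 2 ^ e * n := by rw [← hstab x₀, he]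
    have hT := trans_prime_two_pow hnp hn.symm M hMc
    have hv : (Nat.card M).factorization 2 = e := by
      rw [hMc, Nat.factorization_mul (pow_ne_zero _ (by norm_num)) (by omega)]
      simp [Nat.factorization_pow, Nat.prime_two.factorization_self,
        Nat.factorization_eq_zero_of_not_dvd hnodd]
    obtain ⟨m, hm⟩ : ∃ m, n = 2 * m + 1 := ⟨n / 2, by omega⟩
    have hm2' : 2 ≤ m := by omega
    have hdv : 2 ^ (m + 1) ∣ n.factorial := by
      have h1 := two_pow_mul_factorial_dvd m
      have h2 : 2 ∣ m.factorial := Nat.dvd_factorial (by norm_num) hm2'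
      have h3 : 2 ^ (m + 1) ∣ 2 ^ m * m.factorial := by
        rw [pow_succ]; exact Nat.mul_dvd_mul_left _ h2
      have h5 : (2 * m).factorial ∣ n.factorial := Nat.factorial_dvd_factorial (by omega)
      exact dvd_trans h3 (dvd_trans h1 h5)
    have hle2 : m + 1 ≤ (n.factorial).factorization 2 :=
      (Nat.prime_two.pow_dvd_iff_le_factorization (Nat.factorial_ne_zero n)).mp hdv
    have hme : m ≤ e := by omega
    have h2m : 2 ^ m ≤ 2 ^ e := Nat.pow_le_pow_right (by norm_num) hme
    have hm_le : m ≤ 2 := by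
      by_contra hc
      have := lt_two_pow_of_three_le (show 3 ≤ m by omega)
      omega
    have hn5' : n = 5 := by omega
    have he2 : e = 2 := by
      have h5a : 3 ≤ (Nat.factorial 5).factorization 2 :=
        (Nat.prime_two.pow_dvd_iff_le_factorization (by decide)).mp (by decide)
      have h5b : ¬ 4 ≤ (Nat.factorial 5).factorization 2 := fun h =>
        absurd ((Nat.prime_two.pow_dvd_iff_le_factorization (by decide)).mpr h) (by decide)
      rw [hn5'] at hv2
      omega
    have hsimple : IsSimpleGroup (alternatingGroup α) :=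
      alternatingGroup.isSimpleGroup (by rw [hcardα]; omega)
    have hAc : Nat.card (alternatingGroup α) = 60 := by
      rw [hn5'] at h2A
      have h5 : Nat.factorial 5 = 120 := rfl
      omega
    have hMc' : Nat.card (M.subgroupOf (alternatingGroup α)) = 20 := by
      rw [hMH, hMc, he2, hn5']; norm_num
    have hHne : M.subgroupOf (alternatingGroup α) ≠ ⊤ := by
      intro htop
      have h5 := Subgroup.card_top (G := alternatingGroup α)
      rw [← htop, hMc', hAc] at h5
      omega
    have hidx : (M.subgroupOf (alternatingGroup α)).index = 3 := by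
      have h5 := (M.subgroupOf (alternatingGroup α)).card_mul_index
      rw [hMc', hAc] at h5
      omega
    have hdvd := card_dvd_factorial_index_of_simple hHne
    rw [hidx, hAc] at hdvd
    exact absurd hdvd (by decide)

/-- Existence classification of Hall subgroups of alternating groups for mixed `π`. -/
theorem hall_alt_main : ∀ (n : ℕ) (α : Type u) [Fintype α] [DecidableEq α],
    Fintype.card α = n → ∀ (π : Set ℕ) (M : Subgroup (Perm α)), M ≤ alternatingGroup α →
    IsPiHall π (M.subgroupOf (alternatingGroup α)) → HallMixed n π → HallGoal n π := by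
  intro n
  induction n using Nat.strong_induction_on with
  | _ n ih =>
  intro α _ _ hcard π M hle hH hmix
  classical
  have hn3 : 3 ≤ n := by
    obtain ⟨⟨r, s, hr, hs, hrs, -, -, hrn, hsn⟩, -⟩ := hmix
    have := hr.two_le; have := hs.two_le; omega
  have hnt : Nontrivial α := by rw [← Fintype.one_lt_card_iff_nontrivial]; omega
  by_cases h2π : 2 ∈ π
  swap
  · have hMH : Nat.card (M.subgroupOf (alternatingGroup α)) = Nat.card M :=
      Nat.card_congr (Subgroup.subgroupOfEquivOfLe hle).toEquiv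
    have hS : IsPiHall π M := by
      refine ⟨fun p hp hd => hH.1 p hp (hMH ▸ hd), fun p hp hpπ hd => ?_⟩
      have h1 := Subgroup.relIndex_mul_index hle
      rw [alternatingGroup.index_eq_two] at h1
      rw [← h1] at hd
      rcases (hp.dvd_mul).mp hd with h | h
      · exact hH.2 p hp hpπ h
      · exact h2π (((Nat.prime_dvd_prime_iff_eq hp Nat.prime_two).mp h) ▸ hpπ)
    exact hall_sym_main n α hcard π M hS hmix
  by_cases htrans : IsPretransitive M α
  · by_cases hprim : IsPreprimitive M α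
    · exact (hall_alt_primitive_false hle hH hprim h2π (hcard ▸ hmix)).elim
    · have hblock : ∃ B : Set α, IsBlock M B ∧ ¬ IsTrivialBlock B := by
        by_contra hc
        push Not at hc
        exact hprim { toIsPretransitive := htrans
                      isTrivialBlock_of_isBlock := fun {B} hB => hc B hB }
      obtain ⟨B, hB, hBnt⟩ := hblock
      have hBne : B.Nonempty := by
        by_contra hc
        rw [Set.not_nonempty_iff_eq_empty] at hc
        exact hBnt (Or.inl (hc ▸ Set.subsingleton_empty))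
      have hb2 : 2 ≤ B.ncard := by
        by_contra hc
        apply hBnt; left
        have h1 : B.ncard ≤ 1 := by omega
        exact Set.ncard_le_one_iff_subsingleton.mp h1
      have hBuniv : B ≠ Set.univ := fun h => hBnt (Or.inr h)
      obtain ⟨k, hk, hK, hcop⟩ := hall_alt_imprimitive hH B hB hBne hb2 hBuniv
      have hbn : B.ncard < n := by
        rw [← hcard, ← Nat.card_eq_fintype_card]
        exact Set.ncard_lt_card (fun h => hBnt (Or.inr h))
      have hkn : B.ncard * k = n := by rw [hk, Nat.card_eq_fintype_card, hcard]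
      have hk2 : 2 ≤ k := by
        by_contra hc
        have h1 : k ≤ 1 := by omega
        interval_cases k <;> omega
      refine imprim_core hb2 hk2 hkn hcop hmix (fun hmixb => ?_)
      obtain ⟨K, hK⟩ := hK
      have hft : Fintype B := Fintype.ofFinite B
      exact hall_sym_main B.ncard B (by rw [← Nat.card_eq_fintype_card, Nat.card_coe_set_eq]) π K
        hK hmixb
  · by_cases hfix : ∃ x : α, ∀ σ ∈ M, σ x = x
    · obtain ⟨x, hx⟩ := hfix
      have hft : Fintype (({x} : Set α)ᶜ : Set α) := Fintype.ofFinite _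
      have hcc : Nat.card (({x} : Set α)ᶜ : Set α) = n - 1 := by
        rw [Nat.card_coe_set_eq, Set.ncard_compl, Set.ncard_singleton, Nat.card_eq_fintype_card,
          hcard]
      obtain ⟨-, ⟨K₂, hK₂le, hK₂⟩, hcop⟩ := hall_alt_intransitive hH ({x} : Set α)
        (fun σ hσ z hz => by
          rw [Set.mem_singleton_iff] at hz ⊢; rw [hz]; exact hx σ hσ)
        (by rw [hcc]; omega)
      have hc1 : Nat.card (({x} : Set α)) = 1 := by
        rw [Nat.card_coe_set_eq, Set.ncard_singleton]
      rw [hc1, hcc] at hcop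
      refine intrans_core (m := 1) (M := n - 1) (le_refl 1) (by omega) (by omega) hcop hmix
        (fun hmixM => ?_)
      exact ih (n - 1) (by omega) (({x} : Set α)ᶜ : Set α)
        (by rw [← Nat.card_eq_fintype_card, hcc]) π K₂ hK₂le hK₂ hmixM
    · push Not at hfix
      obtain ⟨x⟩ : Nonempty α := inferInstance
      have hΔinv : ∀ σ ∈ M, ∀ z ∈ orbit M x, σ z ∈ orbit M x := by
        rintro σ hσ z ⟨h, rfl⟩
        refine ⟨⟨σ, hσ⟩ * h, ?_⟩
        show (⟨σ, hσ⟩ * h : M) • x = σ (h • x)
        rw [mul_smul]; rfl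
      have hΔcinv : ∀ σ ∈ M, ∀ z ∈ (orbit M x)ᶜ, σ z ∈ (orbit M x)ᶜ := by
        intro σ hσ z hz hσz
        apply hz
        have := hΔinv σ⁻¹ (M.inv_mem hσ) (σ z) hσz
        simpa using this
      have hΔuniv : orbit M x ≠ Set.univ := by
        intro h
        apply htrans
        constructor
        intro a b
        obtain ⟨ga, hga⟩ : a ∈ orbit M x := h ▸ Set.mem_univ a
        obtain ⟨gb, hgb⟩ : b ∈ orbit M x := h ▸ Set.mem_univ b
        exact ⟨gb * ga⁻¹, by rw [← hga, ← hgb, mul_smul, inv_smul_smul]⟩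
      have h2Δ : 2 ≤ Nat.card (orbit M x) := by
        obtain ⟨σ, hσ, hσx⟩ := hfix x
        rw [Nat.card_coe_set_eq]
        have : 1 < (orbit M x).ncard := Set.one_lt_ncard_iff_nontrivial.mpr
          ⟨x, mem_orbit_self x, σ x, ⟨⟨σ, hσ⟩, rfl⟩, fun h => hσx h.symm⟩
        omega
      have h2c : 2 ≤ Nat.card ((orbit M x)ᶜ : Set α) := by
        obtain ⟨y, hy⟩ : ∃ y, y ∉ orbit M x := by
          by_contra hcon; push Not at hcon
          exact hΔuniv (Set.eq_univ_of_forall hcon)
        obtain ⟨σ, hσ, hσy⟩ := hfix y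
        rw [Nat.card_coe_set_eq]
        have : 1 < ((orbit M x)ᶜ).ncard := Set.one_lt_ncard_iff_nontrivial.mpr
          ⟨y, hy, σ y, hΔcinv σ hσ y hy, fun h => hσy h.symm⟩
        omega
      have hft1 : Fintype ((orbit M x)ᶜ : Set α) := Fintype.ofFinite _
      have hft2 : Fintype (((orbit M x)ᶜ)ᶜ : Set α) := Fintype.ofFinite _
      obtain ⟨⟨K₁, hK₁⟩, -, hcop⟩ := hall_alt_intransitive hH (orbit M x) hΔinv h2c
      obtain ⟨⟨K₁', hK₁'⟩, -, -⟩ := hall_alt_intransitive hH ((orbit M x)ᶜ) hΔcinv
        (by rw [Nat.card_coe_set_eq, compl_compl, ← Nat.card_coe_set_eq]; exact h2Δ)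
      have hsum : Nat.card (orbit M x) + Nat.card ((orbit M x)ᶜ : Set α) = n := by
        rw [Nat.card_coe_set_eq, Nat.card_coe_set_eq, Set.ncard_add_ncard_compl,
          Nat.card_eq_fintype_card, hcard]
      rcases le_total (Nat.card (orbit M x)) (Nat.card ((orbit M x)ᶜ : Set α)) with hle' | hle'
      · refine intrans_core (by omega) hle' hsum hcop hmix (fun hmixM => ?_)
        exact hall_sym_main (Nat.card ((orbit M x)ᶜ : Set α)) ((orbit M x)ᶜ : Set α)
          (Nat.card_eq_fintype_card).symm π K₁' hK₁' hmixM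
      · refine intrans_core (by omega) hle' (by omega) ?_ hmix (fun hmixM => ?_)
        · intro p hp hpπ hd
          apply hcop p hp hpπ
          rw [Nat.choose_symm_add, add_comm] at hd
          exact hd
        · exact hall_sym_main (Nat.card (orbit M x)) (orbit M x)
            (Nat.card_eq_fintype_card).symm π K₁ hK₁ hmixM

end Cfsg.Agent.Lib.helper43
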