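import Mathlib
import Cfsg.Agent.Lib.helper43.HallAlt

set_option autoImplicit false

/-!
# Shapes of the Hall subgroups of symmetric and alternating groups, conjugacy (helper43)
-/

namespace Cfsg.Agent.Lib.helper43

open Cfsg Equiv MulAction
open scoped Pointwise

universe u

section Tools

theorem swap_smul_set_eq_of_mem {α : Type*} [DecidableEq α] {c d : α} {t : Set α} (hc : c ∈ t)
    (hd : d ∈ t) : swap c d • t = t := by
  apply perm_smul_set_eq
  intro x
  by_cases hxc : x = c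
  · rw [hxc, swap_apply_left]; simp [hc, hd]
  · by_cases hxd : x = d
    · rw [hxd, swap_apply_right]; simp [hc, hd]
    · rw [swap_apply_of_ne_of_ne hxc hxd]

theorem card_subgroupOf_dvd {G : Type*} [Group G] (W A : Subgroup G) :
    Nat.card (W.subgroupOf A) ∣ Nat.card W := by
  have h1 : (W ⊓ A).subgroupOf A = W.subgroupOf A := Subgroup.inf_subgroupOf_right W A
  rw [← h1, Nat.card_congr (Subgroup.subgroupOfEquivOfLe (inf_le_right : W ⊓ A ≤ A)).toEquiv]
  exact Subgroup.card_dvd_of_le inf_le_left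

theorem smul_pair_eq {α : Type*} (σ : Perm α) (B : Set α) (h : σ • B = B ∨ σ • B = Bᶜ) :
    σ • ({B, Bᶜ} : Set (Set α)) = {B, Bᶜ} := by
  have h1 : σ • ({B, Bᶜ} : Set (Set α)) = {σ • B, σ • Bᶜ} := by
    rw [← Set.image_smul, Set.image_pair]
  rw [h1, Set.smul_set_compl]
  rcases h with h | h
  · rw [h]
  · rw [h, compl_compl, Set.pair_comm]

variable {α : Type*} [Fintype α] [DecidableEq α]

theorem exists_perm_smul_set_eq {Δ Δ' : Set α} (h : Δ.ncard = Δ'.ncard) :
    ∃ g : Perm α, g • Δ = Δ' := by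
  classical
  have h1 : Nat.card Δ = Nat.card Δ' := by rw [Nat.card_coe_set_eq, Nat.card_coe_set_eq, h]
  obtain ⟨e⟩ := (Finite.card_eq).mp h1
  refine ⟨(e : {x // x ∈ Δ} ≃ {x // x ∈ Δ'}).extendSubtype, ?_⟩
  ext y
  rw [Set.mem_smul_set_iff_inv_smul_mem]
  have h2 : (e : {x // x ∈ Δ} ≃ {x // x ∈ Δ'}).extendSubtype
      (((e : {x // x ∈ Δ} ≃ {x // x ∈ Δ'}).extendSubtype)⁻¹ • y) = y :=
    Equiv.apply_symm_apply _ y
  constructor
  · intro hy
    have h3 := Equiv.extendSubtype_mem (e : {x // x ∈ Δ} ≃ {x // x ∈ Δ'}) _ hy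
    rw [h2] at h3
    exact h3
  · intro hy
    by_contra hn
    have h3 := Equiv.extendSubtype_not_mem (e : {x // x ∈ Δ} ≃ {x // x ∈ Δ'}) _ hn
    rw [h2] at h3
    exact h3 hy

theorem pi_stabilizer_point (x : α) {p : ℕ} (hp : p.Prime)
    (hd : p ∣ Nat.card (stabilizer (Perm α) x)) : p < Fintype.card α := by
  have h1 := (stabilizer (Perm α) x).card_mul_index
  have hc : Nat.card α = Fintype.card α := Nat.card_eq_fintype_card
  rw [index_stabilizer_of_transitive, Nat.card_perm, hc] at h1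
  have hn : 0 < Fintype.card α := Fintype.card_pos_iff.mpr ⟨x⟩
  obtain ⟨n, hn'⟩ : ∃ n, Fintype.card α = n + 1 := ⟨Fintype.card α - 1, by omega⟩
  rw [hn', Nat.factorial_succ, mul_comm] at h1
  have h2 := Nat.eq_of_mul_eq_mul_left (by omega) h1
  rw [h2] at hd
  have := (hp.dvd_factorial).mp hd
  omega

theorem card_stabilizer_set_dvd (Δ : Set α) :
    Nat.card (stabilizer (Perm α) Δ) ∣
      (Nat.card Δ).factorial * (Nat.card (Δᶜ : Set α)).factorial := by
  classical
  have hiff : ∀ σ : stabilizer (Perm α) Δ, ∀ x, σ.1 x ∈ Δ ↔ x ∈ Δ :=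
    fun σ x => perm_mem_iff_of_smul_set_eq σ.1 Δ σ.2 x
  have hiffc : ∀ σ : stabilizer (Perm α) Δ, ∀ x, σ.1 x ∈ Δᶜ ↔ x ∈ Δᶜ :=
    fun σ x => not_congr (hiff σ x)
  let φ : stabilizer (Perm α) Δ →* Perm Δ × Perm (Δᶜ : Set α) :=
    { toFun := fun σ => (Perm.subtypePerm σ.1 (hiff σ), Perm.subtypePerm σ.1 (hiffc σ))
      map_one' := Prod.ext (by ext x; rfl) (by ext x; rfl)
      map_mul' := fun σ τ => Prod.ext (by ext x; rfl) (by ext x; rfl) }
  have hφ : Function.Injective φ := by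
    intro σ τ h
    apply Subtype.ext
    ext x
    by_cases hx : x ∈ Δ
    · exact congrArg (fun k : Perm Δ × Perm (Δᶜ : Set α) => (k.1 ⟨x, hx⟩ : α)) h
    · exact congrArg (fun k : Perm Δ × Perm (Δᶜ : Set α) => (k.2 ⟨x, hx⟩ : α)) h
  have := Subgroup.card_dvd_of_injective φ hφ
  rwa [Nat.card_prod, Nat.card_perm, Nat.card_perm] at this

theorem pi_stabilizer_pair (B : Set α) {p : ℕ} (hp : p.Prime)
    (hd : p ∣ Nat.card (stabilizer (Perm α) ({B, Bᶜ} : Set (Set α)))) :
    p = 2 ∨ p ∣ (Nat.card B).factorial * (Nat.card (Bᶜ : Set α)).factorial := by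
  classical
  obtain ⟨W, hW⟩ : ∃ W : Subgroup (Perm α),
      W = stabilizer (Perm α) ({B, Bᶜ} : Set (Set α)) := ⟨_, rfl⟩
  rw [← hW] at hd
  have h1 := (stabilizer W B).card_mul_index
  rw [index_stabilizer] at h1
  have horb : orbit W B ⊆ ({B, Bᶜ} : Set (Set α)) := by
    rintro t ⟨w, rfl⟩
    have h2 : w.1 • ({B, Bᶜ} : Set (Set α)) = {B, Bᶜ} := hW.le w.2
    have h3 : w.1 • B ∈ w.1 • ({B, Bᶜ} : Set (Set α)) :=
      Set.smul_mem_smul_set (Set.mem_insert _ _)
    rw [h2] at h3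
    exact h3
  have h2 : (orbit W B).ncard ≤ 2 := by
    have h3 := Set.ncard_le_ncard horb (Set.toFinite _)
    have h4 := Set.ncard_insert_le B ({Bᶜ} : Set (Set α))
    rw [Set.ncard_singleton] at h4
    omega
  rw [← h1] at hd
  rcases (hp.dvd_mul).mp hd with h | h
  · right
    let ψ : stabilizer W B →* stabilizer (Perm α) B :=
      { toFun := fun σ => ⟨σ.1.1, σ.2⟩
        map_one' := rfl
        map_mul' := fun _ _ => rfl }
    have hψ : Function.Injective ψ := by
      intro σ τ h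
      apply Subtype.ext; apply Subtype.ext
      exact congrArg (fun k : stabilizer (Perm α) B => k.1) h
    exact dvd_trans h (dvd_trans (Subgroup.card_dvd_of_injective ψ hψ)
      (card_stabilizer_set_dvd B))
  · left
    have hpos : 0 < (orbit W B).ncard :=
      (Set.ncard_pos (Set.toFinite _)).mpr ⟨B, mem_orbit_self B⟩
    have h3 := Nat.le_of_dvd hpos h
    have := hp.two_le
    omega

theorem le_stabilizer_set_of_invariant {M : Subgroup (Perm α)} {Δ : Set α}
    (hΔ : ∀ σ ∈ M, ∀ z ∈ Δ, σ z ∈ Δ) : M ≤ stabilizer (Perm α) Δ := by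
  intro σ hσ
  apply perm_smul_set_eq
  intro x
  refine ⟨fun hx => ?_, hΔ σ hσ x⟩
  have := hΔ σ⁻¹ (M.inv_mem hσ) (σ x) hx
  simpa using this

theorem exists_invariant_of_not_pretransitive [Nonempty α]
    (M : Subgroup (Perm α)) (htrans : ¬ IsPretransitive M α)
    (hfix : ∀ x : α, ∃ σ ∈ M, σ x ≠ x) :
    ∃ Δ : Set α, (∀ σ ∈ M, ∀ z ∈ Δ, σ z ∈ Δ) ∧ (∀ σ ∈ M, ∀ z ∈ Δᶜ, σ z ∈ Δᶜ) ∧
      2 ≤ Nat.card Δ ∧ 2 ≤ Nat.card (Δᶜ : Set α) := by
  obtain ⟨x⟩ : Nonempty α := inferInstance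
  have hΔinv : ∀ σ ∈ M, ∀ z ∈ orbit M x, σ z ∈ orbit M x := by
    rintro σ hσ z ⟨h, rfl⟩
    refine ⟨⟨σ, hσ⟩ * h, ?_⟩
    show (⟨σ, hσ⟩ * h : M) • x = σ (h • x)
    rw [mul_smul]; rfl
  have hΔcinv : ∀ σ ∈ M, ∀ z ∈ (orbit M x)ᶜ, σ z ∈ (orbit M x)ᶜ := by
    intro σ hσ z hz hσz
    apply hz
    have := hΔinv σ⁻¹ (M.inv_mem hσ) (σ z) hσz
    simpa using this
  have hΔuniv : orbit M x ≠ Set.univ := by
    intro h
    apply htrans
    constructor
    intro a b
    obtain ⟨ga, hga⟩ : a ∈ orbit M x := h ▸ Set.mem_univ a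
    obtain ⟨gb, hgb⟩ : b ∈ orbit M x := h ▸ Set.mem_univ b
    exact ⟨gb * ga⁻¹, by rw [← hga, ← hgb, mul_smul, inv_smul_smul]⟩
  refine ⟨orbit M x, hΔinv, hΔcinv, ?_, ?_⟩
  · obtain ⟨σ, hσ, hσx⟩ := hfix x
    rw [Nat.card_coe_set_eq]
    have : 1 < (orbit M x).ncard := Set.one_lt_ncard_iff_nontrivial.mpr
      ⟨x, mem_orbit_self x, σ x, ⟨⟨σ, hσ⟩, rfl⟩, fun h => hσx h.symm⟩
    omega
  · obtain ⟨y, hy⟩ : ∃ y, y ∉ orbit M x := by
      by_contra hcon; push Not at hcon
      exact hΔuniv (Set.eq_univ_of_forall hcon)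
    obtain ⟨σ, hσ, hσy⟩ := hfix y
    rw [Nat.card_coe_set_eq]
    have : 1 < ((orbit M x)ᶜ).ncard := Set.one_lt_ncard_iff_nontrivial.mpr
      ⟨y, hy, σ y, hΔcinv σ hσ y hy, fun h => hσy h.symm⟩
    omega

theorem isPiHall_of_alt_of_two_not_mem {π : Set ℕ}
    {M : Subgroup (Perm α)} (hle : M ≤ alternatingGroup α)
    (hH : IsPiHall π (M.subgroupOf (alternatingGroup α))) (h2π : 2 ∉ π) : IsPiHall π M := by
  have hMH : Nat.card (M.subgroupOf (alternatingGroup α)) = Nat.card M :=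
    Nat.card_congr (Subgroup.subgroupOfEquivOfLe hle).toEquiv
  refine ⟨fun p hp hd => hH.1 p hp (hMH ▸ hd), fun p hp hpπ hd => ?_⟩
  have h1 := Subgroup.relIndex_mul_index hle
  rw [← h1] at hd
  rcases (hp.dvd_mul).mp hd with h | h
  · exact hH.2 p hp hpπ h
  · have h2 : (alternatingGroup α).index ∣ 2 := by
      rcases subsingleton_or_nontrivial α with hs | hn
      · rw [alternatingGroup.index_eq_one]; exact one_dvd _
      · rw [alternatingGroup.index_eq_two]
    exact h2π (((Nat.prime_dvd_prime_iff_eq hp Nat.prime_two).mp (dvd_trans h h2)) ▸ hpπ)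

/-- Lifting a Hall subgroup of the alternating group to one of the symmetric group. -/
theorem hall_lift {π : Set ℕ} {M W : Subgroup (Perm α)}
    (hH : IsPiHall π (M.subgroupOf (alternatingGroup α))) (hMW : M ≤ W)
    (hW : ∀ p : ℕ, p.Prime → p ∣ Nat.card W → p ∈ π) (hodd : ¬ W ≤ alternatingGroup α) :
    IsPiHall π W ∧ M.subgroupOf (alternatingGroup α) = W.subgroupOf (alternatingGroup α) := by
  have heq : M.subgroupOf (alternatingGroup α) = W.subgroupOf (alternatingGroup α) :=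
    hall_eq_of_le hH (Subgroup.comap_mono hMW)
      (fun p hp hd => hW p hp (dvd_trans hd (card_subgroupOf_dvd W _)))
  refine ⟨⟨hW, fun p hp hpπ hd => ?_⟩, heq⟩
  have hnt : Nontrivial α := by
    by_contra hc
    rw [not_nontrivial_iff_subsingleton] at hc
    apply hodd
    intro σ _
    have h1 : σ = 1 := Equiv.ext fun x => Subsingleton.elim _ _
    rw [h1]; exact Subgroup.one_mem _
  have hA2 : (alternatingGroup α).index = 2 := alternatingGroup.index_eq_two
  have h1 : (W ⊓ alternatingGroup α).index = (alternatingGroup α).relIndex W * W.index := by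
    rw [← Subgroup.inf_relIndex_left, Subgroup.relIndex_mul_index inf_le_left]
  have h2 : (W ⊓ alternatingGroup α).index = W.relIndex (alternatingGroup α) * 2 := by
    rw [← Subgroup.inf_relIndex_right, ← hA2, Subgroup.relIndex_mul_index inf_le_right]
  have h3 : (alternatingGroup α).relIndex W = 2 := by
    have h4 : (alternatingGroup α).relIndex W ∣ 2 :=
      hA2 ▸ Subgroup.relIndex_dvd_index_of_normal (alternatingGroup α) W
    have h5 : (alternatingGroup α).relIndex W ≠ 1 :=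
      fun h => hodd (Subgroup.relIndex_eq_one.mp h)
    have h6 := Nat.le_of_dvd (by norm_num) h4
    have h7 : (alternatingGroup α).relIndex W ≠ 0 :=
      (Subgroup.index_ne_zero_of_finite : ((alternatingGroup α).subgroupOf W).index ≠ 0)
    omega
  have h4 : W.index = W.relIndex (alternatingGroup α) := by
    rw [h3] at h1; omega
  rw [h4] at hd
  apply hH.2 p hp hpπ
  rw [heq]; exact hd

end Tools

/-- The properties shared by Hall subgroups of symmetric and alternating groups. -/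
structure HallLike {α : Type u} [Fintype α] [DecidableEq α] (π : Set ℕ)
    (M : Subgroup (Perm α)) : Prop where
  pi : ∀ p : ℕ, p.Prime → p ∣ Nat.card M → p ∈ π
  intrans : ∀ Δ : Set α, (∀ σ ∈ M, ∀ z ∈ Δ, σ z ∈ Δ) → 2 ≤ Nat.card (Δᶜ : Set α) →
      ∀ p : ℕ, p.Prime → p ∈ π →
        ¬ p ∣ Nat.choose (Nat.card Δ + Nat.card (Δᶜ : Set α)) (Nat.card Δ)
  fixed : ∀ x : α, (∀ σ ∈ M, σ x = x) → HallMixed (Fintype.card α - 1) π →
      HallGoal (Fintype.card α - 1) π
  prim : IsPreprimitive M α → HallMixed (Fintype.card α) π → False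
  imprim : IsPretransitive M α → ∀ B : Set α, IsBlock M B → B.Nonempty → 2 ≤ B.ncard →
      B ≠ Set.univ → ∃ k : ℕ, B.ncard * k = Nat.card α ∧
        ∀ p : ℕ, p.Prime → p ∈ π → ∀ j, 1 ≤ j → j ≤ k →
          ¬ p ∣ Nat.choose (j * B.ncard - 1) (B.ncard - 1)

theorem hallLike_of_sym {α : Type u} [Fintype α] [DecidableEq α] {π : Set ℕ}
    {M : Subgroup (Perm α)} (hH : IsPiHall π M) : HallLike π M where
  pi := hH.1
  intrans := fun Δ hΔ _ => (hall_intransitive hH Δ hΔ).2.2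
  fixed := fun x hx hmix => by
    classical
    obtain ⟨-, ⟨K, hK⟩, -⟩ := hall_intransitive hH ({x} : Set α) (fun σ hσ z hz => by
      rw [Set.mem_singleton_iff] at hz ⊢; rw [hz]; exact hx σ hσ)
    have hft : Fintype (({x} : Set α)ᶜ : Set α) := Fintype.ofFinite _
    have hcc : Nat.card (({x} : Set α)ᶜ : Set α) = Fintype.card α - 1 := by
      rw [Nat.card_coe_set_eq, Set.ncard_compl, Set.ncard_singleton, Nat.card_eq_fintype_card]
    exact hall_sym_main _ (({x} : Set α)ᶜ : Set α)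
      (by rw [← Nat.card_eq_fintype_card, hcc]) π K hK hmix
  prim := fun hprim hmix => hall_primitive_false hH hprim hmix.1 hmix.2
  imprim := fun htr B hB hBne _ _ => by
    have := htr
    obtain ⟨k, hk, -, hcop⟩ := hall_imprimitive hH B hB hBne
    exact ⟨k, hk, hcop⟩

theorem hallLike_of_alt {α : Type u} [Fintype α] [DecidableEq α] {π : Set ℕ}
    {M : Subgroup (Perm α)} (hle : M ≤ alternatingGroup α)
    (hH : IsPiHall π (M.subgroupOf (alternatingGroup α))) : HallLike π M := by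
  classical
  by_cases h2π : 2 ∈ π
  swap
  · exact hallLike_of_sym (isPiHall_of_alt_of_two_not_mem hle hH h2π)
  have hMH : Nat.card (M.subgroupOf (alternatingGroup α)) = Nat.card M :=
    Nat.card_congr (Subgroup.subgroupOfEquivOfLe hle).toEquiv
  refine ⟨fun p hp hd => hH.1 p hp (hMH ▸ hd), ?_, ?_, ?_, ?_⟩
  · intro Δ hΔ hc
    have hft : Fintype (Δᶜ : Set α) := Fintype.ofFinite _
    exact (hall_alt_intransitive hH Δ hΔ hc).2.2
  · intro x hx hmix
    have hn3 : 3 ≤ Fintype.card α - 1 := by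
      obtain ⟨⟨r, s, hr, hs, hrs, -, -, hrn, hsn⟩, -⟩ := hmix
      have := hr.two_le; have := hs.two_le; omega
    have hft : Fintype (({x} : Set α)ᶜ : Set α) := Fintype.ofFinite _
    have hcc : Nat.card (({x} : Set α)ᶜ : Set α) = Fintype.card α - 1 := by
      rw [Nat.card_coe_set_eq, Set.ncard_compl, Set.ncard_singleton, Nat.card_eq_fintype_card]
    obtain ⟨-, ⟨K₂, hK₂le, hK₂⟩, -⟩ := hall_alt_intransitive hH ({x} : Set α)
      (fun σ hσ z hz => by rw [Set.mem_singleton_iff] at hz ⊢; rw [hz]; exact hx σ hσ)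
      (by rw [hcc]; omega)
    exact hall_alt_main _ (({x} : Set α)ᶜ : Set α)
      (by rw [← Nat.card_eq_fintype_card, hcc]) π K₂ hK₂le hK₂ hmix
  · exact fun hprim hmix => hall_alt_primitive_false hle hH hprim h2π hmix
  · intro htr B hB hBne hb2 hBuniv
    have := htr
    obtain ⟨k, hk, -, hcop⟩ := hall_alt_imprimitive hH B hB hBne hb2 hBuniv
    exact ⟨k, hk, hcop⟩

theorem shape_prime {α : Type u} [Fintype α] [DecidableEq α] {π : Set ℕ}
    {M : Subgroup (Perm α)} (hL : HallLike π M) (hnp : (Fintype.card α).Prime)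
    (hπ : ∀ r : ℕ, r.Prime → r ≤ Fintype.card α → (r ∈ π ↔ r < Fintype.card α)) :
    ∃ x : α, ∀ σ ∈ M, σ x = x := by
  classical
  by_contra hcon
  push Not at hcon
  obtain ⟨n, hn⟩ : ∃ n, n = Fintype.card α := ⟨_, rfl⟩
  rw [← hn] at hnp hπ
  have hne : Nonempty α := Fintype.card_pos_iff.mp (by rw [← hn]; exact hnp.pos)
  have hcardα : Nat.card α = n := by rw [Nat.card_eq_fintype_card, hn]
  have htrans : ¬ IsPretransitive M α := by
    intro htr
    obtain ⟨x⟩ := hne
    have h1 := (stabilizer M x).card_mul_index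
    rw [index_stabilizer_of_transitive, hcardα] at h1
    have h2 : n ∈ π := hL.pi n hnp (Dvd.intro_left _ h1)
    exact absurd ((hπ n hnp le_rfl).mp h2) (lt_irrefl n)
  obtain ⟨Δ, hΔ, hΔc, h2Δ, h2c⟩ := exists_invariant_of_not_pretransitive M htrans hcon
  have hsum : Nat.card Δ + Nat.card (Δᶜ : Set α) = n := by
    rw [Nat.card_coe_set_eq, Nat.card_coe_set_eq, Set.ncard_add_ncard_compl, hcardα]
  have hcop := hL.intrans Δ hΔ h2c
  have key : ∀ m M' : ℕ, 2 ≤ m → m ≤ M' → m + M' = n →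
      (∀ p : ℕ, p.Prime → p ∈ π → ¬ p ∣ Nat.choose (m + M') m) → False := by
    intro m M' hm hmM hmn hc
    obtain ⟨h3, h4⟩ := nt1 hm hmM
      (fun p hp hpM => hc p hp ((hπ p hp (by omega)).mpr (by omega)))
    subst h3; subst h4
    have h5 : 5 ∈ π := (hπ 5 (by norm_num) (by omega)).mpr (by omega)
    exact hc 5 (by norm_num) h5 (by decide)
  rcases le_total (Nat.card Δ) (Nat.card (Δᶜ : Set α)) with hle | hle
  · exact key _ _ h2Δ hle hsum hcop
  · refine key _ _ h2c hle (by omega) (fun p hp hpπ hd => hcop p hp hpπ ?_)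
    rw [Nat.choose_symm_add, add_comm] at hd
    exact hd

theorem shape_seven {α : Type u} [Fintype α] [DecidableEq α] {π : Set ℕ}
    {M : Subgroup (Perm α)} (hL : HallLike π M) (h7 : Fintype.card α = 7)
    (hπ : ∀ r : ℕ, r.Prime → r ≤ 7 → (r ∈ π ↔ (r = 2 ∨ r = 3))) :
    ∃ Δ : Set α, Δ.ncard = 3 ∧ ∀ σ ∈ M, ∀ z ∈ Δ, σ z ∈ Δ := by
  classical
  have hne : Nonempty α := Fintype.card_pos_iff.mp (by rw [h7]; norm_num)
  have hcardα : Nat.card α = 7 := by rw [Nat.card_eq_fintype_card, h7]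
  have h2π : 2 ∈ π := (hπ 2 Nat.prime_two (by norm_num)).mpr (Or.inl rfl)
  have h3π : 3 ∈ π := (hπ 3 Nat.prime_three (by norm_num)).mpr (Or.inr rfl)
  have h5π : 5 ∉ π := fun h => by
    have := (hπ 5 (by norm_num) (by norm_num)).mp h; omega
  have h7π : 7 ∉ π := fun h => by
    have := (hπ 7 (by norm_num) (by norm_num)).mp h; omega
  have htrans : ¬ IsPretransitive M α := by
    intro htr
    obtain ⟨x⟩ := hne
    have h1 := (stabilizer M x).card_mul_index
    rw [index_stabilizer_of_transitive, hcardα] at h1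
    exact h7π (hL.pi 7 (by norm_num) (Dvd.intro_left _ h1))
  have hfix : ∀ x : α, ∃ σ ∈ M, σ x ≠ x := by
    intro x
    by_contra hc
    push Not at hc
    have hmix : HallMixed (Fintype.card α - 1) π := by
      rw [h7]
      exact ⟨⟨2, 3, Nat.prime_two, Nat.prime_three, by norm_num, h2π, h3π, by norm_num,
        by norm_num⟩, ⟨5, by norm_num, by norm_num, h5π⟩⟩
    have hg := hL.fixed x hc hmix
    rw [h7] at hg
    rcases hg with ⟨h6, -⟩ | ⟨h6, -⟩
    · exact absurd h6 (by decide)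
    · omega
  obtain ⟨Δ, hΔ, hΔc, h2Δ, h2c⟩ := exists_invariant_of_not_pretransitive M htrans hfix
  have hsum : Nat.card Δ + Nat.card (Δᶜ : Set α) = 7 := by
    rw [Nat.card_coe_set_eq, Nat.card_coe_set_eq, Set.ncard_add_ncard_compl, hcardα]
  have hcop := hL.intrans Δ hΔ h2c 3 Nat.prime_three h3π
  rw [hsum] at hcop
  obtain ⟨m, hm⟩ : ∃ m, m = Nat.card Δ := ⟨_, rfl⟩
  rw [← hm] at hcop h2Δ hsum
  have hm34 : m = 3 ∨ m = 4 := by
    have h1 : m ≤ 5 := by omega
    interval_cases m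
    · exfalso; exact hcop (by decide)
    · left; rfl
    · right; rfl
    · exfalso; exact hcop (by decide)
  rcases hm34 with h | h
  · exact ⟨Δ, by rw [← Nat.card_coe_set_eq, ← hm]; exact h, hΔ⟩
  · exact ⟨Δᶜ, by rw [← Nat.card_coe_set_eq]; omega, hΔc⟩

theorem shape_eight {α : Type u} [Fintype α] [DecidableEq α] {π : Set ℕ}
    {M : Subgroup (Perm α)} (hL : HallLike π M) (h8 : Fintype.card α = 8)
    (hπ : ∀ r : ℕ, r.Prime → r ≤ 8 → (r ∈ π ↔ (r = 2 ∨ r = 3))) :
    ∃ B : Set α, B.ncard = 4 ∧ ∀ σ ∈ M, σ • B = B ∨ σ • B = Bᶜ := by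
  classical
  have hne : Nonempty α := Fintype.card_pos_iff.mp (by rw [h8]; norm_num)
  have hcardα : Nat.card α = 8 := by rw [Nat.card_eq_fintype_card, h8]
  have h2π : 2 ∈ π := (hπ 2 Nat.prime_two (by norm_num)).mpr (Or.inl rfl)
  have h3π : 3 ∈ π := (hπ 3 Nat.prime_three (by norm_num)).mpr (Or.inr rfl)
  have h5π : 5 ∉ π := fun h => by
    have := (hπ 5 (by norm_num) (by norm_num)).mp h; omega
  have htrans : IsPretransitive M α := by
    by_contra htr
    by_cases hfix : ∃ x : α, ∀ σ ∈ M, σ x = x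
    · obtain ⟨x, hx⟩ := hfix
      have hcc : Nat.card (({x} : Set α)ᶜ : Set α) = 7 := by
        rw [Nat.card_coe_set_eq, Set.ncard_compl, Set.ncard_singleton, hcardα]
      have hc1 : Nat.card (({x} : Set α)) = 1 := by
        rw [Nat.card_coe_set_eq, Set.ncard_singleton]
      have h1 := hL.intrans ({x} : Set α)
        (fun σ hσ z hz => by rw [Set.mem_singleton_iff] at hz ⊢; rw [hz]; exact hx σ hσ)
        (by rw [hcc]; norm_num) 2 Nat.prime_two h2π
      rw [hc1, hcc] at h1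
      exact h1 (by decide)
    · push Not at hfix
      obtain ⟨Δ, hΔ, hΔc, h2Δ, h2c⟩ := exists_invariant_of_not_pretransitive M htr hfix
      have hsum : Nat.card Δ + Nat.card (Δᶜ : Set α) = 8 := by
        rw [Nat.card_coe_set_eq, Nat.card_coe_set_eq, Set.ncard_add_ncard_compl, hcardα]
      have hcop := hL.intrans Δ hΔ h2c 2 Nat.prime_two h2π
      rw [hsum] at hcop
      obtain ⟨m, hm⟩ : ∃ m, m = Nat.card Δ := ⟨_, rfl⟩
      rw [← hm] at hcop h2Δ hsum
      have h1 : m ≤ 6 := by omega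
      interval_cases m <;> exact hcop (by decide)
  have hnprim : ¬ IsPreprimitive M α := by
    intro hprim
    refine hL.prim hprim ?_
    rw [h8]
    exact ⟨⟨2, 3, Nat.prime_two, Nat.prime_three, by norm_num, h2π, h3π, by norm_num,
      by norm_num⟩, ⟨5, by norm_num, by norm_num, h5π⟩⟩
  have hblock : ∃ B : Set α, IsBlock M B ∧ ¬ IsTrivialBlock B := by
    by_contra hc
    push Not at hc
    exact hnprim { toIsPretransitive := htrans
                   isTrivialBlock_of_isBlock := fun {B} hB => hc B hB }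
  obtain ⟨B, hB, hBnt⟩ := hblock
  have hBne : B.Nonempty := by
    by_contra hc
    rw [Set.not_nonempty_iff_eq_empty] at hc
    exact hBnt (Or.inl (hc ▸ Set.subsingleton_empty))
  have hb2 : 2 ≤ B.ncard := by
    by_contra hc
    apply hBnt; left
    have h1 : B.ncard ≤ 1 := by omega
    exact Set.ncard_le_one_iff_subsingleton.mp h1
  have hBuniv : B ≠ Set.univ := fun h => hBnt (Or.inr h)
  obtain ⟨k, hk, hcop⟩ := hL.imprim htrans B hB hBne hb2 hBuniv
  rw [hcardα] at hk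
  have hbn : B.ncard < 8 := by
    rw [← hcardα]
    exact Set.ncard_lt_card (fun h => hBnt (Or.inr h))
  have hb : B.ncard = 4 := by
    obtain ⟨b, hb⟩ : ∃ b, b = B.ncard := ⟨_, rfl⟩
    rw [← hb] at hk hcop hb2 hbn ⊢
    have hk2 : 2 ≤ k := by
      by_contra hc
      have h1 : k ≤ 1 := by omega
      interval_cases k <;> omega
    have hb4 : b ≤ 4 := by nlinarith
    interval_cases b
    · exfalso
      have hk4 : k = 4 := by omega
      exact hcop 3 Nat.prime_three h3π 2 (by norm_num) (by omega) (by decide)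
    · omega
    · rfl
  refine ⟨B, hb, fun σ hσ => ?_⟩
  rcases hB.smul_eq_or_disjoint ⟨σ, hσ⟩ with h | h
  · left; exact h
  · right
    have h1 : σ • B ⊆ Bᶜ := by
      intro z hz hzB
      exact Set.disjoint_left.mp h hz hzB
    apply Set.eq_of_subset_of_ncard_le h1
    rw [Set.ncard_compl, hcardα, hb, Set.ncard_smul_set, hb]

theorem pi_stab_seven {α : Type u} [Fintype α] [DecidableEq α] {π : Set ℕ}
    (h7 : Fintype.card α = 7)
    (hπ : ∀ r : ℕ, r.Prime → r ≤ 7 → (r ∈ π ↔ (r = 2 ∨ r = 3))) {Δ : Set α}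
    (hΔ : Δ.ncard = 3) (p : ℕ) (hp : p.Prime)
    (hd : p ∣ Nat.card (stabilizer (Perm α) Δ)) : p ∈ π := by
  have h1 := dvd_trans hd (card_stabilizer_set_dvd Δ)
  have hc : Nat.card (Δᶜ : Set α) = 4 := by
    rw [Nat.card_coe_set_eq, Set.ncard_compl, Nat.card_eq_fintype_card, h7, hΔ]
  rw [Nat.card_coe_set_eq, hΔ, hc] at h1
  have h2 : p ≤ 4 := by
    rcases (hp.dvd_mul).mp h1 with h | h
    · have := (hp.dvd_factorial).mp h; omega
    · exact (hp.dvd_factorial).mp h
  have h4 : p ≠ 4 := fun h => by rw [h] at hp; exact absurd hp (by decide)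
  have := hp.two_le
  exact (hπ p hp (by omega)).mpr (by omega)

theorem pi_stab_eight {α : Type u} [Fintype α] [DecidableEq α] {π : Set ℕ}
    (h8 : Fintype.card α = 8)
    (hπ : ∀ r : ℕ, r.Prime → r ≤ 8 → (r ∈ π ↔ (r = 2 ∨ r = 3))) {B : Set α}
    (hB : B.ncard = 4) (p : ℕ) (hp : p.Prime)
    (hd : p ∣ Nat.card (stabilizer (Perm α) ({B, Bᶜ} : Set (Set α)))) : p ∈ π := by
  have hc : Nat.card (Bᶜ : Set α) = 4 := by
    rw [Nat.card_coe_set_eq, Set.ncard_compl, Nat.card_eq_fintype_card, h8, hB]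
  have h2 : p ≤ 4 := by
    rcases pi_stabilizer_pair B hp hd with h | h
    · omega
    · rw [Nat.card_coe_set_eq, hB, hc] at h
      rcases (hp.dvd_mul).mp h with h | h
      · exact (hp.dvd_factorial).mp h
      · exact (hp.dvd_factorial).mp h
  have h4 : p ≠ 4 := fun h => by rw [h] at hp; exact absurd hp (by decide)
  have := hp.two_le
  exact (hπ p hp (by omega)).mpr (by omega)

theorem swap_not_mem_alt {α : Type*} [Fintype α] [DecidableEq α] {W : Subgroup (Perm α)}
    {a b : α} (hab : a ≠ b) (h : swap a b ∈ W) : ¬ W ≤ alternatingGroup α := by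
  intro hle
  have h1 := hle h
  rw [Perm.mem_alternatingGroup, Perm.sign_swap hab] at h1
  exact absurd h1 (by decide)

/-- Every Hall subgroup of the alternating group is the intersection with it of a Hall subgroup
of the symmetric group. -/
theorem alt_hall_lift {α : Type u} [Fintype α] [DecidableEq α] {π : Set ℕ}
    {M : Subgroup (Perm α)} (hle : M ≤ alternatingGroup α)
    (hH : IsPiHall π (M.subgroupOf (alternatingGroup α))) :
    ∃ W : Subgroup (Perm α), IsPiHall π W ∧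
      M.subgroupOf (alternatingGroup α) = W.subgroupOf (alternatingGroup α) := by
  classical
  obtain ⟨n, hn⟩ : ∃ n, n = Fintype.card α := ⟨_, rfl⟩
  have hcardα : Nat.card α = n := by rw [Nat.card_eq_fintype_card, hn]
  have hPerm : Nat.card (Perm α) = n.factorial := by rw [Nat.card_perm, hcardα]
  have hMH : Nat.card (M.subgroupOf (alternatingGroup α)) = Nat.card M :=
    Nat.card_congr (Subgroup.subgroupOfEquivOfLe hle).toEquiv
  have hMπ : ∀ p : ℕ, p.Prime → p ∣ Nat.card M → p ∈ π := fun p hp hd => hH.1 p hp (hMH ▸ hd)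
  have hle_n : ∀ (W : Subgroup (Perm α)) (p : ℕ), p.Prime → p ∣ Nat.card W → p ≤ n :=
    fun W p hp hd => (hp.dvd_factorial).mp
      (hPerm ▸ dvd_trans hd (Subgroup.card_subgroup_dvd_card W))
  by_cases h2π : 2 ∈ π
  swap
  · exact ⟨M, isPiHall_of_alt_of_two_not_mem hle hH h2π, rfl⟩
  by_cases hall : ∀ r : ℕ, r.Prime → r ≤ n → r ∈ π
  · have hprimes : ∀ r : ℕ, r.Prime → r ∣ Nat.card (Perm α) → r ∈ π :=
      fun r hr hd => hall r hr ((hr.dvd_factorial).mp (hPerm ▸ hd))
    refine ⟨⊤, isPiHall_top hprimes, ?_⟩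
    have h1 : M.subgroupOf (alternatingGroup α) = ⊤ :=
      hall_eq_top (fun r hr hd => hprimes r hr
        (dvd_trans hd (Subgroup.card_subgroup_dvd_card _))) hH
    rw [h1, Subgroup.top_subgroupOf]
  by_cases htwo : ∃ r s : ℕ, r.Prime ∧ s.Prime ∧ r ≠ s ∧ r ∈ π ∧ s ∈ π ∧ r ≤ n ∧ s ≤ n
  swap
  · push Not at htwo
    have hf2 : Fact (Nat.Prime 2) := ⟨Nat.prime_two⟩
    have huniq : ∀ d : ℕ, d.Prime → d ∈ π → d ≤ n → d = 2 := by
      intro d hd hdπ hdn
      by_contra hne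
      have h1 := htwo d 2 hd Nat.prime_two hne hdπ h2π hdn
      have := hd.two_le
      omega
    have hM2 : ∀ {d : ℕ}, d.Prime → d ∣ Nat.card M → d = 2 :=
      fun {d} hd hdd => huniq d hd (hMπ d hd hdd) (hle_n M d hd hdd)
    have hpg : IsPGroup 2 M :=
      IsPGroup.of_card (Nat.eq_prime_pow_of_unique_prime_dvd Nat.card_pos.ne' hM2)
    obtain ⟨P, hP⟩ := hpg.exists_le_sylow
    have hPπ : ∀ p : ℕ, p.Prime → p ∣ Nat.card (P : Subgroup (Perm α)) → p ∈ π := by
      intro p hp hd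
      rw [P.card_eq_multiplicity] at hd
      have h1 := (Nat.prime_dvd_prime_iff_eq hp Nat.prime_two).mp (hp.dvd_of_dvd_pow hd)
      rw [h1]; exact h2π
    have hPhall : IsPiHall π (P : Subgroup (Perm α)) := by
      refine ⟨hPπ, fun p hp hpπ hd => ?_⟩
      have hpn : p ≤ n := (hp.dvd_factorial).mp
        (hPerm ▸ dvd_trans hd (Subgroup.index_dvd_card _))
      have hp2 := huniq p hp hpπ hpn
      rw [hp2] at hd
      exact P.not_dvd_index hd
    refine ⟨P, hPhall, ?_⟩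
    exact hall_eq_of_le hH (Subgroup.comap_mono hP)
      (fun p hp hd => hPπ p hp (dvd_trans hd (card_subgroupOf_dvd _ _)))
  push Not at hall
  have hmix : HallMixed n π := ⟨htwo, hall⟩
  have hgoal := hall_alt_main n α hn.symm π M hle hH hmix
  have hL := hallLike_of_alt hle hH
  have hn3 : 3 ≤ n := by
    obtain ⟨r, s, hr, hs, hrs, -, -, hrn, hsn⟩ := htwo
    have := hr.two_le; have := hs.two_le; omega
  rcases hgoal with ⟨hnp, hπ⟩ | ⟨h78, hπ⟩
  · obtain ⟨x, hx⟩ := shape_prime hL (hn ▸ hnp) (by rw [← hn]; exact hπ)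
    have hcx : 1 < (({x} : Set α)ᶜ).ncard := by
      rw [Set.ncard_compl, Set.ncard_singleton, hcardα]; omega
    obtain ⟨a, ha, b, hb, hab⟩ := Set.one_lt_ncard_iff_nontrivial.mp hcx
    have hax : a ≠ x := ha
    have hbx : b ≠ x := hb
    have hsw : swap a b ∈ stabilizer (Perm α) x := by
      rw [mem_stabilizer_iff]
      exact swap_apply_of_ne_of_ne hax.symm hbx.symm
    obtain ⟨hW1, hW2⟩ := hall_lift (W := stabilizer (Perm α) x) hH (fun σ hσ => hx σ hσ)
      (fun p hp hd => by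
        have h1 := pi_stabilizer_point x hp hd
        rw [← hn] at h1
        exact (hπ p hp h1.le).mpr h1)
      (swap_not_mem_alt hab hsw)
    exact ⟨_, hW1, hW2⟩
  · rcases h78 with h7 | h8
    · rw [h7] at hπ
      obtain ⟨Δ, hΔ3, hΔ⟩ := shape_seven hL (by rw [← hn, h7]) hπ
      obtain ⟨a, ha, b, hb, hab⟩ := Set.one_lt_ncard_iff_nontrivial.mp
        (show 1 < Δ.ncard by omega)
      obtain ⟨hW1, hW2⟩ := hall_lift (W := stabilizer (Perm α) Δ) hH
        (le_stabilizer_set_of_invariant hΔ)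
        (pi_stab_seven (by rw [← hn, h7]) hπ hΔ3)
        (swap_not_mem_alt hab (swap_smul_set_eq_of_mem ha hb))
      exact ⟨_, hW1, hW2⟩
    · rw [h8] at hπ
      obtain ⟨B, hB4, hB⟩ := shape_eight hL (by rw [← hn, h8]) hπ
      obtain ⟨a, ha, b, hb, hab⟩ := Set.one_lt_ncard_iff_nontrivial.mp
        (show 1 < B.ncard by omega)
      obtain ⟨hW1, hW2⟩ := hall_lift (W := stabilizer (Perm α) ({B, Bᶜ} : Set (Set α))) hH
        (fun σ hσ => smul_pair_eq σ B (hB σ hσ))
        (pi_stab_eight (by rw [← hn, h8]) hπ hB4)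
        (swap_not_mem_alt hab (smul_pair_eq _ B (Or.inl (swap_smul_set_eq_of_mem ha hb))))
      exact ⟨_, hW1, hW2⟩

/-- Hall subgroups of the symmetric group are conjugate. -/
theorem sym_hall_conj {α : Type u} [Fintype α] [DecidableEq α] {π : Set ℕ}
    {H K : Subgroup (Perm α)} (hH : IsPiHall π H) (hK : IsPiHall π K) :
    ∃ g : Perm α, K = H.map (MulAut.conj g).toMonoidHom := by
  classical
  obtain ⟨n, hn⟩ : ∃ n, n = Fintype.card α := ⟨_, rfl⟩
  have hcardα : Nat.card α = n := by rw [Nat.card_eq_fintype_card, hn]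
  have hPerm : Nat.card (Perm α) = n.factorial := by rw [Nat.card_perm, hcardα]
  by_cases hall : ∀ r : ℕ, r.Prime → r ≤ n → r ∈ π
  · have hprimes : ∀ r : ℕ, r.Prime → r ∣ Nat.card (Perm α) → r ∈ π :=
      fun r hr hd => hall r hr ((hr.dvd_factorial).mp (hPerm ▸ hd))
    refine ⟨1, ?_⟩
    rw [hall_eq_top hprimes hH, hall_eq_top hprimes hK]
    ext x; simp
  by_cases htwo : ∃ r s : ℕ, r.Prime ∧ s.Prime ∧ r ≠ s ∧ r ∈ π ∧ s ∈ π ∧ r ≤ n ∧ s ≤ n
  swap
  · push Not at htwo
    apply hall_conj_of_unique_prime _ hH hK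
    intro r s hr hs hrπ hsπ hrd hsd
    by_contra hne
    have h1 := htwo r s hr hs hne hrπ hsπ ((hr.dvd_factorial).mp (hPerm ▸ hrd))
    have h2 := (hs.dvd_factorial).mp (hPerm ▸ hsd)
    omega
  push Not at hall
  have hmix : HallMixed n π := ⟨htwo, hall⟩
  have hgoal := hall_sym_main n α hn.symm π H hH hmix
  have hLH := hallLike_of_sym hH
  have hLK := hallLike_of_sym hK
  rcases hgoal with ⟨hnp, hπ⟩ | ⟨h78, hπ⟩
  · obtain ⟨x, hx⟩ := shape_prime hLH (hn ▸ hnp) (by rw [← hn]; exact hπ)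
    obtain ⟨y, hy⟩ := shape_prime hLK (hn ▸ hnp) (by rw [← hn]; exact hπ)
    have hWπ : ∀ z : α, ∀ p : ℕ, p.Prime → p ∣ Nat.card (stabilizer (Perm α) z) → p ∈ π := by
      intro z p hp hd
      have h1 := pi_stabilizer_point z hp hd
      rw [← hn] at h1
      exact (hπ p hp h1.le).mpr h1
    have hHeq : H = stabilizer (Perm α) x := hall_eq_of_le hH (fun σ hσ => hx σ hσ) (hWπ x)
    have hKeq : K = stabilizer (Perm α) y := hall_eq_of_le hK (fun σ hσ => hy σ hσ) (hWπ y)
    refine ⟨swap x y, ?_⟩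
    rw [hHeq, hKeq, ← stabilizer_smul_eq_stabilizer_map_conj]
    congr 1
    exact (swap_apply_left x y).symm
  · rcases h78 with h7 | h8
    · rw [h7] at hπ
      obtain ⟨Δ, hΔ3, hΔ⟩ := shape_seven hLH (by rw [← hn, h7]) hπ
      obtain ⟨Δ', hΔ'3, hΔ'⟩ := shape_seven hLK (by rw [← hn, h7]) hπ
      have hHeq : H = stabilizer (Perm α) Δ := hall_eq_of_le hH
        (le_stabilizer_set_of_invariant hΔ) (pi_stab_seven (by rw [← hn, h7]) hπ hΔ3)
      have hKeq : K = stabilizer (Perm α) Δ' := hall_eq_of_le hK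
        (le_stabilizer_set_of_invariant hΔ') (pi_stab_seven (by rw [← hn, h7]) hπ hΔ'3)
      obtain ⟨g, hg⟩ := exists_perm_smul_set_eq (hΔ3.trans hΔ'3.symm)
      refine ⟨g, ?_⟩
      rw [hHeq, hKeq, ← stabilizer_smul_eq_stabilizer_map_conj, hg]
    · rw [h8] at hπ
      obtain ⟨B, hB4, hB⟩ := shape_eight hLH (by rw [← hn, h8]) hπ
      obtain ⟨B', hB'4, hB'⟩ := shape_eight hLK (by rw [← hn, h8]) hπ
      have hHeq : H = stabilizer (Perm α) ({B, Bᶜ} : Set (Set α)) := hall_eq_of_le hH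
        (fun σ hσ => smul_pair_eq σ B (hB σ hσ)) (pi_stab_eight (by rw [← hn, h8]) hπ hB4)
      have hKeq : K = stabilizer (Perm α) ({B', B'ᶜ} : Set (Set α)) := hall_eq_of_le hK
        (fun σ hσ => smul_pair_eq σ B' (hB' σ hσ)) (pi_stab_eight (by rw [← hn, h8]) hπ hB'4)
      obtain ⟨g, hg⟩ := exists_perm_smul_set_eq (hB4.trans hB'4.symm)
      refine ⟨g, ?_⟩
      rw [hHeq, hKeq, ← stabilizer_smul_eq_stabilizer_map_conj]
      congr 1
      rw [← Set.image_smul, Set.image_pair, Set.smul_set_compl, hg]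

/-- Hall subgroups of the alternating group are conjugate. -/
theorem alt_hall_conj {α : Type u} [Fintype α] [DecidableEq α] {π : Set ℕ}
    {H K : Subgroup (alternatingGroup α)} (hH : IsPiHall π H) (hK : IsPiHall π K) :
    ∃ g : alternatingGroup α, K = H.map (MulAut.conj g).toMonoidHom := by
  classical
  obtain ⟨n, hn⟩ : ∃ n, n = Fintype.card α := ⟨_, rfl⟩
  have hcardα : Nat.card α = n := by rw [Nat.card_eq_fintype_card, hn]
  have hPerm : Nat.card (Perm α) = n.factorial := by rw [Nat.card_perm, hcardα]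
  have hAle : ∀ p : ℕ, p.Prime → p ∣ Nat.card (alternatingGroup α) → p ≤ n :=
    fun p hp hd => (hp.dvd_factorial).mp
      (hPerm ▸ dvd_trans hd (Subgroup.card_subgroup_dvd_card _))
  by_cases hall : ∀ r : ℕ, r.Prime → r ∣ Nat.card (alternatingGroup α) → r ∈ π
  · refine ⟨1, ?_⟩
    rw [hall_eq_top hall hH, hall_eq_top hall hK]
    ext x; simp
  by_cases htwo : ∀ r s : ℕ, r.Prime → s.Prime → r ∈ π → s ∈ π →
      r ∣ Nat.card (alternatingGroup α) → s ∣ Nat.card (alternatingGroup α) → r = s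
  · exact hall_conj_of_unique_prime htwo hH hK
  push Not at hall htwo
  obtain ⟨q, hq, hqd, hqπ⟩ := hall
  obtain ⟨r, s, hr, hs, hrπ, hsπ, hrd, hsd, hrs⟩ := htwo
  have hrn := hAle r hr hrd
  have hsn := hAle s hs hsd
  have hmix : HallMixed n π :=
    ⟨⟨r, s, hr, hs, hrs, hrπ, hsπ, hrn, hsn⟩, ⟨q, hq, hAle q hq hqd, hqπ⟩⟩
  have hHeq : (H.map (alternatingGroup α).subtype).subgroupOf (alternatingGroup α) = H :=
    Subgroup.comap_map_eq_self_of_injective (Subgroup.subtype_injective _) H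
  have hKeq : (K.map (alternatingGroup α).subtype).subgroupOf (alternatingGroup α) = K :=
    Subgroup.comap_map_eq_self_of_injective (Subgroup.subtype_injective _) K
  have hH' : IsPiHall π ((H.map (alternatingGroup α).subtype).subgroupOf
      (alternatingGroup α)) := hHeq.symm ▸ hH
  have hK' : IsPiHall π ((K.map (alternatingGroup α).subtype).subgroupOf
      (alternatingGroup α)) := hKeq.symm ▸ hK
  have hgoal := hall_alt_main n α hn.symm π _ (Subgroup.map_subtype_le H) hH' hmix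
  have hn3 : 3 ≤ n := by
    have := hr.two_le; have := hs.two_le; omega
  have h2π : 2 ∈ π := by
    rcases hgoal with ⟨hnp, hπ⟩ | ⟨h78, hπ⟩
    · exact (hπ 2 Nat.prime_two (by omega)).mpr (by omega)
    · exact (hπ 2 Nat.prime_two (by omega)).mpr (Or.inl rfl)
  obtain ⟨W₁, hW₁, hW₁eq⟩ := alt_hall_lift (Subgroup.map_subtype_le H) hH'
  obtain ⟨W₂, hW₂, hW₂eq⟩ := alt_hall_lift (Subgroup.map_subtype_le K) hK'
  rw [hHeq] at hW₁eq
  rw [hKeq] at hW₂eq
  obtain ⟨g, hg⟩ := sym_hall_conj hW₁ hW₂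
  have hnt : Nontrivial α := by rw [← Fintype.one_lt_card_iff_nontrivial]; omega
  have hodd : ¬ W₁ ≤ alternatingGroup α := by
    intro hle
    have h1 := Subgroup.relIndex_mul_index hle
    rw [alternatingGroup.index_eq_two] at h1
    exact hW₁.2 2 Nat.prime_two h2π (h1 ▸ Dvd.intro_left _ rfl)
  obtain ⟨w, hwW, hwA⟩ : ∃ w ∈ W₁, w ∉ alternatingGroup α := by
    by_contra hc; push Not at hc; exact hodd hc
  obtain ⟨g', hg'A, hg'⟩ : ∃ g' : Perm α, g' ∈ alternatingGroup α ∧
      W₂ = W₁.map (MulAut.conj g').toMonoidHom := by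
    by_cases hgA : g ∈ alternatingGroup α
    · exact ⟨g, hgA, hg⟩
    · refine ⟨g * w, ?_, ?_⟩
      · rw [Perm.mem_alternatingGroup] at hgA hwA ⊢
        rw [Perm.sign_mul]
        rcases Int.units_eq_one_or (Perm.sign g) with h | h
        · exact absurd h hgA
        · rcases Int.units_eq_one_or (Perm.sign w) with h' | h'
          · exact absurd h' hwA
          · rw [h, h']; rfl
      · rw [hg]
        ext x
        simp only [Subgroup.mem_map, MulEquiv.coe_toMonoidHom, MulAut.conj_apply]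
        constructor
        · rintro ⟨y, hy, rfl⟩
          refine ⟨w⁻¹ * y * w, W₁.mul_mem (W₁.mul_mem (W₁.inv_mem hwW) hy) hwW, ?_⟩
          group
        · rintro ⟨y, hy, rfl⟩
          refine ⟨w * y * w⁻¹, W₁.mul_mem (W₁.mul_mem hwW hy) (W₁.inv_mem hwW), ?_⟩
          group
  refine ⟨⟨g', hg'A⟩, ?_⟩
  rw [hW₁eq, hW₂eq]
  ext x
  rw [Subgroup.mem_subgroupOf, hg']
  simp only [Subgroup.mem_map, MulEquiv.coe_toMonoidHom, MulAut.conj_apply,
    Subgroup.mem_subgroupOf]
  constructor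
  · rintro ⟨y, hy, hyx⟩
    refine ⟨⟨g'⁻¹ * x.1 * g', (alternatingGroup α).mul_mem
      ((alternatingGroup α).mul_mem ((alternatingGroup α).inv_mem hg'A) x.2) hg'A⟩, ?_, ?_⟩
    · show g'⁻¹ * x.1 * g' ∈ W₁
      rw [← hyx]
      have h1 : g'⁻¹ * (g' * y * g'⁻¹) * g' = y := by group
      rw [h1]; exact hy
    · apply Subtype.ext
      show g' * (g'⁻¹ * x.1 * g') * g'⁻¹ = x.1
      group
  · rintro ⟨y, hy, hyx⟩
    refine ⟨y.1, hy, ?_⟩
    rw [← hyx]; rfl

end Cfsg.Agent.Lib.helper43
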