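import Mathlib
import Cfsg.Agent.Lib.helper43.HallShape

set_option autoImplicit false

/-!
# The Sylow property `D_π` for alternating groups (helper43)
-/

namespace Cfsg.Agent.Lib.helper43

open Cfsg Equiv MulAction
open scoped Pointwise

universe u

section GeneralD

variable {G : Type u} [Group G] [Finite G]

theorem exists_maximal_pi_ge {π : Set ℕ} {U : Subgroup G} (hU : IsPiSubgroup π U) :
    ∃ K : Subgroup G, U ≤ K ∧ Maximal (IsPiSubgroup π) K :=
  (Set.toFinite {K : Subgroup G | IsPiSubgroup π K}).exists_le_maximal hU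

/-- In a `D_π`-group the maximal `π`-subgroups are Hall subgroups. -/
theorem dpi_maximal_isHall {π : Set ℕ} (hD : IsDPiGroup π G) {K : Subgroup G}
    (hK : Maximal (IsPiSubgroup π) K) : IsPiHall π K := by
  apply isPiHall_of_fact hK.1
  intro p hp hpπ
  have hfact : Fact p.Prime := ⟨hp⟩
  obtain ⟨P⟩ : Nonempty (Sylow p G) := inferInstance
  have hPπ : IsPiSubgroup π (P : Subgroup G) := by
    intro q hq hd
    rw [P.card_eq_multiplicity] at hd
    have h1 := (Nat.prime_dvd_prime_iff_eq hq hp).mp (hq.dvd_of_dvd_pow hd)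
    rw [h1]; exact hpπ
  obtain ⟨L, hPL, hL⟩ := exists_maximal_pi_ge hPπ
  obtain ⟨g, hg⟩ := hD L K hL hK
  have hcard : Nat.card K = Nat.card L := by
    rw [hg]; exact Subgroup.card_map_of_injective (MulAut.conj g).injective
  have h1 : Nat.card (P : Subgroup G) ∣ Nat.card K := hcard ▸ Subgroup.card_dvd_of_le hPL
  rw [P.card_eq_multiplicity] at h1
  exact (hp.pow_dvd_iff_le_factorization Nat.card_pos.ne').mp h1

theorem dpi_of_all_primes {π : Set ℕ} (h : ∀ r : ℕ, r.Prime → r ∣ Nat.card G → r ∈ π) :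
    IsDPiGroup π G := by
  intro H K hH hK
  have key : ∀ L : Subgroup G, Maximal (IsPiSubgroup π) L → L = ⊤ := by
    intro L hL
    have htop : IsPiSubgroup π (⊤ : Subgroup G) :=
      fun p hp hd => h p hp (by rwa [Subgroup.card_top] at hd)
    exact top_le_iff.mp (hL.2 htop le_top)
  refine ⟨1, ?_⟩
  rw [key H hH, key K hK]
  ext x; simp

theorem dpi_of_unique_prime {π : Set ℕ}
    (h1 : ∀ r s : ℕ, r.Prime → s.Prime → r ∈ π → s ∈ π → r ∣ Nat.card G → s ∣ Nat.card G → r = s) :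
    IsDPiGroup π G := by
  intro H K hH hK
  have key : ∀ L : Subgroup G, Maximal (IsPiSubgroup π) L → IsPiHall π L := by
    intro L hL
    refine ⟨hL.1, fun p hp hpπ hd => ?_⟩
    have hfact : Fact p.Prime := ⟨hp⟩
    have hpG : p ∣ Nat.card G := dvd_trans hd (Subgroup.index_dvd_card L)
    have hL2 : ∀ {d : ℕ}, d.Prime → d ∣ Nat.card L → d = p := fun {d} hdp hdd =>
      h1 d p hdp hp (hL.1 d hdp hdd) hpπ
        (dvd_trans hdd (Subgroup.card_subgroup_dvd_card L)) hpG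
    have hpg : IsPGroup p L :=
      IsPGroup.of_card (Nat.eq_prime_pow_of_unique_prime_dvd Nat.card_pos.ne' hL2)
    obtain ⟨P, hP⟩ := hpg.exists_le_sylow
    have hPπ : IsPiSubgroup π (P : Subgroup G) := by
      intro q hq hqd
      rw [P.card_eq_multiplicity] at hqd
      have h2 := (Nat.prime_dvd_prime_iff_eq hq hp).mp (hq.dvd_of_dvd_pow hqd)
      rw [h2]; exact hpπ
    have hPL : (P : Subgroup G) ≤ L := hL.2 hPπ hP
    have hLP : L = P := le_antisymm hP hPL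
    rw [hLP] at hd
    exact P.not_dvd_index hd
  exact hall_conj_of_unique_prime h1 (key H hH) (key K hK)

end GeneralD

/-- In a `D_π` alternating group every `π`-subgroup lies in a Hall `π`-subgroup. -/
theorem alt_dpi_false {α : Type u} [Fintype α] [DecidableEq α] {π : Set ℕ}
    (hD : IsDPiGroup π (alternatingGroup α)) (U : Subgroup (Perm α))
    (hUle : U ≤ alternatingGroup α)
    (hUπ : ∀ p : ℕ, p.Prime → p ∣ Nat.card U → p ∈ π)
    (hno : ∀ K : Subgroup (Perm α), K ≤ alternatingGroup α →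
      IsPiHall π (K.subgroupOf (alternatingGroup α)) → ¬ U ≤ K) : False := by
  have hU' : IsPiSubgroup π (U.subgroupOf (alternatingGroup α)) :=
    fun p hp hd => hUπ p hp (dvd_trans hd (card_subgroupOf_dvd U _))
  obtain ⟨K, hUK, hK⟩ := exists_maximal_pi_ge hU'
  have hKH := dpi_maximal_isHall hD hK
  have hKeq : (K.map (alternatingGroup α).subtype).subgroupOf (alternatingGroup α) = K :=
    Subgroup.comap_map_eq_self_of_injective (Subgroup.subtype_injective _) K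
  refine hno (K.map (alternatingGroup α).subtype) (Subgroup.map_subtype_le K)
    (hKeq.symm ▸ hKH) ?_
  intro σ hσ
  exact ⟨⟨σ, hUle hσ⟩, hUK (Subgroup.mem_subgroupOf.mpr hσ), rfl⟩

section Tools2

variable {α : Type*} [Fintype α] [DecidableEq α]

theorem swap_smul_set_eq_of_not_mem {c d : α} {t : Set α} (hc : c ∉ t)
    (hd : d ∉ t) : swap c d • t = t := by
  apply perm_smul_set_eq
  intro x
  by_cases hxc : x = c
  · rw [hxc, swap_apply_left]; simp [hc, hd]
  · by_cases hxd : x = d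
    · rw [hxd, swap_apply_right]; simp [hc, hd]
    · rw [swap_apply_of_ne_of_ne hxc hxd]

theorem perm_smul_set_eq' (σ : Perm α) (t t' : Set α) (h : ∀ x, σ x ∈ t' ↔ x ∈ t) :
    σ • t = t' := by
  ext y
  rw [Set.mem_smul_set_iff_inv_smul_mem]
  have := h (σ⁻¹ y)
  rw [show σ (σ⁻¹ y) = y from Equiv.apply_symm_apply σ y] at this
  exact this.symm

theorem pair_stab_mem {a b u v : α} (hab : a ≠ b) (huv : u ≠ v) (hua : u ≠ a)
    (hub : u ≠ b) (hva : v ≠ a) (hvb : v ≠ b) :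
    swap a b * swap u v ∈ stabilizer (Perm α) ({a, b} : Set α) ⊓ alternatingGroup α := by
  refine ⟨?_, ?_⟩
  · show swap a b * swap u v ∈ stabilizer (Perm α) ({a, b} : Set α)
    have e1 : swap u v • ({a, b} : Set α) = {a, b} :=
      swap_smul_set_eq_of_not_mem (by simp [hua, hub]) (by simp [hva, hvb])
    have e2 : swap a b • ({a, b} : Set α) = {a, b} :=
      swap_smul_set_eq_of_mem (by simp) (by simp)
    rw [mem_stabilizer_iff, mul_smul, e1, e2]
  · show swap a b * swap u v ∈ alternatingGroup α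
    rw [Perm.mem_alternatingGroup, Perm.sign_mul, Perm.sign_swap hab, Perm.sign_swap huv]; rfl

theorem pair_stab_moves {a b c d : α} (hab : a ≠ b) (hac : a ≠ c) (had : a ≠ d)
    (hbc : b ≠ c) (hbd : b ≠ d) (hcd : c ≠ d) (z : α) :
    ∃ σ ∈ stabilizer (Perm α) ({a, b} : Set α) ⊓ alternatingGroup α, σ z ≠ z := by
  by_cases hza : z = a
  · refine ⟨swap a b * swap c d, pair_stab_mem hab hcd hac.symm hbc.symm had.symm hbd.symm, ?_⟩
    rw [hza, Perm.mul_apply, swap_apply_of_ne_of_ne hac had, swap_apply_left]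
    exact hab.symm
  by_cases hzb : z = b
  · refine ⟨swap a b * swap c d, pair_stab_mem hab hcd hac.symm hbc.symm had.symm hbd.symm, ?_⟩
    rw [hzb, Perm.mul_apply, swap_apply_of_ne_of_ne hbc hbd, swap_apply_right]
    exact hab
  by_cases hzc : z = c
  · refine ⟨swap a b * swap z d,
      pair_stab_mem hab (by rw [hzc]; exact hcd) hza hzb had.symm hbd.symm, ?_⟩
    rw [Perm.mul_apply, swap_apply_left, swap_apply_of_ne_of_ne had.symm hbd.symm]
    rw [hzc]; exact hcd.symm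
  · refine ⟨swap a b * swap z c, pair_stab_mem hab hzc hza hzb hac.symm hbc.symm, ?_⟩
    rw [Perm.mul_apply, swap_apply_left, swap_apply_of_ne_of_ne hac.symm hbc.symm]
    exact fun h => hzc h.symm

theorem pi_pair_stab {a b : α} (hab : a ≠ b) {p : ℕ} (hp : p.Prime)
    (hd : p ∣ Nat.card ↥(stabilizer (Perm α) ({a, b} : Set α) ⊓ alternatingGroup α)) :
    p + 2 ≤ Fintype.card α ∨ p = 2 := by
  have h1 := dvd_trans hd (dvd_trans (Subgroup.card_dvd_of_le inf_le_left)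
    (card_stabilizer_set_dvd ({a, b} : Set α)))
  have hc : Nat.card (({a, b} : Set α)) = 2 := by
    rw [Nat.card_coe_set_eq, Set.ncard_pair hab]
  have hcc : Nat.card ((({a, b} : Set α))ᶜ : Set α) = Fintype.card α - 2 := by
    rw [Nat.card_coe_set_eq, Set.ncard_compl, Set.ncard_pair hab, Nat.card_eq_fintype_card]
  rw [hc, hcc] at h1
  have := hp.two_le
  rcases (hp.dvd_mul).mp h1 with h | h
  · right; have := (hp.dvd_factorial).mp h; omega
  · left; have := (hp.dvd_factorial).mp h; omega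

theorem pi_stabilizer_pair' (B C : Set α) {p : ℕ} (hp : p.Prime)
    (hd : p ∣ Nat.card (stabilizer (Perm α) ({B, C} : Set (Set α)))) :
    p = 2 ∨ p ∣ (Nat.card B).factorial * (Nat.card (Bᶜ : Set α)).factorial := by
  classical
  obtain ⟨W, hW⟩ : ∃ W : Subgroup (Perm α),
      W = stabilizer (Perm α) ({B, C} : Set (Set α)) := ⟨_, rfl⟩
  rw [← hW] at hd
  have h1 := (stabilizer W B).card_mul_index
  rw [index_stabilizer] at h1
  have horb : orbit W B ⊆ ({B, C} : Set (Set α)) := by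
    rintro t ⟨w, rfl⟩
    have h2 : w.1 • ({B, C} : Set (Set α)) = {B, C} := hW.le w.2
    have h3 : w.1 • B ∈ w.1 • ({B, C} : Set (Set α)) :=
      Set.smul_mem_smul_set (Set.mem_insert _ _)
    rw [h2] at h3
    exact h3
  have h2 : (orbit W B).ncard ≤ 2 := by
    have h3 := Set.ncard_le_ncard horb (Set.toFinite _)
    have h4 := Set.ncard_insert_le B ({C} : Set (Set α))
    rw [Set.ncard_singleton] at h4
    omega
  rw [← h1] at hd
  rcases (hp.dvd_mul).mp hd with h | h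
  · right
    let ψ : stabilizer W B →* stabilizer (Perm α) B :=
      { toFun := fun σ => ⟨σ.1.1, σ.2⟩
        map_one' := rfl
        map_mul' := fun _ _ => rfl }
    have hψ : Function.Injective ψ := by
      intro σ τ h
      apply Subtype.ext; apply Subtype.ext
      exact congrArg (fun k : stabilizer (Perm α) B => k.1) h
    exact dvd_trans h (dvd_trans (Subgroup.card_dvd_of_injective ψ hψ)
      (card_stabilizer_set_dvd B))
  · left
    have hpos : 0 < (orbit W B).ncard :=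
      (Set.ncard_pos (Set.toFinite _)).mpr ⟨B, mem_orbit_self B⟩
    have h3 := Nat.le_of_dvd hpos h
    have := hp.two_le
    omega

theorem card_stabilizer_two_sets_dvd (Δ₁ Δ₂ : Set α) :
    Nat.card ↥(stabilizer (Perm α) Δ₁ ⊓ stabilizer (Perm α) Δ₂) ∣
      (Nat.card Δ₁).factorial *
        ((Nat.card Δ₂).factorial * (Nat.card ((Δ₁ ∪ Δ₂)ᶜ : Set α)).factorial) := by
  classical
  have hiff1 : ∀ σ : ↥(stabilizer (Perm α) Δ₁ ⊓ stabilizer (Perm α) Δ₂), ∀ x,
      σ.1 x ∈ Δ₁ ↔ x ∈ Δ₁ := fun σ x => perm_mem_iff_of_smul_set_eq σ.1 Δ₁ σ.2.1 x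
  have hiff2 : ∀ σ : ↥(stabilizer (Perm α) Δ₁ ⊓ stabilizer (Perm α) Δ₂), ∀ x,
      σ.1 x ∈ Δ₂ ↔ x ∈ Δ₂ := fun σ x => perm_mem_iff_of_smul_set_eq σ.1 Δ₂ σ.2.2 x
  have hiff3 : ∀ σ : ↥(stabilizer (Perm α) Δ₁ ⊓ stabilizer (Perm α) Δ₂), ∀ x,
      σ.1 x ∈ (Δ₁ ∪ Δ₂)ᶜ ↔ x ∈ (Δ₁ ∪ Δ₂)ᶜ := fun σ x => by
    simp only [Set.mem_compl_iff, Set.mem_union, hiff1 σ x, hiff2 σ x]
  let φ : ↥(stabilizer (Perm α) Δ₁ ⊓ stabilizer (Perm α) Δ₂) →*
      Perm Δ₁ × (Perm Δ₂ × Perm ((Δ₁ ∪ Δ₂)ᶜ : Set α)) :=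
    { toFun := fun σ => (Perm.subtypePerm σ.1 (hiff1 σ),
        (Perm.subtypePerm σ.1 (hiff2 σ), Perm.subtypePerm σ.1 (hiff3 σ)))
      map_one' := Prod.ext (by ext x; rfl) (Prod.ext (by ext x; rfl) (by ext x; rfl))
      map_mul' := fun σ τ =>
        Prod.ext (by ext x; rfl) (Prod.ext (by ext x; rfl) (by ext x; rfl)) }
  have hφ : Function.Injective φ := by
    intro σ τ h
    apply Subtype.ext
    ext x
    by_cases hx1 : x ∈ Δ₁
    · exact congrArg (fun k : Perm Δ₁ × (Perm Δ₂ × Perm ((Δ₁ ∪ Δ₂)ᶜ : Set α)) =>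
        (k.1 ⟨x, hx1⟩ : α)) h
    · by_cases hx2 : x ∈ Δ₂
      · exact congrArg (fun k : Perm Δ₁ × (Perm Δ₂ × Perm ((Δ₁ ∪ Δ₂)ᶜ : Set α)) =>
          (k.2.1 ⟨x, hx2⟩ : α)) h
      · exact congrArg (fun k : Perm Δ₁ × (Perm Δ₂ × Perm ((Δ₁ ∪ Δ₂)ᶜ : Set α)) =>
          (k.2.2 ⟨x, by simp [hx1, hx2]⟩ : α)) h
  have := Subgroup.card_dvd_of_injective φ hφ
  rwa [Nat.card_prod, Nat.card_prod, Nat.card_perm, Nat.card_perm, Nat.card_perm] at this

theorem smul_eq_of_pow_three (σ : Perm α) (h3 : σ ^ 3 = 1) {B : Set α}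
    (hB : σ • B = B ∨ σ • B = Bᶜ) (hne : B.Nonempty) : σ • B = B := by
  rcases hB with h | h
  · exact h
  · exfalso
    have h2 : σ • σ • B = B := by rw [h, Set.smul_set_compl, h, compl_compl]
    have e : (σ ^ 3) • B = σ • (σ • (σ • B)) := by
      rw [pow_succ, pow_succ, pow_one, mul_smul, mul_smul]
    rw [h3, one_smul, h2, h] at e
    obtain ⟨x, hx⟩ := hne
    have hx' : x ∈ Bᶜ := e ▸ hx
    exact hx' hx

theorem mem_stab_pair_of_fix {σ : Perm α} {B C : Set α} (h1 : σ • B = B) (h2 : σ • C = C) :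
    σ ∈ stabilizer (Perm α) ({B, C} : Set (Set α)) := by
  rw [mem_stabilizer_iff, ← Set.image_smul, Set.image_pair, h1, h2]

theorem mem_stab_pair_of_swap {σ : Perm α} {B C : Set α} (h1 : σ • B = C) (h2 : σ • C = B) :
    σ ∈ stabilizer (Perm α) ({B, C} : Set (Set α)) := by
  rw [mem_stabilizer_iff, ← Set.image_smul, Set.image_pair, h1, h2, Set.pair_comm]

end Tools2

section Seven

def dB7 : Finset (Fin 7) := {0, 1, 2}
def dC7 : Finset (Fin 7) := {3, 4, 5}
def dt71 : Perm (Fin 7) := swap 0 1 * swap 1 2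
def dt72 : Perm (Fin 7) := swap 3 4 * swap 4 5
def dtau7 : Perm (Fin 7) := swap 0 3 * swap 1 4 * swap 2 5 * swap 0 1

def dU7 : Subgroup (Perm (Fin 7)) :=
  stabilizer (Perm (Fin 7)) ({(dB7 : Set (Fin 7)), (dC7 : Set (Fin 7))} : Set (Set (Fin 7))) ⊓
    alternatingGroup (Fin 7)

theorem dt71_mem : dt71 ∈ dU7 := by
  refine ⟨mem_stab_pair_of_fix ?_ ?_, ?_⟩
  · exact perm_smul_set_eq _ _ (by decide : ∀ x : Fin 7, dt71 x ∈ dB7 ↔ x ∈ dB7)
  · exact perm_smul_set_eq _ _ (by decide : ∀ x : Fin 7, dt71 x ∈ dC7 ↔ x ∈ dC7)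
  · show dt71 ∈ alternatingGroup (Fin 7)
    rw [Perm.mem_alternatingGroup, dt71, Perm.sign_mul, Perm.sign_swap (by decide),
      Perm.sign_swap (by decide)]; rfl

theorem dt72_mem : dt72 ∈ dU7 := by
  refine ⟨mem_stab_pair_of_fix ?_ ?_, ?_⟩
  · exact perm_smul_set_eq _ _ (by decide : ∀ x : Fin 7, dt72 x ∈ dB7 ↔ x ∈ dB7)
  · exact perm_smul_set_eq _ _ (by decide : ∀ x : Fin 7, dt72 x ∈ dC7 ↔ x ∈ dC7)
  · show dt72 ∈ alternatingGroup (Fin 7)
    rw [Perm.mem_alternatingGroup, dt72, Perm.sign_mul, Perm.sign_swap (by decide),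
      Perm.sign_swap (by decide)]; rfl

theorem dtau7_mem : dtau7 ∈ dU7 := by
  refine ⟨mem_stab_pair_of_swap ?_ ?_, ?_⟩
  · exact perm_smul_set_eq' _ _ _ (by decide : ∀ x : Fin 7, dtau7 x ∈ dC7 ↔ x ∈ dB7)
  · exact perm_smul_set_eq' _ _ _ (by decide : ∀ x : Fin 7, dtau7 x ∈ dB7 ↔ x ∈ dC7)
  · show dtau7 ∈ alternatingGroup (Fin 7)
    rw [Perm.mem_alternatingGroup, dtau7, Perm.sign_mul, Perm.sign_mul, Perm.sign_mul,
      Perm.sign_swap (by decide), Perm.sign_swap (by decide), Perm.sign_swap (by decide),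
      Perm.sign_swap (by decide)]; rfl

theorem dU7_pi {p : ℕ} (hp : p.Prime) (hd : p ∣ Nat.card dU7) : p = 2 ∨ p = 3 := by
  have h1 : p ∣ Nat.card (stabilizer (Perm (Fin 7))
      ({(dB7 : Set (Fin 7)), (dC7 : Set (Fin 7))} : Set (Set (Fin 7)))) :=
    dvd_trans hd (Subgroup.card_dvd_of_le inf_le_left)
  have hB : Nat.card ((dB7 : Set (Fin 7))) = 3 := by
    rw [Nat.card_coe_set_eq, Set.ncard_coe_finset]; rfl
  have hBc : Nat.card (((dB7 : Set (Fin 7)))ᶜ : Set (Fin 7)) = 4 := by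
    rw [Nat.card_coe_set_eq, Set.ncard_compl, Set.ncard_coe_finset, Nat.card_fin]; rfl
  have h4 : p ≠ 4 := fun h => by rw [h] at hp; exact absurd hp (by decide)
  have := hp.two_le
  rcases pi_stabilizer_pair' _ _ hp h1 with h | h
  · left; exact h
  · rw [hB, hBc] at h
    rcases (hp.dvd_mul).mp h with h | h
    · have := (hp.dvd_factorial).mp h; omega
    · have := (hp.dvd_factorial).mp h; omega

theorem no_dpi_seven {π : Set ℕ}
    (hπ : ∀ r : ℕ, r.Prime → r ≤ 7 → (r ∈ π ↔ (r = 2 ∨ r = 3))) :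
    ¬ IsDPiGroup π (alternatingGroup (Fin 7)) := by
  intro hD
  refine alt_dpi_false hD dU7 inf_le_right ?_ ?_
  · intro p hp hd
    rcases dU7_pi hp hd with rfl | rfl
    · exact (hπ 2 hp (by norm_num)).mpr (Or.inl rfl)
    · exact (hπ 3 hp (by norm_num)).mpr (Or.inr rfl)
  · intro K hKle hK hUK
    have hL := hallLike_of_alt hKle hK
    obtain ⟨Δ, hΔ3, hΔ⟩ := shape_seven hL (by simp) hπ
    have i1 : ∀ z ∈ Δ, dt71 z ∈ Δ := fun z hz => hΔ dt71 (hUK dt71_mem) z hz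
    have i2 : ∀ z ∈ Δ, dt72 z ∈ Δ := fun z hz => hΔ dt72 (hUK dt72_mem) z hz
    have i3 : ∀ z ∈ Δ, dtau7 z ∈ Δ := fun z hz => hΔ dtau7 (hUK dtau7_mem) z hz
    have p01 : (0 : Fin 7) ∈ Δ → (1 : Fin 7) ∈ Δ := fun h => by
      have := i1 0 h; rwa [show dt71 0 = 1 by decide] at this
    have p12 : (1 : Fin 7) ∈ Δ → (2 : Fin 7) ∈ Δ := fun h => by
      have := i1 1 h; rwa [show dt71 1 = 2 by decide] at this
    have p20 : (2 : Fin 7) ∈ Δ → (0 : Fin 7) ∈ Δ := fun h => by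
      have := i1 2 h; rwa [show dt71 2 = 0 by decide] at this
    have p34 : (3 : Fin 7) ∈ Δ → (4 : Fin 7) ∈ Δ := fun h => by
      have := i2 3 h; rwa [show dt72 3 = 4 by decide] at this
    have p45 : (4 : Fin 7) ∈ Δ → (5 : Fin 7) ∈ Δ := fun h => by
      have := i2 4 h; rwa [show dt72 4 = 5 by decide] at this
    have p53 : (5 : Fin 7) ∈ Δ → (3 : Fin 7) ∈ Δ := fun h => by
      have := i2 5 h; rwa [show dt72 5 = 3 by decide] at this
    have p04 : (0 : Fin 7) ∈ Δ → (4 : Fin 7) ∈ Δ := fun h => by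
      have := i3 0 h; rwa [show dtau7 0 = 4 by decide] at this
    have p30 : (3 : Fin 7) ∈ Δ → (0 : Fin 7) ∈ Δ := fun h => by
      have := i3 3 h; rwa [show dtau7 3 = 0 by decide] at this
    classical
    have hcount : Δ.ncard = ∑ x : Fin 7, if x ∈ Δ then 1 else 0 := by
      rw [← Finset.card_filter, ← Set.ncard_coe_finset]
      congr 1
      ext x; simp
    rw [hΔ3, Fin.sum_univ_seven] at hcount
    by_cases h0 : (0 : Fin 7) ∈ Δ
    · have h1 := p01 h0
      have h2 := p12 h1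
      have h4 := p04 h0
      have h5 := p45 h4
      have h3 := p53 h5
      rw [if_pos h0, if_pos h1, if_pos h2, if_pos h3, if_pos h4, if_pos h5] at hcount
      split_ifs at hcount <;> omega
    · have h1 : (1 : Fin 7) ∉ Δ := fun h => h0 (p20 (p12 h))
      have h2 : (2 : Fin 7) ∉ Δ := fun h => h0 (p20 h)
      have h3 : (3 : Fin 7) ∉ Δ := fun h => h0 (p30 h)
      have h5 : (5 : Fin 7) ∉ Δ := fun h => h3 (p53 h)
      have h4 : (4 : Fin 7) ∉ Δ := fun h => h5 (p45 h)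
      rw [if_neg h0, if_neg h1, if_neg h2, if_neg h3, if_neg h4, if_neg h5] at hcount
      split_ifs at hcount <;> omega

end Seven

section Eight

def dD81 : Finset (Fin 8) := {0, 1, 2}
def dD82 : Finset (Fin 8) := {3, 4, 5}
def dt81 : Perm (Fin 8) := swap 0 1 * swap 1 2
def dt82 : Perm (Fin 8) := swap 3 4 * swap 4 5
def de8 : Perm (Fin 8) := swap 0 1 * swap 6 7

def dU8 : Subgroup (Perm (Fin 8)) :=
  (stabilizer (Perm (Fin 8)) (dD81 : Set (Fin 8)) ⊓
    stabilizer (Perm (Fin 8)) (dD82 : Set (Fin 8))) ⊓ alternatingGroup (Fin 8)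

theorem dt81_mem : dt81 ∈ dU8 := by
  refine ⟨⟨?_, ?_⟩, ?_⟩
  · exact perm_smul_set_eq _ _ (by decide : ∀ x : Fin 8, dt81 x ∈ dD81 ↔ x ∈ dD81)
  · exact perm_smul_set_eq _ _ (by decide : ∀ x : Fin 8, dt81 x ∈ dD82 ↔ x ∈ dD82)
  · show dt81 ∈ alternatingGroup (Fin 8)
    rw [Perm.mem_alternatingGroup, dt81, Perm.sign_mul, Perm.sign_swap (by decide),
      Perm.sign_swap (by decide)]; rfl

theorem dt82_mem : dt82 ∈ dU8 := by
  refine ⟨⟨?_, ?_⟩, ?_⟩
  · exact perm_smul_set_eq _ _ (by decide : ∀ x : Fin 8, dt82 x ∈ dD81 ↔ x ∈ dD81)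
  · exact perm_smul_set_eq _ _ (by decide : ∀ x : Fin 8, dt82 x ∈ dD82 ↔ x ∈ dD82)
  · show dt82 ∈ alternatingGroup (Fin 8)
    rw [Perm.mem_alternatingGroup, dt82, Perm.sign_mul, Perm.sign_swap (by decide),
      Perm.sign_swap (by decide)]; rfl

theorem de8_mem : de8 ∈ dU8 := by
  refine ⟨⟨?_, ?_⟩, ?_⟩
  · exact perm_smul_set_eq _ _ (by decide : ∀ x : Fin 8, de8 x ∈ dD81 ↔ x ∈ dD81)
  · exact perm_smul_set_eq _ _ (by decide : ∀ x : Fin 8, de8 x ∈ dD82 ↔ x ∈ dD82)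
  · show de8 ∈ alternatingGroup (Fin 8)
    rw [Perm.mem_alternatingGroup, de8, Perm.sign_mul, Perm.sign_swap (by decide),
      Perm.sign_swap (by decide)]; rfl

theorem dU8_pi {p : ℕ} (hp : p.Prime) (hd : p ∣ Nat.card dU8) : p = 2 ∨ p = 3 := by
  have h1 := dvd_trans hd (dvd_trans (Subgroup.card_dvd_of_le inf_le_left)
    (card_stabilizer_two_sets_dvd (dD81 : Set (Fin 8)) (dD82 : Set (Fin 8))))
  have hB : Nat.card ((dD81 : Set (Fin 8))) = 3 := by
    rw [Nat.card_coe_set_eq, Set.ncard_coe_finset]; rfl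
  have hC : Nat.card ((dD82 : Set (Fin 8))) = 3 := by
    rw [Nat.card_coe_set_eq, Set.ncard_coe_finset]; rfl
  have hBc : Nat.card ((((dD81 : Set (Fin 8)) ∪ (dD82 : Set (Fin 8))))ᶜ : Set (Fin 8)) = 2 := by
    rw [Nat.card_coe_set_eq, Set.ncard_compl, ← Finset.coe_union, Set.ncard_coe_finset,
      Nat.card_fin]; rfl
  rw [hB, hC, hBc] at h1
  have h4 : p ≠ 4 := fun h => by rw [h] at hp; exact absurd hp (by decide)
  have := hp.two_le
  rcases (hp.dvd_mul).mp h1 with h | h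
  · have := (hp.dvd_factorial).mp h; omega
  · rcases (hp.dvd_mul).mp h with h | h
    · have := (hp.dvd_factorial).mp h; omega
    · have := (hp.dvd_factorial).mp h; omega

theorem no_dpi_eight {π : Set ℕ}
    (hπ : ∀ r : ℕ, r.Prime → r ≤ 8 → (r ∈ π ↔ (r = 2 ∨ r = 3))) :
    ¬ IsDPiGroup π (alternatingGroup (Fin 8)) := by
  intro hD
  refine alt_dpi_false hD dU8 inf_le_right ?_ ?_
  · intro p hp hd
    rcases dU8_pi hp hd with rfl | rfl
    · exact (hπ 2 hp (by norm_num)).mpr (Or.inl rfl)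
    · exact (hπ 3 hp (by norm_num)).mpr (Or.inr rfl)
  · intro K hKle hK hUK
    have hL := hallLike_of_alt hKle hK
    obtain ⟨B, hB4, hB⟩ := shape_eight hL (by simp) hπ
    have hBne : B.Nonempty := (Set.ncard_pos (Set.toFinite B)).mp (by omega)
    have f1 : dt81 • B = B :=
      smul_eq_of_pow_three dt81 (by decide) (hB dt81 (hUK dt81_mem)) hBne
    have f2 : dt82 • B = B :=
      smul_eq_of_pow_three dt82 (by decide) (hB dt82 (hUK dt82_mem)) hBne
    have f3 := hB de8 (hUK de8_mem)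
    have m1 := perm_mem_iff_of_smul_set_eq dt81 B f1
    have m2 := perm_mem_iff_of_smul_set_eq dt82 B f2
    have p01 : (1 : Fin 8) ∈ B ↔ (0 : Fin 8) ∈ B := by
      have := m1 0; rwa [show dt81 0 = 1 by decide] at this
    have p12 : (2 : Fin 8) ∈ B ↔ (1 : Fin 8) ∈ B := by
      have := m1 1; rwa [show dt81 1 = 2 by decide] at this
    have p34 : (4 : Fin 8) ∈ B ↔ (3 : Fin 8) ∈ B := by
      have := m2 3; rwa [show dt82 3 = 4 by decide] at this
    have p45 : (5 : Fin 8) ∈ B ↔ (4 : Fin 8) ∈ B := by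
      have := m2 4; rwa [show dt82 4 = 5 by decide] at this
    rcases f3 with f3 | f3
    · have m3 := perm_mem_iff_of_smul_set_eq de8 B f3
      have p67 : (7 : Fin 8) ∈ B ↔ (6 : Fin 8) ∈ B := by
        have := m3 6; rwa [show de8 6 = 7 by decide] at this
      classical
      have hcount : B.ncard = ∑ x : Fin 8, if x ∈ B then 1 else 0 := by
        rw [← Finset.card_filter, ← Set.ncard_coe_finset]
        congr 1
        ext x; simp
      rw [hB4, Fin.sum_univ_eight] at hcount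
      by_cases h0 : (0 : Fin 8) ∈ B <;> by_cases h3 : (3 : Fin 8) ∈ B <;>
        by_cases h6 : (6 : Fin 8) ∈ B <;>
        simp [h0, h3, h6, p01, p12, p34, p45, p67] at hcount
    · have h1 : (1 : Fin 8) ∈ de8 • B ↔ (0 : Fin 8) ∈ B := by
        rw [Set.mem_smul_set_iff_inv_smul_mem, show de8⁻¹ • (1 : Fin 8) = 0 by decide]
      rw [f3] at h1
      have h2 : (1 : Fin 8) ∈ Bᶜ ↔ ¬ (1 : Fin 8) ∈ B := Iff.rfl
      rw [h2, p01] at h1
      by_cases h0 : (0 : Fin 8) ∈ B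
      · exact (h1.mpr h0) h0
      · exact h0 (h1.mp h0)

end Eight

/-- For `n ≥ 5` and a mixed `π`, the alternating group of degree `n` is not a `D_π`-group. -/
theorem alt_not_dpi {n : ℕ} (hn : 5 ≤ n) {π : Set ℕ} {r s q : ℕ} (hr : r.Prime) (hs : s.Prime)
    (hrπ : r ∈ π) (hsπ : s ∈ π) (hrd : r ∣ Nat.card (alternatingGroup (Fin n)))
    (hsd : s ∣ Nat.card (alternatingGroup (Fin n))) (hrs : r ≠ s) (hq : q.Prime)
    (hqd : q ∣ Nat.card (alternatingGroup (Fin n))) (hqπ : q ∉ π) :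
    ¬ IsDPiGroup π (alternatingGroup (Fin n)) := by
  intro hD
  have hPerm : Nat.card (Perm (Fin n)) = n.factorial := by rw [Nat.card_perm, Nat.card_fin]
  have hAle : ∀ p : ℕ, p.Prime → p ∣ Nat.card (alternatingGroup (Fin n)) → p ≤ n :=
    fun p hp hd => (hp.dvd_factorial).mp
      (hPerm ▸ dvd_trans hd (Subgroup.card_subgroup_dvd_card _))
  have hmix : HallMixed n π :=
    ⟨⟨r, s, hr, hs, hrs, hrπ, hsπ, hAle r hr hrd, hAle s hs hsd⟩, ⟨q, hq, hAle q hq hqd, hqπ⟩⟩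
  have hbot : IsPiSubgroup π (⊥ : Subgroup (alternatingGroup (Fin n))) := by
    intro p hp hd
    rw [Subgroup.card_bot] at hd
    exact absurd (Nat.dvd_one.mp hd) hp.one_lt.ne'
  obtain ⟨K, -, hK⟩ := exists_maximal_pi_ge hbot
  have hKH := dpi_maximal_isHall hD hK
  have hKeq : (K.map (alternatingGroup (Fin n)).subtype).subgroupOf
      (alternatingGroup (Fin n)) = K :=
    Subgroup.comap_map_eq_self_of_injective (Subgroup.subtype_injective _) K
  have hgoal := hall_alt_main n (Fin n) (Fintype.card_fin n) π _ (Subgroup.map_subtype_le K)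
    (hKeq.symm ▸ hKH) hmix
  rcases hgoal with ⟨hnp, hπ⟩ | ⟨h78, hπ⟩
  · have hab : (⟨0, by omega⟩ : Fin n) ≠ ⟨1, by omega⟩ := Fin.ne_of_val_ne (by norm_num)
    have hac : (⟨0, by omega⟩ : Fin n) ≠ ⟨2, by omega⟩ := Fin.ne_of_val_ne (by norm_num)
    have had : (⟨0, by omega⟩ : Fin n) ≠ ⟨3, by omega⟩ := Fin.ne_of_val_ne (by norm_num)
    have hbc : (⟨1, by omega⟩ : Fin n) ≠ ⟨2, by omega⟩ := Fin.ne_of_val_ne (by norm_num)
    have hbd : (⟨1, by omega⟩ : Fin n) ≠ ⟨3, by omega⟩ := Fin.ne_of_val_ne (by norm_num)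
    have hcd : (⟨2, by omega⟩ : Fin n) ≠ ⟨3, by omega⟩ := Fin.ne_of_val_ne (by norm_num)
    refine alt_dpi_false hD _ (inf_le_right :
      stabilizer (Perm (Fin n)) ({(⟨0, by omega⟩ : Fin n), ⟨1, by omega⟩} : Set (Fin n)) ⊓
        alternatingGroup (Fin n) ≤ alternatingGroup (Fin n)) ?_ ?_
    · intro p hp hd
      rcases pi_pair_stab hab hp hd with h | h
      · rw [Fintype.card_fin] at h
        exact (hπ p hp (by omega)).mpr (by omega)
      · rw [h]; exact (hπ 2 Nat.prime_two (by omega)).mpr (by omega)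
    · intro K' hK'le hK' hUK
      have hL := hallLike_of_alt hK'le hK'
      obtain ⟨x, hx⟩ := shape_prime hL (by rw [Fintype.card_fin]; exact hnp)
        (by rw [Fintype.card_fin]; exact hπ)
      obtain ⟨σ, hσ, hσx⟩ := pair_stab_moves hab hac had hbc hbd hcd x
      exact hσx (hx σ (hUK hσ))
  · rcases h78 with rfl | rfl
    · exact no_dpi_seven hπ hD
    · exact no_dpi_eight hπ hD

end Cfsg.Agent.Lib.helper43
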