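import Mathlib
import Cfsg.Agent.Lib.helper43.HallStruct

set_option autoImplicit false

/-!
# Hall subgroups of symmetric groups: existence and the final classification (helper43)
-/

namespace Cfsg.Agent.Lib.helper43

open Cfsg Equiv

theorem prime_dvd_two_three {p a b : ℕ} (hp : p.Prime) (h : p ∣ 2 ^ a * 3 ^ b) :
    p = 2 ∨ p = 3 := by
  rcases (hp.dvd_mul).mp h with h | h
  · left; exact (Nat.prime_dvd_prime_iff_eq hp Nat.prime_two).mp (hp.dvd_of_dvd_pow h)
  · right; exact (Nat.prime_dvd_prime_iff_eq hp Nat.prime_three).mp (hp.dvd_of_dvd_pow h)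

theorem isPiHall_of_card_23 {G : Type*} [Group G] {π : Set ℕ} {n : ℕ} (hn : 7 ≤ n)
    (hπ : ∀ r : ℕ, r.Prime → r ≤ n → (r ∈ π ↔ (r = 2 ∨ r = 3)))
    (H : Subgroup G) {a b : ℕ} (hc : Nat.card H = 2 ^ a * 3 ^ b) (hi : H.index = 35) :
    IsPiHall π H := by
  refine ⟨fun p hp hd => ?_, fun p hp hpπ hd => ?_⟩
  · rw [hc] at hd
    have h23 := prime_dvd_two_three hp hd
    exact (hπ p hp (by rcases h23 with rfl | rfl <;> omega)).mpr h23
  · rw [hi] at hd
    have h57 : p = 5 ∨ p = 7 := by
      have h35 : (35 : ℕ) = 5 * 7 := by norm_num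
      rw [h35] at hd
      rcases (hp.dvd_mul).mp hd with h | h
      · left; exact (Nat.prime_dvd_prime_iff_eq hp (by norm_num)).mp h
      · right; exact (Nat.prime_dvd_prime_iff_eq hp (by norm_num)).mp h
    have h1 := (hπ p hp (by rcases h57 with rfl | rfl <;> omega)).mp hpπ
    rcases h57 with rfl | rfl <;> omega

theorem hall_sym_exists (n : ℕ) (π : Set ℕ) (h : HallGoal n π) :
    ∃ H : Subgroup (Perm (Fin n)), IsPiHall π H := by
  rcases h with ⟨hnp, hπ⟩ | ⟨h78, hπ⟩
  · obtain ⟨n', rfl⟩ : ∃ n', n = n' + 1 := ⟨n - 1, by have := hnp.two_le; omega⟩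
    refine ⟨MulAction.stabilizer (Perm (Fin (n' + 1))) (0 : Fin (n' + 1)), ?_⟩
    have hidx : (MulAction.stabilizer (Perm (Fin (n' + 1))) (0 : Fin (n' + 1))).index
        = n' + 1 := by
      rw [MulAction.index_stabilizer_of_transitive, Nat.card_fin]
    have hcm := (MulAction.stabilizer (Perm (Fin (n' + 1))) (0 : Fin (n' + 1))).card_mul_index
    rw [hidx, Nat.card_perm, Nat.card_fin, Nat.factorial_succ, mul_comm (n' + 1)] at hcm
    have hcard : Nat.card (MulAction.stabilizer (Perm (Fin (n' + 1))) (0 : Fin (n' + 1)))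
        = n'.factorial := Nat.eq_of_mul_eq_mul_right (by omega) hcm
    refine ⟨fun p hp hd => ?_, fun p hp hpπ hd => ?_⟩
    · rw [hcard] at hd
      have hle := (hp.dvd_factorial).mp hd
      exact (hπ p hp (by omega)).mpr (by omega)
    · rw [hidx] at hd
      have heq := (Nat.prime_dvd_prime_iff_eq hp hnp).mp hd
      have hlt := (hπ p hp (by omega)).mp hpπ
      omega
  · rcases h78 with rfl | rfl
    · have hinj := Perm.subtypeCongrHom_injective (fun i : Fin 7 => i.1 < 3)
      have c3 : Nat.card {i : Fin 7 // i.1 < 3} = 3 := by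
        rw [Nat.card_eq_fintype_card]; decide
      have c4 : Nat.card {i : Fin 7 // ¬ i.1 < 3} = 4 := by
        rw [Nat.card_eq_fintype_card]; decide
      have hcard : Nat.card (Perm.subtypeCongrHom (fun i : Fin 7 => i.1 < 3)).range
          = 2 ^ 4 * 3 ^ 2 := by
        rw [Nat.card_congr (MonoidHom.ofInjective hinj).toEquiv.symm, Nat.card_prod,
          Nat.card_perm, Nat.card_perm, c3, c4]
        decide
      have hidx : (Perm.subtypeCongrHom (fun i : Fin 7 => i.1 < 3)).range.index = 35 := by
        have h1 := (Perm.subtypeCongrHom (fun i : Fin 7 => i.1 < 3)).range.card_mul_index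
        rw [hcard, Nat.card_perm, Nat.card_fin] at h1
        have h2 : Nat.factorial 7 = 5040 := by decide
        omega
      exact ⟨_, isPiHall_of_card_23 (le_refl 7) hπ _ hcard hidx⟩
    · have hinj := RegularWreathProduct.toPermInj (Perm (Fin 4)) (Multiplicative (ZMod 2)) (Fin 4)
      have hc8 : Nat.card (Fin 4 × Multiplicative (ZMod 2)) = 8 := by
        rw [Nat.card_eq_fintype_card]; simp
      have hcard : Nat.card ((RegularWreathProduct.toPerm (Perm (Fin 4))
          (Multiplicative (ZMod 2)) (Fin 4)).range.map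
            (Finite.equivFinOfCardEq hc8).permCongrHom.toMonoidHom) = 2 ^ 7 * 3 ^ 2 := by
        rw [Subgroup.card_map_of_injective (Finite.equivFinOfCardEq hc8).permCongrHom.injective,
          Nat.card_congr (MonoidHom.ofInjective hinj).toEquiv.symm, RegularWreathProduct.card,
          Nat.card_perm, Nat.card_fin]
        have h2 : Nat.card (Multiplicative (ZMod 2)) = 2 := by simp
        rw [h2]
        decide
      have hidx : ((RegularWreathProduct.toPerm (Perm (Fin 4))
          (Multiplicative (ZMod 2)) (Fin 4)).range.map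
            (Finite.equivFinOfCardEq hc8).permCongrHom.toMonoidHom).index = 35 := by
        have h1 := ((RegularWreathProduct.toPerm (Perm (Fin 4))
          (Multiplicative (ZMod 2)) (Fin 4)).range.map
            (Finite.equivFinOfCardEq hc8).permCongrHom.toMonoidHom).card_mul_index
        rw [hcard, Nat.card_perm, Nat.card_fin] at h1
        have h2 : Nat.factorial 8 = 40320 := by decide
        omega
      exact ⟨_, isPiHall_of_card_23 (by norm_num) hπ _ hcard hidx⟩

/-- Thompson / Hall: Hall `π`-subgroups of `S_n` when `π` contains two primes `≤ n` and misses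
a prime `≤ n`. -/
theorem hall_sym_iff (n : ℕ) (π : Set ℕ) (hmix : HallMixed n π) :
    (∃ H : Subgroup (Perm (Fin n)), IsPiHall π H) ↔ HallGoal n π := by
  constructor
  · rintro ⟨H, hH⟩
    exact hall_sym_main n (Fin n) (Fintype.card_fin n) π H hH hmix
  · exact hall_sym_exists n π

end Cfsg.Agent.Lib.helper43
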