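import Mathlib
import Cfsg.Agent.Lib.helper43.PrincipalRank
import Cfsg.Agent.Lib.helper43.UDecomp
import Cfsg.Agent.Lib.helper43.IndLinear
import Cfsg.Agent.Lib.helper84.Frobenius
import Cfsg.Agent.Lib.helper82.CharQuot
import Cfsg.Agent.Lib.helper67.Tate
import Cfsg.Agent.Lib.helper3.PGroupFrattini
import Cfsg.Agent.Lib.helper79.GaloisChar
import Cfsg.Agent.Lib.helper80.DefectGroup

/-!
# Isaacs–Smith type normal p-complement criteria through the principal block (helper43)

The class function `ρ₀ = ∑_{χ ∈ B₀} χ(1) χ` vanishes on `p`-singular elements (Osima), so its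
restriction to a `p`-subgroup `Q` is a multiple of the regular character of `Q`: for every linear
character `μ` of `Q`, `∑_{χ ∈ B₀} χ(1) [χ_Q, μ]` does not depend on `μ` (`sum_resMult_eq`).  The
linear characters in `B₀` that are trivial on a Sylow `p`-subgroup form a group of order prime to
`p` (`card_linPrincipal_not_dvd`).  Counting modulo `p` then shows that, when the characters of
`p'`-degree in `B₀` (fixed by a suitable permutation) are linear, linear characters of the Sylow
subgroup extend to `G`, and Tate's theorem gives a normal `p`-complement.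
-/

set_option autoImplicit false

namespace Cfsg.Agent.Lib.helper43

open Cfsg
open scoped ComplexConjugate
open Cfsg.Agent.Lib.helper81 Cfsg.Agent.Lib.helper20

universe u

section Reg

variable {G : Type u} [Group G] [Fintype G]

open Classical in
/-- The class function `∑_{χ ∈ B} χ(1) χ`. -/
noncomputable def blockReg (B : Set (IrrCharacter G)) (g : G) : ℂ :=
  ∑ χ : IrrCharacter G, if χ ∈ B then (χ : G → ℂ) 1 * (χ : G → ℂ) g else 0

omit [Fintype G] in
theorem irr_conj_one [Finite G] (χ : IrrCharacter G) : conj ((χ : G → ℂ) 1) = (χ : G → ℂ) 1 := by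
  rw [irr_one_eq_charDegree]; simp

/-- Osima: `∑_{χ ∈ B₀} χ(1) χ` vanishes at `p`-singular elements. -/
theorem blockReg_principal_eq_zero {p : ℕ} {M : Ideal AlgInt} (hM : IsPModular p M) {g : G}
    (hg : p ∣ orderOf g) : blockReg (principalBlock M G) g = 0 := by
  classical
  have hMp := isPrime_of_isPModular hM
  have hp : p.Prime := hM.1
  have h := wbo_symm hM (B := principalBlock M G)
    (fun x => memLocalRing_blockCoeff hMp isPBlock_principalBlock x) (x := g) (y := 1) hg
    (by rw [orderOf_one]; exact hp.not_dvd_one)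
  unfold blockReg
  refine Eq.trans (Finset.sum_congr rfl (fun χ _ => ?_)) h
  by_cases hχ : χ ∈ principalBlock M G
  · rw [if_pos hχ, if_pos hχ, irr_conj_one, mul_comm]
  · rw [if_neg hχ, if_neg hχ]

end Reg

section Res

variable {G : Type u} [Group G] [Fintype G]

/-- The inner product of the restriction of `χ` to the subgroup `Q` with the linear character
`μ` of `Q`. -/
noncomputable def resInner (Q : Subgroup G) (χ : G → ℂ) (μ : Q →* ℂˣ) : ℂ :=
  haveI := Fintype.ofFinite Q
  classInner (fun u : Q => χ u) (fun u : Q => ((μ u : ℂˣ) : ℂ))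

/-- The multiplicity of the linear character `μ` of `Q` in the restriction of `χ`, as a natural
number. -/
noncomputable def resMult (Q : Subgroup G) (χ : G → ℂ) (μ : Q →* ℂˣ) : ℕ :=
  ⌊(resInner Q χ μ).re⌋₊

theorem resInner_eq (Q : Subgroup G) (χ : G → ℂ) (μ : Q →* ℂˣ) :
    letI : Fintype Q := Fintype.ofFinite Q
    resInner Q χ μ = (Nat.card Q : ℂ)⁻¹ * ∑ u : Q, χ u * conj ((μ u : ℂˣ) : ℂ) := rfl

theorem resMult_cast (Q : Subgroup G) {χ : G → ℂ} (hχ : IsCharacter G χ) (μ : Q →* ℂˣ) :
    (resMult Q χ μ : ℂ) = resInner Q χ μ := by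
  letI : Fintype Q := Fintype.ofFinite Q
  obtain ⟨n, hn⟩ := Cfsg.Agent.Lib.helper84.classInner_isCharacter_nat
    (Cfsg.Agent.Lib.helper84.isCharacter_restrict Q hχ)
    (isCharacter_of_isIrrCharacter (Cfsg.Agent.Lib.helper82.isIrrCharacter_of_hom μ))
  have h1 : resInner Q χ μ = n := hn
  unfold resMult
  rw [h1]
  simp

open Classical in
/-- The sum `∑_{χ ∈ B₀} χ(1) [χ_Q, μ]` for a `p`-subgroup `Q`. -/
theorem sum_resInner_principal {p : ℕ} {M : Ideal AlgInt} (hM : IsPModular p M)
    (Q : Subgroup G) (hQ : IsPGroup p Q) (μ : Q →* ℂˣ) :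
    (∑ χ : IrrCharacter G,
      if χ ∈ principalBlock M G then (χ : G → ℂ) 1 * resInner Q (χ : G → ℂ) μ else 0)
      = (Nat.card Q : ℂ)⁻¹ * blockReg (principalBlock M G) 1 := by
  classical
  letI : Fintype Q := Fintype.ofFinite Q
  have hp : p.Prime := hM.1
  have h1 : ∀ χ : IrrCharacter G,
      (if χ ∈ principalBlock M G then (χ : G → ℂ) 1 * resInner Q (χ : G → ℂ) μ else 0)
        = (Nat.card Q : ℂ)⁻¹ * ∑ u : Q, conj ((μ u : ℂˣ) : ℂ) *
          (if χ ∈ principalBlock M G then (χ : G → ℂ) 1 * (χ : G → ℂ) u else 0) := by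
    intro χ
    by_cases hχ : χ ∈ principalBlock M G
    · simp only [if_pos hχ]
      rw [resInner_eq, Finset.mul_sum, Finset.mul_sum, Finset.mul_sum]
      refine Finset.sum_congr rfl (fun u _ => ?_)
      ring
    · simp only [if_neg hχ, mul_zero, Finset.sum_const_zero]
  rw [Finset.sum_congr rfl (fun χ _ => h1 χ), ← Finset.mul_sum, Finset.sum_comm]
  congr 1
  have h2 : ∀ u : Q, (∑ χ : IrrCharacter G, conj ((μ u : ℂˣ) : ℂ) *
      (if χ ∈ principalBlock M G then (χ : G → ℂ) 1 * (χ : G → ℂ) u else 0))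
      = conj ((μ u : ℂˣ) : ℂ) * blockReg (principalBlock M G) (u : G) := by
    intro u
    rw [← Finset.mul_sum]
    rfl
  rw [Finset.sum_congr rfl (fun u _ => h2 u), Finset.sum_eq_single (1 : Q)]
  · simp
  · intro u _ hu
    have hsing : p ∣ orderOf (u : G) := by
      obtain ⟨j, hj⟩ := hQ u
      have hj' : ((u : G)) ^ p ^ j = 1 := by
        have := congrArg Subtype.val hj
        simpa using this
      obtain ⟨i, hi, hord⟩ := (Nat.dvd_prime_pow hp).mp (orderOf_dvd_of_pow_eq_one hj')
      rw [hord]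
      rcases Nat.eq_zero_or_pos i with h0 | h0
      · exfalso
        rw [h0, pow_zero, orderOf_eq_one_iff] at hord
        exact hu (Subtype.ext hord)
      · exact dvd_pow_self p h0.ne'
    rw [blockReg_principal_eq_zero hM hsing, mul_zero]
  · intro h
    exact absurd (Finset.mem_univ _) h

open Classical in
/-- `∑_{χ ∈ B₀} χ(1) [χ_Q, μ]` does not depend on the linear character `μ` of the `p`-subgroup
`Q`. -/
theorem sum_resMult_eq {p : ℕ} {M : Ideal AlgInt} (hM : IsPModular p M)
    (Q : Subgroup G) (hQ : IsPGroup p Q) (μ ν : Q →* ℂˣ) :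
    (∑ χ : IrrCharacter G,
      if χ ∈ principalBlock M G then charDegree (χ : G → ℂ) * resMult Q (χ : G → ℂ) μ else 0)
    = (∑ χ : IrrCharacter G,
      if χ ∈ principalBlock M G then charDegree (χ : G → ℂ) * resMult Q (χ : G → ℂ) ν else 0) := by
  classical
  have key : ∀ μ' : Q →* ℂˣ, ((∑ χ : IrrCharacter G,
      if χ ∈ principalBlock M G then charDegree (χ : G → ℂ) * resMult Q (χ : G → ℂ) μ' else 0 : ℕ) : ℂ)
      = (Nat.card Q : ℂ)⁻¹ * blockReg (principalBlock M G) 1 := by
    intro μ'
    rw [← sum_resInner_principal hM Q hQ μ', Nat.cast_sum]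
    refine Finset.sum_congr rfl (fun χ _ => ?_)
    by_cases hχ : χ ∈ principalBlock M G
    · rw [if_pos hχ, if_pos hχ, Nat.cast_mul, resMult_cast Q (irr_isCharacter χ),
        ← irr_one_eq_charDegree]
    · rw [if_neg hχ, if_neg hχ, Nat.cast_zero]
  apply Nat.cast_injective (R := ℂ)
  rw [key μ, key ν]

/-- The multiplicity of `μ` in the restriction of a linear character. -/
theorem resMult_linear (Q : Subgroup G) {χ : G → ℂ} (hχ : IsCharacter G χ) (h1 : χ 1 = 1)
    (μ : Q →* ℂˣ) [Decidable (∀ u : Q, χ u = ((μ u : ℂˣ) : ℂ))] :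
    resMult Q χ μ = if (∀ u : Q, χ u = ((μ u : ℂˣ) : ℂ)) then 1 else 0 := by
  classical
  letI : Fintype Q := Fintype.ofFinite Q
  obtain ⟨f, hf⟩ := Cfsg.Agent.Lib.helper82.exists_hom_of_linear hχ h1
  apply Nat.cast_injective (R := ℂ)
  rw [resMult_cast Q hχ, resInner_eq]
  set ν : Q →* ℂˣ := (f.comp Q.subtype) * μ⁻¹ with hν
  have hterm : ∀ u : Q, χ u * conj ((μ u : ℂˣ) : ℂ) = ((ν u : ℂˣ) : ℂ) := by
    intro u
    have hc : conj ((μ u : ℂˣ) : ℂ) = (((μ u)⁻¹ : ℂˣ) : ℂ) := by
      rw [Units.val_inv_eq_inv_val]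
      exact eq_inv_of_mul_eq_one_right (hom_mul_conj_eq_one μ u)
    rw [hc, hf, hν]
    simp [MonoidHom.mul_apply, MonoidHom.inv_apply]
  rw [Finset.sum_congr rfl (fun u _ => hterm u)]
  have hcard : (Nat.card Q : ℂ) ≠ 0 := by exact_mod_cast (Nat.card_pos (α := Q)).ne'
  by_cases hall : ∀ u : Q, χ u = ((μ u : ℂˣ) : ℂ)
  · rw [if_pos hall]
    have hν1 : ∀ u : Q, ((ν u : ℂˣ) : ℂ) = 1 := by
      intro u
      rw [← hterm u, hall u]
      exact hom_mul_conj_eq_one μ u
    rw [Finset.sum_congr rfl (fun u _ => hν1 u), Finset.sum_const, Finset.card_univ,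
      ← Nat.card_eq_fintype_card]
    simp
  · rw [if_neg hall]
    push Not at hall
    obtain ⟨a, ha⟩ := hall
    have hνa : ν a ≠ 1 := by
      intro h
      apply ha
      have h2 : ((ν a : ℂˣ) : ℂ) = 1 := by rw [h]; rfl
      rw [← hterm a] at h2
      have h3 := hom_mul_conj_eq_one μ a
      have hne : conj ((μ a : ℂˣ) : ℂ) ≠ 0 := by
        intro h0
        rw [h0, mul_zero] at h3
        exact zero_ne_one h3
      exact mul_right_cancel₀ hne (h2.trans h3.symm)
    rw [sum_hom_eq_zero ν hνa]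
    simp

end Res

section Lin

variable {G : Type u} [Group G] [Fintype G]

omit [Fintype G] in
theorem centralChar_hom (f : G →* ℂˣ) (g : G) :
    centralChar (fun x : G => ((f x : ℂˣ) : ℂ)) g
      = ((Subgroup.centralizer ({g} : Set G)).index : ℂ) * ((f g : ℂˣ) : ℂ) := by
  unfold centralChar
  simp

omit [Fintype G] in
theorem centralChar_one_fun (g : G) :
    centralChar (fun _ : G => (1 : ℂ)) g = ((Subgroup.centralizer ({g} : Set G)).index : ℂ) := by
  unfold centralChar
  simp

omit [Fintype G] in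
theorem memLocalRing_hom [Finite G] {M : Ideal AlgInt} (hM : M.IsPrime) (f : G →* ℂˣ) (g : G) :
    MemLocalRing M ((f g : ℂˣ) : ℂ) := by
  have h1 : ((f g : ℂˣ) : ℂ) ^ Nat.card G = 1 := by
    have : f g ^ Nat.card G = 1 := by
      rw [← map_pow, pow_card_eq_one', map_one]
    have := congrArg (fun u : ℂˣ => (u : ℂ)) this
    simpa using this
  have hint : IsIntegral ℤ ((f g : ℂˣ) : ℂ) :=
    IsIntegral.of_pow Nat.card_pos (by rw [h1]; exact isIntegral_one)
  exact memLocalRing_of_algInt hM ⟨_, hint⟩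

/-- The linear characters lying in the principal block and trivial on the subgroup `P`, as a
subgroup of the group of all linear characters. -/
def linPrincipal {M : Ideal AlgInt} (hM : M.IsPrime) (P : Subgroup G) : Subgroup (G →* ℂˣ) where
  carrier := {f | SameBlock M (fun _ : G => (1 : ℂ)) (fun x : G => ((f x : ℂˣ) : ℂ)) ∧
    ∀ u ∈ P, f u = 1}
  mul_mem' := by
    rintro f₁ f₂ ⟨h1, h1P⟩ ⟨h2, h2P⟩
    refine ⟨fun g => ?_, fun u hu => ?_⟩
    · have e1 := h1 g
      have e2 := h2 g
      rw [centralChar_one_fun, centralChar_hom] at e1 e2 ⊢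
      have e3 := memLocalIdeal_add hM e1 (memLocalIdeal_mul_left hM (memLocalRing_hom hM f₁ g) e2)
      convert e3 using 1
      simp only [MonoidHom.mul_apply, Units.val_mul]
      ring
    · rw [MonoidHom.mul_apply, h1P u hu, h2P u hu, one_mul]
  one_mem' := by
    refine ⟨fun g => ?_, fun u _ => rfl⟩
    rw [centralChar_one_fun, centralChar_hom]
    simp only [MonoidHom.one_apply, Units.val_one, mul_one, sub_self]
    exact memLocalIdeal_zero hM
  inv_mem' := by
    rintro f ⟨h1, h1P⟩
    refine ⟨fun g => ?_, fun u hu => ?_⟩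
    · have e1 := h1 g
      rw [centralChar_one_fun, centralChar_hom] at e1 ⊢
      have e3 := memLocalIdeal_neg (memLocalIdeal_mul_left hM (memLocalRing_hom hM f⁻¹ g) e1)
      convert e3 using 1
      simp only [MonoidHom.inv_apply, Units.val_inv_eq_inv_val]
      have hne : ((f g : ℂˣ) : ℂ) ≠ 0 := Units.ne_zero _
      field_simp
      ring
    · rw [MonoidHom.inv_apply, h1P u hu, inv_one]

theorem mem_linPrincipal {M : Ideal AlgInt} (hM : M.IsPrime) (P : Subgroup G) (f : G →* ℂˣ) :
    f ∈ linPrincipal hM P ↔ SameBlock M (fun _ : G => (1 : ℂ)) (fun x : G => ((f x : ℂˣ) : ℂ)) ∧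
      ∀ u ∈ P, f u = 1 := Iff.rfl

/-- The irreducible character attached to a linear character. -/
noncomputable def homIrr (f : G →* ℂˣ) : IrrCharacter G :=
  ⟨fun x : G => ((f x : ℂˣ) : ℂ), Cfsg.Agent.Lib.helper82.isIrrCharacter_of_hom f⟩

omit [Fintype G] in
theorem homIrr_apply (f : G →* ℂˣ) (g : G) : (homIrr f : G → ℂ) g = ((f g : ℂˣ) : ℂ) := rfl

omit [Fintype G] in
theorem homIrr_injective : Function.Injective (homIrr (G := G)) := by
  intro f₁ f₂ h
  ext g
  have := congrFun (congrArg Subtype.val h) g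
  exact this

omit [Fintype G] in
theorem charDegree_homIrr (f : G →* ℂˣ) : charDegree (homIrr f : G → ℂ) = 1 := by
  unfold charDegree
  rw [homIrr_apply, map_one]
  simp

instance finite_hom_units : Finite (G →* ℂˣ) :=
  Finite.of_injective homIrr homIrr_injective

/-- The group of linear characters in the principal block that are trivial on a Sylow
`p`-subgroup has order prime to `p`. -/
theorem card_linPrincipal_not_dvd {p : ℕ} [Fact p.Prime] {M : Ideal AlgInt} (hM : M.IsPrime)
    (P : Sylow p G) : ¬ p ∣ Nat.card (linPrincipal hM (P : Subgroup G)) := by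
  intro hdvd
  have hp : p.Prime := Fact.out
  obtain ⟨x, hx⟩ := exists_prime_orderOf_dvd_card' p hdvd
  set k := Nat.card G / p ^ (Nat.card G).factorization p with hk
  have hkp : p ^ (Nat.card G).factorization p * k = Nat.card G :=
    Nat.ordProj_mul_ordCompl_eq_self (Nat.card G) p
  have hxk : x ^ k = 1 := by
    apply Subtype.ext
    refine MonoidHom.ext (fun g => ?_)
    have hpow : (g ^ k) ^ p ^ (Nat.card G).factorization p = 1 := by
      rw [← pow_mul, mul_comm, hkp, pow_card_eq_one']
    have hpg : IsPGroup p (Subgroup.zpowers (g ^ k)) := by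
      obtain ⟨i, -, hi⟩ := (Nat.dvd_prime_pow hp).mp (orderOf_dvd_of_pow_eq_one hpow)
      exact IsPGroup.of_card (n := i) (by rw [Nat.card_zpowers, hi])
    obtain ⟨c, hc⟩ := Cfsg.Agent.Lib.helper80.exists_conj_mem_sylow P _ hpg
    have h1 := x.2.2 _ (hc (g ^ k) (Subgroup.mem_zpowers _))
    rw [map_mul, map_mul, map_inv, mul_comm, ← mul_assoc, mul_inv_cancel, one_mul] at h1
    rw [Subgroup.coe_pow, Subgroup.coe_one, MonoidHom.pow_apply, ← map_pow, h1,
      MonoidHom.one_apply]
  have h2 : p ∣ k := by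
    rw [← hx]
    exact orderOf_dvd_of_pow_eq_one hxk
  exact Nat.not_dvd_ordCompl hp Nat.card_pos.ne' h2

open Classical in
/-- The number of linear characters in the principal block trivial on `P`. -/
theorem card_filter_linear_trivial {M : Ideal AlgInt} (hM : M.IsPrime) (P : Subgroup G) :
    (Finset.univ.filter (fun χ : IrrCharacter G => χ ∈ principalBlock M G ∧
      charDegree (χ : G → ℂ) = 1 ∧ ∀ u : P, (χ : G → ℂ) u = 1)).card
      = Nat.card (linPrincipal hM P) := by
  rw [← Fintype.card_subtype, ← Nat.card_eq_fintype_card]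
  symm
  refine Nat.card_congr (Equiv.ofBijective
    (fun f : linPrincipal hM P => (⟨homIrr f.1, f.2.1, charDegree_homIrr f.1, fun u => by
      rw [homIrr_apply, f.2.2 u u.2]; rfl⟩ :
      {χ : IrrCharacter G // χ ∈ principalBlock M G ∧
        charDegree (χ : G → ℂ) = 1 ∧ ∀ u : P, (χ : G → ℂ) u = 1})) ⟨?_, ?_⟩)
  · intro f₁ f₂ h
    apply Subtype.ext
    apply homIrr_injective
    exact congrArg Subtype.val h
  · rintro ⟨χ, hχB, hχ1, hχP⟩
    have h1 : (χ : G → ℂ) 1 = 1 := by rw [irr_one_eq_charDegree, hχ1]; simp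
    obtain ⟨f, hf⟩ := Cfsg.Agent.Lib.helper82.exists_hom_of_linear (irr_isCharacter χ) h1
    have hfun : (fun x : G => ((f x : ℂˣ) : ℂ)) = (χ : G → ℂ) := funext (fun g => (hf g).symm)
    refine ⟨⟨f, ?_, ?_⟩, ?_⟩
    · rw [hfun]; exact hχB
    · intro u hu
      apply Units.ext
      rw [← hf, hχP ⟨u, hu⟩]; rfl
    · apply Subtype.ext
      apply Subtype.ext
      exact hfun

end Lin

section Count

variable {G : Type u} [Group G] [Fintype G] {p : ℕ} [Fact p.Prime] {M : Ideal AlgInt}

open Classical in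
/-- The sum `∑_{χ ∈ B₀} χ(1) [χ_Q, μ]`, as a natural number. -/
noncomputable def totSum (M : Ideal AlgInt) (Q : Subgroup G) (μ : Q →* ℂˣ) : ℕ :=
  ∑ χ : IrrCharacter G,
    if χ ∈ principalBlock M G then charDegree (χ : G → ℂ) * resMult Q (χ : G → ℂ) μ else 0

omit [Fact p.Prime] in
theorem totSum_eq (hM : IsPModular p M) (Q : Subgroup G) (hQ : IsPGroup p Q) (μ ν : Q →* ℂˣ) :
    totSum M Q μ = totSum M Q ν :=
  sum_resMult_eq hM Q hQ μ ν

open Classical in
/-- The counting argument: if modulo `p` the sum `∑_{χ ∈ B₀} χ(1) [χ_P, ν]` only sees the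
characters of `p'`-degree in a set `F`, these are all linear, and `F` contains the linear
characters of `B₀` trivial on the Sylow subgroup `P`, then the linear character `μ` of `P` is the
restriction of a linear character of `G` lying in `B₀`. -/
theorem exists_linear_extension (hM : IsPModular p M) (P : Sylow p G) (F : Set (IrrCharacter G))
    (h2 : ∀ χ ∈ principalBlock M G, χ ∈ F → ¬ p ∣ charDegree (χ : G → ℂ) →
      charDegree (χ : G → ℂ) = 1)
    (h3 : ∀ χ ∈ principalBlock M G, charDegree (χ : G → ℂ) = 1 →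
      (∀ u : (P : Subgroup G), (χ : G → ℂ) u = 1) → χ ∈ F)
    (μ : (P : Subgroup G) →* ℂˣ)
    (h1 : ∀ ν : (P : Subgroup G) →* ℂˣ, ν = μ ∨ ν = 1 →
      ((totSum M (P : Subgroup G) ν : ℕ) : ZMod p) =
        ((∑ χ : IrrCharacter G,
          if χ ∈ principalBlock M G ∧ χ ∈ F ∧ ¬ p ∣ charDegree (χ : G → ℂ)
          then charDegree (χ : G → ℂ) * resMult (P : Subgroup G) (χ : G → ℂ) ν else 0 : ℕ) :
          ZMod p)) :
    ∃ χ ∈ principalBlock M G, charDegree (χ : G → ℂ) = 1 ∧
      ∀ u : (P : Subgroup G), (χ : G → ℂ) u = ((μ u : ℂˣ) : ℂ) := by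
  have hp : p.Prime := Fact.out
  have hMp := isPrime_of_isPModular hM
  have hA : ∀ ν : (P : Subgroup G) →* ℂˣ,
      (∑ χ : IrrCharacter G,
          if χ ∈ principalBlock M G ∧ χ ∈ F ∧ ¬ p ∣ charDegree (χ : G → ℂ)
          then charDegree (χ : G → ℂ) * resMult (P : Subgroup G) (χ : G → ℂ) ν else 0)
        = (Finset.univ.filter (fun χ : IrrCharacter G => χ ∈ principalBlock M G ∧ χ ∈ F ∧
            charDegree (χ : G → ℂ) = 1 ∧
            ∀ u : (P : Subgroup G), (χ : G → ℂ) u = ((ν u : ℂˣ) : ℂ))).card := by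
    intro ν
    rw [Finset.card_filter]
    refine Finset.sum_congr rfl (fun χ _ => ?_)
    by_cases hχ : χ ∈ principalBlock M G ∧ χ ∈ F ∧ ¬ p ∣ charDegree (χ : G → ℂ)
    · have hd : charDegree (χ : G → ℂ) = 1 := h2 χ hχ.1 hχ.2.1 hχ.2.2
      have h1' : (χ : G → ℂ) 1 = 1 := by rw [irr_one_eq_charDegree, hd]; simp
      rw [if_pos hχ, hd, one_mul, resMult_linear (P : Subgroup G) (irr_isCharacter χ) h1' ν]
      by_cases hall : ∀ u : (P : Subgroup G), (χ : G → ℂ) u = ((ν u : ℂˣ) : ℂ)
      · rw [if_pos hall, if_pos ⟨hχ.1, hχ.2.1, rfl, hall⟩]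
      · rw [if_neg hall, if_neg (fun h => hall h.2.2.2)]
    · rw [if_neg hχ, if_neg]
      rintro ⟨hB, hF, hd, -⟩
      exact hχ ⟨hB, hF, by rw [hd]; exact hp.not_dvd_one⟩
  have hN1 : (Finset.univ.filter (fun χ : IrrCharacter G => χ ∈ principalBlock M G ∧ χ ∈ F ∧
            charDegree (χ : G → ℂ) = 1 ∧
            ∀ u : (P : Subgroup G), (χ : G → ℂ) u = (((1 : (P : Subgroup G) →* ℂˣ) u : ℂˣ) : ℂ))).card
        = Nat.card (linPrincipal hMp (P : Subgroup G)) := by
    rw [← card_filter_linear_trivial hMp (P : Subgroup G)]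
    congr 1
    ext χ
    simp only [Finset.mem_filter, Finset.mem_univ, true_and, MonoidHom.one_apply, Units.val_one]
    constructor
    · rintro ⟨hB, -, hd, hu⟩
      exact ⟨hB, hd, hu⟩
    · rintro ⟨hB, hd, hu⟩
      exact ⟨hB, h3 χ hB hd hu, hd, hu⟩
  have hT : totSum M (P : Subgroup G) μ = totSum M (P : Subgroup G) 1 :=
    totSum_eq hM (P : Subgroup G) P.isPGroup' μ 1
  have e1 := h1 μ (Or.inl rfl)
  have e2 := h1 1 (Or.inr rfl)
  rw [hA] at e1 e2
  rw [hN1] at e2
  rw [hT, e2] at e1
  have hne : (Finset.univ.filter (fun χ : IrrCharacter G => χ ∈ principalBlock M G ∧ χ ∈ F ∧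
            charDegree (χ : G → ℂ) = 1 ∧
            ∀ u : (P : Subgroup G), (χ : G → ℂ) u = ((μ u : ℂˣ) : ℂ))).card ≠ 0 := by
    intro h0
    rw [h0, Nat.cast_zero, ZMod.natCast_eq_zero_iff] at e1
    exact card_linPrincipal_not_dvd hMp P e1
  obtain ⟨χ, hχ⟩ := Finset.card_ne_zero.mp hne
  rw [Finset.mem_filter] at hχ
  exact ⟨χ, hχ.2.1, hχ.2.2.2.1, hχ.2.2.2.2⟩

end Count

section Tate

variable {G : Type u} [Group G] [Fintype G] {p : ℕ} [Fact p.Prime] {M : Ideal AlgInt}

/-- An element outside the derived subgroup of a finite group is detected by a linear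
character. -/
theorem exists_hom_ne_one_of_not_mem_commutator {P : Type*} [Group P] [Finite P] {x : P}
    (hx : x ∉ commutator P) : ∃ μ : P →* ℂˣ, μ x ≠ 1 := by
  have ha : (Abelianization.of x : Abelianization P) ≠ 1 := by
    intro h
    apply hx
    rw [← Abelianization.ker_of]
    exact MonoidHom.mem_ker.mpr h
  haveI : NeZero (Monoid.exponent (Abelianization P)) := ⟨Monoid.exponent_ne_zero_of_finite⟩
  obtain ⟨φ, hφ⟩ := CommGroup.exists_apply_ne_one_of_hasEnoughRootsOfUnity
    (Abelianization P) ℂ ha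
  exact ⟨φ.comp Abelianization.of, hφ⟩

omit [Fintype G] in
/-- Tate's criterion through linear characters: if every element of the Sylow subgroup `P`
outside the Frattini subgroup of `P` is moved by a linear character of `G`, then `G` has a
normal `p`-complement. -/
theorem hasNormalPComplement_of_linear_separation [Finite G] (P : Sylow p G)
    (h : ∀ x : (P : Subgroup G), x ∉ frattini (P : Subgroup G) →
      ∃ χ : IrrCharacter G, charDegree (χ : G → ℂ) = 1 ∧ (χ : G → ℂ) x ≠ 1) :
    HasNormalPComplement p G := by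
  apply Cfsg.Agent.Lib.helper67.tate_commutator P
  rintro x ⟨hxP, hxG⟩
  by_contra hx
  have hx' : (⟨x, hxP⟩ : (P : Subgroup G)) ∉ frattini (P : Subgroup G) :=
    fun h' => hx ⟨⟨x, hxP⟩, h', rfl⟩
  obtain ⟨χ, hd, hne⟩ := h _ hx'
  have h1 : (χ : G → ℂ) 1 = 1 := by rw [irr_one_eq_charDegree, hd]; simp
  have h2 := Cfsg.Agent.Lib.helper82.linear_commutator (irr_isCharacter χ) h1 x hxG
  rw [h1] at h2
  exact hne h2

/-- **Isaacs–Smith**: if every irreducible character of degree prime to `p` in the principal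
`p`-block is linear, then the group has a normal `p`-complement. -/
theorem hasNormalPComplement_of_principal_pprime_linear (hM : IsPModular p M)
    (h : ∀ χ ∈ principalBlock M G, ¬ p ∣ charDegree (χ : G → ℂ) → charDegree (χ : G → ℂ) = 1) :
    HasNormalPComplement p G := by
  classical
  obtain ⟨P⟩ : Nonempty (Sylow p G) := inferInstance
  apply hasNormalPComplement_of_linear_separation P
  intro x hx
  have hxc : x ∉ commutator (P : Subgroup G) := fun hc =>
    hx (Cfsg.Agent.Lib.helper3.commutator_le_frattini P.isPGroup' hc)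
  obtain ⟨μ, hμ⟩ := exists_hom_ne_one_of_not_mem_commutator hxc
  obtain ⟨χ, -, hd, hχ⟩ := exists_linear_extension hM P Set.univ
    (fun χ hχ _ hpd => h χ hχ hpd) (fun χ _ _ _ => Set.mem_univ χ) μ (by
      intro ν _
      unfold totSum
      rw [Nat.cast_sum, Nat.cast_sum]
      refine Finset.sum_congr rfl (fun χ _ => ?_)
      by_cases hχ : χ ∈ principalBlock M G
      · by_cases hpd : p ∣ charDegree (χ : G → ℂ)
        · rw [if_pos hχ, if_neg (fun hh => hh.2.2 hpd), Nat.cast_mul,
            (ZMod.natCast_eq_zero_iff _ p).mpr hpd, zero_mul, Nat.cast_zero]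
        · rw [if_pos hχ, if_pos ⟨hχ, Set.mem_univ χ, hpd⟩]
      · rw [if_neg hχ, if_neg (fun hh => hχ hh.1)])
  refine ⟨χ, hd, ?_⟩
  rw [hχ x]
  intro h1
  exact hμ (Units.ext h1)

end Tate

section Converse

variable {G : Type u} [Group G] [Fintype G] {p : ℕ} [Fact p.Prime] {M : Ideal AlgInt}

/-- In a group with a normal `p`-complement, the characters of degree prime to `p` in the
principal block are linear. -/
theorem charDegree_eq_one_of_hasNormalPComplement (hM : IsPModular p M)
    (hnc : HasNormalPComplement p G) {χ : IrrCharacter G} (hχ : χ ∈ principalBlock M G)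
    (hpd : ¬ p ∣ charDegree (χ : G → ℂ)) : charDegree (χ : G → ℂ) = 1 := by
  classical
  have hp : p.Prime := Fact.out
  obtain ⟨P, N, hN, hc⟩ := hnc
  haveI := hN
  have hcop : (Nat.card N).Coprime p := by
    have h1 : (P : Subgroup G).index = Nat.card N := hc.index_eq_card
    have h2 := P.not_dvd_index
    rw [h1] at h2
    exact ((Nat.Prime.coprime_iff_not_dvd hp).mpr h2).symm
  have hle : N ≤ pPrimeCore p G := le_sSup ⟨hN, hcop⟩
  have hker : ∀ n ∈ N, (χ : G → ℂ) n = (χ : G → ℂ) 1 := fun n hn =>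
    pPrimeCore_le_ker_of_mem_principalBlock hM hχ n (hle hn)
  obtain ⟨ψ, hψ, hψχ⟩ := Cfsg.Agent.Lib.helper82.isIrrCharacter_deflation N χ.2 hker
  have hdeg : charDegree ψ = charDegree (χ : G → ℂ) := by
    unfold charDegree
    rw [← hψχ 1]
    rfl
  haveI : Fintype (G ⧸ N) := Fintype.ofFinite _
  have hdvd : charDegree ψ ∣ Nat.card (G ⧸ N) := irr_degree_dvd_card (⟨ψ, hψ⟩ : IrrCharacter (G ⧸ N))
  obtain ⟨k, hk⟩ := (P.2).exists_card_eq
  have hidx : Nat.card (G ⧸ N) = p ^ k := by
    rw [← Subgroup.index_eq_card, ← hk]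
    exact hc.symm.index_eq_card
  rw [hidx, hdeg] at hdvd
  obtain ⟨i, -, hi⟩ := (Nat.dvd_prime_pow hp).mp hdvd
  rcases Nat.eq_zero_or_pos i with h0 | h0
  · rw [hi, h0, pow_zero]
  · exact absurd (hi ▸ dvd_pow_self p h0.ne') hpd

omit [Fact p.Prime] in
theorem sInf_principal_eq_zero (hMp : M.IsPrime) :
    sInf ((fun χ : IrrCharacter G => (charDegree (χ : G → ℂ)).factorization p) ''
      principalBlock M G) = 0 := by
  apply Nat.sInf_eq_zero.mpr
  left
  refine ⟨trivChar G, trivChar_mem_principalBlock hMp, ?_⟩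
  have h1 : charDegree (trivChar G : G → ℂ) = 1 := by
    unfold charDegree
    simp
  show (charDegree (trivChar G : G → ℂ)).factorization p = 0
  rw [h1, Nat.factorization_one]
  rfl

/-- All height-zero characters of the principal block have the same degree iff the group has a
normal `p`-complement. -/
theorem principal_height_zero_degree_iff (hM : IsPModular p M) :
    (∃ d : ℕ, ∀ χ : IrrCharacter G, χ ∈ principalBlock M G →
      blockHeight p (principalBlock M G) (χ : G → ℂ) = 0 → charDegree (χ : G → ℂ) = d)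
      ↔ HasNormalPComplement p G := by
  have hp : p.Prime := Fact.out
  have hMp := isPrime_of_isPModular hM
  have hheight : ∀ χ : IrrCharacter G,
      blockHeight p (principalBlock M G) (χ : G → ℂ) = 0 ↔ ¬ p ∣ charDegree (χ : G → ℂ) := by
    intro χ
    unfold blockHeight
    rw [sInf_principal_eq_zero hMp, Nat.sub_zero, Nat.factorization_eq_zero_iff]
    constructor
    · rintro (h | h | h)
      · exact absurd hp h
      · exact h
      · exact absurd h (irr_charDegree_pos χ).ne'
    · intro h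
      exact Or.inr (Or.inl h)
  constructor
  · rintro ⟨d, hd⟩
    have h1 : charDegree (trivChar G : G → ℂ) = 1 := by
      unfold charDegree
      simp
    have hd1 : d = 1 := by
      rw [← hd (trivChar G) (trivChar_mem_principalBlock hMp)
        ((hheight _).mpr (by rw [h1]; exact hp.not_dvd_one)), h1]
    apply hasNormalPComplement_of_principal_pprime_linear hM
    intro χ hχ hpd
    rw [hd χ hχ ((hheight χ).mpr hpd), hd1]
  · intro hnc
    refine ⟨1, fun χ hχ hh => ?_⟩
    exact charDegree_eq_one_of_hasNormalPComplement hM hnc hχ ((hheight χ).mp hh)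

end Converse

end Cfsg.Agent.Lib.helper43
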