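import Mathlib
import Cfsg.Agent.Lib.helper43.IsaacsSmith

/-!
# A Galois refinement of the Isaacs–Smith criterion for `p = 2` (helper43)

Let `k` be such that `g ^ k = g ^ 3` for 2-elements and `g ^ k = g` for elements of odd order.
Then `χ ↦ χ ∘ (· ^ k)` is a permutation of the irreducible characters of 2-power order which
preserves the principal 2-block.  If the characters of odd degree in the principal 2-block fixed
by this permutation are all linear, the group has a normal 2-complement
(`hasNormalPComplement_two_of_fixed_linear`).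
-/

set_option autoImplicit false

namespace Cfsg.Agent.Lib.helper43

open Cfsg
open scoped ComplexConjugate
open Cfsg.Agent.Lib.helper81 Cfsg.Agent.Lib.helper20

universe u

section Orbit

/-- For a permutation of `2`-power order and an invariant function with values in `ZMod 2`, the
total sum equals the sum over the fixed points. -/
theorem sum_eq_sum_fixed_zmod_two {α : Type*} [Fintype α] [DecidableEq α] (N : ℕ) :
    ∀ (σ : Equiv.Perm α), σ ^ (2 ^ N) = 1 → ∀ (c : α → ZMod 2), (∀ x, c (σ x) = c x) →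
      ∑ x, c x = ∑ x ∈ Finset.univ.filter (fun x => σ x = x), c x := by
  induction N with
  | zero =>
    intro σ hσ c _
    rw [pow_zero, pow_one] at hσ
    subst hσ
    simp
  | succ N ih =>
    intro σ hσ c hc
    have hτ : (σ ^ 2) ^ (2 ^ N) = 1 := by
      rw [← pow_mul, ← pow_succ']
      exact hσ
    have hcτ : ∀ x, c ((σ ^ 2) x) = c x := by
      intro x
      rw [pow_two, Equiv.Perm.mul_apply, hc, hc]
    rw [ih (σ ^ 2) hτ c hcτ]
    rw [← Finset.sum_filter_add_sum_filter_not (Finset.univ.filter (fun x => (σ ^ 2) x = x))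
      (fun x => σ x = x)]
    have h1 : (Finset.univ.filter (fun x => (σ ^ 2) x = x)).filter (fun x => σ x = x)
        = Finset.univ.filter (fun x => σ x = x) := by
      ext x
      simp only [Finset.mem_filter, Finset.mem_univ, true_and]
      constructor
      · exact fun h => h.2
      · intro h
        refine ⟨?_, h⟩
        rw [pow_two, Equiv.Perm.mul_apply, h, h]
    rw [h1]
    have h2 : ∑ x ∈ (Finset.univ.filter (fun x => (σ ^ 2) x = x)).filter (fun x => ¬ σ x = x), c x
        = 0 := by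
      refine Finset.sum_involution (fun x _ => σ x) ?_ ?_ ?_ ?_
      · intro a _
        rw [hc]
        exact CharTwo.add_self_eq_zero (c a)
      · intro a ha _
        rw [Finset.mem_filter] at ha
        exact ha.2
      · intro a ha
        rw [Finset.mem_filter, Finset.mem_filter] at ha ⊢
        have h3 : σ (σ a) = a := by
          have := ha.1.2
          rwa [pow_two, Equiv.Perm.mul_apply] at this
        refine ⟨⟨Finset.mem_univ _, ?_⟩, ?_⟩
        · rw [pow_two, Equiv.Perm.mul_apply, h3]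
        · rw [h3]
          exact fun h => ha.2 h.symm
      · intro a ha
        rw [Finset.mem_filter, Finset.mem_filter] at ha
        have := ha.1.2
        rwa [pow_two, Equiv.Perm.mul_apply] at this
    rw [h2, add_zero]

end Orbit

section NumberTheory

/-- `3 ^ (2 ^ i) ≡ 1` modulo `2 ^ i`. -/
theorem three_pow_two_pow_modEq (i : ℕ) : 3 ^ (2 ^ i) ≡ 1 [MOD 2 ^ i] := by
  have key : ∀ i : ℕ, ((2 : ℤ) ^ i) ∣ 3 ^ (2 ^ i) - 1 := by
    intro i
    induction i with
    | zero => simp
    | succ i ih =>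
      have h1 : (3 : ℤ) ^ (2 ^ (i + 1)) - 1 = (3 ^ (2 ^ i) - 1) * (3 ^ (2 ^ i) + 1) := by
        rw [pow_succ, pow_mul]
        ring
      have h2 : (2 : ℤ) ∣ 3 ^ (2 ^ i) + 1 := by
        have hodd : Odd ((3 : ℤ) ^ (2 ^ i)) := Odd.pow (by decide)
        exact (hodd.add_one).two_dvd
      rw [h1, pow_succ]
      exact mul_dvd_mul ih h2
  apply Nat.ModEq.symm
  rw [Nat.modEq_iff_dvd]
  have := key i
  push_cast
  exact this

variable {G : Type u} [Group G] [Finite G]

/-- Decomposition of the order of an element into its 2-part and odd part. -/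
theorem exists_order_decomp (g : G) :
    ∃ j r : ℕ, Odd r ∧ orderOf g = 2 ^ j * r ∧ orderOf (g ^ r) = 2 ^ j ∧
      orderOf (g ^ 2 ^ j) = r := by
  have hn : orderOf g ≠ 0 := (orderOf_pos g).ne'
  obtain ⟨j, r, hr, hjr⟩ := Nat.exists_eq_two_pow_mul_odd hn
  have hr0 : r ≠ 0 := by
    rintro rfl
    exact absurd hr (by decide)
  have h2j : 0 < 2 ^ j := pow_pos (by norm_num) j
  refine ⟨j, r, hr, hjr, ?_, ?_⟩
  · rw [orderOf_pow' g hr0, hjr, Nat.gcd_mul_left_left, Nat.mul_div_cancel _ (Nat.pos_of_ne_zero hr0)]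
  · rw [orderOf_pow' g h2j.ne', hjr, Nat.gcd_mul_right_left, Nat.mul_div_cancel_left _ h2j]

variable (k : ℕ) (hk₁ : ∀ g : G, (∃ j : ℕ, orderOf g = 2 ^ j) → g ^ k = g ^ 3)
  (hk₂ : ∀ g : G, Odd (orderOf g) → g ^ k = g)

include hk₁ hk₂ in
/-- The congruences satisfied by `k` relative to the order of an element. -/
theorem modEq_of_pow_hyp (g : G) {j r : ℕ} (hr : Odd r) (h1 : orderOf (g ^ r) = 2 ^ j)
    (h2 : orderOf (g ^ 2 ^ j) = r) : k ≡ 3 [MOD 2 ^ j] ∧ k ≡ 1 [MOD r] := by
  constructor
  · have := hk₁ (g ^ r) ⟨j, h1⟩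
    rw [pow_eq_pow_iff_modEq, h1] at this
    exact this
  · have := hk₂ (g ^ 2 ^ j) (by rw [h2]; exact hr)
    conv_rhs at this => rw [← pow_one (g ^ 2 ^ j)]
    rw [pow_eq_pow_iff_modEq, h2] at this
    exact this

include hk₁ hk₂ in
theorem coprime_of_pow_hyp : k.Coprime (Nat.card G) := by
  apply Nat.Coprime.symm
  apply Nat.coprime_of_dvd
  intro q hq hqG hqk
  haveI : Fact q.Prime := ⟨hq⟩
  obtain ⟨g, hg⟩ := exists_prime_orderOf_dvd_card' q hqG
  rcases eq_or_ne q 2 with rfl | hq2
  · have := hk₁ g ⟨1, by rw [hg, pow_one]⟩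
    rw [pow_eq_pow_iff_modEq, hg] at this
    have h3 : k % 2 = 1 := by
      have : k % 2 = 3 % 2 := this
      omega
    omega
  · have hodd : Odd (orderOf g) := by rw [hg]; exact hq.odd_of_ne_two hq2
    have := hk₂ g hodd
    conv_rhs at this => rw [← pow_one g]
    rw [pow_eq_pow_iff_modEq, hg] at this
    have h0 : k % q = 0 := Nat.mod_eq_zero_of_dvd hqk
    have h1 : k % q = 1 % q := this
    rw [h0, Nat.mod_eq_of_lt hq.one_lt] at h1
    exact absurd h1 (by norm_num)

include hk₁ hk₂ in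
/-- Iterating `g ↦ g ^ k` a suitable `2`-power number of times gives the identity. -/
theorem pow_pow_two_pow_eq_self (g : G) :
    g ^ (k ^ (2 ^ (Nat.card G).factorization 2)) = g := by
  obtain ⟨j, r, hr, hjr, h1, h2⟩ := exists_order_decomp g
  obtain ⟨e1, e2⟩ := modEq_of_pow_hyp k hk₁ hk₂ g hr h1 h2
  set a := (Nat.card G).factorization 2 with ha
  have hja : j ≤ a := by
    have hdvd : 2 ^ j ∣ Nat.card G := by
      have h3 : 2 ^ j ∣ orderOf g := by rw [hjr]; exact dvd_mul_right _ _
      exact h3.trans (orderOf_dvd_natCard g)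
    exact (Nat.Prime.pow_dvd_iff_le_factorization Nat.prime_two Nat.card_pos.ne').mp hdvd
  have e3 : k ^ (2 ^ a) ≡ 1 [MOD 2 ^ j] := by
    have h3 : k ^ (2 ^ a) ≡ 3 ^ (2 ^ a) [MOD 2 ^ j] := Nat.ModEq.pow _ e1
    have h4 : 3 ^ (2 ^ a) ≡ 1 [MOD 2 ^ j] :=
      Nat.ModEq.of_dvd (pow_dvd_pow 2 hja) (three_pow_two_pow_modEq a)
    exact h3.trans h4
  have e4 : k ^ (2 ^ a) ≡ 1 [MOD r] := by
    have h3 : k ^ (2 ^ a) ≡ 1 ^ (2 ^ a) [MOD r] := Nat.ModEq.pow _ e2
    rwa [one_pow] at h3
  have hcop : Nat.Coprime (2 ^ j) r := Nat.Coprime.pow_left j (Nat.coprime_two_left.mpr hr)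
  have e5 : k ^ (2 ^ a) ≡ 1 [MOD 2 ^ j * r] :=
    (Nat.modEq_and_modEq_iff_modEq_mul hcop).mp ⟨e3, e4⟩
  rw [← hjr] at e5
  conv_rhs => rw [← pow_one g]
  exact pow_eq_pow_iff_modEq.mpr e5

end NumberTheory

section PowPerm

variable {G : Type u} [Group G] [Fintype G]

/-- The character `g ↦ χ (g ^ k)` for `k` prime to the group order. -/
noncomputable def powIrr (k : ℕ) (hk : k.Coprime (Nat.card G)) (χ : IrrCharacter G) :
    IrrCharacter G :=
  ⟨fun g => (χ : G → ℂ) (g ^ k), Cfsg.Agent.Lib.helper79.isIrrCharacter_pow_coprime k hk χ.2⟩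

theorem powIrr_apply (k : ℕ) (hk : k.Coprime (Nat.card G)) (χ : IrrCharacter G) (g : G) :
    (powIrr k hk χ : G → ℂ) g = (χ : G → ℂ) (g ^ k) := rfl

omit [Fintype G] in
theorem exists_pow_eq_of_coprime [Finite G] (k : ℕ) (hk : k.Coprime (Nat.card G)) (h : G) :
    ∃ g : G, g ^ k = h :=
  (powCoprime hk.symm).surjective h

theorem powIrr_injective (k : ℕ) (hk : k.Coprime (Nat.card G)) :
    Function.Injective (powIrr k hk) := by
  intro χ ψ h
  apply Subtype.ext
  funext x
  obtain ⟨g, rfl⟩ := exists_pow_eq_of_coprime k hk x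
  exact congrFun (congrArg Subtype.val h) g

/-- `χ ↦ χ ∘ (· ^ k)` as a permutation of the irreducible characters. -/
noncomputable def powPerm (k : ℕ) (hk : k.Coprime (Nat.card G)) : Equiv.Perm (IrrCharacter G) :=
  Equiv.ofBijective (powIrr k hk) (Finite.injective_iff_bijective.mp (powIrr_injective k hk))

theorem powPerm_apply (k : ℕ) (hk : k.Coprime (Nat.card G)) (χ : IrrCharacter G) :
    powPerm k hk χ = powIrr k hk χ := rfl

theorem powPerm_pow_apply (k : ℕ) (hk : k.Coprime (Nat.card G)) (t : ℕ) :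
    ∀ (χ : IrrCharacter G) (g : G),
      (((powPerm k hk) ^ t) χ : G → ℂ) g = (χ : G → ℂ) (g ^ (k ^ t)) := by
  induction t with
  | zero =>
    intro χ g
    rw [pow_zero, pow_zero, pow_one]
    rfl
  | succ t ih =>
    intro χ g
    rw [pow_succ, Equiv.Perm.mul_apply, ih, powPerm_apply, powIrr_apply, ← pow_mul, ← pow_succ]

omit [Fintype G] in
theorem centralizer_pow_coprime [Finite G] (k : ℕ) (hk : k.Coprime (Nat.card G)) (g : G) :
    Subgroup.centralizer ({g ^ k} : Set G) = Subgroup.centralizer ({g} : Set G) := by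
  have hk' : k.Coprime (orderOf g) := Nat.Coprime.coprime_dvd_right (orderOf_dvd_natCard g) hk
  obtain ⟨m, hm⟩ := exists_pow_eq_self_of_coprime hk'
  ext y
  rw [Cfsg.Agent.Lib.helper80.mem_centralizer_singleton,
    Cfsg.Agent.Lib.helper80.mem_centralizer_singleton]
  constructor
  · intro h
    have h1 : Commute (g ^ k) y := h
    have h2 : Commute ((g ^ k) ^ m) y := h1.pow_left m
    rw [hm] at h2
    exact h2
  · intro h
    have h1 : Commute g y := h
    exact h1.pow_left k

theorem centralChar_powIrr (k : ℕ) (hk : k.Coprime (Nat.card G)) (χ : IrrCharacter G) (g : G) :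
    centralChar (powIrr k hk χ : G → ℂ) g = centralChar (χ : G → ℂ) (g ^ k) := by
  unfold centralChar
  rw [centralizer_pow_coprime k hk g, powIrr_apply, powIrr_apply, one_pow]

theorem powIrr_mem_principalBlock_iff {M : Ideal AlgInt} (k : ℕ) (hk : k.Coprime (Nat.card G))
    (χ : IrrCharacter G) : powIrr k hk χ ∈ principalBlock M G ↔ χ ∈ principalBlock M G := by
  constructor
  · intro h
    show SameBlock M (fun _ : G => (1 : ℂ)) (χ : G → ℂ)
    intro x
    obtain ⟨g, rfl⟩ := exists_pow_eq_of_coprime k hk x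
    have h1 : MemLocalIdeal M (centralChar (fun _ : G => (1 : ℂ)) g
        - centralChar (powIrr k hk χ : G → ℂ) g) := h g
    rw [centralChar_powIrr, centralChar_one_fun] at h1
    rw [centralChar_one_fun, centralizer_pow_coprime k hk g]
    exact h1
  · intro h
    show SameBlock M (fun _ : G => (1 : ℂ)) (powIrr k hk χ : G → ℂ)
    intro g
    have h1 : MemLocalIdeal M (centralChar (fun _ : G => (1 : ℂ)) (g ^ k)
        - centralChar (χ : G → ℂ) (g ^ k)) := h (g ^ k)
    rw [centralChar_one_fun, centralizer_pow_coprime k hk g] at h1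
    rw [centralChar_powIrr, centralChar_one_fun]
    exact h1

theorem charDegree_powIrr (k : ℕ) (hk : k.Coprime (Nat.card G)) (χ : IrrCharacter G) :
    charDegree (powIrr k hk χ : G → ℂ) = charDegree (χ : G → ℂ) := by
  unfold charDegree
  rw [powIrr_apply, one_pow]

/-- The multiplicity of a linear character `μ` of a 2-subgroup `Q` with `μ ^ 2 = 1` is
invariant under `χ ↦ χ ∘ (· ^ k)` when `k` cubes the 2-elements. -/
theorem resMult_powIrr (k : ℕ) (hk : k.Coprime (Nat.card G))
    (hk₁ : ∀ g : G, (∃ j : ℕ, orderOf g = 2 ^ j) → g ^ k = g ^ 3) (Q : Subgroup G)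
    (hQ : IsPGroup 2 Q) (μ : Q →* ℂˣ) (hμ : ∀ u : Q, μ u ^ 2 = 1) (χ : IrrCharacter G) :
    resMult Q (powIrr k hk χ : G → ℂ) μ = resMult Q (χ : G → ℂ) μ := by
  letI : Fintype Q := Fintype.ofFinite Q
  unfold resMult
  rw [resInner_eq, resInner_eq]
  have hkQ : (Nat.card Q).Coprime k :=
    (Nat.Coprime.coprime_dvd_right (Subgroup.card_subgroup_dvd_card Q) hk).symm
  have hsum : ∑ u : Q, (powIrr k hk χ : G → ℂ) u * conj ((μ u : ℂˣ) : ℂ)
      = ∑ u : Q, (χ : G → ℂ) u * conj ((μ u : ℂˣ) : ℂ) := by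
    rw [← Equiv.sum_comp (powCoprime hkQ)
      (fun u : Q => (χ : G → ℂ) u * conj ((μ u : ℂˣ) : ℂ))]
    refine Finset.sum_congr rfl (fun u _ => ?_)
    have h1 : ((powCoprime hkQ u : Q) : G) = (u : G) ^ k := rfl
    have h2 : μ (powCoprime hkQ u) = μ u := by
      have h3 : (powCoprime hkQ u : Q) = u ^ 3 := by
        apply Subtype.ext
        rw [h1, Subgroup.coe_pow]
        apply hk₁
        obtain ⟨j, hj⟩ := hQ u
        have hj' : ((u : G)) ^ 2 ^ j = 1 := by
          have := congrArg Subtype.val hj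
          simpa using this
        obtain ⟨i, -, hi⟩ := (Nat.dvd_prime_pow Nat.prime_two).mp (orderOf_dvd_of_pow_eq_one hj')
        exact ⟨i, hi⟩
      rw [h3, map_pow, pow_succ, hμ u, one_mul]
    rw [powIrr_apply, h1, h2]
  rw [hsum]

end PowPerm

section Main

variable {G : Type u} [Group G] [Fintype G] {M : Ideal AlgInt}

/-- A linear character trivial on a Sylow `p`-subgroup is trivial on every `p`-element. -/
theorem hom_eq_one_of_pElement {p : ℕ} [Fact p.Prime] (P : Sylow p G) (f : G →* ℂˣ)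
    (hf : ∀ u ∈ (P : Subgroup G), f u = 1) (y : G) (hy : ∃ j : ℕ, orderOf y = p ^ j) :
    f y = 1 := by
  obtain ⟨j, hj⟩ := hy
  have hpg : IsPGroup p (Subgroup.zpowers y) :=
    IsPGroup.of_card (n := j) (by rw [Nat.card_zpowers, hj])
  obtain ⟨c, hc⟩ := Cfsg.Agent.Lib.helper80.exists_conj_mem_sylow P _ hpg
  have h1 := hf _ (hc y (Subgroup.mem_zpowers _))
  rwa [map_mul, map_mul, map_inv, mul_comm, ← mul_assoc, mul_inv_cancel, one_mul] at h1

/-- If the characters of odd degree in the principal 2-block that are fixed by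
`χ ↦ χ ∘ (· ^ k)` are all linear, then the group has a normal 2-complement. -/
theorem hasNormalPComplement_two_of_fixed_linear (hM : IsPModular 2 M) (k : ℕ)
    (hk₁ : ∀ g : G, (∃ j : ℕ, orderOf g = 2 ^ j) → g ^ k = g ^ 3)
    (hk₂ : ∀ g : G, Odd (orderOf g) → g ^ k = g)
    (h : ∀ χ ∈ principalBlock M G, Odd (charDegree (χ : G → ℂ)) →
      (∀ g : G, (χ : G → ℂ) (g ^ k) = (χ : G → ℂ) g) → charDegree (χ : G → ℂ) = 1) :
    HasNormalPComplement 2 G := by
  classical
  haveI : Fact (Nat.Prime 2) := ⟨Nat.prime_two⟩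
  have hkc : k.Coprime (Nat.card G) := coprime_of_pow_hyp k hk₁ hk₂
  obtain ⟨P⟩ : Nonempty (Sylow 2 G) := inferInstance
  apply hasNormalPComplement_of_linear_separation P
  intro x hx
  rw [Cfsg.Agent.Lib.helper3.mem_frattini_iff] at hx
  push Not at hx
  obtain ⟨Mx, hMx, hxM⟩ := hx
  obtain ⟨-, hidx⟩ := Cfsg.Agent.Lib.helper3.coatom_normal_index P.isPGroup' hMx
  -- the linear character of order two with kernel `Mx`
  let μ : (P : Subgroup G) →* ℂˣ :=
    { toFun := fun u => if u ∈ Mx then 1 else -1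
      map_one' := by rw [if_pos (one_mem Mx)]
      map_mul' := by
        intro a b
        have hab := Subgroup.mul_mem_iff_of_index_two hidx (a := a) (b := b)
        by_cases ha : a ∈ Mx <;> by_cases hb : b ∈ Mx
        · rw [if_pos ha, if_pos hb, if_pos (hab.mpr ⟨fun _ => hb, fun _ => ha⟩), one_mul]
        · rw [if_pos ha, if_neg hb, if_neg (fun hh => hb (hab.mp hh |>.mp ha)), one_mul]
        · rw [if_neg ha, if_pos hb, if_neg (fun hh => ha (hab.mp hh |>.mpr hb)), mul_one]
        · rw [if_neg ha, if_neg hb, if_pos (hab.mpr ⟨fun hh => absurd hh ha, fun hh => absurd hh hb⟩)]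
          simp }
  have hμapply : ∀ u : (P : Subgroup G), μ u = if u ∈ Mx then 1 else -1 := fun u => rfl
  have hμsq : ∀ ν : (P : Subgroup G) →* ℂˣ, ν = μ ∨ ν = 1 → ∀ u : (P : Subgroup G), ν u ^ 2 = 1 := by
    rintro ν (rfl | rfl) u
    · rw [hμapply]
      split_ifs <;> simp
    · simp
  have hμx : μ x ≠ 1 := by
    rw [hμapply, if_neg hxM]
    intro h1
    have h2 := congrArg (fun z : ℂˣ => (z : ℂ)) h1
    norm_num at h2
  set F : Set (IrrCharacter G) := {χ | ∀ g : G, (χ : G → ℂ) (g ^ k) = (χ : G → ℂ) g} with hF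
  have hFfix : ∀ χ : IrrCharacter G, powPerm k hkc χ = χ ↔ χ ∈ F := by
    intro χ
    rw [powPerm_apply]
    constructor
    · intro hh g
      have := congrFun (congrArg Subtype.val hh) g
      exact this
    · intro hh
      apply Subtype.ext
      funext g
      exact hh g
  have hodd : ∀ n : ℕ, ¬ 2 ∣ n ↔ Odd n := fun n => by
    rw [← Nat.not_even_iff_odd, even_iff_two_dvd]
  obtain ⟨χ, -, hd, hχ⟩ := exists_linear_extension hM P F
    (fun χ hχ hχF hpd => h χ hχ ((hodd _).mp hpd) hχF)
    (by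
      intro χ _ hd hχP
      have h1 : (χ : G → ℂ) 1 = 1 := by rw [irr_one_eq_charDegree, hd]; simp
      obtain ⟨f, hf⟩ := Cfsg.Agent.Lib.helper82.exists_hom_of_linear (irr_isCharacter χ) h1
      have hfP : ∀ u ∈ (P : Subgroup G), f u = 1 := by
        intro u hu
        apply Units.ext
        rw [← hf, hχP ⟨u, hu⟩]
        rfl
      intro g
      obtain ⟨j, r, hr, hjr, e1, e2⟩ := exists_order_decomp g
      obtain ⟨-, e4⟩ := modEq_of_pow_hyp k hk₁ hk₂ g hr e1 e2
      have h2 : f g ^ r = 1 := by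
        rw [← map_pow]
        exact hom_eq_one_of_pElement P f hfP (g ^ r) ⟨j, e1⟩
      have h3 : k ≡ 1 [MOD orderOf (f g)] := Nat.ModEq.of_dvd (orderOf_dvd_of_pow_eq_one h2) e4
      have h4 : f g ^ k = f g ^ 1 := pow_eq_pow_iff_modEq.mpr h3
      rw [hf, hf, map_pow, h4, pow_one])
    μ
    (by
      intro ν hν
      have hνsq := hμsq ν hν
      set c : IrrCharacter G → ZMod 2 := fun χ =>
        ((if χ ∈ principalBlock M G
          then charDegree (χ : G → ℂ) * resMult (P : Subgroup G) (χ : G → ℂ) ν else 0 : ℕ) : ZMod 2)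
        with hc
      have hcinv : ∀ χ, c (powPerm k hkc χ) = c χ := by
        intro χ
        show c (powIrr k hkc χ) = c χ
        simp only [hc]
        by_cases hχ : χ ∈ principalBlock M G
        · rw [if_pos hχ, if_pos ((powIrr_mem_principalBlock_iff k hkc χ).mpr hχ),
            charDegree_powIrr, resMult_powIrr k hkc hk₁ (P : Subgroup G) P.isPGroup' ν hνsq]
        · rw [if_neg hχ, if_neg (fun hh => hχ ((powIrr_mem_principalBlock_iff k hkc χ).mp hh))]
      have hσ : powPerm k hkc ^ (2 ^ (Nat.card G).factorization 2) = 1 := by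
        apply Equiv.ext
        intro χ
        apply Subtype.ext
        funext g
        rw [powPerm_pow_apply, pow_pow_two_pow_eq_self k hk₁ hk₂ g]
        rfl
      have horb := sum_eq_sum_fixed_zmod_two _ (powPerm k hkc) hσ c hcinv
      unfold totSum
      rw [Nat.cast_sum, Nat.cast_sum]
      refine Eq.trans horb ?_
      rw [Finset.sum_filter]
      refine Finset.sum_congr rfl (fun χ _ => ?_)
      by_cases hfix : powPerm k hkc χ = χ
      · have hχF : χ ∈ F := (hFfix χ).mp hfix
        rw [if_pos hfix, hc]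
        by_cases hχ : χ ∈ principalBlock M G
        · by_cases hpd : 2 ∣ charDegree (χ : G → ℂ)
          · simp only [if_pos hχ]
            rw [if_neg (fun hh => hh.2.2 hpd), Nat.cast_mul,
              (ZMod.natCast_eq_zero_iff _ 2).mpr hpd, zero_mul, Nat.cast_zero]
          · simp only [if_pos hχ]
            rw [if_pos ⟨hχ, hχF, hpd⟩]
        · simp only [if_neg hχ]
          rw [if_neg (fun hh => hχ hh.1)]
      · rw [if_neg hfix, if_neg (fun hh => hfix ((hFfix χ).mpr hh.2.1)), Nat.cast_zero])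
  refine ⟨χ, hd, ?_⟩
  rw [hχ x]
  intro h1
  exact hμx (Units.ext h1)

/-- A finite group has a normal 2-complement iff every character of odd degree in the principal
2-block fixed by `χ ↦ χ ∘ (· ^ k)` is linear. -/
theorem hasNormalPComplement_two_iff_fixed_linear (hM : IsPModular 2 M) (k : ℕ)
    (hk₁ : ∀ g : G, (∃ j : ℕ, orderOf g = 2 ^ j) → g ^ k = g ^ 3)
    (hk₂ : ∀ g : G, Odd (orderOf g) → g ^ k = g) :
    HasNormalPComplement 2 G ↔ ∀ χ ∈ principalBlock M G, Odd (charDegree (χ : G → ℂ)) →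
      (∀ g : G, (χ : G → ℂ) (g ^ k) = (χ : G → ℂ) g) → charDegree (χ : G → ℂ) = 1 := by
  haveI : Fact (Nat.Prime 2) := ⟨Nat.prime_two⟩
  constructor
  · intro hnc χ hχ hodd _
    apply charDegree_eq_one_of_hasNormalPComplement hM hnc hχ
    rw [← even_iff_two_dvd, Nat.not_even_iff_odd]
    exact hodd
  · exact hasNormalPComplement_two_of_fixed_linear hM k hk₁ hk₂

end Main

end Cfsg.Agent.Lib.helper43
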