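import Mathlib

set_option autoImplicit false

namespace Cfsg.Agent.Lib.helper43.Ito

open Finset

theorem h43f3_pos (t : ℚ) (ht : 0 ≤ t) :
    0 < (t + 1) ^ 2 * (t + 2) ^ 2 * (2 * t + 3) ^ 2 - (t + 2) ^ 5 + (t + 1) ^ 5 := by
  have h : (t + 1) ^ 2 * (t + 2) ^ 2 * (2 * t + 3) ^ 2 - (t + 2) ^ 5 + (t + 1) ^ 5
      = 4 * t ^ 6 + 36 * t ^ 5 + 128 * t ^ 4 + 228 * t ^ 3 + 207 * t ^ 2 + 81 * t + 5 := by
    ring
  rw [h]
  positivity

/-- PIECE F3 (the cubic sum is nonzero). -/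
theorem ito_cube_ne {α : Type*} [Fintype α] [DecidableEq α] (s p : ℕ) (hs : 0 < s)
    (hp : p = 2 * s ^ 2 + 2 * s + 1) (hα : Fintype.card α = 2 * p) (E : α → α → ℚ)
    (hsym : ∀ a b, E a b = E b a)
    (hd : ∀ a, E a a = (s * (s + 1) : ℚ) / p)
    (hval : ∀ a b, a ≠ b → E a b = -((s : ℚ) + 1) ^ 2 / (p * (2 * s + 1)) ∨
      E a b = (s : ℚ) ^ 2 / (p * (2 * s + 1)))
    (hcnt : ∀ a, (univ.filter (fun b => E a b = -((s : ℚ) + 1) ^ 2 / (p * (2 * s + 1)))).card =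
      s * (2 * s + 1)) (a₀ : α) :
    ∑ w, E w a₀ ^ 3 ≠ 0 := by
  classical
  have hpq : (p : ℚ) = 2 * (s : ℚ) ^ 2 + 2 * s + 1 := by
    rw [hp]; push_cast; ring
  have hsq : (0 : ℚ) < s := by exact_mod_cast hs
  have hppos : (0 : ℚ) < p := by rw [hpq]; positivity
  have h2s : (0 : ℚ) < 2 * s + 1 := by positivity
  set e1 : ℚ := -((s : ℚ) + 1) ^ 2 / (p * (2 * s + 1)) with he1
  set e2 : ℚ := (s : ℚ) ^ 2 / (p * (2 * s + 1)) with he2
  set e0 : ℚ := (s * (s + 1) : ℚ) / p with he0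
  have he1neg : e1 < 0 := by
    rw [he1]
    apply div_neg_of_neg_of_pos
    · have : (0 : ℚ) < ((s : ℚ) + 1) ^ 2 := by positivity
      linarith
    · positivity
  have he0pos : 0 < e0 := by
    rw [he0]; positivity
  set A : Finset α := univ.filter (fun b => E a₀ b = e1) with hA
  have hA0 : a₀ ∉ A := by
    intro h
    have := (Finset.mem_filter.mp h).2
    rw [hd a₀] at this
    linarith
  -- split the sum
  have hsumsym : ∑ w, E w a₀ ^ 3 = ∑ w, E a₀ w ^ 3 := by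
    apply Finset.sum_congr rfl
    intro w _
    rw [hsym]
  set B : Finset α := (univ.filter (fun b => ¬ E a₀ b = e1)).erase a₀ with hB
  have hBcard : B.card = 2 * p - 1 - s * (2 * s + 1) := by
    have h1 : A.card + (univ.filter (fun b => ¬ E a₀ b = e1)).card = (univ : Finset α).card :=
      Finset.card_filter_add_card_filter_not (s := (univ : Finset α)) (fun b => E a₀ b = e1)
    rw [Finset.card_univ, hα, hcnt a₀] at h1
    have h2 : a₀ ∈ univ.filter (fun b => ¬ E a₀ b = e1) := by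
      rw [Finset.mem_filter]
      refine ⟨Finset.mem_univ _, ?_⟩
      intro h
      exact hA0 (Finset.mem_filter.mpr ⟨Finset.mem_univ _, h⟩)
    rw [hB, Finset.card_erase_of_mem h2]
    omega
  have hBcard' : (B.card : ℚ) = (s + 1) * (2 * s + 1) := by
    rw [hBcard]
    have : 2 * p - 1 - s * (2 * s + 1) = (s + 1) * (2 * s + 1) := by
      rw [hp]
      have e : 2 * (2 * s ^ 2 + 2 * s + 1) = (s + 1) * (2 * s + 1) + s * (2 * s + 1) + 1 := by
        ring
      omega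
    rw [this]
    push_cast
    ring
  have hsum : ∑ w, E a₀ w ^ 3 = (s * (2 * s + 1) : ℚ) * e1 ^ 3 + e0 ^ 3
      + ((s + 1) * (2 * s + 1) : ℚ) * e2 ^ 3 := by
    rw [← Finset.sum_filter_add_sum_filter_not univ (fun b => E a₀ b = e1)]
    have hfirst : ∑ w ∈ univ.filter (fun b => E a₀ b = e1), E a₀ w ^ 3
        = (s * (2 * s + 1) : ℚ) * e1 ^ 3 := by
      rw [Finset.sum_congr rfl (g := fun _ => e1 ^ 3)]
      · rw [Finset.sum_const, nsmul_eq_mul, hcnt a₀]
        push_cast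
        ring
      · intro w hw
        rw [(Finset.mem_filter.mp hw).2]
    have hsecond : ∑ w ∈ univ.filter (fun b => ¬ E a₀ b = e1), E a₀ w ^ 3
        = e0 ^ 3 + ((s + 1) * (2 * s + 1) : ℚ) * e2 ^ 3 := by
      have h2 : a₀ ∈ univ.filter (fun b => ¬ E a₀ b = e1) := by
        rw [Finset.mem_filter]
        refine ⟨Finset.mem_univ _, ?_⟩
        intro h
        exact hA0 (Finset.mem_filter.mpr ⟨Finset.mem_univ _, h⟩)
      rw [← Finset.add_sum_erase _ _ h2, hd a₀]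
      congr 1
      rw [Finset.sum_congr rfl (g := fun _ => e2 ^ 3)]
      · rw [Finset.sum_const, nsmul_eq_mul, hBcard']
      · intro w hw
        have hw1 := Finset.mem_erase.mp hw
        have hw2 := (Finset.mem_filter.mp hw1.2).2
        rcases hval a₀ w (fun h => hw1.1 h.symm) with h | h
        · exact absurd h hw2
        · rw [h]
    rw [hfirst, hsecond]
    ring
  rw [hsumsym, hsum]
  obtain ⟨t, rfl⟩ : ∃ t, s = t + 1 := ⟨s - 1, by omega⟩
  have htq : (0 : ℚ) ≤ t := by positivity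
  have key := h43f3_pos (t : ℚ) htq
  have hform : ((t + 1 : ℕ) * (2 * (t + 1 : ℕ) + 1) : ℚ) * e1 ^ 3 + e0 ^ 3
      + (((t + 1 : ℕ) + 1) * (2 * (t + 1 : ℕ) + 1) : ℚ) * e2 ^ 3
      = ((t : ℚ) + 1) * (t + 2) * (((t : ℚ) + 1) ^ 2 * (t + 2) ^ 2 * (2 * t + 3) ^ 2 - (t + 2) ^ 5
          + (t + 1) ^ 5) / ((p : ℚ) ^ 3 * (2 * t + 3) ^ 2) := by
    rw [he1, he2, he0]
    have hp0 : (p : ℚ) ≠ 0 := ne_of_gt hppos
    have h30 : (2 * (t : ℚ) + 3) ≠ 0 := by positivity
    have h31 : (2 * (((t + 1 : ℕ)) : ℚ) + 1) ≠ 0 := by positivity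
    push_cast
    field_simp
    ring
  rw [hform]
  apply ne_of_gt
  apply div_pos
  · positivity
  · positivity

end Cfsg.Agent.Lib.helper43.Ito
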