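import Mathlib

set_option autoImplicit false

namespace Cfsg.Agent.Lib.helper43.Ito

open Finset

section action
variable {α : Type*} [Fintype α] [DecidableEq α] {G : Type*} [Group G] [Fintype G] [MulAction G α]

omit [DecidableEq α] in
theorem h43m3_triple (f g h : α → ℚ) :
    ∑ z : α × α × α, f z.1 * g z.2.1 * h z.2.2 = (∑ a, f a) * (∑ b, g b) * (∑ c, h c) := by
  simp only [Fintype.sum_prod_type]
  rw [Finset.sum_mul_sum, Finset.sum_mul]
  apply Finset.sum_congr rfl
  intro a _
  rw [Finset.sum_mul]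
  apply Finset.sum_congr rfl
  intro b _
  rw [Finset.mul_sum]

/-- PIECE M3 (third moment), from PIECE L given as the hypothesis `hL`. -/
theorem ito_sum_cube
    (hL : ∀ (E' : α × α × α → α × α × α → ℚ),
      (∀ x y, E' x y = E' y x) →
      (∀ (g : G) (x y : α × α × α), E' (g • x) (g • y) = E' x y) →
      (∀ x y, ∑ z, E' x z * E' z y = E' x y) →
      ∀ F : α × α × α → ℚ, (∀ (g : G) (x : α × α × α), F (g • x) = F x) →
      (∀ x, ∑ y, E' x y * F y = F x) → F ≠ 0 →
      (Fintype.card G : ℚ) ≤ ∑ g : G, ∑ x, E' x (g • x))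
    (E : α → α → ℚ)
    (hsym : ∀ a b, E a b = E b a)
    (hinv : ∀ (g : G) (a b : α), E (g • a) (g • b) = E a b)
    (hidem : ∀ a b, ∑ c, E a c * E c b = E a b)
    (a₀ : α) (hF : ∑ w, E w a₀ ^ 3 ≠ 0) :
    (Fintype.card G : ℚ) ≤ ∑ g : G, (∑ a, E a (g • a)) ^ 3 := by
  classical
  set E' : α × α × α → α × α × α → ℚ :=
    fun x y => E x.1 y.1 * E x.2.1 y.2.1 * E x.2.2 y.2.2 with hE'
  set F : α × α × α → ℚ := fun x => ∑ w, E w x.1 * E w x.2.1 * E w x.2.2 with hFdef
  have h1 : ∀ x y, E' x y = E' y x := by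
    intro x y
    simp only [hE']
    rw [hsym x.1, hsym x.2.1, hsym x.2.2]
  have h2 : ∀ (g : G) (x y : α × α × α), E' (g • x) (g • y) = E' x y := by
    intro g x y
    simp only [hE', Prod.smul_fst, Prod.smul_snd, hinv]
  have h3 : ∀ x y, ∑ z, E' x z * E' z y = E' x y := by
    intro x y
    simp only [hE']
    have : ∀ z : α × α × α, E x.1 z.1 * E x.2.1 z.2.1 * E x.2.2 z.2.2
        * (E z.1 y.1 * E z.2.1 y.2.1 * E z.2.2 y.2.2)
        = (E x.1 z.1 * E z.1 y.1) * (E x.2.1 z.2.1 * E z.2.1 y.2.1)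
          * (E x.2.2 z.2.2 * E z.2.2 y.2.2) := by
      intro z; ring
    rw [Finset.sum_congr rfl (fun z _ => this z)]
    rw [h43m3_triple (fun a => E x.1 a * E a y.1) (fun b => E x.2.1 b * E b y.2.1)
      (fun c => E x.2.2 c * E c y.2.2), hidem, hidem, hidem]
  have h4 : ∀ (g : G) (x : α × α × α), F (g • x) = F x := by
    intro g x
    simp only [hFdef, Prod.smul_fst, Prod.smul_snd]
    rw [← Equiv.sum_comp (MulAction.toPerm g : Equiv.Perm α)]
    apply Finset.sum_congr rfl
    intro w _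
    simp only [MulAction.toPerm_apply, hinv]
  have h5 : ∀ x, ∑ y, E' x y * F y = F x := by
    intro x
    simp only [hE', hFdef]
    have : ∀ y : α × α × α, E x.1 y.1 * E x.2.1 y.2.1 * E x.2.2 y.2.2
        * ∑ w, E w y.1 * E w y.2.1 * E w y.2.2
        = ∑ w, (E x.1 y.1 * E y.1 w) * (E x.2.1 y.2.1 * E y.2.1 w)
          * (E x.2.2 y.2.2 * E y.2.2 w) := by
      intro y
      rw [Finset.mul_sum]
      apply Finset.sum_congr rfl
      intro w _
      rw [hsym w y.1, hsym w y.2.1, hsym w y.2.2]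
      ring
    rw [Finset.sum_congr rfl (fun y _ => this y), Finset.sum_comm]
    apply Finset.sum_congr rfl
    intro w _
    rw [h43m3_triple (fun a => E x.1 a * E a w) (fun b => E x.2.1 b * E b w)
      (fun c => E x.2.2 c * E c w), hidem, hidem, hidem, hsym w x.1, hsym w x.2.1, hsym w x.2.2]
  have h6 : F ≠ 0 := by
    intro h
    apply hF
    have := congrFun h (a₀, a₀, a₀)
    simp only [hFdef, Pi.zero_apply] at this
    rw [← this]
    apply Finset.sum_congr rfl
    intro w _
    ring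
  have key := hL E' h1 h2 h3 F h4 h5 h6
  refine le_trans key (le_of_eq ?_)
  apply Finset.sum_congr rfl
  intro g _
  simp only [hE', Prod.smul_fst, Prod.smul_snd]
  rw [h43m3_triple (fun a => E a (g • a)) (fun a => E a (g • a)) (fun a => E a (g • a))]
  ring

end action

end Cfsg.Agent.Lib.helper43.Ito
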