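import Mathlib

set_option autoImplicit false

namespace Cfsg.Agent.Lib.helper43.Ito

open Finset

section action
variable {α : Type*} [Fintype α] [DecidableEq α] {G : Type*} [Group G] [Fintype G] [MulAction G α]

/-- the set where `a ↦ E a (x • a)` takes the value `e1`, as a sub-action of `zpowers x`. -/
def h43peSub (E : α → α → ℚ)
    (hinv : ∀ (g : G) (a b : α), E (g • a) (g • b) = E a b) (e1 : ℚ) (x : G) :
    SubMulAction (Subgroup.zpowers x) α where
  carrier := {a | E a (x • a) = e1}
  smul_mem' := by
    rintro ⟨g, hg⟩ a ha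
    simp only [Set.mem_setOf_eq] at ha ⊢
    obtain ⟨k, rfl⟩ := Subgroup.mem_zpowers_iff.mp hg
    have hc : x * x ^ k = x ^ k * x := ((Commute.refl x).zpow_right k).eq
    show E (x ^ k • a) (x • x ^ k • a) = e1
    rw [← mul_smul, hc, mul_smul, hinv]
    exact ha

theorem h43pe_dvd {p : ℕ} [Fact p.Prime] (E : α → α → ℚ)
    (hinv : ∀ (g : G) (a b : α), E (g • a) (g • b) = E a b) (e1 : ℚ)
    (x : G) (hx : orderOf x = p) (hfpf : ∀ a : α, x • a ≠ a) :
    p ∣ (univ.filter (fun a => E a (x • a) = e1)).card := by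
  classical
  have hP : IsPGroup p (Subgroup.zpowers x) := by
    apply IsPGroup.of_card (n := 1)
    rw [Nat.card_zpowers, hx, pow_one]
  have h1 := hP.card_modEq_card_fixedPoints (h43peSub E hinv e1 x)
  have h2 : Nat.card (MulAction.fixedPoints (Subgroup.zpowers x) (h43peSub E hinv e1 x)) = 0 := by
    rw [Nat.card_eq_zero]
    left
    constructor
    rintro ⟨⟨a, ha⟩, hfix⟩
    have := hfix ⟨x, Subgroup.mem_zpowers x⟩
    apply hfpf a
    have h3 := congrArg Subtype.val this
    exact h3
  have h3 : Nat.card (h43peSub E hinv e1 x) = (univ.filter (fun a => E a (x • a) = e1)).card := by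
    rw [← Nat.card_eq_finsetCard]
    apply Nat.card_congr
    refine ⟨fun a => ⟨a.1, Finset.mem_filter.mpr ⟨Finset.mem_univ _, a.2⟩⟩,
      fun a => ⟨a.1, (Finset.mem_filter.mp a.2).2⟩, ?_, ?_⟩
    · intro a; rfl
    · intro a; rfl
  rw [h2, h3] at h1
  exact (Nat.modEq_zero_iff_dvd).mp h1

/-- PIECE PE (the value of `Y` at a fixed-point-free element of order `p`). -/
theorem ito_Y_pelt {p : ℕ} [Fact p.Prime] (hα : Fintype.card α = 2 * p) (E : α → α → ℚ)
    (hinv : ∀ (g : G) (a b : α), E (g • a) (g • b) = E a b)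
    (e1 e2 : ℚ) (hval : ∀ a b, a ≠ b → E a b = e1 ∨ E a b = e2)
    (x : G) (hx : orderOf x = p) (hfpf : ∀ a : α, x • a ≠ a) :
    ∑ a, E a (x • a) = 2 * p * e1 ∨ ∑ a, E a (x • a) = p * (e1 + e2) ∨
      ∑ a, E a (x • a) = 2 * p * e2 := by
  classical
  have hp : 0 < p := (Fact.out : p.Prime).pos
  have hdvd := h43pe_dvd E hinv e1 x hx hfpf
  set A : Finset α := univ.filter (fun a => E a (x • a) = e1) with hA
  have hcompl : (univ.filter (fun a => ¬ E a (x • a) = e1)).card = 2 * p - A.card := by
    have : A.card + (univ.filter (fun a => ¬ E a (x • a) = e1)).card = (univ : Finset α).card :=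
      Finset.card_filter_add_card_filter_not (s := (univ : Finset α))
      (fun a => E a (x • a) = e1)
    rw [Finset.card_univ, hα] at this
    omega
  have hle : A.card ≤ 2 * p := by
    rw [← hα]; exact Finset.card_le_univ _
  have hsum : ∑ a, E a (x • a) = A.card * e1 + ((2 * p - A.card : ℕ) : ℚ) * e2 := by
    rw [← Finset.sum_filter_add_sum_filter_not univ (fun a => E a (x • a) = e1)]
    congr 1
    · rw [Finset.sum_congr rfl (g := fun _ => e1)]
      · rw [Finset.sum_const, nsmul_eq_mul]
      · intro a ha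
        exact (Finset.mem_filter.mp ha).2
    · rw [Finset.sum_congr rfl (g := fun _ => e2)]
      · rw [Finset.sum_const, nsmul_eq_mul, hcompl]
      · intro a ha
        have h1 := (Finset.mem_filter.mp ha).2
        rcases hval a (x • a) (fun h => hfpf a h.symm) with h | h
        · exact absurd h h1
        · exact h
  obtain ⟨k, hk⟩ := hdvd
  have hk2 : k ≤ 2 := by
    by_contra hcon
    rw [not_le] at hcon
    have : p * 3 ≤ p * k := Nat.mul_le_mul_left p hcon
    omega
  rw [hsum, hk]
  interval_cases k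
  · right; right
    simp
  · right; left
    have : 2 * p - p * 1 = p := by omega
    rw [this]
    push_cast
    ring
  · left
    have : 2 * p - p * 2 = 0 := by omega
    rw [this]
    push_cast
    ring

end action

end Cfsg.Agent.Lib.helper43.Ito
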