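import Mathlib

set_option autoImplicit false

namespace Cfsg.Agent.Lib.helper43.Ito

open Finset

section action
variable {α : Type*} [Fintype α] [DecidableEq α] {G : Type*} [Group G] [Fintype G] [MulAction G α]

/-- the permutation matrix of `g`. -/
def h43Pm (g : G) : Matrix α α ℚ := fun a b => if a = g • b then 1 else 0

omit [Fintype G] in
theorem h43Pm_one : h43Pm (α := α) (1 : G) = 1 := by
  ext a b
  simp [h43Pm, Matrix.one_apply]

omit [Fintype G] in
theorem h43Pm_mul (g h : G) : h43Pm (α := α) g * h43Pm h = h43Pm (g * h) := by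
  ext a b
  simp only [Matrix.mul_apply, h43Pm]
  rw [Finset.sum_eq_single (h • b)]
  · simp [mul_smul]
  · intro c _ hc
    simp [hc]
  · intro h'
    exact absurd (Finset.mem_univ _) h'

omit [Fintype G] in
theorem h43Pm_pow (g : G) (k : ℕ) : h43Pm (α := α) g ^ k = h43Pm (g ^ k) := by
  induction k with
  | zero => simp [h43Pm_one]
  | succ n ih => rw [pow_succ, ih, h43Pm_mul, pow_succ]

omit [Fintype G] in
theorem h43EP_apply (E : α → α → ℚ) (g : G) (a b : α) :
    (Matrix.of E * h43Pm g : Matrix α α ℚ) a b = E a (g • b) := by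
  simp only [Matrix.mul_apply, h43Pm, Matrix.of_apply]
  rw [Finset.sum_eq_single (g • b)]
  · simp
  · intro c _ hc
    simp [hc]
  · intro h'
    exact absurd (Finset.mem_univ _) h'

omit [Fintype G] in
theorem h43PE_apply (E : α → α → ℚ)
    (hinv : ∀ (g : G) (a b : α), E (g • a) (g • b) = E a b) (g : G) (a b : α) :
    (h43Pm g * Matrix.of E : Matrix α α ℚ) a b = E a (g • b) := by
  simp only [Matrix.mul_apply, h43Pm, Matrix.of_apply]
  rw [Finset.sum_eq_single (g⁻¹ • a)]
  · simp only [smul_inv_smul, if_true, one_mul]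
    rw [← hinv g (g⁻¹ • a) b, smul_inv_smul]
  · intro c _ hc
    have : a ≠ g • c := by
      intro h
      apply hc
      rw [h, inv_smul_smul]
    simp [this]
  · intro h'
    exact absurd (Finset.mem_univ _) h'

/-- PIECE YI (integrality of `Y`), from PIECE INT given as the hypothesis `hINT`. -/
theorem ito_Y_int
    (hINT : ∀ (M : Matrix α α ℚ) (k : ℕ), 0 < k → M ^ k = 1 → ∃ z : ℤ, M.trace = (z : ℚ))
    (E : α → α → ℚ)
    (hinv : ∀ (g : G) (a b : α), E (g • a) (g • b) = E a b)
    (hidem : ∀ a b, ∑ c, E a c * E c b = E a b) (g : G) :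
    ∃ z : ℤ, (z : ℚ) = ∑ a, E a (g • a) + (Fintype.card α : ℚ) - ∑ a, E a a := by
  classical
  set Em : Matrix α α ℚ := Matrix.of E with hEm
  set P : Matrix α α ℚ := h43Pm g with hP
  have hEE : Em * Em = Em := by
    ext a b
    simp only [Matrix.mul_apply, hEm, Matrix.of_apply]
    exact hidem a b
  have hcomm : P * Em = Em * P := by
    ext a b
    exact (h43PE_apply E hinv g a b).trans (h43EP_apply E g a b).symm
  have hcommk : ∀ k : ℕ, P ^ k * Em = Em * P ^ k := by
    intro k
    have : Commute P Em := hcomm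
    exact (this.pow_left k).eq
  have hpow : ∀ k : ℕ, (Em * P + (1 - Em)) ^ k = Em * P ^ k + (1 - Em) := by
    intro k
    induction k with
    | zero => simp
    | succ n ih =>
      rw [pow_succ, ih]
      have e1 : Em * P ^ n * (Em * P) = Em * P ^ (n + 1) := by
        rw [mul_assoc, ← mul_assoc (P ^ n), hcommk n, mul_assoc, ← mul_assoc, hEE, pow_succ]
      have e2 : Em * P ^ n * (1 - Em) = 0 := by
        rw [mul_sub, mul_one, mul_assoc, hcommk n, ← mul_assoc, hEE, sub_self]
      have e3 : (1 - Em) * (Em * P) = 0 := by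
        rw [← mul_assoc, sub_mul, one_mul, hEE, sub_self, zero_mul]
      have e4 : (1 - Em) * (1 - Em) = 1 - Em := by
        rw [mul_sub, mul_one, sub_mul, one_mul, hEE, sub_self, sub_zero]
      rw [add_mul, mul_add, mul_add, e1, e2, e3, e4]
      simp
  have hk : 0 < orderOf g := orderOf_pos g
  have hone : (Em * P + (1 - Em)) ^ orderOf g = 1 := by
    rw [hpow, hP, h43Pm_pow, pow_orderOf_eq_one, h43Pm_one, mul_one]
    simp
  obtain ⟨z, hz⟩ := hINT _ _ hk hone
  refine ⟨z, ?_⟩
  rw [← hz, Matrix.trace_add, Matrix.trace_sub, Matrix.trace_one]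
  have t1 : (Em * P).trace = ∑ a, E a (g • a) := by
    simp only [Matrix.trace, Matrix.diag]
    apply Finset.sum_congr rfl
    intro a _
    exact h43EP_apply E g a a
  have t2 : Em.trace = ∑ a, E a a := by
    simp [Matrix.trace, Matrix.diag, hEm]
  rw [t1, t2]
  ring

end action

end Cfsg.Agent.Lib.helper43.Ito
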