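import Mathlib
import Cfsg.Agent.Lib.helper86.IvDefs
import Cfsg.Agent.Lib.helper70.FlavellC

/-!
# S3928, piece QS: every element of `ivI` of the quotient lifts to `ivI α`
-/

set_option autoImplicit false

namespace Cfsg.Agent.Lib.helper86.IV

/-- QS : every element of `ivI` of the quotient lifts to `ivI α`. -/
theorem iv_quot_surj {G : Type*} [Group G] [Finite G] (α : MulAut G) (h2 : ∀ g, α (α g) = g)
    (N : Subgroup G) [N.Normal] (hN : ∀ n ∈ N, α n ∈ N) (y : G ⧸ N)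
    (hy : y ∈ ivI (ivQ α h2 N hN)) : ∃ x ∈ ivI α, (QuotientGroup.mk x : G ⧸ N) = y := by
  obtain ⟨hodd, hinv⟩ := hy
  have hcop : Nat.Coprime (2 ^ (Nat.card G + 1)) (orderOf y) :=
    Nat.Coprime.pow_left _ (Nat.coprime_two_left.mpr hodd)
  obtain ⟨c, hc⟩ := exists_pow_eq_self_of_coprime hcop
  -- `z := y ^ c` satisfies `z ^ 2 ^ (|G| + 1) = y` and is inverted
  have hz : (y ^ c) ^ 2 ^ (Nat.card G + 1) = y := by
    rw [← pow_mul, mul_comm, pow_mul]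
    exact hc
  have hzinv : ivQ α h2 N hN (y ^ c) = (y ^ c)⁻¹ := by
    rw [map_pow, hinv, inv_pow]
  obtain ⟨w, hw⟩ := QuotientGroup.mk_surjective (s := N) (y ^ c)
  have hk : α (w * (α w)⁻¹) = (w * (α w)⁻¹)⁻¹ := by
    rw [map_mul, map_inv, h2, mul_inv_rev, inv_inv]
  refine ⟨(w * (α w)⁻¹) ^ 2 ^ Nat.card G,
    ⟨Cfsg.Agent.Lib.helper70.flv_odd_order_pow _,
      (Cfsg.Agent.Lib.helper70.flv_iter_pow α _ hk (Nat.card G)).2⟩, ?_⟩
  have hmk : (QuotientGroup.mk (w * (α w)⁻¹) : G ⧸ N) = (y ^ c) ^ 2 := by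
    have h1 : (QuotientGroup.mk (α w) : G ⧸ N) = (y ^ c)⁻¹ := by
      rw [← ivQ_mk α h2 N hN w, hw, hzinv]
    rw [QuotientGroup.mk_mul, QuotientGroup.mk_inv, h1, hw, inv_inv, pow_two]
  rw [QuotientGroup.mk_pow, hmk, ← pow_mul, ← pow_succ']
  exact hz

end Cfsg.Agent.Lib.helper86.IV
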