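import Mathlib
import Cfsg.Agent.Lib.helper86.IvDefs
import Cfsg.Agent.Lib.helper46.IvQM
import Cfsg.Agent.Lib.helper43.IvQS

/-!
# S3928, piece QC: `|ivI|` does not increase in quotients, and decreases if two elements of `ivI α`
are congruent mod `N`
-/

set_option autoImplicit false

namespace Cfsg.Agent.Lib.helper86.IV

/-- QC : `|ivI|` does not increase in quotients, and decreases if two elements of `ivI α` are
congruent mod `N` (uses QM, QS). -/
theorem iv_quot_card {G : Type*} [Group G] [Finite G] (α : MulAut G) (h2 : ∀ g, α (α g) = g)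
    (N : Subgroup G) [N.Normal] (hN : ∀ n ∈ N, α n ∈ N) :
    Nat.card (ivI (ivQ α h2 N hN)) ≤ Nat.card (ivI α) ∧
    ((∃ x ∈ ivI α, ∃ x' ∈ ivI α, x ≠ x' ∧ x⁻¹ * x' ∈ N) →
      Nat.card (ivI (ivQ α h2 N hN)) < Nat.card (ivI α)) := by
  classical
  let f : ↥(ivI α) → ↥(ivI (ivQ α h2 N hN)) :=
    fun x => ⟨(QuotientGroup.mk x.1 : G ⧸ N), iv_quot_mem α h2 N hN x.1 x.2⟩
  have hsurj : Function.Surjective f := by
    rintro ⟨y, hy⟩
    obtain ⟨x, hx, hxy⟩ := iv_quot_surj α h2 N hN y hy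
    exact ⟨⟨x, hx⟩, Subtype.ext hxy⟩
  haveI : Finite ↥(ivI α) := Subtype.finite
  haveI : Finite ↥(ivI (ivQ α h2 N hN)) := Subtype.finite
  refine ⟨Nat.card_le_card_of_surjective f hsurj, ?_⟩
  rintro ⟨x, hx, x', hx', hne, hmem⟩
  have hninj : ¬ Function.Injective f := by
    intro hinj
    have h1 : f ⟨x, hx⟩ = f ⟨x', hx'⟩ := by
      apply Subtype.ext
      exact QuotientGroup.eq.mpr hmem
    exact hne (congrArg Subtype.val (hinj h1))
  haveI := Fintype.ofFinite ↥(ivI α)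
  haveI := Fintype.ofFinite ↥(ivI (ivQ α h2 N hN))
  rw [Nat.card_eq_fintype_card, Nat.card_eq_fintype_card]
  exact Fintype.card_lt_of_surjective_not_injective f hsurj hninj

end Cfsg.Agent.Lib.helper86.IV
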