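import Mathlib
import Cfsg.Prelude.Def_LieTypeChar
import Cfsg.Agent.Lib.helper44.LODefs
import Cfsg.Agent.S1066

set_option autoImplicit false

namespace Cfsg.Agent.Lib.helper44.LO

open Cfsg

/-- Racer copy of ARITH (same statement as `lo_good`). -/
theorem h43_lo_good {p : ℕ} (hp : p.Prime) (f : ℕ) (hf : 1 ≤ f) (c n N M e : ℕ)
    (hc : c * n = (p ^ f) ^ N * M) (hcp : ¬ p ∣ c) (hMp : ¬ p ∣ M) (hM : M < c * (p ^ f) ^ e)
    (h1 : e ≤ 2 * N) (h2 : 3 * e ≤ 5 * N) : LOGood p n := by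
  have hc0 : c ≠ 0 := by rintro rfl; exact hcp (dvd_zero p)
  have hM0 : M ≠ 0 := by rintro rfl; exact hMp (dvd_zero p)
  have hq0 : 0 < p ^ f := pow_pos hp.pos f
  have hn0 : n ≠ 0 := by
    rintro rfl
    rw [mul_zero] at hc
    have : 0 < (p ^ f) ^ N * M := Nat.mul_pos (pow_pos hq0 N) (Nat.pos_of_ne_zero hM0)
    omega
  have hk : n.factorization p = f * N := by
    have h3 := congrArg (fun t => t.factorization p) hc
    beta_reduce at h3
    rw [Nat.factorization_mul hc0 hn0, Nat.factorization_mul (pow_pos hq0 N).ne' hM0, ← pow_mul,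
      Nat.factorization_pow] at h3
    simp only [Finsupp.add_apply, Finsupp.smul_apply, smul_eq_mul] at h3
    rw [Nat.factorization_eq_zero_of_not_dvd hcp, Nat.factorization_eq_zero_of_not_dvd hMp,
      hp.factorization_self] at h3
    omega
  have hlt : n < p ^ (f * (N + e)) := by
    have h4 : c * n < c * p ^ (f * (N + e)) := by
      calc c * n = (p ^ f) ^ N * M := hc
        _ < (p ^ f) ^ N * (c * (p ^ f) ^ e) := Nat.mul_lt_mul_of_pos_left hM (pow_pos hq0 N)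
        _ = c * p ^ (f * (N + e)) := by rw [pow_mul, pow_add]; ring
    exact Nat.lt_of_mul_lt_mul_left h4
  have h5 := Nat.mul_le_mul_left f h1
  have h6 := Nat.mul_le_mul_left f h2
  constructor
  · rw [hk]
    exact lt_of_lt_of_le hlt (Nat.pow_le_pow_right hp.pos (by rw [mul_add]; linarith))
  · rw [hk]
    calc n ^ 3 < (p ^ (f * (N + e))) ^ 3 := Nat.pow_lt_pow_left hlt (by norm_num)
      _ = p ^ (3 * (f * (N + e))) := by rw [← pow_mul]; ring_nf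
      _ ≤ p ^ (8 * (f * N)) := Nat.pow_le_pow_right hp.pos (by rw [mul_add]; linarith)

theorem h43_pm (q a b : ℕ) (hq : 1 ≤ q) (hab : a ≤ b) :
    (q ^ a - 1) * (q ^ b + 1) < q ^ (a + b) := by
  have hA : 1 ≤ q ^ a := Nat.one_le_pow _ _ hq
  have hAB : q ^ a ≤ q ^ b := Nat.pow_le_pow_right hq hab
  obtain ⟨A', hA'⟩ : ∃ A', q ^ a = A' + 1 := ⟨q ^ a - 1, by omega⟩
  rw [pow_add, hA', Nat.add_sub_cancel]
  rw [hA'] at hAB
  nlinarith

theorem h43_ndvd_sub (p q a : ℕ) (hp : p.Prime) (hq : 1 ≤ q) (hpq : p ∣ q) (ha : a ≠ 0) :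
    ¬ p ∣ q ^ a - 1 := by
  intro h
  have h1 : p ∣ q ^ a := dvd_pow hpq ha
  have h2 : 1 ≤ q ^ a := Nat.one_le_pow _ _ hq
  have h3 : p ∣ 1 := by
    have : q ^ a = (q ^ a - 1) + 1 := by omega
    rw [this] at h1
    exact (Nat.dvd_add_right h).mp h1
  exact hp.one_lt.ne' (Nat.dvd_one.mp h3)

theorem h43_ndvd_add (p q a : ℕ) (hp : p.Prime) (hpq : p ∣ q) (ha : a ≠ 0) : ¬ p ∣ q ^ a + 1 := by
  intro h
  have h1 : p ∣ q ^ a := dvd_pow hpq ha
  have h3 : p ∣ 1 := (Nat.dvd_add_right h1).mp h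
  exact hp.one_lt.ne' (Nat.dvd_one.mp h3)

/-- TE6. -/
theorem h43_lo_te6 {K : Type} [Field K] [Fintype K] (p : ℕ) (hp : p.Prime) [CharP K p] (q : ℕ) (hq : IsPrimePow q)
    (hK : Fintype.card K = q ^ 2) : LOGood p (Nat.card ↥(Cfsg.Lie.twistedE6 K q)) := by
  obtain ⟨f', -, hf'⟩ := FiniteField.card K p
  have hq2 : 2 ≤ q := hq.two_le
  have hqd : q ∣ p ^ (f' : ℕ) := by
    rw [← hf', hK]
    exact dvd_pow_self q (by norm_num)
  obtain ⟨j, -, hj⟩ := (Nat.dvd_prime_pow hp).mp hqd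
  have hj1 : 1 ≤ j := by
    rcases Nat.eq_zero_or_pos j with h | h
    · rw [h, pow_zero] at hj
      omega
    · exact h
  have hpq : p ∣ q := by
    rw [hj]
    exact dvd_pow_self p (by omega)
  have hres := Cfsg.Agent.S1066.result hq hK
  have hq1 : 1 ≤ q := by omega
  refine h43_lo_good hp j hj1 (Nat.gcd 3 (q + 1)) _ 36
    ((q ^ 2 - 1) * (q ^ 5 + 1) * (q ^ 6 - 1) * (q ^ 8 - 1) * (q ^ 9 + 1) * (q ^ 12 - 1)) 42
    ?_ ?_ ?_ ?_ (by norm_num) (by norm_num)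
  · rw [hres, ← hj]
    ring
  · intro h
    have h1 : p ∣ q + 1 := dvd_trans h (Nat.gcd_dvd_right 3 (q + 1))
    have h3 : p ∣ 1 := (Nat.dvd_add_right hpq).mp h1
    exact hp.one_lt.ne' (Nat.dvd_one.mp h3)
  · intro h
    rcases (hp.dvd_mul).mp h with h | h
    · rcases (hp.dvd_mul).mp h with h | h
      · rcases (hp.dvd_mul).mp h with h | h
        · rcases (hp.dvd_mul).mp h with h | h
          · rcases (hp.dvd_mul).mp h with h | h
            · exact h43_ndvd_sub p q 2 hp hq1 hpq (by norm_num) h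
            · exact h43_ndvd_add p q 5 hp hpq (by norm_num) h
          · exact h43_ndvd_sub p q 6 hp hq1 hpq (by norm_num) h
        · exact h43_ndvd_sub p q 8 hp hq1 hpq (by norm_num) h
      · exact h43_ndvd_add p q 9 hp hpq (by norm_num) h
    · exact h43_ndvd_sub p q 12 hp hq1 hpq (by norm_num) h
  · rw [← hj]
    have h7 : (q ^ 2 - 1) * (q ^ 5 + 1) < q ^ 7 := h43_pm q 2 5 hq1 (by norm_num)
    have h6 : q ^ 6 - 1 ≤ q ^ 6 := Nat.sub_le _ _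
    have h17 : (q ^ 8 - 1) * (q ^ 9 + 1) < q ^ 17 := h43_pm q 8 9 hq1 (by norm_num)
    have h12 : q ^ 12 - 1 ≤ q ^ 12 := Nat.sub_le _ _
    have hg : 1 ≤ Nat.gcd 3 (q + 1) := Nat.gcd_pos_of_pos_left _ (by norm_num)
    have hpos : ∀ k : ℕ, 0 < q ^ k := fun k => pow_pos (by omega) k
    have hM : (q ^ 2 - 1) * (q ^ 5 + 1) * (q ^ 6 - 1) * (q ^ 8 - 1) * (q ^ 9 + 1) * (q ^ 12 - 1) <
        q ^ 42 := by
      calc (q ^ 2 - 1) * (q ^ 5 + 1) * (q ^ 6 - 1) * (q ^ 8 - 1) * (q ^ 9 + 1) * (q ^ 12 - 1)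
          = ((q ^ 2 - 1) * (q ^ 5 + 1) * (q ^ 6 - 1)) * ((q ^ 8 - 1) * (q ^ 9 + 1)) * (q ^ 12 - 1) := by
            ring
        _ ≤ ((q ^ 2 - 1) * (q ^ 5 + 1) * (q ^ 6 - 1)) * ((q ^ 8 - 1) * (q ^ 9 + 1)) * q ^ 12 :=
            Nat.mul_le_mul_left _ h12
        _ ≤ (q ^ 7 * q ^ 6) * ((q ^ 8 - 1) * (q ^ 9 + 1)) * q ^ 12 :=
            Nat.mul_le_mul_right _ (Nat.mul_le_mul_right _ (Nat.mul_le_mul h7.le h6))
        _ < (q ^ 7 * q ^ 6) * q ^ 17 * q ^ 12 :=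
            Nat.mul_lt_mul_of_pos_right (Nat.mul_lt_mul_of_pos_left h17
              (Nat.mul_pos (hpos 7) (hpos 6))) (hpos 12)
        _ = q ^ 42 := by ring
    calc (q ^ 2 - 1) * (q ^ 5 + 1) * (q ^ 6 - 1) * (q ^ 8 - 1) * (q ^ 9 + 1) * (q ^ 12 - 1)
        < q ^ 42 := hM
      _ = 1 * q ^ 42 := (one_mul _).symm
      _ ≤ Nat.gcd 3 (q + 1) * q ^ 42 := Nat.mul_le_mul_right _ hg

end Cfsg.Agent.Lib.helper44.LO
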