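-- helper43: the degree classification of the irreducible characters of SL₂(q), q even.
import Mathlib
import Cfsg.Prelude.Def_Characters
import Cfsg.Agent.Lib.helper43.SL2Data
import Cfsg.Agent.S2331

set_option autoImplicit false

namespace Cfsg.Agent.Lib.helper43

open Matrix

section SL2Even

variable {F : Type*} [Field F] [Fintype F] [CharP F 2]

theorem USL_conj_even : ∀ u ∈ USL F, u ≠ 1 →
    ∃ g : Matrix.SpecialLinearGroup (Fin 2) F, g * uSL 1 * g⁻¹ = u := by
  rintro _ ⟨b, rfl⟩ hb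
  have hb0 : b ≠ 0 := by
    rintro rfl
    exact hb uSL_zero
  obtain ⟨a, ha⟩ := FiniteField.isSquare_of_char_two (ringChar.eq F 2) b
  have ha0 : a ≠ 0 := by
    rintro rfl
    apply hb0
    rw [ha, mul_zero]
  refine ⟨dSL (Units.mk0 a ha0), ?_⟩
  rw [dSL_conj]
  simp only [Units.val_mk0, mul_one]
  rw [ha]

theorem top_le_of_normal_even (K : Subgroup (Matrix.SpecialLinearGroup (Fin 2) F))
    (hK : K.Normal) (hu : uSL (1 : F) ∈ K) : (⊤ : Subgroup _) ≤ K := by
  have hu' : ∀ b : F, uSL b ∈ K := by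
    intro b
    by_cases hb : uSL b = 1
    · rw [hb]; exact K.one_mem
    · obtain ⟨g, hg⟩ := USL_conj_even (uSL b) (uSL_mem b) hb
      rw [← hg]
      exact hK.conj_mem _ hu g
  rw [eq_top_of_USL_le K hK hu']

omit [Fintype F] in
theorem centralizer_uSL_even :
    Subgroup.centralizer ({uSL (1 : F)} : Set (Matrix.SpecialLinearGroup (Fin 2) F)) = USL F := by
  ext h
  rw [mem_centralizer_uSL_iff]
  constructor
  · rintro ⟨k10, k00⟩
    have hdet := h.2
    rw [Matrix.det_fin_two, k10, ← k00] at hdet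
    have h1 : ((h : Matrix (Fin 2) (Fin 2) F) 0 0 + 1) * ((h : Matrix (Fin 2) (Fin 2) F) 0 0 + 1)
        = 0 := by
      have h2 : (2 : F) = 0 := CharTwo.two_eq_zero
      linear_combination hdet + (h : Matrix (Fin 2) (Fin 2) F) 0 0 * h2 + h2
    have h3 : (h : Matrix (Fin 2) (Fin 2) F) 0 0 + 1 = 0 := by
      rcases mul_eq_zero.1 h1 with h | h <;> exact h
    have h4 : (h : Matrix (Fin 2) (Fin 2) F) 0 0 = 1 := by
      have : (h : Matrix (Fin 2) (Fin 2) F) 0 0 = -1 := eq_neg_of_add_eq_zero_left h3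
      rw [this, CharTwo.neg_eq]
    refine ⟨(h : Matrix (Fin 2) (Fin 2) F) 0 1, ?_⟩
    apply sl2_ext
    · rw [h4]; simp [uSL_val]
    · simp [uSL_val]
    · rw [k10]; simp [uSL_val]
    · rw [← k00, h4]; simp [uSL_val]
  · rintro ⟨b, rfl⟩
    simp [uSL_val]

variable (F)

/-- **Classification of the irreducible characters of `SL₂(q)`, `q` even, by their restriction
to the unipotent subgroup**: `χ 1 = m + (q - 1) r`, `χ (u 1) = m - r` with `(m, r)` one of
`(1, 0)` (the trivial character), `(0, 1)` (degree `q - 1`, `q / 2` characters), `(1, 1)`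
(degree `q`, one character), `(2, 1)` (degree `q + 1`, `(q - 2) / 2` characters). -/
theorem sl2_even_classification [Fintype (Matrix.SpecialLinearGroup (Fin 2) F)]
    [Fintype (Cfsg.IrrCharacter (Matrix.SpecialLinearGroup (Fin 2) F))] :
    ∃ m r : Cfsg.IrrCharacter (Matrix.SpecialLinearGroup (Fin 2) F) → ℕ,
      (∀ χ : Cfsg.IrrCharacter (Matrix.SpecialLinearGroup (Fin 2) F),
        (χ : Matrix.SpecialLinearGroup (Fin 2) F → ℂ) 1 =
          (m χ : ℂ) + ((Fintype.card F : ℂ) - 1) * r χ) ∧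
      (∀ χ : Cfsg.IrrCharacter (Matrix.SpecialLinearGroup (Fin 2) F),
        (χ : Matrix.SpecialLinearGroup (Fin 2) F → ℂ) (uSL 1) = (m χ : ℂ) - r χ) ∧
      (∀ χ, (r χ = 0 ∧ m χ = 1) ∨ (r χ = 1 ∧ m χ ≤ 2)) ∧
      (Finset.univ.filter (fun χ => r χ = 0)).card = 1 ∧
      (Finset.univ.filter (fun χ => r χ = 1 ∧ m χ = 1)).card = 1 ∧
      2 * (Finset.univ.filter (fun χ => r χ = 1 ∧ m χ = 2)).card = Fintype.card F - 2 ∧
      2 * (Finset.univ.filter (fun χ => r χ = 1 ∧ m χ = 0)).card = Fintype.card F := by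
  classical
  have hq : 2 ≤ Fintype.card F := Fintype.one_lt_card
  obtain ⟨a, ha⟩ : ∃ a, Fintype.card F = a + 1 := ⟨Fintype.card F - 1, by omega⟩
  have ha1 : 1 ≤ a := by omega
  have e1' : (a + 1) ^ 2 - 1 = a * (a + 2) := by
    rw [Nat.sub_eq_iff_eq_add (Nat.one_le_pow 2 (a + 1) (by omega))]; ring
  have hk : Nat.card (ConjClasses (Matrix.SpecialLinearGroup (Fin 2) F)) * Fintype.card F ^ 2 =
      Nat.card (Matrix.SpecialLinearGroup (Fin 2) F) +
        Nat.card (Subgroup.centralizer ({uSL (1 : F)} :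
          Set (Matrix.SpecialLinearGroup (Fin 2) F))) + 1 * Fintype.card F ^ 2 := by
    rw [Cfsg.Agent.S2331.result, card_SL2, centralizer_uSL_even, card_USL,
      Nat.card_eq_fintype_card, ha, e1']
    ring
  obtain ⟨m, r, hdeg, hval, hcls, hL, e2, e3, e4⟩ :=
    degree_classification (G := Matrix.SpecialLinearGroup (Fin 2) F) (Fintype.card F) 1 hq
      (USL F) (BSL F) ⊤ (uSL 1)
      USL_comm (by rw [card_USL, Nat.card_eq_fintype_card]) (uSL_mem 1) uSL_one_ne_one
      USL_conj_even USL_le_BSL BSL_comm_mod_USL index_BSL_le (Subgroup.mem_top _)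
      top_le_of_normal_even (fun a b => QuotientGroup.subsingleton_quotient_top.elim _ _)
      Subgroup.index_top hk
  refine ⟨m, r, hdeg, hval, hcls, hL, ?_⟩
  rw [card_SL2, centralizer_uSL_even, card_USL, Nat.card_eq_fintype_card] at e2 e3
  rw [Cfsg.Agent.S2331.result] at e4
  rw [ha] at e2 e3 e4 ⊢
  rw [e1', Nat.add_sub_cancel] at e2 e3
  set n₀ := (Finset.univ.filter (fun χ => r χ = 1 ∧ m χ = 0)).card with hn₀
  set n₁ := (Finset.univ.filter (fun χ => r χ = 1 ∧ m χ = 1)).card with hn₁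
  set n₂ := (Finset.univ.filter (fun χ => r χ = 1 ∧ m χ = 2)).card with hn₂
  have hpos : 0 < (a + 1) ^ 2 := by positivity
  have f2 : n₁ + 2 * n₂ = a := by
    apply Nat.eq_of_mul_eq_mul_left hpos
    nlinarith
  have f3 : 1 + n₁ + 4 * n₂ = 2 * a := by
    apply Nat.eq_of_mul_eq_mul_left hpos
    nlinarith
  refine ⟨?_, ?_, ?_⟩ <;> omega

end SL2Even

end Cfsg.Agent.Lib.helper43
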