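-- helper43: characters of SL₂(q) induced from the linear characters `b ↦ α(b₀₀)` of the upper
-- triangular subgroup: norm (Mackey) and values.
import Mathlib
import Cfsg.Prelude.Def_Characters
import Cfsg.Agent.Lib.helper43.SL2Data
import Cfsg.Agent.Lib.helper43.IndLinear
import Cfsg.Agent.Lib.helper43.UDecomp

set_option autoImplicit false

namespace Cfsg.Agent.Lib.helper43

open scoped ComplexConjugate
open Cfsg.Agent.Lib.helper4
open Matrix

section General

variable {G : Type*} [Group G]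

/-- Mackey-type formula for the norm of an induced function. -/
theorem classInner_indFun_self_eq [Fintype G] (H : Subgroup G) [Fintype H] (θ : H → ℂ) :
    Cfsg.classInner (Cfsg.indFun H θ) (Cfsg.indFun H θ) =
      (Nat.card H : ℂ)⁻¹ * ((Nat.card H : ℂ)⁻¹ *
        ∑ x : G, ∑ b : H, θ b * conj (Cfsg.extendByZero H θ (x⁻¹ * (b : G) * x))) := by
  rw [frobenius_reciprocity H θ (isClassFunction_indFun H θ)]
  unfold Cfsg.classInner
  congr 1
  rw [Finset.sum_comm, Finset.mul_sum]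
  apply Finset.sum_congr rfl
  intro b _
  beta_reduce
  rw [indFun_apply, map_mul, map_sum, map_inv₀, map_natCast, Finset.mul_sum, Finset.mul_sum,
    Finset.mul_sum]
  apply Finset.sum_congr rfl
  intro x _
  ring

/-- Composition of an irreducible character with an automorphism is irreducible. -/
theorem isIrrCharacter_comp_mulEquiv [Fintype G] (σ : G ≃* G) {χ : G → ℂ}
    (hχ : Cfsg.IsIrrCharacter G χ) : Cfsg.IsIrrCharacter G (fun g => χ (σ g)) := by
  have hchar : Cfsg.IsCharacter G (fun g => χ (σ g)) :=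
    isCharacter_comp σ.toMonoidHom (isCharacter_of_isIrrCharacter hχ)
  apply isIrrCharacter_of_isCharacter_of_norm_one hchar
  rw [← classInner_irr_self hχ]
  unfold Cfsg.classInner
  congr 1
  exact Fintype.sum_equiv σ.toEquiv _ _ (fun g => rfl)

end General

section Borel

variable {F : Type*} [Field F]

/-- upper triangular element of `SL₂` -/
def bSL (a : Fˣ) (t : F) : Matrix.SpecialLinearGroup (Fin 2) F :=
  ⟨!![(a : F), t; 0, ((a⁻¹ : Fˣ) : F)], by simp [Matrix.det_fin_two_of]⟩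

theorem bSL_val (a : Fˣ) (t : F) :
    ((bSL a t : Matrix.SpecialLinearGroup (Fin 2) F) : Matrix (Fin 2) (Fin 2) F) =
      !![(a : F), t; 0, ((a⁻¹ : Fˣ) : F)] := rfl

theorem bSL_mem (a : Fˣ) (t : F) : bSL a t ∈ BSL F := by
  rw [mem_BSL_iff, bSL_val]
  simp

theorem sl2_det (x : Matrix.SpecialLinearGroup (Fin 2) F) :
    (x : Matrix (Fin 2) (Fin 2) F) 0 0 * (x : Matrix (Fin 2) (Fin 2) F) 1 1 -
      (x : Matrix (Fin 2) (Fin 2) F) 0 1 * (x : Matrix (Fin 2) (Fin 2) F) 1 0 = 1 := by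
  have h := x.2
  rw [Matrix.det_fin_two] at h
  exact h

theorem exists_bSL_of_mem {b : Matrix.SpecialLinearGroup (Fin 2) F} (hb : b ∈ BSL F) :
    ∃ (a : Fˣ) (t : F), bSL a t = b := by
  have h10 := (mem_BSL_iff b).1 hb
  have hdet := sl2_det b
  rw [h10, mul_zero, sub_zero] at hdet
  have h00 : (b : Matrix (Fin 2) (Fin 2) F) 0 0 ≠ 0 := by
    intro h
    rw [h, zero_mul] at hdet
    exact zero_ne_one hdet
  refine ⟨Units.mk0 _ h00, (b : Matrix (Fin 2) (Fin 2) F) 0 1, ?_⟩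
  apply sl2_ext
  · simp [bSL_val]
  · simp [bSL_val]
  · simp [bSL_val, h10]
  · simp only [bSL_val, Units.val_inv_eq_inv_val, Units.val_mk0, Matrix.of_apply,
      Matrix.cons_val', Matrix.cons_val_one, Matrix.cons_val_fin_one]
    exact (eq_inv_of_mul_eq_one_right hdet).symm

theorem bSL_injective : Function.Injective
    (fun p : Fˣ × F => (bSL p.1 p.2 : Matrix.SpecialLinearGroup (Fin 2) F)) := by
  rintro ⟨a, t⟩ ⟨a', t'⟩ h
  have h00 := congrArg (fun g : Matrix.SpecialLinearGroup (Fin 2) F =>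
    (g : Matrix (Fin 2) (Fin 2) F) 0 0) h
  have h01 := congrArg (fun g : Matrix.SpecialLinearGroup (Fin 2) F =>
    (g : Matrix (Fin 2) (Fin 2) F) 0 1) h
  simp only [bSL_val, Matrix.of_apply, Matrix.cons_val', Matrix.cons_val_zero,
    Matrix.cons_val_one, Matrix.cons_val_fin_one] at h00 h01
  exact Prod.ext (Units.ext h00) h01

/-- parametrization of the upper triangular subgroup -/
noncomputable def bEquiv (F : Type*) [Field F] : Fˣ × F ≃ BSL F :=
  Equiv.ofBijective (fun p => ⟨bSL p.1 p.2, bSL_mem p.1 p.2⟩)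
    ⟨fun p p' h => bSL_injective (congrArg Subtype.val h), fun b => by
      obtain ⟨a, t, h⟩ := exists_bSL_of_mem b.2
      exact ⟨(a, t), Subtype.ext h⟩⟩

theorem sum_BSL [Fintype F] [DecidableEq F] [Fintype (BSL F)]
    (f : Matrix.SpecialLinearGroup (Fin 2) F → ℂ) :
    ∑ b : BSL F, f (b : Matrix.SpecialLinearGroup (Fin 2) F) =
      ∑ a : Fˣ, ∑ t : F, f (bSL a t) := by
  rw [← Fintype.sum_prod_type']
  exact (Fintype.sum_equiv (bEquiv F) (fun p => f (bSL p.1 p.2)) (fun b => f b)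
    (fun p => rfl)).symm

theorem card_BSL [Fintype F] : Nat.card (BSL F) = (Fintype.card F - 1) * Fintype.card F := by
  classical
  rw [← Nat.card_congr (bEquiv F), Nat.card_prod, Nat.card_eq_fintype_card,
    Nat.card_eq_fintype_card, Fintype.card_units]

theorem conj_apply_10 (x g : Matrix.SpecialLinearGroup (Fin 2) F) :
    ((x⁻¹ * g * x : Matrix.SpecialLinearGroup (Fin 2) F) : Matrix (Fin 2) (Fin 2) F) 1 0 =
      (x : Matrix (Fin 2) (Fin 2) F) 0 0 ^ 2 * (g : Matrix (Fin 2) (Fin 2) F) 1 0 -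
      (x : Matrix (Fin 2) (Fin 2) F) 1 0 ^ 2 * (g : Matrix (Fin 2) (Fin 2) F) 0 1 +
      (x : Matrix (Fin 2) (Fin 2) F) 0 0 * (x : Matrix (Fin 2) (Fin 2) F) 1 0 *
        ((g : Matrix (Fin 2) (Fin 2) F) 1 1 - (g : Matrix (Fin 2) (Fin 2) F) 0 0) := by
  simp only [Matrix.SpecialLinearGroup.coe_mul, Matrix.SpecialLinearGroup.coe_inv,
    Matrix.adjugate_fin_two, Matrix.mul_apply, Fin.sum_univ_two, Matrix.of_apply,
    Matrix.cons_val', Matrix.cons_val_zero, Matrix.cons_val_one, Matrix.cons_val_fin_one]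
  ring

theorem conj_apply_00 (x g : Matrix.SpecialLinearGroup (Fin 2) F) :
    ((x⁻¹ * g * x : Matrix.SpecialLinearGroup (Fin 2) F) : Matrix (Fin 2) (Fin 2) F) 0 0 =
      (x : Matrix (Fin 2) (Fin 2) F) 1 1 * (x : Matrix (Fin 2) (Fin 2) F) 0 0 *
        (g : Matrix (Fin 2) (Fin 2) F) 0 0 -
      (x : Matrix (Fin 2) (Fin 2) F) 0 1 * (x : Matrix (Fin 2) (Fin 2) F) 0 0 *
        (g : Matrix (Fin 2) (Fin 2) F) 1 0 +
      (x : Matrix (Fin 2) (Fin 2) F) 1 1 * (x : Matrix (Fin 2) (Fin 2) F) 1 0 *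
        (g : Matrix (Fin 2) (Fin 2) F) 0 1 -
      (x : Matrix (Fin 2) (Fin 2) F) 0 1 * (x : Matrix (Fin 2) (Fin 2) F) 1 0 *
        (g : Matrix (Fin 2) (Fin 2) F) 1 1 := by
  simp only [Matrix.SpecialLinearGroup.coe_mul, Matrix.SpecialLinearGroup.coe_inv,
    Matrix.adjugate_fin_two, Matrix.mul_apply, Fin.sum_univ_two, Matrix.of_apply,
    Matrix.cons_val', Matrix.cons_val_zero, Matrix.cons_val_one, Matrix.cons_val_fin_one]
  ring

end Borel

section Alpha

variable {F : Type*} [Field F]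

theorem bSL_00 (a : Fˣ) (t : F) :
    ((bSL a t : Matrix.SpecialLinearGroup (Fin 2) F) : Matrix (Fin 2) (Fin 2) F) 0 0 = a := rfl

theorem bSL_01 (a : Fˣ) (t : F) :
    ((bSL a t : Matrix.SpecialLinearGroup (Fin 2) F) : Matrix (Fin 2) (Fin 2) F) 0 1 = t := rfl

theorem bSL_10 (a : Fˣ) (t : F) :
    ((bSL a t : Matrix.SpecialLinearGroup (Fin 2) F) : Matrix (Fin 2) (Fin 2) F) 1 0 = 0 := rfl

theorem bSL_11 (a : Fˣ) (t : F) :
    ((bSL a t : Matrix.SpecialLinearGroup (Fin 2) F) : Matrix (Fin 2) (Fin 2) F) 1 1 =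
      ((a⁻¹ : Fˣ) : F) := rfl

/-- the function `b ↦ α(b₀₀)` on the upper triangular subgroup -/
noncomputable def alphaB (α : MulChar F ℂ) : BSL F → ℂ :=
  fun b => α (((b : Matrix.SpecialLinearGroup (Fin 2) F) : Matrix (Fin 2) (Fin 2) F) 0 0)

theorem alphaB_apply (α : MulChar F ℂ) (b : BSL F) :
    alphaB α b = α (((b : Matrix.SpecialLinearGroup (Fin 2) F) : Matrix (Fin 2) (Fin 2) F) 0 0) :=
  rfl

theorem extendByZero_alphaB [DecidableEq F] (α : MulChar F ℂ)
    (y : Matrix.SpecialLinearGroup (Fin 2) F) :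
    Cfsg.extendByZero (BSL F) (alphaB α) y =
      if (y : Matrix (Fin 2) (Fin 2) F) 1 0 = 0 then α ((y : Matrix (Fin 2) (Fin 2) F) 0 0)
      else 0 := by
  by_cases h : (y : Matrix (Fin 2) (Fin 2) F) 1 0 = 0
  · rw [if_pos h, extendByZero_apply_mem _ _ ((mem_BSL_iff y).2 h)]
    rfl
  · rw [if_neg h, extendByZero_apply_of_not_mem _ _ (fun hy => h ((mem_BSL_iff y).1 hy))]

theorem alpha_mul_conj [Finite F] (α : MulChar F ℂ) (a : Fˣ) :
    α (a : F) * conj (α (a : F)) = 1 := by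
  have h := hom_mul_conj_eq_one α.toUnitHom a
  rwa [MulChar.coe_toUnitHom] at h

theorem alpha_conj_inv [Finite F] (α : MulChar F ℂ) (a : Fˣ) :
    conj (α ((a⁻¹ : Fˣ) : F)) = α (a : F) := by
  have h1 : α (a : F) * α ((a⁻¹ : Fˣ) : F) = 1 := by
    rw [← map_mul, ← Units.val_mul, mul_inv_cancel, Units.val_one, map_one]
  have h2 := alpha_mul_conj α a⁻¹
  calc conj (α ((a⁻¹ : Fˣ) : F)) = (α (a : F) * α ((a⁻¹ : Fˣ) : F)) * conj (α ((a⁻¹ : Fˣ) : F)) := by
        rw [h1, one_mul]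
    _ = α (a : F) := by rw [mul_assoc, h2, mul_one]

variable [Fintype F] [DecidableEq F]

theorem inner_sum_alphaB_mem [Fintype (BSL F)] (α : MulChar F ℂ)
    (x : Matrix.SpecialLinearGroup (Fin 2) F) (hx : (x : Matrix (Fin 2) (Fin 2) F) 1 0 = 0) :
    ∑ b : BSL F, alphaB α b * conj (Cfsg.extendByZero (BSL F) (alphaB α)
      (x⁻¹ * (b : Matrix.SpecialLinearGroup (Fin 2) F) * x)) =
      ((Fintype.card F : ℂ) - 1) * (Fintype.card F : ℂ) := by
  have h := sum_BSL (F := F) (fun y => α ((y : Matrix (Fin 2) (Fin 2) F) 0 0) *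
    conj (Cfsg.extendByZero (BSL F) (alphaB α) (x⁻¹ * y * x)))
  refine Eq.trans h ?_
  have hdet := sl2_det x
  rw [hx, mul_zero, sub_zero] at hdet
  have hterm : ∀ (a : Fˣ) (t : F), α ((bSL a t : Matrix (Fin 2) (Fin 2) F) 0 0) *
      conj (Cfsg.extendByZero (BSL F) (alphaB α) (x⁻¹ * bSL a t * x)) = 1 := by
    intro a t
    rw [extendByZero_alphaB, conj_apply_10, conj_apply_00, hx, bSL_00, bSL_01, bSL_10, bSL_11]
    have e1 : (x : Matrix (Fin 2) (Fin 2) F) 0 0 ^ 2 * 0 - 0 ^ 2 * t +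
        (x : Matrix (Fin 2) (Fin 2) F) 0 0 * 0 * (((a⁻¹ : Fˣ) : F) - (a : F)) = 0 := by ring
    have e2 : (x : Matrix (Fin 2) (Fin 2) F) 1 1 * (x : Matrix (Fin 2) (Fin 2) F) 0 0 * (a : F) -
        (x : Matrix (Fin 2) (Fin 2) F) 0 1 * (x : Matrix (Fin 2) (Fin 2) F) 0 0 * 0 +
        (x : Matrix (Fin 2) (Fin 2) F) 1 1 * 0 * t -
        (x : Matrix (Fin 2) (Fin 2) F) 0 1 * 0 * ((a⁻¹ : Fˣ) : F) = (a : F) := by
      linear_combination (a : F) * hdet
    rw [if_pos e1, e2]
    exact alpha_mul_conj α a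
  simp only [hterm, Finset.sum_const, Finset.card_univ, nsmul_eq_mul, mul_one]
  rw [Fintype.card_units, Nat.cast_sub Fintype.card_pos]
  simp

theorem inner_sum_alphaB_not_mem [Fintype (BSL F)] (α : MulChar F ℂ)
    (x : Matrix.SpecialLinearGroup (Fin 2) F) (hx : (x : Matrix (Fin 2) (Fin 2) F) 1 0 ≠ 0) :
    ∑ b : BSL F, alphaB α b * conj (Cfsg.extendByZero (BSL F) (alphaB α)
      (x⁻¹ * (b : Matrix.SpecialLinearGroup (Fin 2) F) * x)) =
      ∑ a : Fˣ, α (a : F) * α (a : F) := by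
  have h := sum_BSL (F := F) (fun y => α ((y : Matrix (Fin 2) (Fin 2) F) 0 0) *
    conj (Cfsg.extendByZero (BSL F) (alphaB α) (x⁻¹ * y * x)))
  refine Eq.trans h ?_
  have hdet := sl2_det x
  apply Finset.sum_congr rfl
  intro a _
  set p := (x : Matrix (Fin 2) (Fin 2) F) 0 0 with hp
  set r := (x : Matrix (Fin 2) (Fin 2) F) 1 0 with hr
  rw [Finset.sum_eq_single (p * (((a⁻¹ : Fˣ) : F) - (a : F)) / r)]
  · rw [extendByZero_alphaB, conj_apply_10, conj_apply_00, bSL_00, bSL_01, bSL_10, bSL_11,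
      ← hp, ← hr]
    have e1 : p ^ 2 * 0 - r ^ 2 * (p * (((a⁻¹ : Fˣ) : F) - (a : F)) / r) +
        p * r * (((a⁻¹ : Fˣ) : F) - (a : F)) = 0 := by
      field_simp
      ring
    have e2 : (x : Matrix (Fin 2) (Fin 2) F) 1 1 * p * (a : F) -
        (x : Matrix (Fin 2) (Fin 2) F) 0 1 * p * 0 +
        (x : Matrix (Fin 2) (Fin 2) F) 1 1 * r * (p * (((a⁻¹ : Fˣ) : F) - (a : F)) / r) -
        (x : Matrix (Fin 2) (Fin 2) F) 0 1 * r * ((a⁻¹ : Fˣ) : F) = ((a⁻¹ : Fˣ) : F) := by
      have hr' : r * (p * (((a⁻¹ : Fˣ) : F) - (a : F)) / r) = p * (((a⁻¹ : Fˣ) : F) - (a : F)) := by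
        field_simp
      linear_combination (x : Matrix (Fin 2) (Fin 2) F) 1 1 * hr' + ((a⁻¹ : Fˣ) : F) * hdet
    rw [if_pos e1, e2, alpha_conj_inv]
  · intro t _ ht
    rw [extendByZero_alphaB, conj_apply_10, bSL_01, bSL_10, bSL_11, bSL_00, ← hp, ← hr]
    have e1 : ¬ (p ^ 2 * 0 - r ^ 2 * t + p * r * (((a⁻¹ : Fˣ) : F) - (a : F)) = 0) := by
      intro h0
      apply ht
      rw [eq_div_iff hx]
      have h1 : r * (p * (((a⁻¹ : Fˣ) : F) - (a : F)) - r * t) = 0 := by linear_combination h0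
      rcases mul_eq_zero.1 h1 with h2 | h2
      · exact absurd h2 hx
      · linear_combination -h2
    rw [if_neg e1, map_zero, mul_zero]
  · intro h
    exact absurd (Finset.mem_univ _) h

theorem sum_alpha_sq (α : MulChar F ℂ) :
    ∑ a : Fˣ, α (a : F) * α (a : F) = if α ^ 2 = 1 then (Fintype.card F : ℂ) - 1 else 0 := by
  have hterm : ∀ a : Fˣ, α (a : F) * α (a : F) = (α ^ 2) (a : F) := by
    intro a
    rw [MulChar.pow_apply_coe, pow_two]
  simp only [hterm]
  split_ifs with h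
  · rw [h]
    simp only [MulChar.one_apply_coe, Finset.sum_const, Finset.card_univ, nsmul_eq_mul, mul_one]
    rw [Fintype.card_units, Nat.cast_sub Fintype.card_pos]
    simp
  · obtain ⟨a, ha⟩ := (MulChar.ne_one_iff).1 h
    have h0 := sum_hom_eq_zero (α ^ 2).toUnitHom (a := a) (by
      intro h1
      apply ha
      have := congrArg (fun u : ℂˣ => (u : ℂ)) h1
      simpa [MulChar.coe_toUnitHom] using this)
    simpa [MulChar.coe_toUnitHom] using h0

/-- **Norm of the principal series characters of `SL₂(q)`**: the function induced from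
`b ↦ α(b₀₀)` has norm `2` if `α² = 1` and norm `1` otherwise. -/
theorem classInner_indFun_alphaB [Fintype (Matrix.SpecialLinearGroup (Fin 2) F)]
    [Fintype (BSL F)] (α : MulChar F ℂ) :
    Cfsg.classInner (Cfsg.indFun (BSL F) (alphaB α)) (Cfsg.indFun (BSL F) (alphaB α)) =
      if α ^ 2 = 1 then 2 else 1 := by
  rw [classInner_indFun_self_eq]
  obtain ⟨T, hT⟩ : ∃ T : ℂ, T = ∑ a : Fˣ, α (a : F) * α (a : F) := ⟨_, rfl⟩
  obtain ⟨q, hq⟩ : ∃ q : ℂ, q = (Fintype.card F : ℂ) := ⟨_, rfl⟩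
  have hinner : ∀ x : Matrix.SpecialLinearGroup (Fin 2) F,
      ∑ b : BSL F, alphaB α b * conj (Cfsg.extendByZero (BSL F) (alphaB α)
        (x⁻¹ * (b : Matrix.SpecialLinearGroup (Fin 2) F) * x)) =
      Cfsg.extendByZero (BSL F) (fun _ => (q - 1) * q - T) x + T := by
    intro x
    by_cases hx : (x : Matrix (Fin 2) (Fin 2) F) 1 0 = 0
    · rw [inner_sum_alphaB_mem α x hx, extendByZero_apply_mem _ _ ((mem_BSL_iff x).2 hx), hq]
      ring
    · rw [inner_sum_alphaB_not_mem α x hx,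
        extendByZero_apply_of_not_mem _ _ (fun h => hx ((mem_BSL_iff x).1 h)), hT]
      ring
  simp only [hinner]
  have hq2 : 2 ≤ Fintype.card F := Fintype.one_lt_card
  have c1 : ((Fintype.card F - 1 : ℕ) : ℂ) = q - 1 := by
    rw [Nat.cast_sub (by omega), hq]
    simp
  have c2 : ((Fintype.card F ^ 2 - 1 : ℕ) : ℂ) = q ^ 2 - 1 := by
    rw [Nat.cast_sub (Nat.one_le_pow _ _ (by omega)), hq]
    simp
  have hq0 : q ≠ 0 := by
    rw [hq]
    exact_mod_cast Fintype.card_ne_zero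
  have hq1 : q - 1 ≠ 0 := by
    rw [← c1]
    have : Fintype.card F - 1 ≠ 0 := by omega
    exact_mod_cast this
  rw [Finset.sum_add_distrib, sum_extendByZero, Finset.sum_const, Finset.sum_const,
    Finset.card_univ, Finset.card_univ, nsmul_eq_mul, nsmul_eq_mul,
    ← Nat.card_eq_fintype_card, ← Nat.card_eq_fintype_card, card_BSL, card_SL2,
    Nat.cast_mul, Nat.cast_mul, c1, c2, ← hq]
  have hTv := sum_alpha_sq α
  rw [← hT, ← hq] at hTv
  rw [hTv]
  split_ifs
  · field_simp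
    ring
  · field_simp
    ring

variable [Fintype (Matrix.SpecialLinearGroup (Fin 2) F)] [Fintype (BSL F)]

theorem card_BSL_ne_zero : (Nat.card (BSL F) : ℂ) ≠ 0 := by
  exact_mod_cast (Nat.card_pos (α := BSL F)).ne'

theorem sum_ite_BSL (c : ℂ) :
    ∑ x : Matrix.SpecialLinearGroup (Fin 2) F,
      (if (x : Matrix (Fin 2) (Fin 2) F) 1 0 = 0 then c else 0) =
      (Nat.card (BSL F) : ℂ) * c := by
  have h : ∀ x : Matrix.SpecialLinearGroup (Fin 2) F,
      (if (x : Matrix (Fin 2) (Fin 2) F) 1 0 = 0 then c else 0) =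
        Cfsg.extendByZero (BSL F) (fun _ => c) x := by
    intro x
    by_cases hx : (x : Matrix (Fin 2) (Fin 2) F) 1 0 = 0
    · rw [if_pos hx, extendByZero_apply_mem _ _ ((mem_BSL_iff x).2 hx)]
    · rw [if_neg hx, extendByZero_apply_of_not_mem _ _ (fun h => hx ((mem_BSL_iff x).1 h))]
  simp only [h]
  rw [sum_extendByZero, Finset.sum_const, Finset.card_univ, nsmul_eq_mul,
    Nat.card_eq_fintype_card]

theorem sum_ite_BSL' (c : ℂ) :
    ∑ x : Matrix.SpecialLinearGroup (Fin 2) F,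
      (if (x : Matrix (Fin 2) (Fin 2) F) 0 0 = 0 then c else 0) =
      (Nat.card (BSL F) : ℂ) * c := by
  have h := Equiv.sum_comp (Equiv.mulLeft (wSL : Matrix.SpecialLinearGroup (Fin 2) F))
    (fun x => if (x : Matrix (Fin 2) (Fin 2) F) 1 0 = 0 then c else 0)
  rw [← sum_ite_BSL c, ← h]
  apply Finset.sum_congr rfl
  intro x _
  have e : ((wSL * x : Matrix.SpecialLinearGroup (Fin 2) F) : Matrix (Fin 2) (Fin 2) F) 1 0 =
      - (x : Matrix (Fin 2) (Fin 2) F) 0 0 := by
    simp [wSL_val, Matrix.mul_apply, Fin.sum_univ_two]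
  simp only [Equiv.coe_mulLeft, e, neg_eq_zero]

theorem indFun_alphaB_apply (α : MulChar F ℂ) (g : Matrix.SpecialLinearGroup (Fin 2) F) :
    Cfsg.indFun (BSL F) (alphaB α) g = (Nat.card (BSL F) : ℂ)⁻¹ *
      ∑ x : Matrix.SpecialLinearGroup (Fin 2) F,
        (if ((x⁻¹ * g * x : Matrix.SpecialLinearGroup (Fin 2) F) :
            Matrix (Fin 2) (Fin 2) F) 1 0 = 0
          then α (((x⁻¹ * g * x : Matrix.SpecialLinearGroup (Fin 2) F) :
            Matrix (Fin 2) (Fin 2) F) 0 0) else 0) := by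
  rw [indFun_apply]
  simp only [extendByZero_alphaB]

/-- Value of the induced character at `±` a nontrivial unipotent element. -/
theorem indFun_alphaB_unipotent (α : MulChar F ℂ) (g : Matrix.SpecialLinearGroup (Fin 2) F)
    (h10 : (g : Matrix (Fin 2) (Fin 2) F) 1 0 = 0)
    (heq : (g : Matrix (Fin 2) (Fin 2) F) 0 0 = (g : Matrix (Fin 2) (Fin 2) F) 1 1)
    (h01 : (g : Matrix (Fin 2) (Fin 2) F) 0 1 ≠ 0) :
    Cfsg.indFun (BSL F) (alphaB α) g = α ((g : Matrix (Fin 2) (Fin 2) F) 0 0) := by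
  rw [indFun_alphaB_apply]
  have hterm : ∀ x : Matrix.SpecialLinearGroup (Fin 2) F,
      (if ((x⁻¹ * g * x : Matrix.SpecialLinearGroup (Fin 2) F) :
          Matrix (Fin 2) (Fin 2) F) 1 0 = 0
        then α (((x⁻¹ * g * x : Matrix.SpecialLinearGroup (Fin 2) F) :
          Matrix (Fin 2) (Fin 2) F) 0 0) else 0) =
      if (x : Matrix (Fin 2) (Fin 2) F) 1 0 = 0 then α ((g : Matrix (Fin 2) (Fin 2) F) 0 0)
        else 0 := by
    intro x
    rw [conj_apply_10, conj_apply_00, h10, heq]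
    by_cases hx : (x : Matrix (Fin 2) (Fin 2) F) 1 0 = 0
    · have hdet := sl2_det x
      rw [hx, mul_zero, sub_zero] at hdet
      rw [if_pos hx, if_pos (by rw [hx]; ring)]
      congr 1
      rw [hx]
      linear_combination (g : Matrix (Fin 2) (Fin 2) F) 1 1 * hdet
    · rw [if_neg hx, if_neg]
      intro h0
      have h1 : (x : Matrix (Fin 2) (Fin 2) F) 1 0 ^ 2 * (g : Matrix (Fin 2) (Fin 2) F) 0 1 = 0 := by
        linear_combination -h0
      rcases mul_eq_zero.1 h1 with h | h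
      · exact hx ((pow_eq_zero_iff (two_ne_zero)).1 h)
      · exact h01 h
  simp only [hterm]
  rw [sum_ite_BSL, ← mul_assoc, inv_mul_cancel₀ card_BSL_ne_zero, one_mul]

/-- Value of the induced character at a diagonal element with distinct entries. -/
theorem indFun_alphaB_diag (α : MulChar F ℂ) (g : Matrix.SpecialLinearGroup (Fin 2) F)
    (h01 : (g : Matrix (Fin 2) (Fin 2) F) 0 1 = 0)
    (h10 : (g : Matrix (Fin 2) (Fin 2) F) 1 0 = 0)
    (hne : (g : Matrix (Fin 2) (Fin 2) F) 0 0 ≠ (g : Matrix (Fin 2) (Fin 2) F) 1 1) :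
    Cfsg.indFun (BSL F) (alphaB α) g = α ((g : Matrix (Fin 2) (Fin 2) F) 0 0) +
      α ((g : Matrix (Fin 2) (Fin 2) F) 1 1) := by
  rw [indFun_alphaB_apply]
  have hne' : (g : Matrix (Fin 2) (Fin 2) F) 1 1 - (g : Matrix (Fin 2) (Fin 2) F) 0 0 ≠ 0 :=
    fun h => hne (sub_eq_zero.1 h).symm
  have hterm : ∀ x : Matrix.SpecialLinearGroup (Fin 2) F,
      (if ((x⁻¹ * g * x : Matrix.SpecialLinearGroup (Fin 2) F) :
          Matrix (Fin 2) (Fin 2) F) 1 0 = 0
        then α (((x⁻¹ * g * x : Matrix.SpecialLinearGroup (Fin 2) F) :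
          Matrix (Fin 2) (Fin 2) F) 0 0) else 0) =
      (if (x : Matrix (Fin 2) (Fin 2) F) 1 0 = 0 then α ((g : Matrix (Fin 2) (Fin 2) F) 0 0)
        else 0) +
      (if (x : Matrix (Fin 2) (Fin 2) F) 0 0 = 0 then α ((g : Matrix (Fin 2) (Fin 2) F) 1 1)
        else 0) := by
    intro x
    have hdet := sl2_det x
    rw [conj_apply_10, conj_apply_00, h10, h01]
    by_cases hx : (x : Matrix (Fin 2) (Fin 2) F) 1 0 = 0
    · have hp : (x : Matrix (Fin 2) (Fin 2) F) 0 0 ≠ 0 := by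
        intro hp
        rw [hx, hp] at hdet
        simp at hdet
      rw [if_pos hx, if_neg hp, add_zero, if_pos (by rw [hx]; ring)]
      congr 1
      rw [hx] at hdet ⊢
      linear_combination (g : Matrix (Fin 2) (Fin 2) F) 0 0 * hdet
    · by_cases hp : (x : Matrix (Fin 2) (Fin 2) F) 0 0 = 0
      · rw [if_neg hx, if_pos hp, zero_add, if_pos (by rw [hp]; ring)]
        congr 1
        rw [hp] at hdet ⊢
        linear_combination (g : Matrix (Fin 2) (Fin 2) F) 1 1 * hdet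
      · rw [if_neg hx, if_neg hp, add_zero, if_neg]
        intro h0
        have h1 : (x : Matrix (Fin 2) (Fin 2) F) 0 0 * (x : Matrix (Fin 2) (Fin 2) F) 1 0 *
            ((g : Matrix (Fin 2) (Fin 2) F) 1 1 - (g : Matrix (Fin 2) (Fin 2) F) 0 0) = 0 := by
          linear_combination h0
        rcases mul_eq_zero.1 h1 with h | h
        · rcases mul_eq_zero.1 h with h | h
          · exact hp h
          · exact hx h
        · exact hne' h
  simp only [hterm]
  rw [Finset.sum_add_distrib, sum_ite_BSL, sum_ite_BSL', ← mul_add, ← mul_assoc,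
    inv_mul_cancel₀ card_BSL_ne_zero, one_mul]

omit [Fintype F] [DecidableEq F] [Fintype (Matrix.SpecialLinearGroup (Fin 2) F)]
  [Fintype (BSL F)] in
/-- An element of `SL₂` with no eigenvector has no conjugate in the upper triangular
subgroup. -/
theorem elliptic_not_conj_BSL (g : Matrix.SpecialLinearGroup (Fin 2) F)
    (hg : ∀ (c : F) (v : Fin 2 → F), v ≠ 0 → (g : Matrix (Fin 2) (Fin 2) F).mulVec v ≠ c • v)
    (x : Matrix.SpecialLinearGroup (Fin 2) F) :
    ((x⁻¹ * g * x : Matrix.SpecialLinearGroup (Fin 2) F) : Matrix (Fin 2) (Fin 2) F) 1 0 ≠ 0 := by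
  intro hmem
  set y := x⁻¹ * g * x with hy
  have hxy : g * x = x * y := by rw [hy]; group
  have hM : (g : Matrix (Fin 2) (Fin 2) F) * (x : Matrix (Fin 2) (Fin 2) F) =
      (x : Matrix (Fin 2) (Fin 2) F) * (y : Matrix (Fin 2) (Fin 2) F) := by
    have := congrArg (fun z : Matrix.SpecialLinearGroup (Fin 2) F =>
      (z : Matrix (Fin 2) (Fin 2) F)) hxy
    simpa using this
  let v : Fin 2 → F := fun i => (x : Matrix (Fin 2) (Fin 2) F) i 0
  have hv : v ≠ 0 := by
    intro h0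
    have hdet := sl2_det x
    have e0 : (x : Matrix (Fin 2) (Fin 2) F) 0 0 = 0 := congrFun h0 0
    have e1 : (x : Matrix (Fin 2) (Fin 2) F) 1 0 = 0 := congrFun h0 1
    rw [e0, e1] at hdet
    simp at hdet
  apply hg ((y : Matrix (Fin 2) (Fin 2) F) 0 0) v hv
  funext i
  have e := congrFun (congrFun hM i) 0
  simp only [Matrix.mul_apply, Fin.sum_univ_two, hmem, mul_zero, add_zero] at e
  simp only [Matrix.mulVec, dotProduct, Fin.sum_univ_two, Pi.smul_apply, smul_eq_mul, v]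
  rw [e, mul_comm]

/-- The induced character vanishes at elements without eigenvectors. -/
theorem indFun_alphaB_elliptic (α : MulChar F ℂ) (g : Matrix.SpecialLinearGroup (Fin 2) F)
    (hg : ∀ (c : F) (v : Fin 2 → F), v ≠ 0 → (g : Matrix (Fin 2) (Fin 2) F).mulVec v ≠ c • v) :
    Cfsg.indFun (BSL F) (alphaB α) g = 0 := by
  rw [indFun_alphaB_apply]
  have hterm : ∀ x : Matrix.SpecialLinearGroup (Fin 2) F,
      (if ((x⁻¹ * g * x : Matrix.SpecialLinearGroup (Fin 2) F) :
          Matrix (Fin 2) (Fin 2) F) 1 0 = 0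
        then α (((x⁻¹ * g * x : Matrix.SpecialLinearGroup (Fin 2) F) :
          Matrix (Fin 2) (Fin 2) F) 0 0) else 0) = 0 :=
    fun x => if_neg (elliptic_not_conj_BSL g hg x)
  simp only [hterm, Finset.sum_const_zero, mul_zero]

end Alpha

section AlphaHom

variable {F : Type*} [Field F]

theorem BSL_00_ne_zero (b : BSL F) :
    ((b : Matrix.SpecialLinearGroup (Fin 2) F) : Matrix (Fin 2) (Fin 2) F) 0 0 ≠ 0 := by
  have h10 := (mem_BSL_iff _).1 b.2
  have hdet := sl2_det (b : Matrix.SpecialLinearGroup (Fin 2) F)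
  rw [h10, mul_zero, sub_zero] at hdet
  intro h
  rw [h, zero_mul] at hdet
  exact zero_ne_one hdet

/-- the upper left entry of an upper triangular matrix of `SL₂`, as a homomorphism to the units -/
noncomputable def diagUnitSL (F : Type*) [Field F] : BSL F →* Fˣ where
  toFun b := Units.mk0 _ (BSL_00_ne_zero b)
  map_one' := by
    apply Units.ext
    simp
  map_mul' := by
    intro b c
    apply Units.ext
    have hc := (mem_BSL_iff _).1 c.2
    simp only [Units.val_mk0, Units.val_mul, Subgroup.coe_mul, Matrix.SpecialLinearGroup.coe_mul,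
      Matrix.mul_apply, Fin.sum_univ_two, hc, mul_zero, add_zero]

theorem diagUnitSL_apply (b : BSL F) :
    ((diagUnitSL F b : Fˣ) : F) =
      ((b : Matrix.SpecialLinearGroup (Fin 2) F) : Matrix (Fin 2) (Fin 2) F) 0 0 := rfl

/-- `b ↦ α(b₀₀)` as a homomorphism to `ℂˣ` -/
noncomputable def alphaBHom (α : MulChar F ℂ) : BSL F →* ℂˣ :=
  α.toUnitHom.comp (diagUnitSL F)

theorem alphaBHom_apply (α : MulChar F ℂ) (b : BSL F) :
    ((alphaBHom α b : ℂˣ) : ℂ) = alphaB α b := by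
  show ((α.toUnitHom (diagUnitSL F b) : ℂˣ) : ℂ) = _
  rw [MulChar.coe_toUnitHom, diagUnitSL_apply]
  rfl

theorem alphaB_eq (α : MulChar F ℂ) :
    alphaB α = fun b : BSL F => ((alphaBHom α b : ℂˣ) : ℂ) := by
  funext b
  rw [alphaBHom_apply]

theorem isCharacter_alphaB (α : MulChar F ℂ) : Cfsg.IsCharacter (BSL F) (alphaB α) := by
  rw [alphaB_eq]
  exact Cfsg.Agent.Lib.helper19.isCharacter_of_hom (alphaBHom α)

theorem isCharacter_indFun_alphaB [Fintype (Matrix.SpecialLinearGroup (Fin 2) F)]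
    (α : MulChar F ℂ) :
    Cfsg.IsCharacter (Matrix.SpecialLinearGroup (Fin 2) F) (Cfsg.indFun (BSL F) (alphaB α)) :=
  isCharacter_indFun (BSL F) (isCharacter_alphaB α)

/-- **Irreducibility of the principal series of `SL₂(q)`**: the character induced from
`b ↦ α(b₀₀)` is irreducible if and only if `α² ≠ 1`. -/
theorem isIrrCharacter_indFun_alphaB_iff [Fintype F] [DecidableEq F]
    [Fintype (Matrix.SpecialLinearGroup (Fin 2) F)] (α : MulChar F ℂ) :
    Cfsg.IsIrrCharacter (Matrix.SpecialLinearGroup (Fin 2) F)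
      (Cfsg.indFun (BSL F) (alphaB α)) ↔ α ^ 2 ≠ 1 := by
  have : Fintype (BSL F) := Fintype.ofFinite _
  have hn := classInner_indFun_alphaB α
  constructor
  · intro hirr h2
    rw [if_pos h2, classInner_irr_self hirr] at hn
    norm_num at hn
  · intro h2
    rw [if_neg h2] at hn
    exact isIrrCharacter_of_isCharacter_of_norm_one (isCharacter_indFun_alphaB α) hn

/-- The induced character does not contain the trivial character when `α ≠ 1`. -/
theorem classInner_indFun_alphaB_one [Finite F] [Fintype (Matrix.SpecialLinearGroup (Fin 2) F)]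
    (α : MulChar F ℂ) (hα : α ≠ 1) :
    Cfsg.classInner (Cfsg.indFun (BSL F) (alphaB α)) (fun _ => (1 : ℂ)) = 0 := by
  have : Fintype (BSL F) := Fintype.ofFinite _
  rw [frobenius_reciprocity (BSL F) (alphaB α) (χ := fun _ => (1 : ℂ)) (fun g h => rfl)]
  obtain ⟨a, ha⟩ := (MulChar.ne_one_iff).1 hα
  have hne : alphaBHom α ⟨bSL a 0, bSL_mem a 0⟩ ≠ 1 := by
    intro h
    apply ha
    have h' := congrArg (fun u : ℂˣ => (u : ℂ)) h
    simp only [alphaBHom_apply, Units.val_one] at h'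
    exact h'
  have h0 := sum_hom_eq_zero (alphaBHom α) hne
  unfold Cfsg.classInner
  simp only [map_one, mul_one]
  rw [alphaB_eq, h0, mul_zero]

end AlphaHom

end Cfsg.Agent.Lib.helper43
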