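-- helper43: principal series of SL₂(q): inner products of two induced characters (Mackey),
-- value at central elements.
import Mathlib
import Cfsg.Prelude.Def_Characters
import Cfsg.Agent.Lib.helper43.SL2Borel

set_option autoImplicit false

namespace Cfsg.Agent.Lib.helper43

open scoped ComplexConjugate
open Cfsg.Agent.Lib.helper4
open Matrix

section General

variable {G : Type*} [Group G]

/-- Mackey-type formula for the inner product of two induced functions. -/
theorem classInner_indFun_eq [Fintype G] (H : Subgroup G) [Fintype H] (θ φ : H → ℂ) :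
    Cfsg.classInner (Cfsg.indFun H θ) (Cfsg.indFun H φ) =
      (Nat.card H : ℂ)⁻¹ * ((Nat.card H : ℂ)⁻¹ *
        ∑ x : G, ∑ b : H, θ b * conj (Cfsg.extendByZero H φ (x⁻¹ * (b : G) * x))) := by
  rw [frobenius_reciprocity H θ (isClassFunction_indFun H φ)]
  unfold Cfsg.classInner
  congr 1
  rw [Finset.sum_comm, Finset.mul_sum]
  apply Finset.sum_congr rfl
  intro b _
  beta_reduce
  rw [indFun_apply, map_mul, map_sum, map_inv₀, map_natCast, Finset.mul_sum, Finset.mul_sum,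
    Finset.mul_sum]
  apply Finset.sum_congr rfl
  intro x _
  ring

end General

section Alpha2

variable {F : Type*} [Field F] [Fintype F] [DecidableEq F]

theorem sum_units_mulChar (γ : MulChar F ℂ) [Decidable (γ = 1)] :
    ∑ a : Fˣ, γ (a : F) = if γ = 1 then (Fintype.card F : ℂ) - 1 else 0 := by
  classical
  split_ifs with h
  · rw [h]
    simp only [MulChar.one_apply_coe, Finset.sum_const, Finset.card_univ, nsmul_eq_mul, mul_one]
    rw [Fintype.card_units, Nat.cast_sub Fintype.card_pos]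
    simp
  · obtain ⟨a, ha⟩ := (MulChar.ne_one_iff).1 h
    have h0 := sum_hom_eq_zero γ.toUnitHom (a := a) (by
      intro h1
      apply ha
      have := congrArg (fun u : ℂˣ => (u : ℂ)) h1
      simpa [MulChar.coe_toUnitHom] using this)
    simpa [MulChar.coe_toUnitHom] using h0

omit [Fintype F] [DecidableEq F] in
theorem alpha_conj_eq_inv [Finite F] (β : MulChar F ℂ) (a : Fˣ) :
    conj (β (a : F)) = β⁻¹ (a : F) := by
  have h := alpha_conj_inv β a⁻¹
  rw [inv_inv] at h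
  rw [h, MulChar.inv_apply', Units.val_inv_eq_inv_val]

theorem inner_sum_alphaB_mem2 [Fintype (BSL F)] (α β : MulChar F ℂ)
    (x : Matrix.SpecialLinearGroup (Fin 2) F) (hx : (x : Matrix (Fin 2) (Fin 2) F) 1 0 = 0) :
    ∑ b : BSL F, alphaB α b * conj (Cfsg.extendByZero (BSL F) (alphaB β)
      (x⁻¹ * (b : Matrix.SpecialLinearGroup (Fin 2) F) * x)) =
      (Fintype.card F : ℂ) * ∑ a : Fˣ, (α * β⁻¹) (a : F) := by
  have h := sum_BSL (F := F) (fun y => α ((y : Matrix (Fin 2) (Fin 2) F) 0 0) *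
    conj (Cfsg.extendByZero (BSL F) (alphaB β) (x⁻¹ * y * x)))
  refine Eq.trans h ?_
  have hdet := sl2_det x
  rw [hx, mul_zero, sub_zero] at hdet
  have hterm : ∀ (a : Fˣ) (t : F), α ((bSL a t : Matrix (Fin 2) (Fin 2) F) 0 0) *
      conj (Cfsg.extendByZero (BSL F) (alphaB β) (x⁻¹ * bSL a t * x)) = (α * β⁻¹) (a : F) := by
    intro a t
    rw [extendByZero_alphaB, conj_apply_10, conj_apply_00, hx, bSL_00, bSL_01, bSL_10, bSL_11]
    have e1 : (x : Matrix (Fin 2) (Fin 2) F) 0 0 ^ 2 * 0 - 0 ^ 2 * t +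
        (x : Matrix (Fin 2) (Fin 2) F) 0 0 * 0 * (((a⁻¹ : Fˣ) : F) - (a : F)) = 0 := by ring
    have e2 : (x : Matrix (Fin 2) (Fin 2) F) 1 1 * (x : Matrix (Fin 2) (Fin 2) F) 0 0 * (a : F) -
        (x : Matrix (Fin 2) (Fin 2) F) 0 1 * (x : Matrix (Fin 2) (Fin 2) F) 0 0 * 0 +
        (x : Matrix (Fin 2) (Fin 2) F) 1 1 * 0 * t -
        (x : Matrix (Fin 2) (Fin 2) F) 0 1 * 0 * ((a⁻¹ : Fˣ) : F) = (a : F) := by
      linear_combination (a : F) * hdet
    rw [if_pos e1, e2, alpha_conj_eq_inv, MulChar.mul_apply]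
  simp only [hterm, Finset.sum_const, Finset.card_univ, nsmul_eq_mul]
  rw [Finset.mul_sum]

theorem inner_sum_alphaB_not_mem2 [Fintype (BSL F)] (α β : MulChar F ℂ)
    (x : Matrix.SpecialLinearGroup (Fin 2) F) (hx : (x : Matrix (Fin 2) (Fin 2) F) 1 0 ≠ 0) :
    ∑ b : BSL F, alphaB α b * conj (Cfsg.extendByZero (BSL F) (alphaB β)
      (x⁻¹ * (b : Matrix.SpecialLinearGroup (Fin 2) F) * x)) =
      ∑ a : Fˣ, (α * β) (a : F) := by
  have h := sum_BSL (F := F) (fun y => α ((y : Matrix (Fin 2) (Fin 2) F) 0 0) *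
    conj (Cfsg.extendByZero (BSL F) (alphaB β) (x⁻¹ * y * x)))
  refine Eq.trans h ?_
  have hdet := sl2_det x
  apply Finset.sum_congr rfl
  intro a _
  set p := (x : Matrix (Fin 2) (Fin 2) F) 0 0 with hp
  set r := (x : Matrix (Fin 2) (Fin 2) F) 1 0 with hr
  rw [Finset.sum_eq_single (p * (((a⁻¹ : Fˣ) : F) - (a : F)) / r)]
  · rw [extendByZero_alphaB, conj_apply_10, conj_apply_00, bSL_00, bSL_01, bSL_10, bSL_11,
      ← hp, ← hr]
    have e1 : p ^ 2 * 0 - r ^ 2 * (p * (((a⁻¹ : Fˣ) : F) - (a : F)) / r) +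
        p * r * (((a⁻¹ : Fˣ) : F) - (a : F)) = 0 := by
      field_simp
      ring
    have e2 : (x : Matrix (Fin 2) (Fin 2) F) 1 1 * p * (a : F) -
        (x : Matrix (Fin 2) (Fin 2) F) 0 1 * p * 0 +
        (x : Matrix (Fin 2) (Fin 2) F) 1 1 * r * (p * (((a⁻¹ : Fˣ) : F) - (a : F)) / r) -
        (x : Matrix (Fin 2) (Fin 2) F) 0 1 * r * ((a⁻¹ : Fˣ) : F) = ((a⁻¹ : Fˣ) : F) := by
      have hr' : r * (p * (((a⁻¹ : Fˣ) : F) - (a : F)) / r) = p * (((a⁻¹ : Fˣ) : F) - (a : F)) := by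
        field_simp
      linear_combination (x : Matrix (Fin 2) (Fin 2) F) 1 1 * hr' + ((a⁻¹ : Fˣ) : F) * hdet
    rw [if_pos e1, e2, alpha_conj_inv, MulChar.mul_apply]
  · intro t _ ht
    rw [extendByZero_alphaB, conj_apply_10, bSL_01, bSL_10, bSL_11, bSL_00, ← hp, ← hr]
    have e1 : ¬ (p ^ 2 * 0 - r ^ 2 * t + p * r * (((a⁻¹ : Fˣ) : F) - (a : F)) = 0) := by
      intro h0
      apply ht
      rw [eq_div_iff hx]
      have h1 : r * (p * (((a⁻¹ : Fˣ) : F) - (a : F)) - r * t) = 0 := by linear_combination h0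
      rcases mul_eq_zero.1 h1 with h2 | h2
      · exact absurd h2 hx
      · linear_combination -h2
    rw [if_neg e1, map_zero, mul_zero]
  · intro h
    exact absurd (Finset.mem_univ _) h

/-- **Mackey formula for the principal series of `SL₂(q)`**: the inner product of the functions
induced from `b ↦ α(b₀₀)` and `b ↦ β(b₀₀)` is `[α = β] + [α = β⁻¹]`. -/
theorem classInner_indFun_alphaB_two [Fintype (Matrix.SpecialLinearGroup (Fin 2) F)]
    [Fintype (BSL F)] (α β : MulChar F ℂ) [Decidable (α = β)] [Decidable (α = β⁻¹)] :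
    Cfsg.classInner (Cfsg.indFun (BSL F) (alphaB α)) (Cfsg.indFun (BSL F) (alphaB β)) =
      (if α = β then 1 else 0) + (if α = β⁻¹ then 1 else 0) := by
  classical
  rw [classInner_indFun_eq]
  obtain ⟨T1, hT1⟩ : ∃ T : ℂ, T = ∑ a : Fˣ, (α * β⁻¹) (a : F) := ⟨_, rfl⟩
  obtain ⟨T2, hT2⟩ : ∃ T : ℂ, T = ∑ a : Fˣ, (α * β) (a : F) := ⟨_, rfl⟩
  obtain ⟨q, hq⟩ : ∃ q : ℂ, q = (Fintype.card F : ℂ) := ⟨_, rfl⟩
  have hinner : ∀ x : Matrix.SpecialLinearGroup (Fin 2) F,
      ∑ b : BSL F, alphaB α b * conj (Cfsg.extendByZero (BSL F) (alphaB β)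
        (x⁻¹ * (b : Matrix.SpecialLinearGroup (Fin 2) F) * x)) =
      Cfsg.extendByZero (BSL F) (fun _ => q * T1 - T2) x + T2 := by
    intro x
    by_cases hx : (x : Matrix (Fin 2) (Fin 2) F) 1 0 = 0
    · rw [inner_sum_alphaB_mem2 α β x hx, extendByZero_apply_mem _ _ ((mem_BSL_iff x).2 hx), hq,
        hT1]
      ring
    · rw [inner_sum_alphaB_not_mem2 α β x hx,
        extendByZero_apply_of_not_mem _ _ (fun h => hx ((mem_BSL_iff x).1 h)), hT2]
      ring
  simp only [hinner]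
  have hq2 : 2 ≤ Fintype.card F := Fintype.one_lt_card
  have c1 : ((Fintype.card F - 1 : ℕ) : ℂ) = q - 1 := by
    rw [Nat.cast_sub (by omega), hq]
    simp
  have c2 : ((Fintype.card F ^ 2 - 1 : ℕ) : ℂ) = q ^ 2 - 1 := by
    rw [Nat.cast_sub (Nat.one_le_pow _ _ (by omega)), hq]
    simp
  have hq0 : q ≠ 0 := by
    rw [hq]
    exact_mod_cast Fintype.card_ne_zero
  have hq1 : q - 1 ≠ 0 := by
    rw [← c1]
    have : Fintype.card F - 1 ≠ 0 := by omega
    exact_mod_cast this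
  rw [Finset.sum_add_distrib, sum_extendByZero, Finset.sum_const, Finset.sum_const,
    Finset.card_univ, Finset.card_univ, nsmul_eq_mul, nsmul_eq_mul,
    ← Nat.card_eq_fintype_card, ← Nat.card_eq_fintype_card, card_BSL, card_SL2,
    Nat.cast_mul, Nat.cast_mul, c1, c2, ← hq]
  have hT1v := sum_units_mulChar (α * β⁻¹)
  have hT2v := sum_units_mulChar (α * β)
  rw [← hT1, ← hq] at hT1v
  rw [← hT2, ← hq] at hT2v
  have e1 : (α * β⁻¹ = 1) ↔ α = β := mul_inv_eq_one
  have e2 : (α * β = 1) ↔ α = β⁻¹ := mul_eq_one_iff_eq_inv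
  rw [hT1v, hT2v]
  simp only [e1, e2]
  by_cases h1 : α = β <;> by_cases h2 : α = β⁻¹
  · rw [if_pos h1, if_pos h2, if_pos h1, if_pos h2]
    field_simp
    ring
  · rw [if_pos h1, if_neg h2, if_pos h1, if_neg h2]
    field_simp
    ring
  · rw [if_neg h1, if_pos h2, if_neg h1, if_pos h2]
    field_simp
    ring
  · rw [if_neg h1, if_neg h2, if_neg h1, if_neg h2]
    field_simp
    ring

variable [Fintype (Matrix.SpecialLinearGroup (Fin 2) F)] [Fintype (BSL F)]

/-- Value of the induced character at a central (scalar) element. -/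
theorem indFun_alphaB_central (α : MulChar F ℂ) (g : Matrix.SpecialLinearGroup (Fin 2) F)
    (h01 : (g : Matrix (Fin 2) (Fin 2) F) 0 1 = 0)
    (h10 : (g : Matrix (Fin 2) (Fin 2) F) 1 0 = 0)
    (heq : (g : Matrix (Fin 2) (Fin 2) F) 0 0 = (g : Matrix (Fin 2) (Fin 2) F) 1 1) :
    Cfsg.indFun (BSL F) (alphaB α) g =
      ((Fintype.card F : ℂ) + 1) * α ((g : Matrix (Fin 2) (Fin 2) F) 0 0) := by
  rw [indFun_alphaB_apply]
  have hterm : ∀ x : Matrix.SpecialLinearGroup (Fin 2) F,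
      (if ((x⁻¹ * g * x : Matrix.SpecialLinearGroup (Fin 2) F) :
          Matrix (Fin 2) (Fin 2) F) 1 0 = 0
        then α (((x⁻¹ * g * x : Matrix.SpecialLinearGroup (Fin 2) F) :
          Matrix (Fin 2) (Fin 2) F) 0 0) else 0) = α ((g : Matrix (Fin 2) (Fin 2) F) 0 0) := by
    intro x
    have hdet := sl2_det x
    rw [conj_apply_10, conj_apply_00, h10, h01, ← heq]
    rw [if_pos (by ring)]
    congr 1
    linear_combination (g : Matrix (Fin 2) (Fin 2) F) 0 0 * hdet
  simp only [hterm, Finset.sum_const, Finset.card_univ, nsmul_eq_mul]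
  rw [← Nat.card_eq_fintype_card, card_BSL, card_SL2]
  have hq2 : 2 ≤ Fintype.card F := Fintype.one_lt_card
  have c1 : ((Fintype.card F - 1 : ℕ) : ℂ) = (Fintype.card F : ℂ) - 1 := by
    rw [Nat.cast_sub (by omega)]
    simp
  have c2 : ((Fintype.card F ^ 2 - 1 : ℕ) : ℂ) = (Fintype.card F : ℂ) ^ 2 - 1 := by
    rw [Nat.cast_sub (Nat.one_le_pow _ _ (by omega))]
    simp
  have hq0 : (Fintype.card F : ℂ) ≠ 0 := by
    exact_mod_cast Fintype.card_ne_zero
  have hq1 : (Fintype.card F : ℂ) - 1 ≠ 0 := by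
    rw [← c1]
    have : Fintype.card F - 1 ≠ 0 := by omega
    exact_mod_cast this
  rw [Nat.cast_mul, Nat.cast_mul, c1, c2]
  field_simp
  ring

end Alpha2

end Cfsg.Agent.Lib.helper43
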