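-- helper43: the counting lemma behind the degree classification for SL₂(q), q odd.
import Mathlib

set_option autoImplicit false

namespace Cfsg.Agent.Lib.helper43

/-- integer pairs with `x² + y² = x y + 1` -/
theorem nat_pair_of_sq_add_sq {x y : ℕ} (h : x ^ 2 + y ^ 2 = x * y + 1) :
    (x = 1 ∧ y = 0) ∨ (x = 0 ∧ y = 1) ∨ (x = 1 ∧ y = 1) := by
  have hx : x ≤ 1 := by
    by_contra hcon
    push Not at hcon
    rcases Nat.eq_zero_or_pos y with hy | hy
    · subst hy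
      nlinarith
    · rcases le_total x y with hxy | hxy
      · nlinarith
      · nlinarith
  have hy : y ≤ 1 := by
    by_contra hcon
    push Not at hcon
    rcases Nat.eq_zero_or_pos x with hx0 | hx0
    · subst hx0
      nlinarith
    · rcases le_total x y with hxy | hxy
      · nlinarith
      · nlinarith
  interval_cases x <;> interval_cases y <;> simp_all

/-- Linear algebra step: the three moment identities determine the three sums. -/
theorem moments_solve (k a b e : ℤ) (hk : 0 ≤ k)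
    (E1 : 4 * a - 4 * b + e = 4 * (2 * k + 1))
    (E2 : 2 * a + (2 * k - 1) * b - k * e = 0)
    (E3 : a + 2 * k * b + k ^ 2 * e = (2 * k + 1) * (2 * k) * (2 * k + 2)) :
    a = 4 * k ∧ b = 4 * k ∧ e = 4 * (2 * k + 1) := by
  have hq : (2 * k + 1) ≠ 0 := by omega
  have h1 : (2 * k + 1) * (2 * b - e + 4) = 0 := by linear_combination 2 * E2 - E1
  have h1' : 2 * b - e + 4 = 0 := by
    rcases mul_eq_zero.1 h1 with h | h
    · exact absurd h hq
    · exact h
  have h2 : (2 * k + 1) * (4 * b + (2 * k - 1) * e - 16 * k ^ 2 - 16 * k + 4) = 0 := by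
    linear_combination 4 * E3 - E1
  have h2' : 4 * b + (2 * k - 1) * e - 16 * k ^ 2 - 16 * k + 4 = 0 := by
    rcases mul_eq_zero.1 h2 with h | h
    · exact absurd h hq
    · exact h
  have h3 : (4 * k + 2) * (b - 4 * k) = 0 := by
    linear_combination h2' + (2 * k - 1) * h1'
  have hb : b = 4 * k := by
    rcases mul_eq_zero.1 h3 with h | h
    · omega
    · linarith
  refine ⟨?_, hb, ?_⟩ <;> linarith

/-- **Counting lemma for `SL₂(q)`, `q = 2k + 1`**: from the moment identities for the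
multiplicities `(m, r₊, r₋)` of the trivial character and the two orbits of nontrivial characters
of the unipotent subgroup, one gets the list of types and their numbers (the hypothesis `K3`, uniqueness of the character
of type `(1, 1, 1)`, is only needed for `k ≥ 2`). -/
theorem count_types_odd {ι : Type*} [Fintype ι] (m rp rm : ι → ℕ) (k : ℕ)
    (hN : Fintype.card ι = 2 * k + 5)
    (A1 : ∑ i, (2 * (m i : ℤ) - ((rp i : ℤ) + rm i)) ^ 2 = 4 * (2 * (k : ℤ) + 1))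
    (A2 : ∑ i, ((m i : ℤ) + k * ((rp i : ℤ) + rm i)) * (2 * (m i : ℤ) - ((rp i : ℤ) + rm i)) = 0)
    (A3 : ∑ i, ((m i : ℤ) + k * ((rp i : ℤ) + rm i)) ^ 2 =
      (2 * (k : ℤ) + 1) * (2 * k) * (2 * k + 2))
    (A4 : ∑ i, ((rp i : ℤ) - rm i) ^ 2 = 4)
    (A5 : ∑ i, ((rp i : ℤ) + rm i) * ((rp i : ℤ) - rm i) = 0)
    (A6 : ∑ i, (m i : ℤ) * ((rp i : ℤ) - rm i) = 0)
    (K1 : (Finset.univ.filter (fun i => rp i = 0 ∧ rm i = 0)).card = 1)
    (K1' : ∀ i, rp i = 0 → rm i = 0 → m i = 1)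
    (K2 : ∀ i, 1 ≤ m i → m i + k * (rp i + rm i) ≤ 2 * k + 2)
    (K3 : 2 ≤ k → (∀ i, (rp i = 0 ∧ rm i = 0 ∧ m i = 1) ∨ (rp i = 1 ∧ rm i = 0) ∨
      (rp i = 0 ∧ rm i = 1) ∨ (rp i = 1 ∧ rm i = 1 ∧ m i ≤ 2)) →
      (Finset.univ.filter (fun i => rp i = 1 ∧ rm i = 1 ∧ m i = 1)).card ≤ 1) :
    (∀ i, (rp i = 0 ∧ rm i = 0 ∧ m i = 1) ∨ (rp i = 1 ∧ rm i = 0) ∨ (rp i = 0 ∧ rm i = 1) ∨
      (rp i = 1 ∧ rm i = 1 ∧ m i ≤ 2)) ∧
    (∀ i, rp i + rm i = 1 → m i ≤ 1) ∧
      (Finset.univ.filter (fun i => rp i = 1 ∧ rm i = 1 ∧ m i = 1)).card = 1 ∧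
      (Finset.univ.filter (fun i => rp i = 1 ∧ rm i = 1 ∧ m i = 2)).card = k - 1 ∧
      (Finset.univ.filter (fun i => rp i = 1 ∧ rm i = 1 ∧ m i = 0)).card = k ∧
      (Finset.univ.filter (fun i => rp i = 1 ∧ rm i = 0 ∧ m i = 1)).card = 1 ∧
      (Finset.univ.filter (fun i => rp i = 0 ∧ rm i = 1 ∧ m i = 1)).card = 1 ∧
      (Finset.univ.filter (fun i => rp i = 1 ∧ rm i = 0 ∧ m i = 0)).card = 1 ∧
      (Finset.univ.filter (fun i => rp i = 0 ∧ rm i = 1 ∧ m i = 0)).card = 1 := by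
  classical
  -- Step A: the moments
  obtain ⟨a, haD⟩ : ∃ a : ℤ, a = ∑ i, (m i : ℤ) ^ 2 := ⟨_, rfl⟩
  obtain ⟨b, hbD⟩ : ∃ b : ℤ, b = ∑ i, (m i : ℤ) * ((rp i : ℤ) + rm i) := ⟨_, rfl⟩
  obtain ⟨e, heD⟩ : ∃ e : ℤ, e = ∑ i, ((rp i : ℤ) + rm i) ^ 2 := ⟨_, rfl⟩
  have E1 : 4 * a - 4 * b + e = 4 * (2 * (k : ℤ) + 1) := by
    rw [← A1, haD, hbD, heD]
    simp only [Finset.mul_sum, ← Finset.sum_sub_distrib, ← Finset.sum_add_distrib]
    exact Finset.sum_congr rfl (fun i _ => by ring)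
  have E2 : 2 * a + (2 * (k : ℤ) - 1) * b - k * e = 0 := by
    rw [← A2, haD, hbD, heD]
    simp only [Finset.mul_sum, ← Finset.sum_sub_distrib, ← Finset.sum_add_distrib]
    exact Finset.sum_congr rfl (fun i _ => by ring)
  have E3 : a + 2 * (k : ℤ) * b + (k : ℤ) ^ 2 * e = (2 * (k : ℤ) + 1) * (2 * k) * (2 * k + 2) := by
    rw [← A3, haD, hbD, heD]
    simp only [Finset.mul_sum, ← Finset.sum_add_distrib]
    exact Finset.sum_congr rfl (fun i _ => by ring)
  obtain ⟨ha, hb, he⟩ := moments_solve k a b e (by positivity) E1 E2 E3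
  have hP : ∑ i, ((rp i : ℤ) ^ 2 + (rm i : ℤ) ^ 2) = 4 * k + 4 := by
    have h : e + ∑ i, ((rp i : ℤ) - rm i) ^ 2 = 2 * ∑ i, ((rp i : ℤ) ^ 2 + (rm i : ℤ) ^ 2) := by
      rw [heD]
      simp only [Finset.mul_sum, ← Finset.sum_add_distrib]
      exact Finset.sum_congr rfl (fun i _ => by ring)
    rw [A4, he] at h
    linarith
  have hf : ∑ i, (rp i : ℤ) * (rm i : ℤ) = 2 * k := by
    have h : e - ∑ i, ((rp i : ℤ) - rm i) ^ 2 = 4 * ∑ i, (rp i : ℤ) * (rm i : ℤ) := by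
      rw [heD]
      simp only [Finset.mul_sum, ← Finset.sum_sub_distrib]
      exact Finset.sum_congr rfl (fun i _ => by ring)
    rw [A4, he] at h
    linarith
  have hP' : ∑ i, (rp i ^ 2 + rm i ^ 2) = 4 * k + 4 := by exact_mod_cast hP
  have hf' : ∑ i, rp i * rm i = 2 * k := by exact_mod_cast hf
  -- Step B: the types
  have hnz : ∑ i : ι, (if rp i = 0 ∧ rm i = 0 then 0 else 1) = 2 * k + 4 := by
    have h := Finset.card_filter_add_card_filter_not (s := (Finset.univ : Finset ι))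
      (fun i => rp i = 0 ∧ rm i = 0)
    rw [K1, Finset.card_univ, hN, Finset.card_filter] at h
    have h2 : ∑ i : ι, (if rp i = 0 ∧ rm i = 0 then 0 else 1) =
        ∑ i : ι, (if ¬ (rp i = 0 ∧ rm i = 0) then 1 else 0) := by
      apply Finset.sum_congr rfl
      intro i _
      by_cases hi : rp i = 0 ∧ rm i = 0 <;> simp [hi]
    rw [h2]
    omega
  have hle : ∀ i ∈ (Finset.univ : Finset ι),
      (if rp i = 0 ∧ rm i = 0 then 0 else 1) + rp i * rm i ≤ rp i ^ 2 + rm i ^ 2 := by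
    intro i _
    by_cases hi : rp i = 0 ∧ rm i = 0
    · simp [hi]
    · simp only [hi, if_false]
      rcases lt_trichotomy (rp i) (rm i) with h | h | h
      · nlinarith
      · rw [h] at hi ⊢
        have : rm i ≠ 0 := fun h0 => hi ⟨h0, h0⟩
        have : 1 ≤ rm i := by omega
        nlinarith
      · nlinarith
  have hsum_eq : ∑ i : ι, ((if rp i = 0 ∧ rm i = 0 then 0 else 1) + rp i * rm i) =
      ∑ i : ι, (rp i ^ 2 + rm i ^ 2) := by
    rw [Finset.sum_add_distrib, hnz, hf', hP']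
    ring
  have hpt := (Finset.sum_eq_sum_iff_of_le hle).1 hsum_eq
  have htype : ∀ i, (rp i = 0 ∧ rm i = 0) ∨ (rp i = 1 ∧ rm i = 0) ∨ (rp i = 0 ∧ rm i = 1) ∨
      (rp i = 1 ∧ rm i = 1) := by
    intro i
    have h := hpt i (Finset.mem_univ i)
    by_cases hi : rp i = 0 ∧ rm i = 0
    · left; exact hi
    · right
      simp only [hi, if_false] at h
      exact nat_pair_of_sq_add_sq (by rw [← h]; ring)
  have hcls : ∀ i, (rp i = 0 ∧ rm i = 0 ∧ m i = 1) ∨ (rp i = 1 ∧ rm i = 0) ∨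
      (rp i = 0 ∧ rm i = 1) ∨ (rp i = 1 ∧ rm i = 1 ∧ m i ≤ 2) := by
    intro i
    rcases htype i with ⟨h1, h2⟩ | h | h | ⟨h1, h2⟩
    · left; exact ⟨h1, h2, K1' i h1 h2⟩
    · right; left; exact h
    · right; right; left; exact h
    · right; right; right
      refine ⟨h1, h2, ?_⟩
      by_cases hm : m i = 0
      · omega
      · have := K2 i (by omega)
        rw [h1, h2] at this
        omega
  refine ⟨hcls, ?_⟩
  -- Step C: the multiplicity of the trivial character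
  have ha' : ∑ i, m i ^ 2 = 4 * k := by
    rw [haD] at ha
    exact_mod_cast ha
  have hb' : ∑ i, m i * (rp i + rm i) = 4 * k := by
    rw [hbD] at hb
    exact_mod_cast hb
  have hpt2 : ∀ i, m i ^ 2 + (if rp i = 1 ∧ rm i = 1 ∧ m i = 1 then 1 else 0) =
      m i * (rp i + rm i) + (if rp i = 0 ∧ rm i = 0 then 1 else 0) +
        (if rp i + rm i = 1 then m i * (m i - 1) else 0) := by
    intro i
    rcases hcls i with ⟨h1, h2, h3⟩ | ⟨h1, h2⟩ | ⟨h1, h2⟩ | ⟨h1, h2, h3⟩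
    · simp [h1, h2, h3]
    · simp only [h1, h2]
      rcases Nat.eq_zero_or_pos (m i) with h0 | h0
      · simp [h0]
      · obtain ⟨j, hj⟩ : ∃ j, m i = j + 1 := ⟨m i - 1, by omega⟩
        rw [hj]
        simp
        ring
    · simp only [h1, h2]
      rcases Nat.eq_zero_or_pos (m i) with h0 | h0
      · simp [h0]
      · obtain ⟨j, hj⟩ : ∃ j, m i = j + 1 := ⟨m i - 1, by omega⟩
        rw [hj]
        simp
        ring
    · have : m i = 0 ∨ m i = 1 ∨ m i = 2 := by omega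
      rcases this with h | h | h <;> simp [h1, h2, h]
  have hsum2 : 4 * k + (Finset.univ.filter (fun i => rp i = 1 ∧ rm i = 1 ∧ m i = 1)).card =
      4 * k + 1 + ∑ i, (if rp i + rm i = 1 then m i * (m i - 1) else 0) := by
    have h := Finset.sum_congr (s₁ := (Finset.univ : Finset ι)) rfl (fun i _ => hpt2 i)
    rw [Finset.sum_add_distrib, Finset.sum_add_distrib, Finset.sum_add_distrib, ha', hb',
      ← Finset.card_filter, ← Finset.card_filter, K1] at h
    exact h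
  have heven : ∃ t, ∑ i, (if rp i + rm i = 1 then m i * (m i - 1) else 0) = 2 * t := by
    refine ⟨∑ i, (if rp i + rm i = 1 then m i * (m i - 1) else 0) / 2, ?_⟩
    rw [Finset.mul_sum]
    apply Finset.sum_congr rfl
    intro i _
    split_ifs
    · exact (Nat.mul_div_cancel' (Nat.even_mul_pred_self (m i)).two_dvd).symm
    · simp
  have hK3 : (Finset.univ.filter (fun i => rp i = 1 ∧ rm i = 1 ∧ m i = 1)).card ≤ 1 := by
    rcases Nat.lt_or_ge k 2 with hlt | hge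
    · have hle2 : (Finset.univ.filter (fun i => rp i = 1 ∧ rm i = 1 ∧ m i = 1)).card ≤ 2 * k := by
        rw [← hf', Finset.card_filter]
        apply Finset.sum_le_sum
        intro i _
        split_ifs with h
        · rw [h.1, h.2.1]
        · exact Nat.zero_le _
      obtain ⟨t, ht⟩ := heven
      omega
    · exact K3 hge hcls
  have hn1 : (Finset.univ.filter (fun i => rp i = 1 ∧ rm i = 1 ∧ m i = 1)).card = 1 := by omega
  have hterm : ∑ i, (if rp i + rm i = 1 then m i * (m i - 1) else 0) = 0 := by omega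
  have hhalf : ∀ i, rp i + rm i = 1 → m i ≤ 1 := by
    intro i hi
    have h0 := (Finset.sum_eq_zero_iff.1 hterm) i (Finset.mem_univ i)
    simp only [hi, if_true] at h0
    rcases Nat.mul_eq_zero.1 h0 with h | h <;> omega
  have hcls8 : ∀ i, (rp i = 0 ∧ rm i = 0 ∧ m i = 1) ∨ (rp i = 1 ∧ rm i = 0 ∧ m i = 0) ∨
      (rp i = 1 ∧ rm i = 0 ∧ m i = 1) ∨ (rp i = 0 ∧ rm i = 1 ∧ m i = 0) ∨
      (rp i = 0 ∧ rm i = 1 ∧ m i = 1) ∨ (rp i = 1 ∧ rm i = 1 ∧ m i = 0) ∨
      (rp i = 1 ∧ rm i = 1 ∧ m i = 1) ∨ (rp i = 1 ∧ rm i = 1 ∧ m i = 2) := by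
    intro i
    rcases hcls i with ⟨h1, h2, h3⟩ | ⟨h1, h2⟩ | ⟨h1, h2⟩ | ⟨h1, h2, h3⟩
    · left; exact ⟨h1, h2, h3⟩
    · have := hhalf i (by omega)
      have : m i = 0 ∨ m i = 1 := by omega
      rcases this with h | h
      · right; left; exact ⟨h1, h2, h⟩
      · right; right; left; exact ⟨h1, h2, h⟩
    · have := hhalf i (by omega)
      have : m i = 0 ∨ m i = 1 := by omega
      rcases this with h | h
      · right; right; right; left; exact ⟨h1, h2, h⟩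
      · right; right; right; right; left; exact ⟨h1, h2, h⟩
    · have : m i = 0 ∨ m i = 1 ∨ m i = 2 := by omega
      rcases this with h | h | h
      · right; right; right; right; right; left; exact ⟨h1, h2, h⟩
      · right; right; right; right; right; right; left; exact ⟨h1, h2, h⟩
      · right; right; right; right; right; right; right; exact ⟨h1, h2, h⟩
  -- the counts
  have c4 : (4 : ℤ) = ((Finset.univ.filter (fun i => rp i = 1 ∧ rm i = 0 ∧ m i = 1)).card : ℤ) +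
      ((Finset.univ.filter (fun i => rp i = 1 ∧ rm i = 0 ∧ m i = 0)).card : ℤ) +
      ((Finset.univ.filter (fun i => rp i = 0 ∧ rm i = 1 ∧ m i = 1)).card : ℤ) +
      ((Finset.univ.filter (fun i => rp i = 0 ∧ rm i = 1 ∧ m i = 0)).card : ℤ) := by
    rw [← A4, ← Finset.sum_boole, ← Finset.sum_boole, ← Finset.sum_boole, ← Finset.sum_boole,
      ← Finset.sum_add_distrib, ← Finset.sum_add_distrib, ← Finset.sum_add_distrib]
    apply Finset.sum_congr rfl
    intro i _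
    rcases hcls8 i with ⟨h1, h2, h3⟩ | ⟨h1, h2, h3⟩ | ⟨h1, h2, h3⟩ | ⟨h1, h2, h3⟩ | ⟨h1, h2, h3⟩ |
      ⟨h1, h2, h3⟩ | ⟨h1, h2, h3⟩ | ⟨h1, h2, h3⟩ <;> simp [h1, h2, h3]
  have c5 : (0 : ℤ) = ((Finset.univ.filter (fun i => rp i = 1 ∧ rm i = 0 ∧ m i = 1)).card : ℤ) +
      ((Finset.univ.filter (fun i => rp i = 1 ∧ rm i = 0 ∧ m i = 0)).card : ℤ) -
      ((Finset.univ.filter (fun i => rp i = 0 ∧ rm i = 1 ∧ m i = 1)).card : ℤ) -
      ((Finset.univ.filter (fun i => rp i = 0 ∧ rm i = 1 ∧ m i = 0)).card : ℤ) := by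
    rw [← A5, ← Finset.sum_boole, ← Finset.sum_boole, ← Finset.sum_boole, ← Finset.sum_boole,
      ← Finset.sum_add_distrib, ← Finset.sum_sub_distrib, ← Finset.sum_sub_distrib]
    apply Finset.sum_congr rfl
    intro i _
    rcases hcls8 i with ⟨h1, h2, h3⟩ | ⟨h1, h2, h3⟩ | ⟨h1, h2, h3⟩ | ⟨h1, h2, h3⟩ | ⟨h1, h2, h3⟩ |
      ⟨h1, h2, h3⟩ | ⟨h1, h2, h3⟩ | ⟨h1, h2, h3⟩ <;> simp [h1, h2, h3]
  have c6 : (0 : ℤ) = ((Finset.univ.filter (fun i => rp i = 1 ∧ rm i = 0 ∧ m i = 1)).card : ℤ) -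
      ((Finset.univ.filter (fun i => rp i = 0 ∧ rm i = 1 ∧ m i = 1)).card : ℤ) := by
    rw [← A6, ← Finset.sum_boole, ← Finset.sum_boole, ← Finset.sum_sub_distrib]
    apply Finset.sum_congr rfl
    intro i _
    rcases hcls8 i with ⟨h1, h2, h3⟩ | ⟨h1, h2, h3⟩ | ⟨h1, h2, h3⟩ | ⟨h1, h2, h3⟩ | ⟨h1, h2, h3⟩ |
      ⟨h1, h2, h3⟩ | ⟨h1, h2, h3⟩ | ⟨h1, h2, h3⟩ <;> simp [h1, h2, h3]
  have cb : 4 * k = (Finset.univ.filter (fun i => rp i = 1 ∧ rm i = 0 ∧ m i = 1)).card +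
      (Finset.univ.filter (fun i => rp i = 0 ∧ rm i = 1 ∧ m i = 1)).card +
      2 * (Finset.univ.filter (fun i => rp i = 1 ∧ rm i = 1 ∧ m i = 1)).card +
      4 * (Finset.univ.filter (fun i => rp i = 1 ∧ rm i = 1 ∧ m i = 2)).card := by
    rw [← hb', Finset.card_filter, Finset.card_filter, Finset.card_filter, Finset.card_filter,
      Finset.mul_sum, Finset.mul_sum, ← Finset.sum_add_distrib, ← Finset.sum_add_distrib,
      ← Finset.sum_add_distrib]
    apply Finset.sum_congr rfl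
    intro i _
    rcases hcls8 i with ⟨h1, h2, h3⟩ | ⟨h1, h2, h3⟩ | ⟨h1, h2, h3⟩ | ⟨h1, h2, h3⟩ | ⟨h1, h2, h3⟩ |
      ⟨h1, h2, h3⟩ | ⟨h1, h2, h3⟩ | ⟨h1, h2, h3⟩ <;> simp [h1, h2, h3]
  have cN0 : (Finset.univ : Finset ι).card =
      (Finset.univ.filter (fun i => rp i = 0 ∧ rm i = 0)).card +
      (Finset.univ.filter (fun i => rp i = 1 ∧ rm i = 0 ∧ m i = 1)).card +
      (Finset.univ.filter (fun i => rp i = 1 ∧ rm i = 0 ∧ m i = 0)).card +
      (Finset.univ.filter (fun i => rp i = 0 ∧ rm i = 1 ∧ m i = 1)).card +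
      (Finset.univ.filter (fun i => rp i = 0 ∧ rm i = 1 ∧ m i = 0)).card +
      (Finset.univ.filter (fun i => rp i = 1 ∧ rm i = 1 ∧ m i = 0)).card +
      (Finset.univ.filter (fun i => rp i = 1 ∧ rm i = 1 ∧ m i = 1)).card +
      (Finset.univ.filter (fun i => rp i = 1 ∧ rm i = 1 ∧ m i = 2)).card := by
    rw [Finset.card_eq_sum_ones, Finset.card_filter,
      Finset.card_filter, Finset.card_filter, Finset.card_filter, Finset.card_filter,
      Finset.card_filter, Finset.card_filter, Finset.card_filter,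
      ← Finset.sum_add_distrib, ← Finset.sum_add_distrib,
      ← Finset.sum_add_distrib, ← Finset.sum_add_distrib, ← Finset.sum_add_distrib,
      ← Finset.sum_add_distrib, ← Finset.sum_add_distrib]
    apply Finset.sum_congr rfl
    intro i _
    rcases hcls8 i with ⟨h1, h2, h3⟩ | ⟨h1, h2, h3⟩ | ⟨h1, h2, h3⟩ | ⟨h1, h2, h3⟩ | ⟨h1, h2, h3⟩ |
      ⟨h1, h2, h3⟩ | ⟨h1, h2, h3⟩ | ⟨h1, h2, h3⟩ <;> simp [h1, h2, h3]
  rw [Finset.card_univ, hN, K1] at cN0
  refine ⟨hhalf, hn1, ?_, ?_, ?_, ?_, ?_, ?_⟩ <;> omega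

end Cfsg.Agent.Lib.helper43
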