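-- helper43: restriction of a character to a subgroup isomorphic to the additive group of a
-- finite field of odd characteristic, when the character takes one value on the nonzero squares
-- and another on the nonsquares (quadratic Gauss sums appear).
import Mathlib
import Cfsg.Prelude.Def_Characters
import Cfsg.Agent.Lib.helper43.UDecomp

set_option autoImplicit false

namespace Cfsg.Agent.Lib.helper43

open scoped ComplexConjugate
open Cfsg.Agent.Lib.helper4

section TwoClass

variable {F : Type*} [Field F] [Fintype F] [DecidableEq F]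

/-- the quadratic character of a finite field, with complex values -/
noncomputable def etaC (F : Type*) [Field F] [Fintype F] [DecidableEq F] : MulChar F ℂ :=
  (quadraticChar F).ringHomComp (Int.castRingHom ℂ)

theorem etaC_apply (b : F) : etaC F b = ((quadraticChar F b : ℤ) : ℂ) := rfl

theorem etaC_of_isSquare {b : F} (hb : b ≠ 0) (h : IsSquare b) : etaC F b = 1 := by
  rw [etaC_apply, (quadraticChar_one_iff_isSquare hb).2 h]
  simp

theorem etaC_of_not_isSquare {b : F} (h : ¬ IsSquare b) : etaC F b = -1 := by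
  rw [etaC_apply, quadraticChar_neg_one_iff_not_isSquare.2 h]
  simp

theorem etaC_zero : etaC F 0 = 0 := by
  rw [etaC_apply, quadraticChar_zero]
  simp

theorem etaC_conj (b : F) : conj (etaC F b) = etaC F b := by
  rw [etaC_apply]
  simp

theorem etaC_ne_one (hF : ringChar F ≠ 2) : etaC F ≠ 1 :=
  (MulChar.ringHomComp_ne_one_iff (Int.cast_injective (α := ℂ))).2 (quadraticChar_ne_one hF)

theorem etaC_isQuadratic : (etaC F).IsQuadratic :=
  (quadraticChar_isQuadratic F).comp _

theorem etaC_sum (hF : ringChar F ≠ 2) : ∑ b : F, etaC F b = 0 := by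
  have h := quadraticChar_sum_zero hF
  have : ∑ b : F, etaC F b = ((∑ b : F, quadraticChar F b : ℤ) : ℂ) := by
    push_cast
    rfl
  rw [this, h]
  simp

/-- the quadratic Gauss sum has absolute value `√q` -/
theorem gauss_mul_conj (hF : ringChar F ≠ 2) (ψ : AddChar F ℂ) (hψ : ψ ≠ 1) :
    gaussSum (etaC F) ψ * conj (gaussSum (etaC F) ψ) = (Fintype.card F : ℂ) := by
  have h := gaussSum_mul_gaussSum_eq_card (etaC_ne_one hF) (AddChar.IsPrimitive.of_ne_one hψ)
  rw [← star_gaussSum_eq] at h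
  exact h

theorem gauss_sq (hF : ringChar F ≠ 2) (ψ : AddChar F ℂ) (hψ : ψ ≠ 1) :
    gaussSum (etaC F) ψ ^ 2 = etaC F (-1) * (Fintype.card F : ℂ) :=
  gaussSum_sq (etaC_ne_one hF) etaC_isQuadratic (AddChar.IsPrimitive.of_ne_one hψ)

/-- the twisted Gauss sums -/
theorem gauss_mulShift (ψ : AddChar F ℂ) {s : F} (hs : s ≠ 0) :
    gaussSum (etaC F) (AddChar.mulShift ψ s) = etaC F s * gaussSum (etaC F) ψ := by
  have h := gaussSum_mulShift (etaC F) ψ (Units.mk0 s hs)
  rw [Units.val_mk0] at h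
  rw [← h, ← mul_assoc]
  have h2 : etaC F s * etaC F s = 1 := by
    by_cases hsq : IsSquare s
    · rw [etaC_of_isSquare hs hsq]; simp
    · rw [etaC_of_not_isSquare hsq]; simp
  rw [h2, one_mul]

omit [DecidableEq F] in
theorem sum_mulShift (ψ : AddChar F ℂ) (hψ : ψ ≠ 1) {s : F} (hs : s ≠ 0) :
    ∑ b : F, ψ (s * b) = 0 := by
  have hp := AddChar.IsPrimitive.of_ne_one hψ
  have := AddChar.sum_eq_zero_of_ne_one (hp hs)
  simpa using this

end TwoClass

section Decomp

variable {F : Type*} [Field F] [Fintype F] [DecidableEq F]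
variable {G : Type*} [Group G]

/-- **Restriction to a unipotent subgroup with two classes** (odd characteristic).  Let
`u : (F, +) → G` be a homomorphism and `χ` a character of `G` taking the value `χ (u 1)` at
`u b` for all nonzero squares `b` and the value `χ (u ε)` for all nonsquares `b`.  Then there are
natural numbers `m, r₊, r₋` (multiplicities of the trivial character and of the two orbits of
nontrivial characters) with `2 χ(1) = 2 m + (q - 1)(r₊ + r₋)`, `χ(u 1) + χ(u ε) = 2m - (r₊ + r₋)`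
and `χ(u 1) - χ(u ε) = (r₊ - r₋) g`, where `g` is the quadratic Gauss sum. -/
theorem exists_nat_decomp_two (hF : ringChar F ≠ 2) (ψ : AddChar F ℂ) (hψ : ψ ≠ 1)
    (u : Multiplicative F →* G) (ε : F) (hε : ¬ IsSquare ε)
    (χ : G → ℂ) (hχ : Cfsg.IsCharacter G χ)
    (hsq : ∀ b : F, b ≠ 0 → IsSquare b →
      χ (u (Multiplicative.ofAdd b)) = χ (u (Multiplicative.ofAdd 1)))
    (hnsq : ∀ b : F, ¬ IsSquare b →
      χ (u (Multiplicative.ofAdd b)) = χ (u (Multiplicative.ofAdd ε))) :
    ∃ m rp rm : ℕ,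
      2 * χ 1 = 2 * (m : ℂ) + ((Fintype.card F : ℂ) - 1) * ((rp : ℂ) + rm) ∧
      χ (u (Multiplicative.ofAdd 1)) + χ (u (Multiplicative.ofAdd ε)) =
        2 * (m : ℂ) - ((rp : ℂ) + rm) ∧
      χ (u (Multiplicative.ofAdd 1)) - χ (u (Multiplicative.ofAdd ε)) =
        ((rp : ℂ) - rm) * gaussSum (etaC F) ψ ∧
      ∑ b : F, χ (u (Multiplicative.ofAdd b)) = (Fintype.card F : ℂ) * m := by
  classical
  have hq : (Fintype.card F : ℂ) ≠ 0 := by
    exact_mod_cast Fintype.card_ne_zero
  obtain ⟨x, hx⟩ : ∃ x, χ 1 = x := ⟨_, rfl⟩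
  obtain ⟨cp, hcp⟩ : ∃ cp, χ (u (Multiplicative.ofAdd 1)) = cp := ⟨_, rfl⟩
  obtain ⟨cm, hcm⟩ : ∃ cm, χ (u (Multiplicative.ofAdd ε)) = cm := ⟨_, rfl⟩
  obtain ⟨g, hg⟩ : ∃ g, gaussSum (etaC F) ψ = g := ⟨_, rfl⟩
  have hgg : g * conj g = (Fintype.card F : ℂ) := by
    rw [← hg]; exact gauss_mul_conj hF ψ hψ
  rw [hcp] at hsq
  rw [hcm] at hnsq
  rw [hx, hcp, hcm, hg]
  have hε0 : ε ≠ 0 := by
    rintro rfl
    exact hε ⟨0, by simp⟩
  -- pointwise formula for the values on the unipotent elements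
  have hpt : ∀ b : F, χ (u (Multiplicative.ofAdd b)) =
      (x - (cp + cm) / 2) * (if b = 0 then 1 else 0) + (cp + cm) / 2 +
        etaC F b * ((cp - cm) / 2) := by
    intro b
    by_cases hb : b = 0
    · subst hb
      rw [etaC_zero]
      have : u (Multiplicative.ofAdd (0 : F)) = 1 := by
        rw [ofAdd_zero, map_one]
      rw [this, hx]
      simp
    · by_cases hs : IsSquare b
      · rw [hsq b hb hs, etaC_of_isSquare hb hs]
        simp [hb]
        ring
      · rw [hnsq b hs, etaC_of_not_isSquare hs]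
        simp [hb]
        ring
  -- the twisted sums
  have hT : ∀ s : F, ∑ b : F, χ (u (Multiplicative.ofAdd b)) * conj (ψ (s * b)) =
      (x - (cp + cm) / 2) + (cp + cm) / 2 * conj (∑ b : F, ψ (s * b)) +
        (cp - cm) / 2 * conj (gaussSum (etaC F) (AddChar.mulShift ψ s)) := by
    intro s
    have e1 : ∀ b : F, χ (u (Multiplicative.ofAdd b)) * conj (ψ (s * b)) =
        (if b = 0 then (x - (cp + cm) / 2) * conj (ψ (s * b)) else 0) +
          (cp + cm) / 2 * conj (ψ (s * b)) +
          (cp - cm) / 2 * (etaC F b * conj (ψ (s * b))) := by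
      intro b
      rw [hpt b]
      split_ifs <;> ring
    rw [Finset.sum_congr rfl (fun b _ => e1 b), Finset.sum_add_distrib, Finset.sum_add_distrib,
      Finset.sum_ite_eq' Finset.univ (0 : F), if_pos (Finset.mem_univ _), ← Finset.mul_sum,
      ← Finset.mul_sum]
    have e2 : ∑ b : F, etaC F b * conj (ψ (s * b)) =
        conj (gaussSum (etaC F) (AddChar.mulShift ψ s)) := by
      unfold gaussSum
      rw [map_sum]
      apply Finset.sum_congr rfl
      intro b _
      rw [AddChar.mulShift_apply, map_mul (starRingEnd ℂ), etaC_conj]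
    rw [e2, map_sum]
    simp
  have hT0 : ∑ b : F, χ (u (Multiplicative.ofAdd b)) * conj (ψ (0 * b)) =
      (x - (cp + cm) / 2) + (cp + cm) / 2 * (Fintype.card F : ℂ) := by
    rw [hT 0]
    have e1 : ∑ b : F, ψ (0 * b) = (Fintype.card F : ℂ) := by simp
    have e2 : gaussSum (etaC F) (AddChar.mulShift ψ 0) = 0 := by
      rw [AddChar.mulShift_zero]
      unfold gaussSum
      simp only [AddChar.one_apply, mul_one]
      exact etaC_sum hF
    rw [e1, e2]
    simp
  have hT1 : ∀ s : F, s ≠ 0 → ∑ b : F, χ (u (Multiplicative.ofAdd b)) * conj (ψ (s * b)) =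
      (x - (cp + cm) / 2) + (cp - cm) / 2 * (etaC F s * conj g) := by
    intro s hs
    rw [hT s, sum_mulShift ψ hψ hs, gauss_mulShift ψ hs, hg, map_mul, etaC_conj]
    simp
  -- the three multiplicities
  have hθ : Cfsg.IsCharacter (Multiplicative F) (fun h => χ (u h)) := isCharacter_comp u hχ
  have hn : ∀ s : F, ∃ n : ℕ, (Fintype.card F : ℂ) * n =
      ∑ b : F, χ (u (Multiplicative.ofAdd b)) * conj (ψ (s * b)) := by
    intro s
    let φ : Multiplicative F →* ℂˣ := (AddChar.mulShift ψ s).toMonoidHom.toHomUnits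
    obtain ⟨n, hn⟩ := exists_nat_classInner hθ (Cfsg.Agent.Lib.helper19.isCharacter_of_hom φ)
    refine ⟨n, ?_⟩
    rw [← hn]
    unfold Cfsg.classInner
    have hc : (Nat.card (Multiplicative F) : ℂ) = (Fintype.card F : ℂ) := by
      rw [Nat.card_eq_fintype_card, Fintype.card_multiplicative]
    rw [hc, ← mul_assoc, mul_inv_cancel₀ hq, one_mul]
    apply Fintype.sum_equiv Multiplicative.toAdd
    intro h
    rfl
  obtain ⟨m, hm⟩ := hn 0
  obtain ⟨rp, hrp⟩ := hn 1
  obtain ⟨rm, hrm⟩ := hn ε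
  rw [hT0] at hm
  rw [hT1 1 one_ne_zero, etaC_of_isSquare one_ne_zero ⟨1, by simp⟩, one_mul] at hrp
  rw [hT1 ε hε0, etaC_of_not_isSquare hε] at hrm
  refine ⟨m, rp, rm, ?_, ?_, ?_, ?_⟩
  · apply mul_left_cancel₀ hq
    linear_combination (-2 : ℂ) * hm - ((Fintype.card F : ℂ) - 1) * (hrp + hrm)
  · apply mul_left_cancel₀ hq
    linear_combination (-2 : ℂ) * hm + hrp + hrm
  · apply mul_left_cancel₀ hq
    linear_combination (-(cp - cm)) * hgg - g * (hrp - hrm)
  · have : ∑ b : F, χ (u (Multiplicative.ofAdd b)) =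
        ∑ b : F, χ (u (Multiplicative.ofAdd b)) * conj (ψ (0 * b)) := by
      apply Finset.sum_congr rfl
      intro b _
      simp
    rw [this, hT0, hm]

end Decomp

end Cfsg.Agent.Lib.helper43
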