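-- helper43: structure of SL₂(q), q odd, needed for the character degree classification.
import Mathlib
import Cfsg.Prelude.Def_Characters
import Cfsg.Agent.Lib.helper43.SL2Data
import Cfsg.Agent.Lib.helper43.TwoClass
import Cfsg.Agent.Lib.helper43.Constituent
import Cfsg.Agent.S2325

set_option autoImplicit false

namespace Cfsg.Agent.Lib.helper43

open Matrix

section SL2Odd

variable {F : Type*} [Field F]

/-- the unipotent subgroup as a homomorphism from the additive group of `F` -/
def uHomSL (F : Type*) [Field F] : Multiplicative F →* Matrix.SpecialLinearGroup (Fin 2) F where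
  toFun b := uSL (Multiplicative.toAdd b)
  map_one' := uSL_zero
  map_mul' _ _ := (uSL_mul _ _).symm

theorem uHomSL_apply (b : F) : uHomSL F (Multiplicative.ofAdd b) = uSL b := rfl

theorem classFun_uSL_of_isSquare (χ : Matrix.SpecialLinearGroup (Fin 2) F → ℂ)
    (hχ : Cfsg.IsClassFunction (Matrix.SpecialLinearGroup (Fin 2) F) χ) (c : F) {b : F}
    (hb : b ≠ 0) (hs : IsSquare b) : χ (uSL (b * c)) = χ (uSL c) := by
  obtain ⟨a, rfl⟩ := hs
  have ha : a ≠ 0 := by
    rintro rfl
    simp at hb
  have h := dSL_conj (Units.mk0 a ha) c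
  rw [Units.val_mk0] at h
  rw [← h]
  exact hχ _ _

theorem classFun_uSL_of_not_isSquare [Fintype F] (χ : Matrix.SpecialLinearGroup (Fin 2) F → ℂ)
    (hχ : Cfsg.IsClassFunction (Matrix.SpecialLinearGroup (Fin 2) F) χ) {ε b : F}
    (hε : ¬ IsSquare ε) (hb : ¬ IsSquare b) : χ (uSL b) = χ (uSL ε) := by
  classical
  have hε0 : ε ≠ 0 := by
    rintro rfl
    exact hε ⟨0, by simp⟩
  have hb0 : b ≠ 0 := by
    rintro rfl
    exact hb ⟨0, by simp⟩
  have h1 : quadraticChar F (b * ε⁻¹) = 1 := by
    rw [map_mul, quadraticChar_neg_one_iff_not_isSquare.2 hb]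
    have : quadraticChar F ε⁻¹ = -1 := by
      rw [quadraticChar_neg_one_iff_not_isSquare]
      intro h
      apply hε
      obtain ⟨a, ha⟩ := h
      exact ⟨a⁻¹, by rw [← mul_inv, ← ha, inv_inv]⟩
    rw [this]
    norm_num
  have h2 : IsSquare (b * ε⁻¹) :=
    (quadraticChar_one_iff_isSquare (mul_ne_zero hb0 (inv_ne_zero hε0))).1 h1
  have h3 := classFun_uSL_of_isSquare χ hχ ε (mul_ne_zero hb0 (inv_ne_zero hε0)) h2
  rw [inv_mul_cancel_right₀ hε0] at h3
  exact h3

theorem not_isConj_uSL {ε : F} (hε : ¬ IsSquare ε) : ¬ IsConj (uSL (1 : F)) (uSL ε) := by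
  intro h
  rw [isConj_iff] at h
  obtain ⟨g, hg⟩ := h
  have hε0 : ε ≠ 0 := by
    rintro rfl
    exact hε ⟨0, by simp⟩
  rw [mul_inv_eq_iff_eq_mul] at hg
  have hM := congrArg (fun x : Matrix.SpecialLinearGroup (Fin 2) F =>
    (x : Matrix (Fin 2) (Fin 2) F)) hg
  simp only [Matrix.SpecialLinearGroup.coe_mul] at hM
  have e00 := congrFun (congrFun hM 0) 0
  have e01 := congrFun (congrFun hM 0) 1
  simp [uSL_val, Matrix.mul_apply, Fin.sum_univ_two] at e00 e01
  have h10 : (g : Matrix (Fin 2) (Fin 2) F) 1 0 = 0 := by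
    rcases e00 with h | h
    · exact absurd h hε0
    · exact h
  have hdet := g.2
  rw [Matrix.det_fin_two, h10] at hdet
  have h11 : (g : Matrix (Fin 2) (Fin 2) F) 1 1 ≠ 0 := by
    intro h0
    rw [h0] at hdet
    simp at hdet
  apply hε
  refine ⟨((g : Matrix (Fin 2) (Fin 2) F) 1 1)⁻¹, ?_⟩
  field_simp
  linear_combination hdet - (g : Matrix (Fin 2) (Fin 2) F) 1 1 * e01

theorem mem_centralizer_uSL_iff' {b : F} (hb : b ≠ 0) (h : Matrix.SpecialLinearGroup (Fin 2) F) :
    h ∈ Subgroup.centralizer ({uSL b} : Set (Matrix.SpecialLinearGroup (Fin 2) F)) ↔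
      (h : Matrix (Fin 2) (Fin 2) F) 1 0 = 0 ∧
        (h : Matrix (Fin 2) (Fin 2) F) 0 0 = (h : Matrix (Fin 2) (Fin 2) F) 1 1 := by
  rw [Subgroup.mem_centralizer_singleton_iff]
  constructor
  · intro hc
    have hM : (h : Matrix (Fin 2) (Fin 2) F) * (uSL b : Matrix (Fin 2) (Fin 2) F) =
        (uSL b : Matrix (Fin 2) (Fin 2) F) * (h : Matrix (Fin 2) (Fin 2) F) := by
      have := congrArg (fun x : Matrix.SpecialLinearGroup (Fin 2) F =>
        (x : Matrix (Fin 2) (Fin 2) F)) hc
      simpa using this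
    have e00 := congrFun (congrFun hM 0) 0
    have e01 := congrFun (congrFun hM 0) 1
    simp [uSL_val, Matrix.mul_apply, Fin.sum_univ_two] at e00 e01
    have h10 : (h : Matrix (Fin 2) (Fin 2) F) 1 0 = 0 := by
      rcases e00 with h' | h'
      · exact absurd h' hb
      · exact h'
    refine ⟨h10, ?_⟩
    have : b * ((h : Matrix (Fin 2) (Fin 2) F) 0 0 - (h : Matrix (Fin 2) (Fin 2) F) 1 1) = 0 := by
      linear_combination e01
    rcases mul_eq_zero.1 this with h' | h'
    · exact absurd h' hb
    · exact sub_eq_zero.1 h'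
  · rintro ⟨k10, k00⟩
    apply sl2_ext <;> simp [uSL_val, Matrix.mul_apply, Fin.sum_univ_two, k10, k00, add_comm, mul_comm]

/-- the element `[[σ, c], [0, σ]]` of `SL₂` for `σ² = 1` -/
def sgnSL (σ c : F) (h : σ * σ = 1) : Matrix.SpecialLinearGroup (Fin 2) F :=
  ⟨!![σ, c; 0, σ], by simp [Matrix.det_fin_two_of, h]⟩

theorem sgnSL_val (σ c : F) (h : σ * σ = 1) :
    ((sgnSL σ c h : Matrix.SpecialLinearGroup (Fin 2) F) : Matrix (Fin 2) (Fin 2) F) =
      !![σ, c; 0, σ] := rfl

theorem card_centralizer_uSL_odd [Fintype F] (h2 : (2 : F) ≠ 0) {b : F} (hb : b ≠ 0) :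
    Nat.card (Subgroup.centralizer ({uSL b} : Set (Matrix.SpecialLinearGroup (Fin 2) F))) =
      2 * Fintype.card F := by
  classical
  let σ : Bool → F := fun s => if s then 1 else -1
  have hσ : ∀ s, σ s * σ s = 1 := by
    intro s
    cases s <;> simp [σ]
  let f : Bool × F → Subgroup.centralizer ({uSL b} : Set (Matrix.SpecialLinearGroup (Fin 2) F)) :=
    fun p => ⟨sgnSL (σ p.1) p.2 (hσ p.1), (mem_centralizer_uSL_iff' hb _).2 ⟨rfl, rfl⟩⟩
  have hf : Function.Bijective f := by
    constructor
    · intro p p' hpp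
      have h1 := congrArg (fun x : Subgroup.centralizer ({uSL b} :
        Set (Matrix.SpecialLinearGroup (Fin 2) F)) =>
        ((x : Matrix.SpecialLinearGroup (Fin 2) F) : Matrix (Fin 2) (Fin 2) F)) hpp
      have e00 := congrFun (congrFun h1 0) 0
      have e01 := congrFun (congrFun h1 0) 1
      simp only [f] at e00 e01
      change σ p.1 = σ p'.1 at e00
      change p.2 = p'.2 at e01
      have hb' : p.1 = p'.1 := by
        rcases p with ⟨s, c⟩
        rcases p' with ⟨s', c'⟩
        cases s <;> cases s' <;> simp [σ] at e00 ⊢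
        · apply h2
          linear_combination -e00
        · apply h2
          linear_combination e00
      exact Prod.ext hb' e01
    · rintro ⟨h, hh⟩
      obtain ⟨k10, k00⟩ := (mem_centralizer_uSL_iff' hb h).1 hh
      have hdet := h.2
      rw [Matrix.det_fin_two, k10, ← k00] at hdet
      have hsq : ((h : Matrix (Fin 2) (Fin 2) F) 0 0 - 1) * ((h : Matrix (Fin 2) (Fin 2) F) 0 0 + 1)
          = 0 := by
        linear_combination hdet
      rcases mul_eq_zero.1 hsq with h' | h'
      · refine ⟨(true, (h : Matrix (Fin 2) (Fin 2) F) 0 1), ?_⟩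
        apply Subtype.ext
        apply sl2_ext
        · show (1 : F) = _
          linear_combination -h'
        · rfl
        · exact k10.symm
        · show (1 : F) = _
          rw [← k00]
          linear_combination -h'
      · refine ⟨(false, (h : Matrix (Fin 2) (Fin 2) F) 0 1), ?_⟩
        apply Subtype.ext
        apply sl2_ext
        · show (-1 : F) = _
          linear_combination -h'
        · rfl
        · exact k10.symm
        · show (-1 : F) = _
          rw [← k00]
          linear_combination -h'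
  rw [← Nat.card_congr (Equiv.ofBijective f hf), Nat.card_prod, Nat.card_eq_fintype_card,
    Nat.card_eq_fintype_card, Fintype.card_bool]

/-- In odd characteristic, `SL₂(F)` is the normal closure of the transvection `u(1)`. -/
theorem top_le_of_normal_odd (h2 : (2 : F) ≠ 0)
    (K : Subgroup (Matrix.SpecialLinearGroup (Fin 2) F))
    (hK : K.Normal) (hu : uSL (1 : F) ∈ K) : (⊤ : Subgroup _) ≤ K := by
  have hsq : ∀ a : F, uSL (a * a) ∈ K := by
    intro a
    by_cases ha : a = 0
    · rw [ha, mul_zero, uSL_zero]; exact K.one_mem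
    · have := hK.conj_mem _ hu (dSL (Units.mk0 a ha))
      rw [dSL_conj] at this
      simpa using this
  have hu' : ∀ b : F, uSL b ∈ K := by
    intro b
    have e : uSL b = uSL (((b + 1) / 2) * ((b + 1) / 2)) * (uSL (((b - 1) / 2) * ((b - 1) / 2)))⁻¹ := by
      rw [uSL_inv, uSL_mul]
      congr 1
      field_simp
      ring
    rw [e]
    exact K.mul_mem (hsq _) (K.inv_mem (hsq _))
  rw [eq_top_of_USL_le K hK hu']

theorem index_BSL [Fintype F] : (BSL F).index = Fintype.card F + 1 := by
  classical
  apply le_antisymm index_BSL_le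
  let rep : Option F → Matrix.SpecialLinearGroup (Fin 2) F ⧸ BSL F := fun o =>
    match o with
    | none => QuotientGroup.mk wSL
    | some c => QuotientGroup.mk (lSL c)
  have hinj : Function.Injective rep := by
    intro o o' h
    rcases o with _ | c <;> rcases o' with _ | c'
    · rfl
    · exfalso
      have h' : (QuotientGroup.mk wSL : Matrix.SpecialLinearGroup (Fin 2) F ⧸ BSL F) =
          QuotientGroup.mk (lSL c') := h
      rw [QuotientGroup.eq, mem_BSL_iff, Matrix.SpecialLinearGroup.coe_mul, wSL_inv_val] at h'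
      simp [lSL_val, Matrix.mul_apply, Fin.sum_univ_two] at h'
    · exfalso
      have h' : (QuotientGroup.mk (lSL c) : Matrix.SpecialLinearGroup (Fin 2) F ⧸ BSL F) =
          QuotientGroup.mk wSL := h
      rw [QuotientGroup.eq, lSL_inv, mem_BSL_iff] at h'
      simp [wSL_val, lSL_val, Matrix.mul_apply, Fin.sum_univ_two] at h'
    · have h' : (QuotientGroup.mk (lSL c) : Matrix.SpecialLinearGroup (Fin 2) F ⧸ BSL F) =
          QuotientGroup.mk (lSL c') := h
      rw [QuotientGroup.eq, lSL_inv, lSL_mul, mem_BSL_iff] at h'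
      simp [lSL_val] at h'
      congr 1
      linear_combination -h'
  have h := Nat.card_le_card_of_injective rep hinj
  rw [Subgroup.index]
  calc Fintype.card F + 1 = Nat.card (Option F) := by
        rw [Nat.card_eq_fintype_card, Fintype.card_option]
    _ ≤ _ := h

theorem ringChar_ne_two_of_odd [Fintype F] (hodd : Odd (Fintype.card F)) : ringChar F ≠ 2 := by
  intro h
  have := FiniteField.even_card_iff_char_two.1 h
  rw [Nat.odd_iff] at hodd
  omega

theorem two_ne_zero_of_odd [Fintype F] (hodd : Odd (Fintype.card F)) : (2 : F) ≠ 0 :=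
  Ring.two_ne_zero (ringChar_ne_two_of_odd hodd)

end SL2Odd

end Cfsg.Agent.Lib.helper43
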