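-- helper43: classification of the irreducible characters of SL₂(q), q odd, by their restriction
-- to the unipotent subgroup.
import Mathlib
import Cfsg.Prelude.Def_Characters
import Cfsg.Agent.Lib.helper43.SL2Odd
import Cfsg.Agent.Lib.helper43.TwoClass
import Cfsg.Agent.Lib.helper43.OddCount
import Cfsg.Agent.Lib.helper43.Constituent
import Cfsg.Agent.S2325
import Cfsg.Agent.Lib.helper83.CharBasic2

set_option autoImplicit false

namespace Cfsg.Agent.Lib.helper43

open scoped ComplexConjugate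
open Cfsg.Agent.Lib.helper4
open Matrix

section Moments

/-- The moment identities for the multiplicities, from the second orthogonality relations for the
three classes of `1`, `u₊`, `u₋`. -/
theorem moments_of_orthogonality {ι : Type*} [Fintype ι] (x cp cm : ι → ℂ) (m rp rm : ι → ℕ)
    (k N : ℕ) (g : ℂ)
    (hgg : g * conj g = 2 * (k : ℂ) + 1)
    (hx : ∀ i, x i = (m i : ℂ) + (k : ℂ) * ((rp i : ℂ) + rm i))
    (hS : ∀ i, cp i + cm i = 2 * (m i : ℂ) - ((rp i : ℂ) + rm i))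
    (hD : ∀ i, cp i - cm i = ((rp i : ℂ) - rm i) * g)
    (R11 : ∑ i, x i * conj (x i) = (N : ℂ))
    (R1p : ∑ i, x i * conj (cp i) = 0)
    (R1m : ∑ i, x i * conj (cm i) = 0)
    (Rpp : ∑ i, cp i * conj (cp i) = 2 * (2 * (k : ℂ) + 1))
    (Rmm : ∑ i, cm i * conj (cm i) = 2 * (2 * (k : ℂ) + 1))
    (Rpm : ∑ i, cp i * conj (cm i) = 0)
    (Rmp : ∑ i, cm i * conj (cp i) = 0) :
    (∑ i, (2 * (m i : ℤ) - ((rp i : ℤ) + rm i)) ^ 2 = 4 * (2 * (k : ℤ) + 1)) ∧
    (∑ i, ((m i : ℤ) + k * ((rp i : ℤ) + rm i)) * (2 * (m i : ℤ) - ((rp i : ℤ) + rm i)) = 0) ∧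
    (∑ i, ((m i : ℤ) + k * ((rp i : ℤ) + rm i)) ^ 2 = (N : ℤ)) ∧
    (∑ i, ((rp i : ℤ) - rm i) ^ 2 = 4) ∧
    (∑ i, ((rp i : ℤ) + rm i) * ((rp i : ℤ) - rm i) = 0) ∧
    (∑ i, (m i : ℤ) * ((rp i : ℤ) - rm i) = 0) := by
  have hq0 : (2 * (k : ℂ) + 1) ≠ 0 := by
    have h0 : (2 * k + 1 : ℕ) ≠ 0 := by omega
    have : ((2 * k + 1 : ℕ) : ℂ) ≠ 0 := by exact_mod_cast h0
    intro h
    apply this
    push_cast
    exact h
  have hg0 : conj g ≠ 0 := by
    intro h
    rw [h, mul_zero] at hgg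
    exact hq0 hgg.symm
  have hxc : ∀ i, conj (x i) = x i := by
    intro i
    rw [hx]
    simp only [map_add, map_mul, Complex.conj_natCast]
  have hSc : ∀ i, conj (cp i) + conj (cm i) = 2 * (m i : ℂ) - ((rp i : ℂ) + rm i) := by
    intro i
    rw [← map_add, hS]
    simp only [map_sub, map_add, map_mul, Complex.conj_natCast, Complex.conj_ofNat]
  have hDc : ∀ i, conj (cp i) - conj (cm i) = ((rp i : ℂ) - rm i) * conj g := by
    intro i
    rw [← map_sub, hD]
    simp only [map_sub, map_mul, Complex.conj_natCast]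
  have B1 : ∑ i, (2 * (m i : ℂ) - ((rp i : ℂ) + rm i)) ^ 2 = 4 * (2 * (k : ℂ) + 1) := by
    have h : ∑ i, (2 * (m i : ℂ) - ((rp i : ℂ) + rm i)) ^ 2 =
        ∑ i, cp i * conj (cp i) + ∑ i, cm i * conj (cm i) + ∑ i, cp i * conj (cm i) +
          ∑ i, cm i * conj (cp i) := by
      rw [← Finset.sum_add_distrib, ← Finset.sum_add_distrib, ← Finset.sum_add_distrib]
      apply Finset.sum_congr rfl
      intro i _
      have : (2 * (m i : ℂ) - ((rp i : ℂ) + rm i)) ^ 2 =
          (cp i + cm i) * (conj (cp i) + conj (cm i)) := by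
        rw [hS, hSc]; ring
      rw [this]; ring
    rw [h, Rpp, Rmm, Rpm, Rmp]; ring
  have B2 : ∑ i, ((m i : ℂ) + k * ((rp i : ℂ) + rm i)) *
      (2 * (m i : ℂ) - ((rp i : ℂ) + rm i)) = 0 := by
    have h : ∑ i, ((m i : ℂ) + k * ((rp i : ℂ) + rm i)) *
        (2 * (m i : ℂ) - ((rp i : ℂ) + rm i)) =
        ∑ i, x i * conj (cp i) + ∑ i, x i * conj (cm i) := by
      rw [← Finset.sum_add_distrib]
      apply Finset.sum_congr rfl
      intro i _
      rw [← hx, ← hSc]; ring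
    rw [h, R1p, R1m, add_zero]
  have B3 : ∑ i, ((m i : ℂ) + k * ((rp i : ℂ) + rm i)) ^ 2 = (N : ℂ) := by
    rw [← R11]
    apply Finset.sum_congr rfl
    intro i _
    rw [hxc, hx]; ring
  have B4 : ∑ i, ((rp i : ℂ) - rm i) ^ 2 = 4 := by
    have h : (∑ i, ((rp i : ℂ) - rm i) ^ 2) * (2 * (k : ℂ) + 1) =
        ∑ i, cp i * conj (cp i) + ∑ i, cm i * conj (cm i) - ∑ i, cp i * conj (cm i) -
          ∑ i, cm i * conj (cp i) := by
      rw [← Finset.sum_add_distrib, ← Finset.sum_sub_distrib, ← Finset.sum_sub_distrib,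
        Finset.sum_mul]
      apply Finset.sum_congr rfl
      intro i _
      have : ((rp i : ℂ) - rm i) ^ 2 * (2 * (k : ℂ) + 1) =
          (cp i - cm i) * (conj (cp i) - conj (cm i)) := by
        rw [hD, hDc, ← hgg]; ring
      rw [this]; ring
    rw [Rpp, Rmm, Rpm, Rmp] at h
    have h' : (∑ i, ((rp i : ℂ) - rm i) ^ 2 - 4) * (2 * (k : ℂ) + 1) = 0 := by
      linear_combination h
    rcases mul_eq_zero.1 h' with h1 | h1
    · linear_combination h1
    · exact absurd h1 hq0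
  have Bxd : ∑ i, ((m i : ℂ) + k * ((rp i : ℂ) + rm i)) * ((rp i : ℂ) - rm i) = 0 := by
    have h : (∑ i, ((m i : ℂ) + k * ((rp i : ℂ) + rm i)) * ((rp i : ℂ) - rm i)) * conj g =
        ∑ i, x i * conj (cp i) - ∑ i, x i * conj (cm i) := by
      rw [← Finset.sum_sub_distrib, Finset.sum_mul]
      apply Finset.sum_congr rfl
      intro i _
      rw [← hx, mul_assoc, ← hDc]; ring
    rw [R1p, R1m, sub_zero] at h
    rcases mul_eq_zero.1 h with h1 | h1
    · exact h1
    · exact absurd h1 hg0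
  have BSd : ∑ i, (2 * (m i : ℂ) - ((rp i : ℂ) + rm i)) * ((rp i : ℂ) - rm i) = 0 := by
    have h : (∑ i, (2 * (m i : ℂ) - ((rp i : ℂ) + rm i)) * ((rp i : ℂ) - rm i)) * conj g =
        ∑ i, cp i * conj (cp i) - ∑ i, cm i * conj (cm i) - ∑ i, cp i * conj (cm i) +
          ∑ i, cm i * conj (cp i) := by
      rw [← Finset.sum_sub_distrib, ← Finset.sum_sub_distrib, ← Finset.sum_add_distrib,
        Finset.sum_mul]
      apply Finset.sum_congr rfl
      intro i _
      rw [← hS, mul_assoc, ← hDc]; ring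
    rw [Rpp, Rmm, Rpm, Rmp] at h
    have h' : (∑ i, (2 * (m i : ℂ) - ((rp i : ℂ) + rm i)) * ((rp i : ℂ) - rm i)) * conj g
        = 0 := by
      rw [h]; ring
    rcases mul_eq_zero.1 h' with h1 | h1
    · exact h1
    · exact absurd h1 hg0
  have B6 : ∑ i, (m i : ℂ) * ((rp i : ℂ) - rm i) = 0 := by
    have h : (2 * (k : ℂ) + 1) * ∑ i, (m i : ℂ) * ((rp i : ℂ) - rm i) =
        (k : ℂ) * ∑ i, (2 * (m i : ℂ) - ((rp i : ℂ) + rm i)) * ((rp i : ℂ) - rm i) +
        ∑ i, ((m i : ℂ) + k * ((rp i : ℂ) + rm i)) * ((rp i : ℂ) - rm i) := by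
      rw [Finset.mul_sum, Finset.mul_sum, ← Finset.sum_add_distrib]
      apply Finset.sum_congr rfl
      intro i _
      ring
    rw [BSd, Bxd, mul_zero, add_zero] at h
    rcases mul_eq_zero.1 h with h1 | h1
    · exact absurd h1 hq0
    · exact h1
  have B5 : ∑ i, ((rp i : ℂ) + rm i) * ((rp i : ℂ) - rm i) = 0 := by
    have h : ∑ i, ((rp i : ℂ) + rm i) * ((rp i : ℂ) - rm i) =
        2 * ∑ i, (m i : ℂ) * ((rp i : ℂ) - rm i) -
        ∑ i, (2 * (m i : ℂ) - ((rp i : ℂ) + rm i)) * ((rp i : ℂ) - rm i) := by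
      rw [Finset.mul_sum, ← Finset.sum_sub_distrib]
      apply Finset.sum_congr rfl
      intro i _
      ring
    rw [h, B6, BSd]; ring
  refine ⟨?_, ?_, ?_, ?_, ?_, ?_⟩
  · exact_mod_cast B1
  · exact_mod_cast B2
  · exact_mod_cast B3
  · exact_mod_cast B4
  · exact_mod_cast B5
  · exact_mod_cast B6

end Moments

section DegOne

variable {G : Type*} [Group G] [Fintype G]

theorem exists_nat_degree_list (l : List (Cfsg.IrrCharacter G)) :
    ∃ n : ℕ, (l.map Subtype.val).sum 1 = (n : ℂ) ∧ l.length ≤ n := by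
  induction l with
  | nil => exact ⟨0, by simp, le_rfl⟩
  | cons a l ih =>
    obtain ⟨n, hn, hle⟩ := ih
    obtain ⟨d, hd, hd'⟩ := exists_pos_nat_degree a.2
    refine ⟨d + n, ?_, ?_⟩
    · simp only [List.map_cons, List.sum_cons, Pi.add_apply]
      rw [hn, hd']
      push_cast
      ring
    · simp only [List.length_cons]
      omega

/-- A character of degree one is irreducible. -/
theorem isIrrCharacter_of_degree_one {ψ : G → ℂ} (hψ : Cfsg.IsCharacter G ψ) (h1 : ψ 1 = 1) :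
    Cfsg.IsIrrCharacter G ψ := by
  obtain ⟨l, rfl⟩ := exists_irr_list_of_isCharacter hψ
  obtain ⟨n, hn, hle⟩ := exists_nat_degree_list l
  rw [hn] at h1
  have hn1 : n = 1 := by exact_mod_cast h1
  subst hn1
  match l, hle with
  | [], _ =>
    exfalso
    simp at hn
  | [a], _ =>
    simpa using a.2
  | a :: b :: l, hle =>
    exfalso
    simp only [List.length_cons] at hle
    omega

end DegOne

section Class

variable {F : Type*} [Field F] [Fintype F] [DecidableEq F]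

omit [DecidableEq F] in
theorem sum_USL [Fintype (USL F)] (f : Matrix.SpecialLinearGroup (Fin 2) F → ℂ) :
    ∑ u : USL F, f (u : Matrix.SpecialLinearGroup (Fin 2) F) = ∑ b : F, f (uSL b) := by
  let e : F ≃ USL F := Equiv.ofBijective (fun b => ⟨uSL b, uSL_mem b⟩)
    ⟨fun a b h => uSL_injective (congrArg Subtype.val h), fun u => by
      obtain ⟨b, hb⟩ := u.2
      exact ⟨b, Subtype.ext hb⟩⟩
  exact (Fintype.sum_equiv e (fun b => f (uSL b)) (fun u => f u) (fun b => rfl)).symm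

/-- **Classification of the irreducible characters of `SL₂(q)`, `q = 2k + 1` odd, by their
restriction to the unipotent subgroup**.  For each irreducible character `χ` there are natural
numbers `m, r₊, r₋` (multiplicity of the trivial character and of the two orbits of nontrivial
characters of `U`) with `χ 1 = m + k (r₊ + r₋)`, `χ(u₁) + χ(u_ε) = 2m - (r₊ + r₋)`,
`χ(u₁) - χ(u_ε) = (r₊ - r₋) g` (`g` the quadratic Gauss sum), and the list of types is:
`(0,0,1)` (the trivial character); `(1,0,m)`, `(0,1,m)` (half characters); `(1,1,m)`, `m ≤ 2`.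
The half characters have `m ≤ 1` and the number of characters of each type is given. -/
theorem sl2_odd_classification
    [Fintype (Matrix.SpecialLinearGroup (Fin 2) F)]
    [Fintype (Cfsg.IrrCharacter (Matrix.SpecialLinearGroup (Fin 2) F))]
    (k : ℕ) (hk : Fintype.card F = 2 * k + 1)
    (ψ : AddChar F ℂ) (hψ : ψ ≠ 1) (ε : F) (hε : ¬ IsSquare ε) :
    ∃ m rp rm : Cfsg.IrrCharacter (Matrix.SpecialLinearGroup (Fin 2) F) → ℕ,
      (∀ χ : Cfsg.IrrCharacter (Matrix.SpecialLinearGroup (Fin 2) F),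
        (χ : Matrix.SpecialLinearGroup (Fin 2) F → ℂ) 1 =
          (m χ : ℂ) + (k : ℂ) * ((rp χ : ℂ) + rm χ)) ∧
      (∀ χ : Cfsg.IrrCharacter (Matrix.SpecialLinearGroup (Fin 2) F),
        (χ : Matrix.SpecialLinearGroup (Fin 2) F → ℂ) (uSL 1) +
          (χ : Matrix.SpecialLinearGroup (Fin 2) F → ℂ) (uSL ε) =
            2 * (m χ : ℂ) - ((rp χ : ℂ) + rm χ)) ∧
      (∀ χ : Cfsg.IrrCharacter (Matrix.SpecialLinearGroup (Fin 2) F),
        (χ : Matrix.SpecialLinearGroup (Fin 2) F → ℂ) (uSL 1) -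
          (χ : Matrix.SpecialLinearGroup (Fin 2) F → ℂ) (uSL ε) =
            ((rp χ : ℂ) - rm χ) * gaussSum (etaC F) ψ) ∧
      (∀ χ : Cfsg.IrrCharacter (Matrix.SpecialLinearGroup (Fin 2) F),
        ∑ b : F, (χ : Matrix.SpecialLinearGroup (Fin 2) F → ℂ) (uSL b) =
          (Fintype.card F : ℂ) * m χ) ∧
      (∀ χ, (rp χ = 0 ∧ rm χ = 0 ∧ m χ = 1) ∨ (rp χ = 1 ∧ rm χ = 0) ∨ (rp χ = 0 ∧ rm χ = 1) ∨
        (rp χ = 1 ∧ rm χ = 1 ∧ m χ ≤ 2)) ∧
      (Finset.univ.filter (fun χ => rp χ = 0 ∧ rm χ = 0)).card = 1 ∧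
      (∀ χ, rp χ + rm χ = 1 → m χ ≤ 1) ∧
      (Finset.univ.filter (fun χ => rp χ = 1 ∧ rm χ = 1 ∧ m χ = 1)).card = 1 ∧
      (Finset.univ.filter (fun χ => rp χ = 1 ∧ rm χ = 1 ∧ m χ = 2)).card = k - 1 ∧
      (Finset.univ.filter (fun χ => rp χ = 1 ∧ rm χ = 1 ∧ m χ = 0)).card = k ∧
      (Finset.univ.filter (fun χ => rp χ = 1 ∧ rm χ = 0 ∧ m χ = 1)).card = 1 ∧
      (Finset.univ.filter (fun χ => rp χ = 0 ∧ rm χ = 1 ∧ m χ = 1)).card = 1 ∧
      (Finset.univ.filter (fun χ => rp χ = 1 ∧ rm χ = 0 ∧ m χ = 0)).card = 1 ∧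
      (Finset.univ.filter (fun χ => rp χ = 0 ∧ rm χ = 1 ∧ m χ = 0)).card = 1 := by
  classical
  have hodd : Odd (Fintype.card F) := ⟨k, hk⟩
  have hF : ringChar F ≠ 2 := ringChar_ne_two_of_odd hodd
  have h2F : (2 : F) ≠ 0 := two_ne_zero_of_odd hodd
  have hε0 : ε ≠ 0 := by
    rintro rfl
    exact hε ⟨0, by simp⟩
  have hqC : (Fintype.card F : ℂ) = 2 * (k : ℂ) + 1 := by
    rw [hk]; push_cast; ring
  have hq0 : (Fintype.card F : ℂ) ≠ 0 := by exact_mod_cast Fintype.card_ne_zero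
  have : Fintype (USL F) := Fintype.ofFinite _
  -- step 1: the decomposition
  have hdec : ∀ χ : Cfsg.IrrCharacter (Matrix.SpecialLinearGroup (Fin 2) F), ∃ m rp rm : ℕ,
      (χ : Matrix.SpecialLinearGroup (Fin 2) F → ℂ) 1 = (m : ℂ) + (k : ℂ) * ((rp : ℂ) + rm) ∧
      (χ : Matrix.SpecialLinearGroup (Fin 2) F → ℂ) (uSL 1) +
        (χ : Matrix.SpecialLinearGroup (Fin 2) F → ℂ) (uSL ε) = 2 * (m : ℂ) - ((rp : ℂ) + rm) ∧
      (χ : Matrix.SpecialLinearGroup (Fin 2) F → ℂ) (uSL 1) -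
        (χ : Matrix.SpecialLinearGroup (Fin 2) F → ℂ) (uSL ε) =
          ((rp : ℂ) - rm) * gaussSum (etaC F) ψ ∧
      ∑ b : F, (χ : Matrix.SpecialLinearGroup (Fin 2) F → ℂ) (uSL b) =
        (Fintype.card F : ℂ) * m := by
    intro χ
    have hχ := isCharacter_of_isIrrCharacter χ.2
    have hcf := isClassFunction_of_isCharacter hχ
    obtain ⟨m, rp, rm, h1, h2, h3, h4⟩ := exists_nat_decomp_two hF ψ hψ (uHomSL F) ε hε _ hχ
      (fun b hb hs => by
        have := classFun_uSL_of_isSquare _ hcf 1 hb hs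
        rw [mul_one] at this
        exact this)
      (fun b hb => classFun_uSL_of_not_isSquare _ hcf hε hb)
    refine ⟨m, rp, rm, ?_, h2, h3, h4⟩
    rw [hqC] at h1
    linear_combination (1 / 2 : ℂ) * h1
  choose m rp rm hdeg hsum hdiff hsumU using hdec
  refine ⟨m, rp, rm, hdeg, hsum, hdiff, hsumU, ?_⟩
  -- step 2: the orthogonality relations
  have hgg : gaussSum (etaC F) ψ * conj (gaussSum (etaC F) ψ) = 2 * (k : ℂ) + 1 := by
    rw [gauss_mul_conj hF ψ hψ, hqC]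
  have hc1 : Nat.card (Subgroup.centralizer
      ({1} : Set (Matrix.SpecialLinearGroup (Fin 2) F))) =
      Nat.card (Matrix.SpecialLinearGroup (Fin 2) F) := by
    have : Subgroup.centralizer ({1} : Set (Matrix.SpecialLinearGroup (Fin 2) F)) = ⊤ := by
      ext x
      simp [Subgroup.mem_centralizer_iff]
    rw [this, Subgroup.card_top]
  have huε1 : uSL ε ≠ 1 := by
    intro h
    rw [← uSL_zero] at h
    exact hε0 (uSL_injective h)
  have hne1 : ¬ IsConj (1 : Matrix.SpecialLinearGroup (Fin 2) F) (uSL 1) :=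
    fun h => uSL_one_ne_one (isConj_one_right.1 h)
  have hneε : ¬ IsConj (1 : Matrix.SpecialLinearGroup (Fin 2) F) (uSL ε) :=
    fun h => huε1 (isConj_one_right.1 h)
  have hpm : ¬ IsConj (uSL (1 : F)) (uSL ε) := not_isConj_uSL hε
  have hmp : ¬ IsConj (uSL ε) (uSL (1 : F)) := fun h => hpm h.symm
  have hcardG : Nat.card (Matrix.SpecialLinearGroup (Fin 2) F) =
      (2 * k + 1) * (2 * k) * (2 * k + 2) := by
    rw [card_SL2, hk]
    have : (2 * k + 1) ^ 2 - 1 = (2 * k) * (2 * k + 2) := by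
      rw [Nat.sub_eq_iff_eq_add (Nat.one_le_pow 2 (2 * k + 1) (by omega))]; ring
    rw [this]; ring
  obtain ⟨A1, A2, A3, A4, A5, A6⟩ := moments_of_orthogonality
    (fun χ : Cfsg.IrrCharacter (Matrix.SpecialLinearGroup (Fin 2) F) =>
      (χ : Matrix.SpecialLinearGroup (Fin 2) F → ℂ) 1)
    (fun χ => (χ : Matrix.SpecialLinearGroup (Fin 2) F → ℂ) (uSL 1))
    (fun χ => (χ : Matrix.SpecialLinearGroup (Fin 2) F → ℂ) (uSL ε))
    m rp rm k (Nat.card (Matrix.SpecialLinearGroup (Fin 2) F)) (gaussSum (etaC F) ψ)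
    hgg hdeg hsum hdiff
    (by
      have h := sum_irr_mul_conj_of_isConj (G := Matrix.SpecialLinearGroup (Fin 2) F)
        (g := 1) (h := 1) (IsConj.refl 1)
      rw [hc1] at h
      exact h)
    (sum_irr_mul_conj_of_not_isConj hne1)
    (sum_irr_mul_conj_of_not_isConj hneε)
    (by
      rw [sum_irr_mul_conj_of_isConj (IsConj.refl _), card_centralizer_uSL_odd h2F one_ne_zero,
        hk]
      push_cast; ring)
    (by
      rw [sum_irr_mul_conj_of_isConj (IsConj.refl _), card_centralizer_uSL_odd h2F hε0, hk]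
      push_cast; ring)
    (sum_irr_mul_conj_of_not_isConj hpm)
    (sum_irr_mul_conj_of_not_isConj hmp)
  rw [hcardG] at A3
  push_cast at A3
  -- step 3: the kernel
  have hNab : ∀ a b : Matrix.SpecialLinearGroup (Fin 2) F ⧸
      (⊤ : Subgroup (Matrix.SpecialLinearGroup (Fin 2) F)), a * b = b * a :=
    fun a b => QuotientGroup.subsingleton_quotient_top.elim _ _
  have hker : ∀ χ : Cfsg.IrrCharacter (Matrix.SpecialLinearGroup (Fin 2) F),
      (rp χ = 0 ∧ rm χ = 0) ↔ ∀ x ∈ (⊤ : Subgroup (Matrix.SpecialLinearGroup (Fin 2) F)),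
        (χ : Matrix.SpecialLinearGroup (Fin 2) F → ℂ) x =
          (χ : Matrix.SpecialLinearGroup (Fin 2) F → ℂ) 1 := by
    intro χ
    constructor
    · rintro ⟨h1, h2⟩
      obtain ⟨K, hKn, hK⟩ :=
        Cfsg.Agent.Lib.helper82.exists_ker_of_isCharacter (isCharacter_of_isIrrCharacter χ.2)
      have hu : uSL 1 ∈ K := by
        rw [hK]
        have hS := hsum χ
        have hD := hdiff χ
        have hx := hdeg χ
        rw [h1, h2] at hS hD hx
        simp only [Nat.cast_zero, add_zero, sub_zero, zero_mul, mul_zero] at hS hD hx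
        linear_combination (1 / 2 : ℂ) * hS + (1 / 2 : ℂ) * hD - hx
      intro x hx
      exact (hK x).1 (top_le_of_normal_odd h2F K hKn hu hx)
    · intro h
      have h1 := h (uSL 1) (Subgroup.mem_top _)
      have h2 := h (uSL ε) (Subgroup.mem_top _)
      have hS := hsum χ
      have hx := hdeg χ
      rw [h1, h2, hx] at hS
      have h3 : ((2 * k + 1 : ℕ) : ℂ) * ((rp χ + rm χ : ℕ) : ℂ) = 0 := by
        push_cast
        linear_combination hS
      have h4 : (2 * k + 1) * (rp χ + rm χ) = 0 := by exact_mod_cast h3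
      have h5 : rp χ + rm χ = 0 := by
        rcases Nat.mul_eq_zero.1 h4 with h | h <;> omega
      omega
  have hm1 : ∀ χ : Cfsg.IrrCharacter (Matrix.SpecialLinearGroup (Fin 2) F),
      rp χ = 0 → rm χ = 0 → m χ = 1 := by
    intro χ hr1 hr2
    have hχN := (hker χ).1 ⟨hr1, hr2⟩
    have h1 := Cfsg.Agent.Lib.helper82.irrQuotEquiv_apply
      (⊤ : Subgroup (Matrix.SpecialLinearGroup (Fin 2) F)) ⟨χ, hχN⟩ 1
    have h2 := Cfsg.Agent.Lib.helper82.irr_one_of_commutative hNab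
      (Cfsg.Agent.Lib.helper82.irrQuotEquiv
        (⊤ : Subgroup (Matrix.SpecialLinearGroup (Fin 2) F)) ⟨χ, hχN⟩).2
    have h3 : (χ : Matrix.SpecialLinearGroup (Fin 2) F → ℂ) 1 = 1 := by
      rw [← h1]
      exact h2
    rw [hdeg, hr1, hr2] at h3
    simp only [Nat.cast_zero, add_zero, mul_zero] at h3
    exact_mod_cast h3
  have hL : (Finset.univ.filter (fun χ : Cfsg.IrrCharacter
      (Matrix.SpecialLinearGroup (Fin 2) F) => rp χ = 0 ∧ rm χ = 0)).card = 1 := by
    have hidx : (⊤ : Subgroup (Matrix.SpecialLinearGroup (Fin 2) F)).index = 1 :=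
      Subgroup.index_top
    rw [← hidx, Subgroup.index, ← Cfsg.Agent.Lib.helper82.card_irr_of_commutative hNab,
      ← Nat.card_congr (Cfsg.Agent.Lib.helper82.irrQuotEquiv
        (⊤ : Subgroup (Matrix.SpecialLinearGroup (Fin 2) F))),
      ← Fintype.card_subtype, ← Nat.card_eq_fintype_card]
    exact Nat.card_congr (Equiv.subtypeEquivRight hker)
  -- step 4: the bound
  have hbound : ∀ χ : Cfsg.IrrCharacter (Matrix.SpecialLinearGroup (Fin 2) F),
      1 ≤ m χ → m χ + k * (rp χ + rm χ) ≤ 2 * k + 2 := by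
    intro χ hm
    have hne : ∑ u : USL F, (χ : Matrix.SpecialLinearGroup (Fin 2) F → ℂ)
        (u : Matrix.SpecialLinearGroup (Fin 2) F) ≠ 0 := by
      rw [sum_USL, hsumU]
      apply mul_ne_zero hq0
      have : m χ ≠ 0 := by omega
      exact_mod_cast this
    obtain ⟨n, hn, hle⟩ := degree_le_index_of_sum_ne_zero χ.2 (BSL F) (USL F) USL_le_BSL
      BSL_comm_mod_USL hne
    rw [hdeg] at hn
    have hn' : m χ + k * (rp χ + rm χ) = n := by exact_mod_cast hn
    have := index_BSL_le (F := F)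
    omega
  -- step 5: the number of characters
  have hN : Fintype.card (Cfsg.IrrCharacter (Matrix.SpecialLinearGroup (Fin 2) F)) =
      2 * k + 5 := by
    rw [← Nat.card_eq_fintype_card, card_irr_eq_card_conjClasses,
      Cfsg.Agent.S2325.result hodd, hk]
  -- step 6: uniqueness of the Steinberg character
  have : Fintype (BSL F) := Fintype.ofFinite _
  have hK3 : 2 ≤ k → (∀ χ, (rp χ = 0 ∧ rm χ = 0 ∧ m χ = 1) ∨ (rp χ = 1 ∧ rm χ = 0) ∨
      (rp χ = 0 ∧ rm χ = 1) ∨ (rp χ = 1 ∧ rm χ = 1 ∧ m χ ≤ 2)) →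
      (Finset.univ.filter (fun χ => rp χ = 1 ∧ rm χ = 1 ∧ m χ = 1)).card ≤ 1 := by
    intro hk2 hcls
    rw [Finset.card_le_one]
    have hT0 : ∀ χ : Cfsg.IrrCharacter (Matrix.SpecialLinearGroup (Fin 2) F),
        (χ : Matrix.SpecialLinearGroup (Fin 2) F → ℂ) 1 = 1 →
        χ = Cfsg.Agent.Lib.helper83.trivIrr (Matrix.SpecialLinearGroup (Fin 2) F) := by
      intro χ h1
      have hχ0 : rp χ = 0 ∧ rm χ = 0 := by
        have h := hdeg χ
        rw [h1] at h
        have h' : 1 = m χ + k * (rp χ + rm χ) := by exact_mod_cast h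
        rcases hcls χ with ⟨h1, h2, h3⟩ | ⟨h1, h2⟩ | ⟨h1, h2⟩ | ⟨h1, h2, h3⟩
        · exact ⟨h1, h2⟩
        · rw [h1, h2] at h'; omega
        · rw [h1, h2] at h'; omega
        · rw [h1, h2] at h'; omega
      have ht0 : rp (Cfsg.Agent.Lib.helper83.trivIrr (Matrix.SpecialLinearGroup (Fin 2) F)) = 0 ∧
          rm (Cfsg.Agent.Lib.helper83.trivIrr (Matrix.SpecialLinearGroup (Fin 2) F)) = 0 :=
        (hker _).2 (fun x _ => rfl)
      obtain ⟨a, ha⟩ := Finset.card_eq_one.1 hL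
      have e1 : χ ∈ ({a} : Finset _) := by
        rw [← ha]; simp [hχ0]
      have e2 : Cfsg.Agent.Lib.helper83.trivIrr (Matrix.SpecialLinearGroup (Fin 2) F) ∈
          ({a} : Finset _) := by
        rw [← ha]; simp [ht0]
      rw [Finset.mem_singleton] at e1 e2
      rw [e1, e2]
    have key : ∀ χ : Cfsg.IrrCharacter (Matrix.SpecialLinearGroup (Fin 2) F),
        rp χ = 1 ∧ rm χ = 1 ∧ m χ = 1 →
        (χ : Matrix.SpecialLinearGroup (Fin 2) F → ℂ) =
          fun g => Cfsg.indFun (BSL F) (fun _ => (1 : ℂ)) g - 1 := by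
      rintro χ ⟨h1, h2, h3⟩
      have hne : ∑ u : USL F, (χ : Matrix.SpecialLinearGroup (Fin 2) F → ℂ)
          (u : Matrix.SpecialLinearGroup (Fin 2) F) ≠ 0 := by
        rw [sum_USL, hsumU, h3]
        simp
      obtain ⟨c, ψ', hψ', hind⟩ := exists_hom_indFun_eq_add χ.2 (BSL F) (USL F) USL_le_BSL
        BSL_comm_mod_USL hne
      have hd := congrFun hind 1
      rw [indFun_one, Pi.add_apply, hdeg, h1, h2, h3, index_BSL, hk, map_one] at hd
      have hψ1 : ψ' 1 = 1 := by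
        push_cast at hd
        linear_combination -hd
      have hψirr := isIrrCharacter_of_degree_one hψ' hψ1
      have hψt := hT0 ⟨ψ', hψirr⟩ hψ1
      have hψ'eq : ψ' = fun _ => 1 := congrArg Subtype.val hψt
      have hχne : (χ : Matrix.SpecialLinearGroup (Fin 2) F → ℂ) ≠ fun _ => 1 := by
        intro h
        have h' := hdeg χ
        rw [h, h1, h2, h3] at h'
        simp only [Nat.cast_one] at h'
        have h'' : (k : ℂ) = 0 := by linear_combination -(1 / 2 : ℂ) * h'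
        have : k = 0 := by exact_mod_cast h''
        omega
      have hfr := frobenius_reciprocity (BSL F) (fun b => ((c b : ℂˣ) : ℂ))
        (χ := fun _ => (1 : ℂ)) (fun g h => rfl)
      have e1 : Cfsg.classInner (χ : Matrix.SpecialLinearGroup (Fin 2) F → ℂ)
          (fun _ => (1 : ℂ)) = 0 :=
        classInner_irr_ne χ.2 Cfsg.Agent.Lib.helper83.isIrrCharacter_one hχne
      have e2 : Cfsg.classInner (fun _ : Matrix.SpecialLinearGroup (Fin 2) F => (1 : ℂ))
          (fun _ => (1 : ℂ)) = 1 :=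
        classInner_irr_self Cfsg.Agent.Lib.helper83.isIrrCharacter_one
      rw [hind, classInner_add_left, hψ'eq, e1, e2] at hfr
      have hc : ∀ b : BSL F, c b = 1 := by
        by_contra hcon
        push Not at hcon
        obtain ⟨a, ha⟩ := hcon
        have h0 := sum_hom_eq_zero c ha
        have h1 : Cfsg.classInner (fun b : BSL F => ((c b : ℂˣ) : ℂ)) (fun _ => (1 : ℂ)) = 0 := by
          unfold Cfsg.classInner
          simp only [map_one, mul_one]
          rw [h0, mul_zero]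
        rw [h1] at hfr
        norm_num at hfr
      funext g
      have hg := congrFun hind g
      rw [Pi.add_apply, hψ'eq] at hg
      have hc' : (fun b : BSL F => ((c b : ℂˣ) : ℂ)) = fun _ => 1 := by
        funext b
        rw [hc b]
        rfl
      rw [hc'] at hg
      rw [hg]
      ring
    intro a ha b hb
    simp only [Finset.mem_filter, Finset.mem_univ, true_and] at ha hb
    exact Subtype.ext ((key a ha).trans (key b hb).symm)
  obtain ⟨hcls, hcnt⟩ := count_types_odd m rp rm k hN A1 A2 A3 A4 A5 A6 hL hm1 hbound hK3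
  exact ⟨hcls, hL, hcnt⟩

end Class

/-- For `k ≥ 2` the six degrees `1, k, k + 1, 2k, 2k + 1, 2k + 2` are distinct, so the degree
determines the type. -/
theorem odd_deg_iff_type (k : ℕ) (hk2 : 2 ≤ k) (m rp rm : ℕ) (x : ℂ)
    (hx : x = (m : ℂ) + (k : ℂ) * ((rp : ℂ) + rm))
    (hcls : (rp = 0 ∧ rm = 0 ∧ m = 1) ∨ (rp = 1 ∧ rm = 0) ∨ (rp = 0 ∧ rm = 1) ∨
      (rp = 1 ∧ rm = 1 ∧ m ≤ 2))
    (hhalf : rp + rm = 1 → m ≤ 1) :
    (x = 1 ↔ rp = 0 ∧ rm = 0) ∧
    (x = ((2 * k + 1 : ℕ) : ℂ) ↔ rp = 1 ∧ rm = 1 ∧ m = 1) ∧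
    (x = ((2 * k + 1 : ℕ) : ℂ) + 1 ↔ rp = 1 ∧ rm = 1 ∧ m = 2) ∧
    (x = ((2 * k + 1 : ℕ) : ℂ) - 1 ↔ rp = 1 ∧ rm = 1 ∧ m = 0) ∧
    (x = ((k + 1 : ℕ) : ℂ) ↔ rp + rm = 1 ∧ m = 1) ∧
    (x = ((k : ℕ) : ℂ) ↔ rp + rm = 1 ∧ m = 0) := by
  have hd : x = ((m + k * (rp + rm) : ℕ) : ℂ) := by
    rw [hx]
    push_cast
    ring
  have e1 : (x = 1 ↔ m + k * (rp + rm) = 1) := by
    rw [hd]
    exact_mod_cast Iff.rfl
  have e2 : (x = ((2 * k + 1 : ℕ) : ℂ) ↔ m + k * (rp + rm) = 2 * k + 1) := by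
    rw [hd]
    exact_mod_cast Iff.rfl
  have e3 : (x = ((2 * k + 1 : ℕ) : ℂ) + 1 ↔ m + k * (rp + rm) = 2 * k + 2) := by
    rw [hd]
    exact_mod_cast Iff.rfl
  have e4 : (x = ((2 * k + 1 : ℕ) : ℂ) - 1 ↔ m + k * (rp + rm) = 2 * k) := by
    have : ((2 * k + 1 : ℕ) : ℂ) - 1 = ((2 * k : ℕ) : ℂ) := by
      push_cast
      ring
    rw [hd, this]
    exact_mod_cast Iff.rfl
  have e5 : (x = ((k + 1 : ℕ) : ℂ) ↔ m + k * (rp + rm) = k + 1) := by
    rw [hd]
    exact_mod_cast Iff.rfl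
  have e6 : (x = ((k : ℕ) : ℂ) ↔ m + k * (rp + rm) = k) := by
    rw [hd]
    exact_mod_cast Iff.rfl
  rw [e1, e2, e3, e4, e5, e6]
  rcases hcls with ⟨h1, h2, h3⟩ | ⟨h1, h2⟩ | ⟨h1, h2⟩ | ⟨h1, h2, h3⟩
  · subst h1 h2 h3
    have h0 : k * (0 + 0) = 0 := by simp
    rw [h0]
    omega
  · have hm := hhalf (by omega)
    subst h1 h2
    have h0 : k * (1 + 0) = k := by simp
    rw [h0]
    omega
  · have hm := hhalf (by omega)
    subst h1 h2
    have h0 : k * (0 + 1) = k := by simp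
    rw [h0]
    omega
  · subst h1 h2
    have h0 : k * (1 + 1) = 2 * k := by ring
    rw [h0]
    omega

end Cfsg.Agent.Lib.helper43
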