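-- helper43: the two irreducible characters of degree (q + 1) / 2 of SL₂(q), q odd, as the
-- constituents of the character induced from the quadratic character of the Borel subgroup,
-- and the twist by the diagonal automorphism.
import Mathlib
import Cfsg.Prelude.Def_Characters
import Cfsg.Agent.Lib.helper43.SL2Borel
import Cfsg.Agent.Lib.helper43.SL2OddClass
import Cfsg.Agent.Lib.helper43.GL2Deg

set_option autoImplicit false

namespace Cfsg.Agent.Lib.helper43

open scoped ComplexConjugate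
open Cfsg.Agent.Lib.helper4
open Matrix

section Twist

variable {F : Type*} [Field F]

/-- conjugation by `diag(e, 1)` on `SL₂` -/
def twistFun (e : Fˣ) (g : Matrix.SpecialLinearGroup (Fin 2) F) :
    Matrix.SpecialLinearGroup (Fin 2) F :=
  ⟨!![(g : Matrix (Fin 2) (Fin 2) F) 0 0, (e : F) * (g : Matrix (Fin 2) (Fin 2) F) 0 1;
      ((e⁻¹ : Fˣ) : F) * (g : Matrix (Fin 2) (Fin 2) F) 1 0, (g : Matrix (Fin 2) (Fin 2) F) 1 1],
    by
      rw [Matrix.det_fin_two_of]
      have h := sl2_det g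
      have he : (e : F) * ((e⁻¹ : Fˣ) : F) = 1 := by
        rw [← Units.val_mul, mul_inv_cancel, Units.val_one]
      linear_combination h - (g : Matrix (Fin 2) (Fin 2) F) 0 1 *
        (g : Matrix (Fin 2) (Fin 2) F) 1 0 * he⟩

theorem twistFun_val (e : Fˣ) (g : Matrix.SpecialLinearGroup (Fin 2) F) :
    ((twistFun e g : Matrix.SpecialLinearGroup (Fin 2) F) : Matrix (Fin 2) (Fin 2) F) =
      !![(g : Matrix (Fin 2) (Fin 2) F) 0 0, (e : F) * (g : Matrix (Fin 2) (Fin 2) F) 0 1;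
        ((e⁻¹ : Fˣ) : F) * (g : Matrix (Fin 2) (Fin 2) F) 1 0,
        (g : Matrix (Fin 2) (Fin 2) F) 1 1] := rfl

theorem twistFun_mul (e : Fˣ) (g h : Matrix.SpecialLinearGroup (Fin 2) F) :
    twistFun e (g * h) = twistFun e g * twistFun e h := by
  have he : (e : F) * ((e⁻¹ : Fˣ) : F) = 1 := by
    rw [← Units.val_mul, mul_inv_cancel, Units.val_one]
  apply sl2_ext
  · simp only [twistFun_val, Matrix.SpecialLinearGroup.coe_mul, Matrix.mul_apply,
      Fin.sum_univ_two, Matrix.of_apply, Matrix.cons_val', Matrix.cons_val_zero,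
      Matrix.cons_val_one, Matrix.cons_val_fin_one]
    linear_combination -(g : Matrix (Fin 2) (Fin 2) F) 0 1 *
      (h : Matrix (Fin 2) (Fin 2) F) 1 0 * he
  · simp only [twistFun_val, Matrix.SpecialLinearGroup.coe_mul, Matrix.mul_apply,
      Fin.sum_univ_two, Matrix.of_apply, Matrix.cons_val', Matrix.cons_val_zero,
      Matrix.cons_val_one, Matrix.cons_val_fin_one]
    ring
  · simp only [twistFun_val, Matrix.SpecialLinearGroup.coe_mul, Matrix.mul_apply,
      Fin.sum_univ_two, Matrix.of_apply, Matrix.cons_val', Matrix.cons_val_zero,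
      Matrix.cons_val_one, Matrix.cons_val_fin_one]
    ring
  · simp only [twistFun_val, Matrix.SpecialLinearGroup.coe_mul, Matrix.mul_apply,
      Fin.sum_univ_two, Matrix.of_apply, Matrix.cons_val', Matrix.cons_val_zero,
      Matrix.cons_val_one, Matrix.cons_val_fin_one]
    linear_combination -(g : Matrix (Fin 2) (Fin 2) F) 1 0 *
      (h : Matrix (Fin 2) (Fin 2) F) 0 1 * he

theorem twistFun_inv_apply (e : Fˣ) (g : Matrix.SpecialLinearGroup (Fin 2) F) :
    twistFun e⁻¹ (twistFun e g) = g := by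
  have he : ((e⁻¹ : Fˣ) : F) * (e : F) = 1 := by
    rw [← Units.val_mul, inv_mul_cancel, Units.val_one]
  apply sl2_ext
  · simp [twistFun_val]
  · simp only [twistFun_val, Matrix.of_apply, Matrix.cons_val', Matrix.cons_val_zero,
      Matrix.cons_val_one, Matrix.cons_val_fin_one]
    rw [← mul_assoc, he, one_mul]
  · simp only [twistFun_val, Matrix.of_apply, Matrix.cons_val', Matrix.cons_val_zero,
      Matrix.cons_val_one, Matrix.cons_val_fin_one, inv_inv]
    rw [← mul_assoc, mul_comm (e : F), he, one_mul]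
  · simp [twistFun_val]

/-- conjugation by `diag(e, 1)` as an automorphism of `SL₂` -/
def twistSL (e : Fˣ) :
    Matrix.SpecialLinearGroup (Fin 2) F ≃* Matrix.SpecialLinearGroup (Fin 2) F where
  toFun := twistFun e
  invFun := twistFun e⁻¹
  left_inv := twistFun_inv_apply e
  right_inv := fun g => by
    have := twistFun_inv_apply e⁻¹ g
    rwa [inv_inv] at this
  map_mul' := twistFun_mul e

theorem twistSL_apply (e : Fˣ) (g : Matrix.SpecialLinearGroup (Fin 2) F) :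
    twistSL e g = twistFun e g := rfl

theorem twistFun_uSL (e : Fˣ) (b : F) : twistFun e (uSL b) = uSL ((e : F) * b) := by
  apply sl2_ext <;> simp [twistFun_val, uSL_val]

/-- conjugation by `diag(e, 1)` in `GL₂` is `twistFun e` -/
theorem eq_twistFun_of_conj (e : Fˣ) (g h : Matrix.SpecialLinearGroup (Fin 2) F)
    (hgh : Matrix.SpecialLinearGroup.toGL h =
      dGL e * Matrix.SpecialLinearGroup.toGL g * (dGL e)⁻¹) : h = twistFun e g := by
  rw [eq_mul_inv_iff_mul_eq] at hgh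
  have hM : (h : Matrix (Fin 2) (Fin 2) F) * !![(e : F), 0; 0, 1] =
      !![(e : F), 0; 0, 1] * (g : Matrix (Fin 2) (Fin 2) F) := by
    have := congrArg (fun z : GL (Fin 2) F => (z : Matrix (Fin 2) (Fin 2) F)) hgh
    simpa [dGL_val] using this
  have he0 : (e : F) ≠ 0 := e.ne_zero
  have e00 := congrFun (congrFun hM 0) 0
  have e01 := congrFun (congrFun hM 0) 1
  have e10 := congrFun (congrFun hM 1) 0
  have e11 := congrFun (congrFun hM 1) 1
  simp only [Matrix.mul_apply, Fin.sum_univ_two, Matrix.of_apply, Matrix.cons_val',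
    Matrix.cons_val_zero, Matrix.cons_val_one, Matrix.cons_val_fin_one, mul_zero, add_zero,
    zero_add, mul_one, zero_mul, one_mul] at e00 e01 e10 e11
  apply sl2_ext
  · simp only [twistFun_val, Matrix.of_apply, Matrix.cons_val', Matrix.cons_val_zero,
      Matrix.cons_val_fin_one]
    apply mul_right_cancel₀ he0
    rw [e00, mul_comm]
  · simp only [twistFun_val, Matrix.of_apply, Matrix.cons_val', Matrix.cons_val_zero,
      Matrix.cons_val_one, Matrix.cons_val_fin_one]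
    exact e01
  · simp only [twistFun_val, Matrix.of_apply, Matrix.cons_val', Matrix.cons_val_zero,
      Matrix.cons_val_one, Matrix.cons_val_fin_one, Units.val_inv_eq_inv_val]
    rw [← e10]
    field_simp
  · simp only [twistFun_val, Matrix.of_apply, Matrix.cons_val', Matrix.cons_val_one,
      Matrix.cons_val_fin_one]
    exact e11

end Twist

section Half

variable {F : Type*} [Field F] [Fintype F] [DecidableEq F]

/-- **The characters of degree `(q + 1) / 2` of `SL₂(q)`, `q = 2k + 1`**: the character induced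
from the quadratic character `α` of the upper triangular subgroup is the sum of two distinct
irreducible characters `χ₁`, `χ₂` of degree `k + 1`, distinguished by
`χ₁(u₁) - χ₁(u_ε) = g`, `χ₂(u₁) - χ₂(u_ε) = -g` (`g` the quadratic Gauss sum); and every
irreducible character of degree `k + 1` whose sum over the unipotent subgroup is nonzero is
one of them. -/
theorem sl2_half_decomp [Fintype (Matrix.SpecialLinearGroup (Fin 2) F)]
    [Fintype (Cfsg.IrrCharacter (Matrix.SpecialLinearGroup (Fin 2) F))]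
    (k : ℕ) (hk : Fintype.card F = 2 * k + 1)
    (ψ : AddChar F ℂ) (hψ : ψ ≠ 1) (ε : F) (hε : ¬ IsSquare ε)
    (α : MulChar F ℂ) (hα : α ^ 2 = 1) (hα1 : α ≠ 1) :
    ∃ χ₁ χ₂ : Matrix.SpecialLinearGroup (Fin 2) F → ℂ,
      Cfsg.IsIrrCharacter (Matrix.SpecialLinearGroup (Fin 2) F) χ₁ ∧
      Cfsg.IsIrrCharacter (Matrix.SpecialLinearGroup (Fin 2) F) χ₂ ∧ χ₁ ≠ χ₂ ∧
      Cfsg.indFun (BSL F) (alphaB α) = χ₁ + χ₂ ∧
      χ₁ 1 = (k : ℂ) + 1 ∧ χ₂ 1 = (k : ℂ) + 1 ∧
      ∑ b : F, χ₁ (uSL b) = (Fintype.card F : ℂ) ∧ ∑ b : F, χ₂ (uSL b) = (Fintype.card F : ℂ) ∧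
      χ₁ (uSL 1) - χ₁ (uSL ε) = gaussSum (etaC F) ψ ∧
      χ₂ (uSL 1) - χ₂ (uSL ε) = - gaussSum (etaC F) ψ ∧
      (∀ χ : Matrix.SpecialLinearGroup (Fin 2) F → ℂ,
        Cfsg.IsIrrCharacter (Matrix.SpecialLinearGroup (Fin 2) F) χ → χ 1 = (k : ℂ) + 1 →
        ∑ b : F, χ (uSL b) ≠ 0 → χ = χ₁ ∨ χ = χ₂) := by
  classical
  have : Fintype (BSL F) := Fintype.ofFinite _
  have hodd : Odd (Fintype.card F) := ⟨k, hk⟩
  have hF : ringChar F ≠ 2 := ringChar_ne_two_of_odd hodd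
  have hε0 : ε ≠ 0 := by
    rintro rfl
    exact hε ⟨0, by simp⟩
  have hk1 : 1 ≤ k := by
    have := Fintype.one_lt_card (α := F)
    omega
  have hq0 : (Fintype.card F : ℂ) ≠ 0 := by exact_mod_cast Fintype.card_ne_zero
  obtain ⟨m, rp, rm, hdeg, hsum, hdiff, hsumU, hcls, hL, hhalf, -, -, -, cp1, cm1, -, -⟩ :=
    sl2_odd_classification k hk ψ hψ ε hε
  obtain ⟨g, hg⟩ : ∃ g, g = gaussSum (etaC F) ψ := ⟨_, rfl⟩
  rw [← hg] at hdiff ⊢
  have hg0 : g ≠ 0 := by
    intro h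
    have h1 := gauss_mul_conj hF ψ hψ
    rw [← hg, h, zero_mul] at h1
    exact hq0 h1.symm
  -- the induced character
  obtain ⟨θ, hθ⟩ : ∃ θ, θ = Cfsg.indFun (BSL F) (alphaB α) := ⟨_, rfl⟩
  rw [← hθ]
  have hθchar : Cfsg.IsCharacter (Matrix.SpecialLinearGroup (Fin 2) F) θ := by
    rw [hθ]
    exact isCharacter_indFun_alphaB α
  have hnorm : Cfsg.classInner θ θ = 2 := by
    have := classInner_indFun_alphaB α
    rwa [if_pos hα, ← hθ] at this
  have hθ1 : θ 1 = 2 * (k : ℂ) + 2 := by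
    rw [hθ, indFun_one, index_BSL, hk, alphaB_apply]
    simp only [OneMemClass.coe_one, Matrix.SpecialLinearGroup.coe_one, Matrix.one_apply_eq,
      map_one, mul_one]
    push_cast
    ring
  have hθu : ∀ b : F, b ≠ 0 → θ (uSL b) = 1 := by
    intro b hb
    rw [hθ, indFun_alphaB_unipotent α (uSL b) (by simp [uSL_val]) (by simp [uSL_val])
      (by simpa [uSL_val] using hb)]
    simp [uSL_val]
  have hθtriv : Cfsg.classInner θ (fun _ => (1 : ℂ)) = 0 := by
    rw [hθ]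
    exact classInner_indFun_alphaB_one α hα1
  -- decomposition into two distinct irreducible characters
  obtain ⟨a, b, hab, hθab⟩ : ∃ a b : Cfsg.IrrCharacter (Matrix.SpecialLinearGroup (Fin 2) F),
      a ≠ b ∧ θ = (a : Matrix.SpecialLinearGroup (Fin 2) F → ℂ) +
        (b : Matrix.SpecialLinearGroup (Fin 2) F → ℂ) := by
    obtain ⟨l, hl⟩ := exists_irr_list_of_isCharacter hθchar
    obtain ⟨n, hn, hle⟩ := exists_nat_norm_list_irr l
    rw [← hl, hnorm] at hn
    have hn2 : n = 2 := by exact_mod_cast hn.symm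
    subst hn2
    match l, hl, hle with
    | [], hl, _ =>
      exfalso
      rw [hl] at hnorm
      simp [classInner_zero_left] at hnorm
    | [a], hl, _ =>
      exfalso
      rw [hl] at hnorm
      simp only [List.map_cons, List.map_nil, List.sum_cons, List.sum_nil, add_zero] at hnorm
      rw [classInner_irr_self a.2] at hnorm
      norm_num at hnorm
    | [a, b], hl, _ =>
      refine ⟨a, b, ?_, by rw [hl]; simp⟩
      rintro rfl
      rw [hl] at hnorm
      simp only [List.map_cons, List.map_nil, List.sum_cons, List.sum_nil, add_zero] at hnorm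
      rw [classInner_add_left, classInner_add_right, classInner_irr_self a.2] at hnorm
      norm_num at hnorm
    | a :: b :: c :: l, _, hle =>
      exfalso
      simp only [List.length_cons] at hle
      omega
  -- neither constituent is trivial
  have htriv : ∀ c : Cfsg.IrrCharacter (Matrix.SpecialLinearGroup (Fin 2) F),
      Cfsg.classInner (c : Matrix.SpecialLinearGroup (Fin 2) F → ℂ) (fun _ => (1 : ℂ)) =
        if (c : Matrix.SpecialLinearGroup (Fin 2) F → ℂ) = (fun _ => (1 : ℂ)) then 1 else 0 :=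
    fun c => classInner_irr c.2 Cfsg.Agent.Lib.helper83.isIrrCharacter_one
  have hnt : (a : Matrix.SpecialLinearGroup (Fin 2) F → ℂ) ≠ (fun _ => (1 : ℂ)) ∧
      (b : Matrix.SpecialLinearGroup (Fin 2) F → ℂ) ≠ (fun _ => (1 : ℂ)) := by
    have h := hθtriv
    rw [hθab, classInner_add_left, htriv a, htriv b] at h
    constructor
    · intro hc
      rw [if_pos hc] at h
      split_ifs at h <;> norm_num at h
    · intro hc
      rw [if_pos hc] at h
      split_ifs at h <;> norm_num at h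
  -- characters of type `(0, 0)` are trivial
  have ht0 : rp (Cfsg.Agent.Lib.helper83.trivIrr (Matrix.SpecialLinearGroup (Fin 2) F)) = 0 ∧
      rm (Cfsg.Agent.Lib.helper83.trivIrr (Matrix.SpecialLinearGroup (Fin 2) F)) = 0 := by
    have e1 := hdeg (Cfsg.Agent.Lib.helper83.trivIrr (Matrix.SpecialLinearGroup (Fin 2) F))
    have e2 := hsum (Cfsg.Agent.Lib.helper83.trivIrr (Matrix.SpecialLinearGroup (Fin 2) F))
    simp only [Cfsg.Agent.Lib.helper83.trivIrr_apply] at e1 e2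
    have h3 : ((2 * k + 1 : ℕ) : ℂ) *
        ((rp (Cfsg.Agent.Lib.helper83.trivIrr (Matrix.SpecialLinearGroup (Fin 2) F)) +
          rm (Cfsg.Agent.Lib.helper83.trivIrr (Matrix.SpecialLinearGroup (Fin 2) F)) : ℕ) : ℂ)
        = 0 := by
      push_cast
      linear_combination (-2 : ℂ) * e1 + e2
    have h4 : (2 * k + 1) *
        (rp (Cfsg.Agent.Lib.helper83.trivIrr (Matrix.SpecialLinearGroup (Fin 2) F)) +
          rm (Cfsg.Agent.Lib.helper83.trivIrr (Matrix.SpecialLinearGroup (Fin 2) F))) = 0 := by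
      exact_mod_cast h3
    rcases Nat.mul_eq_zero.1 h4 with h | h <;> omega
  have hT0 : ∀ c : Cfsg.IrrCharacter (Matrix.SpecialLinearGroup (Fin 2) F),
      rp c = 0 ∧ rm c = 0 →
      (c : Matrix.SpecialLinearGroup (Fin 2) F → ℂ) = fun _ => (1 : ℂ) := by
    intro c hc
    obtain ⟨x, hx⟩ := Finset.card_eq_one.1 hL
    have e1 : c ∈ ({x} : Finset _) := by
      rw [← hx]; simp [hc]
    have e2 : Cfsg.Agent.Lib.helper83.trivIrr (Matrix.SpecialLinearGroup (Fin 2) F) ∈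
        ({x} : Finset _) := by
      rw [← hx]; simp [ht0]
    rw [Finset.mem_singleton] at e1 e2
    rw [e1, ← e2]
    rfl
  have hna : ¬ (rp a = 0 ∧ rm a = 0) := fun h => hnt.1 (hT0 a h)
  have hnb : ¬ (rp b = 0 ∧ rm b = 0) := fun h => hnt.2 (hT0 b h)
  -- the numerical data
  have ea := hdeg a
  have eb := hdeg b
  have sa := hsum a
  have sb := hsum b
  have da := hdiff a
  have db := hdiff b
  have h1 : (a : Matrix.SpecialLinearGroup (Fin 2) F → ℂ) 1 +
      (b : Matrix.SpecialLinearGroup (Fin 2) F → ℂ) 1 = 2 * (k : ℂ) + 2 := by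
    rw [← hθ1, hθab]
    rfl
  have hu1 : (a : Matrix.SpecialLinearGroup (Fin 2) F → ℂ) (uSL 1) +
      (b : Matrix.SpecialLinearGroup (Fin 2) F → ℂ) (uSL 1) = 1 := by
    have := hθu 1 one_ne_zero
    rw [hθab] at this
    exact this
  have huε : (a : Matrix.SpecialLinearGroup (Fin 2) F → ℂ) (uSL ε) +
      (b : Matrix.SpecialLinearGroup (Fin 2) F → ℂ) (uSL ε) = 1 := by
    have := hθu ε hε0
    rw [hθab] at this
    exact this
  have hMc : ((2 * k + 1 : ℕ) : ℂ) * ((m a + m b : ℕ) : ℂ) = ((2 * (2 * k + 1) : ℕ) : ℂ) := by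
    push_cast
    linear_combination h1 - ea - eb + (k : ℂ) * (hu1 + huε - sa - sb)
  have hM : m a + m b = 2 := by
    have h : (2 * k + 1) * (m a + m b) = 2 * (2 * k + 1) := by exact_mod_cast hMc
    have hpos : 0 < 2 * k + 1 := by omega
    apply Nat.eq_of_mul_eq_mul_left hpos
    rw [h]
    ring
  have hMc' : (m a : ℂ) + (m b : ℂ) = 2 := by exact_mod_cast hM
  have hSc : ((rp a + rm a + rp b + rm b : ℕ) : ℂ) = ((2 : ℕ) : ℂ) := by
    push_cast
    linear_combination sa + sb - hu1 - huε + 2 * hMc'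
  have hS : rp a + rm a + rp b + rm b = 2 := by exact_mod_cast hSc
  have hDc : (((rp a : ℤ) - rm a + ((rp b : ℤ) - rm b) : ℤ) : ℂ) = ((0 : ℤ) : ℂ) := by
    have h : (((rp a : ℂ) - rm a) + ((rp b : ℂ) - rm b)) * g = 0 := by
      linear_combination hu1 - huε - da - db
    rcases mul_eq_zero.1 h with h' | h'
    · push_cast
      exact h'
    · exact absurd h' hg0
  have hD : (rp a : ℤ) - rm a + ((rp b : ℤ) - rm b) = 0 := by exact_mod_cast hDc
  -- the types
  have htypes : (rp a = 1 ∧ rm a = 0 ∧ m a = 1 ∧ rp b = 0 ∧ rm b = 1 ∧ m b = 1) ∨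
      (rp a = 0 ∧ rm a = 1 ∧ m a = 1 ∧ rp b = 1 ∧ rm b = 0 ∧ m b = 1) := by
    have hha := hhalf a
    have hhb := hhalf b
    rcases hcls a with ⟨a1, a2, a3⟩ | ⟨a1, a2⟩ | ⟨a1, a2⟩ | ⟨a1, a2, a3⟩ <;>
      rcases hcls b with ⟨b1, b2, b3⟩ | ⟨b1, b2⟩ | ⟨b1, b2⟩ | ⟨b1, b2, b3⟩ <;> omega
  obtain ⟨c, d, hθcd, c1, c2, c3, d1, d2, d3⟩ :
      ∃ c d : Cfsg.IrrCharacter (Matrix.SpecialLinearGroup (Fin 2) F),
        θ = (c : Matrix.SpecialLinearGroup (Fin 2) F → ℂ) +
          (d : Matrix.SpecialLinearGroup (Fin 2) F → ℂ) ∧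
        rp c = 1 ∧ rm c = 0 ∧ m c = 1 ∧ rp d = 0 ∧ rm d = 1 ∧ m d = 1 := by
    rcases htypes with ⟨a1, a2, a3, b1, b2, b3⟩ | ⟨a1, a2, a3, b1, b2, b3⟩
    · exact ⟨a, b, hθab, a1, a2, a3, b1, b2, b3⟩
    · exact ⟨b, a, by rw [hθab, add_comm], b1, b2, b3, a1, a2, a3⟩
  have uniq : ∀ (P : Cfsg.IrrCharacter (Matrix.SpecialLinearGroup (Fin 2) F) → Prop)
      [DecidablePred P], (Finset.univ.filter P).card = 1 → ∀ x y, P x → P y → x = y := by
    intro P _ hc x y hx hy
    obtain ⟨z, hz⟩ := Finset.card_eq_one.1 hc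
    have e1 : x ∈ ({z} : Finset _) := by
      rw [← hz]; simp [hx]
    have e2 : y ∈ ({z} : Finset _) := by
      rw [← hz]; simp [hy]
    rw [Finset.mem_singleton] at e1 e2
    rw [e1, e2]
  refine ⟨c, d, c.2, d.2, ?_, hθcd, ?_, ?_, ?_, ?_, ?_, ?_, ?_⟩
  · intro h
    have h' : c = d := Subtype.ext h
    rw [h'] at c1
    omega
  · rw [hdeg c, c1, c2, c3]
    push_cast
    ring
  · rw [hdeg d, d1, d2, d3]
    push_cast
    ring
  · rw [hsumU c, c3]
    simp
  · rw [hsumU d, d3]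
    simp
  · rw [hdiff c, c1, c2]
    simp
  · rw [hdiff d, d1, d2]
    simp
  · intro χ hχ hχ1 hχU
    have hm : m ⟨χ, hχ⟩ ≠ 0 := by
      intro h0
      apply hχU
      have := hsumU ⟨χ, hχ⟩
      rw [h0] at this
      simpa using this
    have hd := hdeg ⟨χ, hχ⟩
    simp only at hd
    rw [hχ1] at hd
    have hd' : k + 1 = m ⟨χ, hχ⟩ + k * (rp ⟨χ, hχ⟩ + rm ⟨χ, hχ⟩) := by exact_mod_cast hd
    rcases hcls ⟨χ, hχ⟩ with ⟨e1, e2, e3⟩ | ⟨e1, e2⟩ | ⟨e1, e2⟩ | ⟨e1, e2, e3⟩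
    · rw [e1, e2, e3] at hd'
      omega
    · rw [e1, e2] at hd'
      left
      have h3 : m ⟨χ, hχ⟩ = 1 := by omega
      exact congrArg Subtype.val (uniq _ cp1 ⟨χ, hχ⟩ c ⟨e1, e2, h3⟩ ⟨c1, c2, c3⟩)
    · rw [e1, e2] at hd'
      right
      have h3 : m ⟨χ, hχ⟩ = 1 := by omega
      exact congrArg Subtype.val (uniq _ cm1 ⟨χ, hχ⟩ d ⟨e1, e2, h3⟩ ⟨d1, d2, d3⟩)
    · rw [e1, e2] at hd'
      omega

/-- The two characters of degree `(q + 1) / 2` are interchanged by conjugation with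
`diag(ε, 1)`, `ε` a nonsquare. -/
theorem sl2_half_twist [Fintype (Matrix.SpecialLinearGroup (Fin 2) F)]
    [Fintype (Cfsg.IrrCharacter (Matrix.SpecialLinearGroup (Fin 2) F))]
    (k : ℕ) (hk : Fintype.card F = 2 * k + 1)
    (ψ : AddChar F ℂ) (hψ : ψ ≠ 1) (e : Fˣ) (hε : ¬ IsSquare (e : F))
    (α : MulChar F ℂ) (hα : α ^ 2 = 1) (hα1 : α ≠ 1) :
    ∃ χ₁ χ₂ : Matrix.SpecialLinearGroup (Fin 2) F → ℂ,
      Cfsg.IsIrrCharacter (Matrix.SpecialLinearGroup (Fin 2) F) χ₁ ∧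
      Cfsg.IsIrrCharacter (Matrix.SpecialLinearGroup (Fin 2) F) χ₂ ∧ χ₁ ≠ χ₂ ∧
      Cfsg.indFun (BSL F) (alphaB α) = χ₁ + χ₂ ∧
      χ₁ 1 = (k : ℂ) + 1 ∧ χ₂ 1 = (k : ℂ) + 1 ∧
      (∀ g : Matrix.SpecialLinearGroup (Fin 2) F, χ₂ (twistFun e g) = χ₁ g) ∧
      (∀ χ : Matrix.SpecialLinearGroup (Fin 2) F → ℂ,
        Cfsg.IsIrrCharacter (Matrix.SpecialLinearGroup (Fin 2) F) χ → χ 1 = (k : ℂ) + 1 →
        ∑ b : F, χ (uSL b) ≠ 0 → χ = χ₁ ∨ χ = χ₂) := by
  classical
  have hodd : Odd (Fintype.card F) := ⟨k, hk⟩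
  have hF : ringChar F ≠ 2 := ringChar_ne_two_of_odd hodd
  have hq0 : (Fintype.card F : ℂ) ≠ 0 := by exact_mod_cast Fintype.card_ne_zero
  obtain ⟨χ₁, χ₂, h₁, h₂, hne, hind, d₁, d₂, u₁, u₂, D₁, D₂, huniq⟩ :=
    sl2_half_decomp k hk ψ hψ (e : F) hε α hα hα1
  refine ⟨χ₁, χ₂, h₁, h₂, hne, hind, d₁, d₂, ?_, huniq⟩
  have hg0 : gaussSum (etaC F) ψ ≠ 0 := by
    intro h
    have h1 := gauss_mul_conj hF ψ hψ
    rw [h, zero_mul] at h1
    exact hq0 h1.symm
  have hcf := isClassFunction_of_isCharacter (isCharacter_of_isIrrCharacter h₁)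
  -- the twisted character
  have h' := isIrrCharacter_comp_mulEquiv (twistSL e⁻¹) h₁
  have h'1 : (fun g => χ₁ (twistSL e⁻¹ g)) 1 = (k : ℂ) + 1 := by
    show χ₁ (twistSL e⁻¹ 1) = _
    rw [map_one, d₁]
  have h'val : ∀ b : F, (fun g => χ₁ (twistSL e⁻¹ g)) (uSL b) = χ₁ (uSL (((e⁻¹ : Fˣ) : F) * b)) := by
    intro b
    show χ₁ (twistSL e⁻¹ (uSL b)) = _
    rw [twistSL_apply, twistFun_uSL]
  have h'U : ∑ b : F, (fun g => χ₁ (twistSL e⁻¹ g)) (uSL b) ≠ 0 := by
    simp only [h'val]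
    have hs : ∑ b : F, χ₁ (uSL (((e⁻¹ : Fˣ) : F) * b)) = ∑ b : F, χ₁ (uSL b) :=
      Equiv.sum_comp (Equiv.mulLeft₀ ((e⁻¹ : Fˣ) : F) (e⁻¹).ne_zero) (fun b => χ₁ (uSL b))
    rw [hs, u₁]
    exact hq0
  have hinvns : ¬ IsSquare (((e⁻¹ : Fˣ) : F)) := by
    rintro ⟨r, hr⟩
    apply hε
    refine ⟨r⁻¹, ?_⟩
    rw [← mul_inv, ← hr, Units.val_inv_eq_inv_val, inv_inv]
  have hkey : (fun g => χ₁ (twistSL e⁻¹ g)) = χ₂ := by
    rcases huniq _ h' h'1 h'U with h | h
    · exfalso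
      have e1 := congrFun h (uSL 1)
      have e2 := congrFun h (uSL (e : F))
      rw [twistSL_apply, twistFun_uSL] at e1 e2
      rw [mul_one] at e1
      rw [← Units.val_mul, inv_mul_cancel, Units.val_one] at e2
      rw [classFun_uSL_of_not_isSquare χ₁ hcf hε hinvns] at e1
      apply hg0
      linear_combination -D₁ - e1
    · exact h
  intro g
  rw [← hkey]
  show χ₁ (twistSL e⁻¹ (twistFun e g)) = χ₁ g
  rw [twistSL_apply, twistFun_inv_apply]

end Half

end Cfsg.Agent.Lib.helper43
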