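-- helper43: elements of SL₂(q) without eigenvectors, and the vanishing of the characters of
-- degree (q + 1) / 2 on them.
import Mathlib
import Cfsg.Prelude.Def_Characters
import Cfsg.Agent.Lib.helper43.SL2Half

set_option autoImplicit false

namespace Cfsg.Agent.Lib.helper43

open scoped ComplexConjugate
open Cfsg.Agent.Lib.helper4
open Matrix Polynomial

section Elliptic

variable {F : Type*} [Field F]

/-- An element of `SL₂` without eigenvectors has no eigenvalue in `F`. -/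
theorem elliptic_charpoly_ne_zero (g : Matrix.SpecialLinearGroup (Fin 2) F)
    (hg : ∀ (c : F) (v : Fin 2 → F), v ≠ 0 → (g : Matrix (Fin 2) (Fin 2) F).mulVec v ≠ c • v)
    (c : F) :
    c ^ 2 - ((g : Matrix (Fin 2) (Fin 2) F) 0 0 + (g : Matrix (Fin 2) (Fin 2) F) 1 1) * c + 1
      ≠ 0 := by
  classical
  intro h
  have hdet : ((g : Matrix (Fin 2) (Fin 2) F) - c • (1 : Matrix (Fin 2) (Fin 2) F)).det = 0 := by
    rw [Matrix.det_fin_two]
    simp only [Matrix.sub_apply, Matrix.smul_apply, Matrix.one_apply_eq, smul_eq_mul, mul_one,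
      ne_eq, zero_ne_one, one_ne_zero, not_false_eq_true, Matrix.one_apply_ne, mul_zero, sub_zero]
    have hd := sl2_det g
    linear_combination h + hd
  obtain ⟨v, hv, hv0⟩ := Matrix.exists_mulVec_eq_zero_iff.2 hdet
  apply hg c v hv
  rw [Matrix.sub_mulVec, Matrix.smul_mulVec, Matrix.one_mulVec, sub_eq_zero] at hv0
  exact hv0

/-- The norm form of an element without eigenvectors represents every element of a finite
field of odd order. -/
theorem exists_norm_eq [Fintype F] (hodd : Odd (Fintype.card F))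
    (g : Matrix.SpecialLinearGroup (Fin 2) F)
    (hg : ∀ (c : F) (v : Fin 2 → F), v ≠ 0 → (g : Matrix (Fin 2) (Fin 2) F).mulVec v ≠ c • v)
    (ε₀ : F) :
    ∃ s t : F, s ^ 2 + s * t * ((g : Matrix (Fin 2) (Fin 2) F) 0 0 +
      (g : Matrix (Fin 2) (Fin 2) F) 1 1) + t ^ 2 = ε₀ := by
  have h2 : (2 : F) ≠ 0 := two_ne_zero_of_odd hodd
  have h4 : (4 : F) ≠ 0 := by
    have : (4 : F) = 2 * 2 := by norm_num
    rw [this]
    exact mul_ne_zero h2 h2
  obtain ⟨τ, hτ⟩ : ∃ τ : F, τ = (g : Matrix (Fin 2) (Fin 2) F) 0 0 +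
      (g : Matrix (Fin 2) (Fin 2) F) 1 1 := ⟨_, rfl⟩
  rw [← hτ]
  have hδ : 1 - τ ^ 2 / 4 ≠ 0 := by
    intro h
    apply elliptic_charpoly_ne_zero g hg (τ / 2)
    rw [← hτ]
    have : (τ / 2) ^ 2 - τ * (τ / 2) + 1 = 1 - τ ^ 2 / 4 := by
      field_simp
      ring
    rw [this]
    exact h
  obtain ⟨a, b, hab⟩ := FiniteField.exists_root_sum_quadratic (f := (X : F[X]) ^ 2)
    (g := C (1 - τ ^ 2 / 4) * X ^ 2 + C 0 * X + C (-ε₀)) (Polynomial.degree_X_pow 2)
    (Polynomial.degree_quadratic hδ) (Nat.odd_iff.1 hodd)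
  simp only [eval_pow, eval_X, eval_add, eval_mul, eval_C, zero_mul, add_zero] at hab
  refine ⟨a - τ * b / 2, b, ?_⟩
  have key : (a - τ * b / 2) ^ 2 + (a - τ * b / 2) * b * τ + b ^ 2 =
      a ^ 2 + (1 - τ ^ 2 / 4) * b ^ 2 := by
    field_simp
    ring
  rw [key]
  linear_combination hab

/-- the element conjugating `g` to its twist by `diag(e, 1)`, when `e` is a norm -/
def conjElt (e : Fˣ) (g : Matrix.SpecialLinearGroup (Fin 2) F) (s t : F)
    (hN : s ^ 2 + s * t * ((g : Matrix (Fin 2) (Fin 2) F) 0 0 +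
      (g : Matrix (Fin 2) (Fin 2) F) 1 1) + t ^ 2 = (e : F)) :
    Matrix.SpecialLinearGroup (Fin 2) F :=
  ⟨!![s + t * (g : Matrix (Fin 2) (Fin 2) F) 1 1, -(t * (g : Matrix (Fin 2) (Fin 2) F) 0 1);
      -(t * (g : Matrix (Fin 2) (Fin 2) F) 1 0) * ((e⁻¹ : Fˣ) : F),
      (s + t * (g : Matrix (Fin 2) (Fin 2) F) 0 0) * ((e⁻¹ : Fˣ) : F)], by
    rw [Matrix.det_fin_two_of]
    have hd := sl2_det g
    have he : (e : F) * ((e⁻¹ : Fˣ) : F) = 1 := by
      rw [← Units.val_mul, mul_inv_cancel, Units.val_one]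
    linear_combination ((e⁻¹ : Fˣ) : F) * hN + t ^ 2 * ((e⁻¹ : Fˣ) : F) * hd + he⟩

theorem conjElt_val (e : Fˣ) (g : Matrix.SpecialLinearGroup (Fin 2) F) (s t : F)
    (hN : s ^ 2 + s * t * ((g : Matrix (Fin 2) (Fin 2) F) 0 0 +
      (g : Matrix (Fin 2) (Fin 2) F) 1 1) + t ^ 2 = (e : F)) :
    ((conjElt e g s t hN : Matrix.SpecialLinearGroup (Fin 2) F) : Matrix (Fin 2) (Fin 2) F) =
      !![s + t * (g : Matrix (Fin 2) (Fin 2) F) 1 1, -(t * (g : Matrix (Fin 2) (Fin 2) F) 0 1);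
        -(t * (g : Matrix (Fin 2) (Fin 2) F) 1 0) * ((e⁻¹ : Fˣ) : F),
        (s + t * (g : Matrix (Fin 2) (Fin 2) F) 0 0) * ((e⁻¹ : Fˣ) : F)] := rfl

theorem conjElt_mul (e : Fˣ) (g : Matrix.SpecialLinearGroup (Fin 2) F) (s t : F)
    (hN : s ^ 2 + s * t * ((g : Matrix (Fin 2) (Fin 2) F) 0 0 +
      (g : Matrix (Fin 2) (Fin 2) F) 1 1) + t ^ 2 = (e : F)) :
    conjElt e g s t hN * g = twistFun e g * conjElt e g s t hN := by
  have he : (e : F) * ((e⁻¹ : Fˣ) : F) = 1 := by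
    rw [← Units.val_mul, mul_inv_cancel, Units.val_one]
  apply sl2_ext
  · simp only [conjElt_val, twistFun_val, Matrix.SpecialLinearGroup.coe_mul, Matrix.mul_apply,
      Fin.sum_univ_two, Matrix.of_apply, Matrix.cons_val', Matrix.cons_val_zero,
      Matrix.cons_val_one, Matrix.cons_val_fin_one]
    linear_combination (t * (g : Matrix (Fin 2) (Fin 2) F) 0 1 *
      (g : Matrix (Fin 2) (Fin 2) F) 1 0) * he
  · simp only [conjElt_val, twistFun_val, Matrix.SpecialLinearGroup.coe_mul, Matrix.mul_apply,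
      Fin.sum_univ_two, Matrix.of_apply, Matrix.cons_val', Matrix.cons_val_zero,
      Matrix.cons_val_one, Matrix.cons_val_fin_one]
    linear_combination (-(g : Matrix (Fin 2) (Fin 2) F) 0 1 *
      (s + t * (g : Matrix (Fin 2) (Fin 2) F) 0 0)) * he
  · simp only [conjElt_val, twistFun_val, Matrix.SpecialLinearGroup.coe_mul, Matrix.mul_apply,
      Fin.sum_univ_two, Matrix.of_apply, Matrix.cons_val', Matrix.cons_val_zero,
      Matrix.cons_val_one, Matrix.cons_val_fin_one]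
    ring
  · simp only [conjElt_val, twistFun_val, Matrix.SpecialLinearGroup.coe_mul, Matrix.mul_apply,
      Fin.sum_univ_two, Matrix.of_apply, Matrix.cons_val', Matrix.cons_val_zero,
      Matrix.cons_val_one, Matrix.cons_val_fin_one]
    ring

end Elliptic

section Vanish

variable {F : Type*} [Field F] [Fintype F] [DecidableEq F]

/-- **The characters of degree `(q + 1) / 2` vanish on the elements without eigenvectors.** -/
theorem sl2_half_vanish_elliptic [Fintype (Matrix.SpecialLinearGroup (Fin 2) F)]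
    [Fintype (Cfsg.IrrCharacter (Matrix.SpecialLinearGroup (Fin 2) F))]
    (k : ℕ) (hk : Fintype.card F = 2 * k + 1)
    (χ : Matrix.SpecialLinearGroup (Fin 2) F → ℂ)
    (hχ : Cfsg.IsIrrCharacter (Matrix.SpecialLinearGroup (Fin 2) F) χ)
    (hχ1 : χ 1 = (k : ℂ) + 1) (hU : ∑ b : F, χ (uSL b) ≠ 0)
    (g : Matrix.SpecialLinearGroup (Fin 2) F)
    (hg : ∀ (c : F) (v : Fin 2 → F), v ≠ 0 → (g : Matrix (Fin 2) (Fin 2) F).mulVec v ≠ c • v) :
    χ g = 0 := by
  classical
  have : Fintype (BSL F) := Fintype.ofFinite _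
  have hodd : Odd (Fintype.card F) := ⟨k, hk⟩
  have hF := ringChar_ne_two_of_odd hodd
  obtain ⟨ψ, hψ1⟩ := AddChar.exists_apply_ne_zero.2 (one_ne_zero : (1 : F) ≠ 0)
  have hψ : ψ ≠ 1 := by
    rintro rfl
    exact hψ1 (by simp)
  obtain ⟨ε, hε⟩ := FiniteField.exists_nonsquare hF
  have hε0 : ε ≠ 0 := by
    rintro rfl
    exact hε ⟨0, by simp⟩
  obtain ⟨s, t, hN⟩ := exists_norm_eq hodd g hg ε
  obtain ⟨e, he⟩ : ∃ e : Fˣ, (e : F) = ε := ⟨Units.mk0 ε hε0, rfl⟩
  rw [← he] at hN hε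
  obtain ⟨χ₁, χ₂, h₁, h₂, hne, hind, d₁, d₂, htw, huniq⟩ :=
    sl2_half_twist k hk ψ hψ e hε (etaC F) etaC_isQuadratic.sq_eq_one (etaC_ne_one hF)
  have hθ : χ₁ g + χ₂ g = 0 := by
    have h := indFun_alphaB_elliptic (etaC F) g hg
    rw [hind] at h
    exact h
  have hcf₂ := isClassFunction_of_isCharacter (isCharacter_of_isIrrCharacter h₂)
  have heq : χ₂ g = χ₁ g := by
    rw [← htw g]
    have hy := conjElt_mul e g s t hN
    have h3 : twistFun e g = conjElt e g s t hN * g * (conjElt e g s t hN)⁻¹ := by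
      rw [hy]
      group
    rw [h3]
    exact (hcf₂ g _).symm
  have h2 : χ₁ g = 0 := by
    have h3 : (2 : ℂ) * χ₁ g = 0 := by linear_combination hθ - heq
    rcases mul_eq_zero.1 h3 with h | h
    · exact absurd h two_ne_zero
    · exact h
  rcases huniq χ hχ hχ1 hU with rfl | rfl
  · exact h2
  · rw [heq]
    exact h2

end Vanish

section Misc

variable {F : Type*} [Field F]

/-- A diagonal matrix of `SL₂` with distinct entries is conjugate to its product with any upper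
unitriangular matrix. -/
theorem exists_conj_diag_mul_uSL (g : Matrix.SpecialLinearGroup (Fin 2) F)
    (h01 : (g : Matrix (Fin 2) (Fin 2) F) 0 1 = 0) (h10 : (g : Matrix (Fin 2) (Fin 2) F) 1 0 = 0)
    (hne : (g : Matrix (Fin 2) (Fin 2) F) 0 0 ≠ (g : Matrix (Fin 2) (Fin 2) F) 1 1) (c : F) :
    ∃ x : Matrix.SpecialLinearGroup (Fin 2) F, x * g * x⁻¹ = g * uSL c := by
  have hne' : (g : Matrix (Fin 2) (Fin 2) F) 1 1 - (g : Matrix (Fin 2) (Fin 2) F) 0 0 ≠ 0 :=
    fun h => hne (sub_eq_zero.1 h).symm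
  refine ⟨uSL ((g : Matrix (Fin 2) (Fin 2) F) 0 0 * c /
    ((g : Matrix (Fin 2) (Fin 2) F) 1 1 - (g : Matrix (Fin 2) (Fin 2) F) 0 0)), ?_⟩
  rw [mul_inv_eq_iff_eq_mul]
  apply sl2_ext
  · simp [uSL_val, Matrix.mul_apply, Fin.sum_univ_two, h01, h10]
  · simp [uSL_val, Matrix.mul_apply, Fin.sum_univ_two, h01, h10]
    field_simp
    ring
  · simp [uSL_val, Matrix.mul_apply, Fin.sum_univ_two, h01, h10]
  · simp [uSL_val, Matrix.mul_apply, Fin.sum_univ_two, h01, h10]

/-- The product of an irreducible character with a linear character is irreducible. -/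
theorem isIrrCharacter_mul_hom {G : Type*} [Group G] [Fintype G] {χ : G → ℂ}
    (hχ : Cfsg.IsIrrCharacter G χ) (f : G →* ℂˣ) :
    Cfsg.IsIrrCharacter G (fun x => χ x * ((f x : ℂˣ) : ℂ)) := by
  have hchar : Cfsg.IsCharacter G (fun x => χ x * ((f x : ℂˣ) : ℂ)) :=
    isCharacter_mul (isCharacter_of_isIrrCharacter hχ)
      (Cfsg.Agent.Lib.helper19.isCharacter_of_hom f)
  apply isIrrCharacter_of_isCharacter_of_norm_one hchar
  rw [← classInner_irr_self hχ]
  unfold Cfsg.classInner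
  congr 1
  apply Finset.sum_congr rfl
  intro x _
  rw [map_mul]
  have h := hom_mul_conj_eq_one f x
  linear_combination χ x * conj (χ x) * h

end Misc

end Cfsg.Agent.Lib.helper43
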