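-- helper43: the irreducible characters of degree q of SL₂(q) (Steinberg character): they are
-- (a linear character times) the permutation character on the projective line minus one.
import Mathlib
import Cfsg.Prelude.Def_Characters
import Cfsg.Agent.Lib.helper43.SL2Borel
import Cfsg.Agent.Lib.helper43.SL2OddClass
import Cfsg.Agent.Lib.helper43.SL2Even
import Cfsg.Agent.Lib.helper43.SL2Elliptic

set_option autoImplicit false

namespace Cfsg.Agent.Lib.helper43

open scoped ComplexConjugate
open Cfsg.Agent.Lib.helper4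
open Matrix

section Steinberg

variable {F : Type*} [Field F] [Fintype F] [DecidableEq F]

/-- An irreducible character `χ` of `SL₂(q)` of degree `q` whose sum over the unipotent subgroup
is `q` is of the form `f (π - 1)`, with `f` a linear character and `π` the character induced
from the trivial character of the upper triangular subgroup. -/
theorem degree_q_eq_linear_mul [Fintype (Matrix.SpecialLinearGroup (Fin 2) F)]
    (χ : Matrix.SpecialLinearGroup (Fin 2) F → ℂ)
    (hχ : Cfsg.IsIrrCharacter (Matrix.SpecialLinearGroup (Fin 2) F) χ)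
    (hdeg : χ 1 = (Fintype.card F : ℂ))
    (hU : ∑ b : F, χ (uSL b) = (Fintype.card F : ℂ)) :
    ∃ f : Matrix.SpecialLinearGroup (Fin 2) F →* ℂˣ,
      ∀ g, χ g = ((f g : ℂˣ) : ℂ) *
        (Cfsg.indFun (BSL F) (alphaB (1 : MulChar F ℂ)) g - 1) := by
  classical
  have : Fintype (USL F) := Fintype.ofFinite _
  have : Fintype (BSL F) := Fintype.ofFinite _
  have hq0 : (Fintype.card F : ℂ) ≠ 0 := by exact_mod_cast Fintype.card_ne_zero
  have hq2 : 2 ≤ Fintype.card F := Fintype.one_lt_card
  have hne : ∑ u : USL F, χ (u : Matrix.SpecialLinearGroup (Fin 2) F) ≠ 0 := by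
    rw [sum_USL, hU]
    exact hq0
  obtain ⟨c, ψ', hψ', hind⟩ := exists_hom_indFun_eq_add hχ (BSL F) (USL F) USL_le_BSL
    BSL_comm_mod_USL hne
  have h1 := congrFun hind 1
  rw [indFun_one, Pi.add_apply, hdeg, index_BSL, map_one] at h1
  have hψ1 : ψ' 1 = 1 := by
    push_cast at h1
    linear_combination -h1
  obtain ⟨f, hf⟩ := Cfsg.Agent.Lib.helper19.exists_hom_of_linear ψ' hψ' hψ1
  have hψirr := isIrrCharacter_of_degree_one hψ' hψ1
  have hχne : χ ≠ ψ' := by
    intro h
    rw [h, hψ1] at hdeg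
    have : (1 : ℕ) = Fintype.card F := by exact_mod_cast hdeg
    omega
  have hfr := frobenius_reciprocity (BSL F) (fun b => ((c b : ℂˣ) : ℂ)) (χ := ψ')
    (isClassFunction_of_isCharacter hψ')
  rw [hind, classInner_add_left, classInner_irr_ne hχ hψirr hχne, classInner_irr_self hψirr,
    zero_add] at hfr
  have hcf : ∀ b : BSL F, c b = f (b : Matrix.SpecialLinearGroup (Fin 2) F) := by
    by_contra hcon
    push Not at hcon
    obtain ⟨b₀, hb₀⟩ := hcon
    let d : BSL F →* ℂˣ := c * (f.comp (BSL F).subtype)⁻¹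
    have hd : d b₀ ≠ 1 := by
      intro h
      apply hb₀
      have h' : c b₀ * (f (b₀ : Matrix.SpecialLinearGroup (Fin 2) F))⁻¹ = 1 := h
      exact mul_inv_eq_one.1 h'
    have h0 := sum_hom_eq_zero d hd
    have hterm : ∀ b : BSL F, ((c b : ℂˣ) : ℂ) *
        conj (ψ' (b : Matrix.SpecialLinearGroup (Fin 2) F)) = ((d b : ℂˣ) : ℂ) := by
      intro b
      rw [hf]
      have h2 := hom_mul_conj_eq_one f (b : Matrix.SpecialLinearGroup (Fin 2) F)
      have h3 : conj ((f (b : Matrix.SpecialLinearGroup (Fin 2) F) : ℂˣ) : ℂ) =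
          (((f (b : Matrix.SpecialLinearGroup (Fin 2) F))⁻¹ : ℂˣ) : ℂ) := by
        rw [Units.val_inv_eq_inv_val]
        exact eq_inv_of_mul_eq_one_right h2
      rw [h3]
      show _ = ((c b * (f (b : Matrix.SpecialLinearGroup (Fin 2) F))⁻¹ : ℂˣ) : ℂ)
      rw [Units.val_mul]
    unfold Cfsg.classInner at hfr
    simp only [hterm] at hfr
    rw [h0, mul_zero] at hfr
    exact one_ne_zero hfr
  refine ⟨f, fun g => ?_⟩
  have hg := congrFun hind g
  rw [Pi.add_apply, hf g] at hg
  have hsum : ∑ x : Matrix.SpecialLinearGroup (Fin 2) F,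
      Cfsg.extendByZero (BSL F) (fun b => ((c b : ℂˣ) : ℂ)) (x⁻¹ * g * x) =
      ((f g : ℂˣ) : ℂ) * ∑ x : Matrix.SpecialLinearGroup (Fin 2) F,
        Cfsg.extendByZero (BSL F) (alphaB (1 : MulChar F ℂ)) (x⁻¹ * g * x) := by
    rw [Finset.mul_sum]
    apply Finset.sum_congr rfl
    intro x _
    by_cases hx : x⁻¹ * g * x ∈ BSL F
    · rw [extendByZero_apply_mem _ _ hx, extendByZero_apply_mem _ _ hx, hcf, alphaB_apply,
        MulChar.one_apply (BSL_00_ne_zero ⟨_, hx⟩).isUnit, mul_one]
      show ((f (x⁻¹ * g * x) : ℂˣ) : ℂ) = _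
      rw [map_mul, map_mul, map_inv, mul_comm (f x)⁻¹, mul_assoc, inv_mul_cancel, mul_one]
    · rw [extendByZero_apply_of_not_mem _ _ hx, extendByZero_apply_of_not_mem _ _ hx, mul_zero]
  have hproj : Cfsg.indFun (BSL F) (fun b => ((c b : ℂˣ) : ℂ)) g =
      ((f g : ℂˣ) : ℂ) * Cfsg.indFun (BSL F) (alphaB (1 : MulChar F ℂ)) g := by
    rw [indFun_apply, indFun_apply, hsum]
    ring
  rw [hproj] at hg
  linear_combination -hg

omit [Fintype F] [DecidableEq F] in
/-- `SL₂(q)` is perfect for `q ≥ 4`: every homomorphism to `ℂˣ` is trivial. -/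
theorem sl2_hom_eq_one [Fintype F] (hq : 4 ≤ Fintype.card F)
    (f : Matrix.SpecialLinearGroup (Fin 2) F →* ℂˣ) (x : Matrix.SpecialLinearGroup (Fin 2) F) :
    f x = 1 := by
  classical
  obtain ⟨a, ha0, ha⟩ : ∃ a : F, a ≠ 0 ∧ a * a - 1 ≠ 0 := by
    by_contra hcon
    push Not at hcon
    have hsub : (Finset.univ : Finset F) ⊆ {0, 1, -1} := by
      intro a _
      by_cases ha0 : a = 0
      · simp [ha0]
      · have h := hcon a ha0
        have h' : (a - 1) * (a + 1) = 0 := by linear_combination h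
        rcases mul_eq_zero.1 h' with h1 | h1
        · have : a = 1 := by linear_combination h1
          simp [this]
        · have : a = -1 := by linear_combination h1
          simp [this]
    have h1 := Finset.card_le_card hsub
    have h2 : ({0, 1, -1} : Finset F).card ≤ 3 := Finset.card_le_three
    rw [Finset.card_univ] at h1
    omega
  have hu : ∀ b : F, f (uSL b) = 1 := by
    intro b
    have h1 := dSL_conj (Units.mk0 a ha0) (b / (a * a - 1))
    rw [Units.val_mk0] at h1
    have h2 : uSL b = dSL (Units.mk0 a ha0) * uSL (b / (a * a - 1)) * (dSL (Units.mk0 a ha0))⁻¹ *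
        (uSL (b / (a * a - 1)))⁻¹ := by
      rw [h1, uSL_inv, uSL_mul]
      congr 1
      have h3 := div_mul_cancel₀ b ha
      linear_combination -h3
    rw [h2, map_mul, map_mul, map_mul, map_inv, map_inv]
    rw [mul_comm (f (dSL (Units.mk0 a ha0))), mul_assoc, mul_assoc, mul_inv_cancel_left,
      mul_inv_cancel]
  have hK : f.ker = ⊤ := eq_top_of_USL_le f.ker inferInstance (fun b => by
    rw [MonoidHom.mem_ker]
    exact hu b)
  have hx : x ∈ f.ker := by
    rw [hK]
    exact Subgroup.mem_top x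
  exact (MonoidHom.mem_ker).1 hx

omit [Fintype F] [DecidableEq F] in
theorem uSL_pow (b : F) (n : ℕ) : uSL b ^ n = uSL ((n : F) * b) := by
  induction n with
  | zero => simp [uSL_zero]
  | succ n ih =>
    rw [pow_succ, ih, uSL_mul]
    congr 1
    push_cast
    ring

omit [Fintype F] [DecidableEq F] in
/-- Cayley–Hamilton for `SL₂`. -/
theorem sl2_cayley_hamilton (g : Matrix.SpecialLinearGroup (Fin 2) F) :
    (g : Matrix (Fin 2) (Fin 2) F) * (g : Matrix (Fin 2) (Fin 2) F) =
      ((g : Matrix (Fin 2) (Fin 2) F) 0 0 + (g : Matrix (Fin 2) (Fin 2) F) 1 1) •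
        (g : Matrix (Fin 2) (Fin 2) F) - 1 := by
  have hd := sl2_det g
  ext i j
  fin_cases i <;> fin_cases j
  · simp only [Fin.zero_eta, Fin.isValue, Matrix.mul_apply, Fin.sum_univ_two, Matrix.sub_apply,
      Matrix.smul_apply, smul_eq_mul, Matrix.one_apply_eq]
    linear_combination -hd
  · simp only [Fin.zero_eta, Fin.isValue, Fin.mk_one, Matrix.mul_apply, Fin.sum_univ_two,
      Matrix.sub_apply, Matrix.smul_apply, smul_eq_mul, ne_eq, zero_ne_one, not_false_eq_true,
      Matrix.one_apply_ne, sub_zero]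
    ring
  · simp only [Fin.mk_one, Fin.isValue, Fin.zero_eta, Matrix.mul_apply, Fin.sum_univ_two,
      Matrix.sub_apply, Matrix.smul_apply, smul_eq_mul, ne_eq, one_ne_zero, not_false_eq_true,
      Matrix.one_apply_ne, sub_zero]
    ring
  · simp only [Fin.mk_one, Fin.isValue, Matrix.mul_apply, Fin.sum_univ_two, Matrix.sub_apply,
      Matrix.smul_apply, smul_eq_mul, Matrix.one_apply_eq]
    linear_combination -hd

omit [DecidableEq F] in
/-- For `q ≤ 3`, every homomorphism `SL₂(q) → ℂˣ` is trivial on the elements without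
eigenvectors. -/
theorem sl2_hom_elliptic_eq_one (hq : Fintype.card F ≤ 3)
    (f : Matrix.SpecialLinearGroup (Fin 2) F →* ℂˣ) (g : Matrix.SpecialLinearGroup (Fin 2) F)
    (hg : ∀ (c : F) (v : Fin 2 → F), v ≠ 0 → (g : Matrix (Fin 2) (Fin 2) F).mulVec v ≠ c • v) :
    f g = 1 := by
  have hq2 : 2 ≤ Fintype.card F := Fintype.one_lt_card
  have hqF : ((Fintype.card F : ℕ) : F) = 0 := Nat.cast_card_eq_zero F
  -- `f x ^ q = 1`
  have hpow : ∀ x : Matrix.SpecialLinearGroup (Fin 2) F, f x ^ Fintype.card F = 1 := by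
    intro x
    have hK : ((powMonoidHom (Fintype.card F) : ℂˣ →* ℂˣ).comp f).ker = ⊤ :=
      eq_top_of_USL_le _ inferInstance (fun b => by
        rw [MonoidHom.mem_ker]
        show f (uSL b) ^ Fintype.card F = 1
        rw [← map_pow, uSL_pow, hqF, zero_mul, uSL_zero, map_one])
    have hx : x ∈ ((powMonoidHom (Fintype.card F) : ℂˣ →* ℂˣ).comp f).ker := by
      rw [hK]
      exact Subgroup.mem_top x
    exact (MonoidHom.mem_ker).1 hx
  obtain ⟨τ, hτ⟩ : ∃ τ : F, τ = (g : Matrix (Fin 2) (Fin 2) F) 0 0 +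
      (g : Matrix (Fin 2) (Fin 2) F) 1 1 := ⟨_, rfl⟩
  have hCH := sl2_cayley_hamilton g
  rw [← hτ] at hCH
  have hch := elliptic_charpoly_ne_zero g hg
  rw [← hτ] at hch
  have hτq := FiniteField.pow_card τ
  rcases (by omega : Fintype.card F = 2 ∨ Fintype.card F = 3) with h | h
  · -- q = 2
    rw [h] at hqF hτq
    have h2F : (2 : F) = 0 := by exact_mod_cast hqF
    have hτ1 : τ = 1 := by
      have h1 : τ * (τ - 1) = 0 := by linear_combination hτq
      rcases mul_eq_zero.1 h1 with h0 | h0
      · exfalso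
        apply hch 1
        rw [h0]
        linear_combination h2F
      · linear_combination h0
    have hneg : (-1 : Matrix (Fin 2) (Fin 2) F) = 1 := by
      have h11 : (1 : Matrix (Fin 2) (Fin 2) F) + 1 = 0 := by
        rw [← two_smul F (1 : Matrix (Fin 2) (Fin 2) F), h2F, zero_smul]
      exact neg_eq_of_add_eq_zero_left h11
    have hM3 : (g : Matrix (Fin 2) (Fin 2) F) * (g : Matrix (Fin 2) (Fin 2) F) *
        (g : Matrix (Fin 2) (Fin 2) F) = 1 := by
      have e1 : (g : Matrix (Fin 2) (Fin 2) F) * (g : Matrix (Fin 2) (Fin 2) F) =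
          (g : Matrix (Fin 2) (Fin 2) F) - 1 := by
        rw [hCH, hτ1, one_smul]
      rw [e1, sub_mul, one_mul, e1, sub_sub_cancel_left]
      exact hneg
    have hg3 : g * g * g = 1 := by
      apply Subtype.ext
      rw [Matrix.SpecialLinearGroup.coe_mul, Matrix.SpecialLinearGroup.coe_mul] at *
      exact hM3
    have h3 : f g * f g * f g = 1 := by
      rw [← map_mul, ← map_mul, hg3, map_one]
    have h2 := hpow g
    rw [h, pow_two] at h2
    rw [h2, one_mul] at h3
    exact h3
  · -- q = 3
    rw [h] at hqF hτq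
    have h3F : (3 : F) = 0 := by exact_mod_cast hqF
    have hτ0 : τ = 0 := by
      have h1 : τ * ((τ - 1) * (τ + 1)) = 0 := by linear_combination hτq
      rcases mul_eq_zero.1 h1 with h0 | h0
      · exact h0
      · exfalso
        rcases mul_eq_zero.1 h0 with h0 | h0
        · apply hch (-1)
          have : τ = 1 := by linear_combination h0
          rw [this]
          linear_combination h3F
        · apply hch 1
          have : τ = -1 := by linear_combination h0
          rw [this]
          linear_combination h3F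
    have hM2 : (g : Matrix (Fin 2) (Fin 2) F) * (g : Matrix (Fin 2) (Fin 2) F) = -1 := by
      rw [hCH, hτ0, zero_smul, zero_sub]
    have hg4 : g * g * (g * g) = 1 := by
      apply Subtype.ext
      rw [Matrix.SpecialLinearGroup.coe_mul, Matrix.SpecialLinearGroup.coe_mul, hM2]
      simp
    have h4 : f g * f g * (f g * f g) = 1 := by
      rw [← map_mul, ← map_mul, hg4, map_one]
    have h3 := hpow g
    rw [h, pow_succ, pow_two] at h3
    have h5 : f g * f g * (f g * f g) = f g * f g * f g * f g := by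
      rw [mul_assoc (f g * f g)]
    rw [h5, h3, one_mul] at h4
    exact h4

end Steinberg

end Cfsg.Agent.Lib.helper43
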