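-- helper43: p-blocks of SL₂(q) in the defining characteristic (q odd); general block lemmas
-- (defect zero characters are alone in their block, defect class at the identity).
import Mathlib
import Cfsg.Prelude.Def_Blocks
import Cfsg.Agent.Lib.helper43.SL2Principal
import Cfsg.Agent.Lib.helper43.SL2Steinberg
import Cfsg.Agent.Lib.helper84.BlockOrth
import Cfsg.Agent.Lib.helper80.DefectGroup
import Cfsg.Agent.Lib.helper83.CharBasic
import Cfsg.Agent.Lib.helper19.Extraspecial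

set_option autoImplicit false

namespace Cfsg.Agent.Lib.helper43

open scoped ComplexConjugate
open Cfsg

universe u

section BlockGeneral

variable {G : Type u} [Group G] [Fintype G]

/-- A character whose degree contains the full `p`-part of the group order is alone in its
block. -/
theorem eq_of_sameBlock_of_defect_zero {p : ℕ} {M : Ideal AlgInt} (hM : IsPModular p M)
    (χ ψ : IrrCharacter G) (d m : ℕ) (hd : (χ : G → ℂ) 1 = (d : ℂ))
    (hm : Nat.card G = d * m) (hpm : ¬ p ∣ m)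
    (h : SameBlock M (χ : G → ℂ) (ψ : G → ℂ)) : χ = ψ := by
  classical
  by_contra hne
  have hMp := Cfsg.Agent.Lib.helper20.isPrime_of_isPModular hM
  have hd0 : (d : ℂ) ≠ 0 := by
    rw [← hd]
    exact Cfsg.Agent.Lib.helper81.irr_one_ne_zero χ
  have hm0 : (m : ℂ) ≠ 0 := by
    intro h0
    have : m = 0 := by exact_mod_cast h0
    exact hpm (this ▸ dvd_zero p)
  have hR : ∀ g : G, MemLocalRing M (blockCoeff ({χ} : Set (IrrCharacter G)) g) := by
    intro g
    have e : blockCoeff ({χ} : Set (IrrCharacter G)) g = conj ((χ : G → ℂ) g) / (m : ℂ) := by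
      unfold blockCoeff
      rw [finsum_mem_singleton, hd, hm]
      push_cast
      field_simp
    rw [e]
    have hint : IsIntegral ℤ (conj ((χ : G → ℂ) g)) := by
      have := Cfsg.Agent.Lib.helper81.irr_isIntegral χ g
      exact this.map (starRingEnd ℂ).toIntAlgHom
    exact Cfsg.Agent.Lib.helper80.memLocalRing_div_natCast hM ⟨_, hint⟩ hpm
  have key := Cfsg.Agent.Lib.helper80.memLocalIdeal_om_sub hMp χ ψ h
    (blockCoeff ({χ} : Set (IrrCharacter G)))
    (Cfsg.Agent.Lib.helper80.blockCoeff_classFun _) hR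
  rw [Cfsg.Agent.Lib.helper80.om_blockCoeff, Cfsg.Agent.Lib.helper80.om_blockCoeff,
    if_pos (Set.mem_singleton χ), if_neg (fun hmem => hne (Set.mem_singleton_iff.1 hmem).symm),
    sub_zero] at key
  exact Cfsg.Agent.Lib.helper20.not_memLocalIdeal_one key

omit [Fintype G] in
theorem centralChar_of_mem_center (χ : G → ℂ) (z : G) (hz : z ∈ Subgroup.center G) :
    centralChar χ z = χ z / χ 1 := by
  unfold centralChar
  have : Subgroup.centralizer ({z} : Set G) = ⊤ := by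
    rw [Subgroup.centralizer_eq_top_iff_subset]
    intro x hx
    rw [Set.mem_singleton_iff.1 hx]
    exact hz
  rw [this, Subgroup.index_top]
  simp

theorem centralChar_one_eq (χ : IrrCharacter G) : centralChar (χ : G → ℂ) 1 = 1 := by
  rw [centralChar_of_mem_center _ 1 (Subgroup.one_mem _)]
  exact div_self (Cfsg.Agent.Lib.helper81.irr_one_ne_zero χ)

/-- A central involution takes the value `± χ 1` at an irreducible character. -/
theorem irr_central_involution (χ : IrrCharacter G) (z : G) (hz : z ∈ Subgroup.center G)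
    (hz2 : z * z = 1) :
    (χ : G → ℂ) z = (χ : G → ℂ) 1 ∨ (χ : G → ℂ) z = -(χ : G → ℂ) 1 := by
  obtain ⟨c, hc⟩ := Cfsg.Agent.Lib.helper19.irr_mul_center χ z hz
  have h1 := hc 1
  have h2 := hc z
  rw [one_mul] at h1
  rw [hz2, h1] at h2
  have h0 := Cfsg.Agent.Lib.helper81.irr_one_ne_zero χ
  have hc2 : (c - 1) * (c + 1) = 0 := by
    have : (χ : G → ℂ) 1 * ((c - 1) * (c + 1)) = 0 := by linear_combination -h2
    rcases mul_eq_zero.1 this with h | h
    · exact absurd h h0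
    · exact h
  rcases mul_eq_zero.1 hc2 with h | h
  · left
    rw [h1, sub_eq_zero.1 h, one_mul]
  · right
    rw [h1, eq_neg_of_add_eq_zero_left h]
    ring

/-- The identity represents a defect class of `B` as soon as the coefficient of the identity
in the block idempotent is a local unit. -/
theorem isDefectClass_one {M : Ideal AlgInt} (B : Set (IrrCharacter G))
    (h1 : MemLocalRing M (blockCoeff B 1)) (h2 : ¬ MemLocalIdeal M (blockCoeff B 1)) :
    IsDefectClass M B (1 : G) := by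
  refine ⟨h1, h2, fun χ _ => ?_⟩
  rw [centralChar_one_eq]
  exact Cfsg.Agent.Lib.helper20.not_memLocalIdeal_one

/-- If the identity represents a defect class of `B`, every Sylow `p`-subgroup is a defect
group of `B`. -/
theorem isDefectGroup_sylow_of_one {p : ℕ} [Fact p.Prime] {M : Ideal AlgInt}
    (B : Set (IrrCharacter G)) (h : IsDefectClass M B (1 : G)) (P : Sylow p G) :
    IsDefectGroup p M B (P : Subgroup G) := by
  rw [Cfsg.Agent.Lib.helper80.isDefectGroup_iff]
  refine ⟨1, h, ?_⟩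
  have htop : Subgroup.centralizer ({1} : Set G) = ⊤ := by
    rw [Subgroup.centralizer_eq_top_iff_subset]
    intro x hx
    rw [Set.mem_singleton_iff.1 hx]
    exact Subgroup.one_mem _
  apply Cfsg.Agent.Lib.helper80.isSylowCent_of_card
  · rw [htop]
    exact le_top
  · rw [htop, Subgroup.card_top]
    exact P.card_eq_multiplicity

end BlockGeneral

section SL2Group

variable {F : Type*} [Field F] [Fintype F]

omit [Fintype F] in
theorem negOne_mem_center :
    (-1 : Matrix.SpecialLinearGroup (Fin 2) F) ∈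
      Subgroup.center (Matrix.SpecialLinearGroup (Fin 2) F) := by
  rw [Subgroup.mem_center_iff]
  intro g
  simp

/-- Every homomorphism `SL₂(q) → ℂˣ` has exponent dividing `q`. -/
theorem sl2_hom_pow_card (f : Matrix.SpecialLinearGroup (Fin 2) F →* ℂˣ)
    (x : Matrix.SpecialLinearGroup (Fin 2) F) : f x ^ Fintype.card F = 1 := by
  have hqF : ((Fintype.card F : ℕ) : F) = 0 := Nat.cast_card_eq_zero F
  have hK : ((powMonoidHom (Fintype.card F) : ℂˣ →* ℂˣ).comp f).ker = ⊤ :=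
    eq_top_of_USL_le _ inferInstance (fun b => by
      rw [MonoidHom.mem_ker]
      show f (uSL b) ^ Fintype.card F = 1
      rw [← map_pow, uSL_pow, hqF, zero_mul, uSL_zero, map_one])
  have hx : x ∈ ((powMonoidHom (Fintype.card F) : ℂˣ →* ℂˣ).comp f).ker := by
    rw [hK]
    exact Subgroup.mem_top x
  exact (MonoidHom.mem_ker).1 hx

/-- The unipotent subgroup as a Sylow `p`-subgroup. -/
theorem card_USL_eq_pow_factorization (p : ℕ) [Fact p.Prime] [CharP F p] :
    Nat.card (USL F) =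
      p ^ (Nat.card (Matrix.SpecialLinearGroup (Fin 2) F)).factorization p := by
  obtain ⟨n, hp, hn⟩ := FiniteField.card F p
  have hq2 : 2 ≤ Fintype.card F := Fintype.one_lt_card
  rw [card_USL, card_SL2, Nat.card_eq_fintype_card, hn]
  have h1 : (p ^ (n : ℕ)) ^ 2 - 1 ≠ 0 := by
    rw [← hn]
    have : 4 ≤ Fintype.card F ^ 2 := by nlinarith
    omega
  have h2 : p ^ (n : ℕ) ≠ 0 := pow_ne_zero _ hp.ne_zero
  have h3 : ¬ p ∣ (p ^ (n : ℕ)) ^ 2 - 1 := by
    intro hdvd
    have h4 : p ∣ (p ^ (n : ℕ)) ^ 2 := by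
      rw [← pow_mul]
      exact dvd_pow_self p (by
        have := n.pos
        omega)
    have h5 : (p ^ (n : ℕ)) ^ 2 = ((p ^ (n : ℕ)) ^ 2 - 1) + 1 := by omega
    rw [h5] at h4
    have := (Nat.dvd_add_right hdvd).1 h4
    exact hp.one_lt.ne' (Nat.dvd_one.1 this)
  rw [Nat.factorization_mul h1 h2, Finsupp.add_apply, Nat.factorization_eq_zero_of_not_dvd h3,
    zero_add, hp.factorization_pow, Finsupp.single_eq_same]

/-- An element of `SL₂(q)`, `q` odd, of order prime to `p` and different from `± 1` has a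
centralizer of order prime to `p`: the index of its centralizer is divisible by `p`. -/
theorem dvd_index_centralizer_of_pregular (p : ℕ) [Fact p.Prime] [CharP F p] (hp2 : p ≠ 2)
    (g : Matrix.SpecialLinearGroup (Fin 2) F) (hreg : ¬ p ∣ orderOf g) (h1 : g ≠ 1)
    (h2 : g ≠ -1) :
    p ∣ (Subgroup.centralizer ({g} : Set (Matrix.SpecialLinearGroup (Fin 2) F))).index := by
  classical
  have hp : p.Prime := Fact.out
  by_contra hnd
  have hpG : p ∣ Nat.card (Matrix.SpecialLinearGroup (Fin 2) F) := by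
    rw [card_SL2]
    apply dvd_mul_of_dvd_right
    obtain ⟨n, -, hn⟩ := FiniteField.card F p
    rw [hn]
    exact dvd_pow_self p n.ne_zero
  have hpC : p ∣ Nat.card (Subgroup.centralizer
      ({g} : Set (Matrix.SpecialLinearGroup (Fin 2) F))) := by
    rw [← Subgroup.index_mul_card (Subgroup.centralizer
      ({g} : Set (Matrix.SpecialLinearGroup (Fin 2) F)))] at hpG
    rcases hp.dvd_mul.1 hpG with h | h
    · exact absurd h hnd
    · exact h
  obtain ⟨u, hu⟩ := exists_prime_orderOf_dvd_card' p hpC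
  have hu' : orderOf (u : Matrix.SpecialLinearGroup (Fin 2) F) = p := by
    rw [Subgroup.orderOf_coe]
    exact hu
  have hPG : IsPGroup p (Subgroup.zpowers (u : Matrix.SpecialLinearGroup (Fin 2) F)) := by
    apply IsPGroup.of_card (n := 1)
    rw [Nat.card_zpowers, hu', pow_one]
  obtain ⟨c, hc⟩ := Cfsg.Agent.Lib.helper80.exists_conj_mem_sylow
    (Sylow.ofCard (USL F) (card_USL_eq_pow_factorization p)) _ hPG
  have hmem := hc _ (Subgroup.mem_zpowers (u : Matrix.SpecialLinearGroup (Fin 2) F))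
  obtain ⟨b, hb⟩ : ∃ b : F, uSL b = c⁻¹ * (u : Matrix.SpecialLinearGroup (Fin 2) F) * c := hmem
  have hb0 : b ≠ 0 := by
    rintro rfl
    rw [uSL_zero] at hb
    have hu1 : (u : Matrix.SpecialLinearGroup (Fin 2) F) = 1 := by
      have : (u : Matrix.SpecialLinearGroup (Fin 2) F) = c * (c⁻¹ * u * c) * c⁻¹ := by group
      rw [this, ← hb]
      group
    rw [hu1, orderOf_one] at hu'
    exact hp.one_lt.ne hu'
  -- the conjugate of g commutes with `uSL b`
  set g' := c⁻¹ * g * c with hg'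
  have hcomm : (u : Matrix.SpecialLinearGroup (Fin 2) F) * g = g * u := by
    have := u.2
    rw [Subgroup.mem_centralizer_iff] at this
    exact (this g (Set.mem_singleton g)).symm
  have hcent : g' ∈ Subgroup.centralizer
      ({uSL b} : Set (Matrix.SpecialLinearGroup (Fin 2) F)) := by
    rw [Subgroup.mem_centralizer_iff]
    intro y hy
    rw [Set.mem_singleton_iff.1 hy, hb, hg']
    have e1 : c⁻¹ * (u : Matrix.SpecialLinearGroup (Fin 2) F) * c * (c⁻¹ * g * c) =
        c⁻¹ * (u * g) * c := by group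
    have e2 : c⁻¹ * g * c * (c⁻¹ * (u : Matrix.SpecialLinearGroup (Fin 2) F) * c) =
        c⁻¹ * (g * u) * c := by group
    rw [e1, e2, hcomm]
  obtain ⟨h10, heq⟩ := (mem_centralizer_uSL_iff' hb0 g').1 hcent
  have hdet := sl2_det g'
  rw [h10, mul_zero, sub_zero, ← heq] at hdet
  have hord : orderOf g' = orderOf g := by
    have := MulEquiv.orderOf_eq (MulAut.conj c⁻¹) g
    rw [← this, hg']
    simp
  -- g' ^ 2 is unipotent
  have hsq : g' ^ 2 = uSL (2 * (g' : Matrix (Fin 2) (Fin 2) F) 0 0 *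
      (g' : Matrix (Fin 2) (Fin 2) F) 0 1) := by
    rw [pow_two]
    apply sl2_ext
    · simp only [Matrix.SpecialLinearGroup.coe_mul, Matrix.mul_apply, Fin.sum_univ_two, h10,
        mul_zero, add_zero, uSL_val, Matrix.of_apply, Matrix.cons_val', Matrix.cons_val_zero,
        Matrix.cons_val_fin_one]
      exact hdet
    · simp only [Matrix.SpecialLinearGroup.coe_mul, Matrix.mul_apply, Fin.sum_univ_two,
        uSL_val, Matrix.of_apply, Matrix.cons_val', Matrix.cons_val_zero, Matrix.cons_val_one,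
        Matrix.cons_val_fin_one, ← heq]
      ring
    · simp only [Matrix.SpecialLinearGroup.coe_mul, Matrix.mul_apply, Fin.sum_univ_two, h10,
        mul_zero, zero_mul, add_zero, uSL_val, Matrix.of_apply, Matrix.cons_val',
        Matrix.cons_val_zero, Matrix.cons_val_one, Matrix.cons_val_fin_one]
    · simp only [Matrix.SpecialLinearGroup.coe_mul, Matrix.mul_apply, Fin.sum_univ_two, h10,
        uSL_val, Matrix.of_apply, Matrix.cons_val', Matrix.cons_val_one,
        Matrix.cons_val_fin_one, ← heq]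
      linear_combination hdet
  have hpow : g' ^ (2 * p) = 1 := by
    rw [pow_mul, hsq, uSL_pow, CharP.cast_eq_zero, zero_mul, uSL_zero]
  have hdvd : orderOf g' ∣ 2 := by
    have h3 : orderOf g' ∣ 2 * p := orderOf_dvd_of_pow_eq_one hpow
    have hcop : Nat.Coprime (orderOf g') p := by
      rw [Nat.coprime_comm]
      exact (Nat.Prime.coprime_iff_not_dvd hp).2 (hord ▸ hreg)
    exact hcop.dvd_of_dvd_mul_right h3
  have hsq1 : g' ^ 2 = 1 := orderOf_dvd_iff_pow_eq_one.1 hdvd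
  have h2F : (2 : F) ≠ 0 := by
    intro h
    have h2' : ((2 : ℕ) : F) = 0 := by exact_mod_cast h
    have := (CharP.cast_eq_zero_iff F p 2).1 h2'
    exact hp2 ((Nat.prime_dvd_prime_iff_eq hp Nat.prime_two).1 this)
  have ha0 : (g' : Matrix (Fin 2) (Fin 2) F) 0 0 ≠ 0 := by
    intro h
    rw [h, zero_mul] at hdet
    exact zero_ne_one hdet
  have ht : (g' : Matrix (Fin 2) (Fin 2) F) 0 1 = 0 := by
    rw [hsq, ← uSL_zero] at hsq1
    have := uSL_injective hsq1
    rcases mul_eq_zero.1 this with h | h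
    · rcases mul_eq_zero.1 h with h | h
      · exact absurd h h2F
      · exact absurd h ha0
    · exact h
  have ha : (g' : Matrix (Fin 2) (Fin 2) F) 0 0 = 1 ∨ (g' : Matrix (Fin 2) (Fin 2) F) 0 0 = -1 := by
    have : ((g' : Matrix (Fin 2) (Fin 2) F) 0 0 - 1) * ((g' : Matrix (Fin 2) (Fin 2) F) 0 0 + 1)
        = 0 := by linear_combination hdet
    rcases mul_eq_zero.1 this with h | h
    · left
      exact sub_eq_zero.1 h
    · right
      exact eq_neg_of_add_eq_zero_left h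
  have hgc : g = c * g' * c⁻¹ := by
    rw [hg']
    group
  rcases ha with ha | ha
  · apply h1
    have : g' = 1 := by
      apply sl2_ext
      · simp [ha]
      · simp [ht]
      · simp [h10]
      · simp [← heq, ha]
    rw [hgc, this]
    group
  · apply h2
    have : g' = -1 := by
      apply sl2_ext
      · simp [ha]
      · simp [ht]
      · simp [h10]
      · simp [← heq, ha]
    rw [hgc, this]
    simp

end SL2Group

section SL2Chars

variable {F : Type*} [Field F] [Fintype F]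

/-- Packaged consequences of the classification of the irreducible characters of `SL₂(q)`,
`q = 2k + 1`. -/
theorem sl2_odd_types (k : ℕ) (hk : Fintype.card F = 2 * k + 1) :
    ∃ m rp rm : Cfsg.IrrCharacter (Matrix.SpecialLinearGroup (Fin 2) F) → ℕ,
      (∀ χ : Cfsg.IrrCharacter (Matrix.SpecialLinearGroup (Fin 2) F),
        (χ : Matrix.SpecialLinearGroup (Fin 2) F → ℂ) 1 =
          ((m χ + k * (rp χ + rm χ) : ℕ) : ℂ)) ∧
      (∀ χ : Cfsg.IrrCharacter (Matrix.SpecialLinearGroup (Fin 2) F),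
        ∑ b : F, (χ : Matrix.SpecialLinearGroup (Fin 2) F → ℂ) (uSL b) =
          (Fintype.card F : ℂ) * m χ) ∧
      (∀ χ, (rp χ = 0 ∧ rm χ = 0 ∧ m χ = 1) ∨ (rp χ + rm χ = 1 ∧ m χ ≤ 1) ∨
        (rp χ = 1 ∧ rm χ = 1 ∧ m χ ≤ 2)) ∧
      (∃ χ₀, (rp χ₀ = 1 ∧ rm χ₀ = 1 ∧ m χ₀ = 1) ∧
        ∀ χ, (rp χ = 1 ∧ rm χ = 1 ∧ m χ = 1) → χ = χ₀) := by
  classical
  have : Fintype (Matrix.SpecialLinearGroup (Fin 2) F) := Fintype.ofFinite _
  have : Fintype (Cfsg.IrrCharacter (Matrix.SpecialLinearGroup (Fin 2) F)) := Fintype.ofFinite _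
  have h2 : ringChar F ≠ 2 := by
    intro h
    have := (FiniteField.even_card_iff_char_two (F := F)).1 h
    omega
  obtain ⟨ψ, hψ1⟩ := AddChar.exists_apply_ne_zero.2 (one_ne_zero : (1 : F) ≠ 0)
  have hψ : ψ ≠ 1 := by
    rintro rfl
    exact hψ1 (by simp)
  obtain ⟨ε, hε⟩ := FiniteField.exists_nonsquare h2
  obtain ⟨m, rp, rm, hdeg, -, -, hsumU, hcls, -, hhalf, hone, -⟩ :=
    sl2_odd_classification k hk ψ hψ ε hε
  refine ⟨m, rp, rm, ?_, hsumU, ?_, ?_⟩
  · intro χ
    rw [hdeg χ]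
    push_cast
    ring
  · intro χ
    rcases hcls χ with ⟨e1, e2, e3⟩ | ⟨e1, e2⟩ | ⟨e1, e2⟩ | ⟨e1, e2, e3⟩
    · exact Or.inl ⟨e1, e2, e3⟩
    · exact Or.inr (Or.inl ⟨by omega, hhalf χ (by omega)⟩)
    · exact Or.inr (Or.inl ⟨by omega, hhalf χ (by omega)⟩)
    · exact Or.inr (Or.inr ⟨e1, e2, e3⟩)
  · obtain ⟨a, ha⟩ := Finset.card_eq_one.1 hone
    have ha' : a ∈ Finset.univ.filter (fun χ => rp χ = 1 ∧ rm χ = 1 ∧ m χ = 1) := by
      rw [ha]
      exact Finset.mem_singleton_self a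
    refine ⟨a, (Finset.mem_filter.1 ha').2, fun χ hχ => ?_⟩
    have : χ ∈ Finset.univ.filter (fun χ => rp χ = 1 ∧ rm χ = 1 ∧ m χ = 1) :=
      Finset.mem_filter.2 ⟨Finset.mem_univ _, hχ⟩
    rw [ha] at this
    exact Finset.mem_singleton.1 this

/-- the type of a character of degree `q` -/
theorem sl2_odd_type_of_degree_q (k : ℕ) (hk1 : 1 ≤ k) (m rp rm : ℕ)
    (hd : 2 * k + 1 = m + k * (rp + rm))
    (hcls : (rp = 0 ∧ rm = 0 ∧ m = 1) ∨ (rp + rm = 1 ∧ m ≤ 1) ∨ (rp = 1 ∧ rm = 1 ∧ m ≤ 2)) :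
    rp = 1 ∧ rm = 1 ∧ m = 1 := by
  rcases hcls with ⟨e1, e2, e3⟩ | ⟨e1, e2⟩ | ⟨e1, e2, e3⟩
  · subst e1 e2 e3
    simp at hd
    omega
  · rw [e1, mul_one] at hd
    omega
  · subst e1 e2
    have : k * (1 + 1) = 2 * k := by ring
    rw [this] at hd
    exact ⟨rfl, rfl, by omega⟩

theorem sl2_odd_sum_uSL_of_degree_q (hodd : Odd (Fintype.card F))
    (χ : Cfsg.IrrCharacter (Matrix.SpecialLinearGroup (Fin 2) F))
    (hdeg : (χ : Matrix.SpecialLinearGroup (Fin 2) F → ℂ) 1 = (Fintype.card F : ℂ)) :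
    ∑ b : F, (χ : Matrix.SpecialLinearGroup (Fin 2) F → ℂ) (uSL b) = (Fintype.card F : ℂ) := by
  obtain ⟨k, hk⟩ := hodd
  have hq2 : 2 ≤ Fintype.card F := Fintype.one_lt_card
  obtain ⟨m, rp, rm, hd, hU, hcls, -⟩ := sl2_odd_types (F := F) k hk
  have hd' := hd χ
  rw [hdeg, hk] at hd'
  have hd'' : 2 * k + 1 = m χ + k * (rp χ + rm χ) := by exact_mod_cast hd'
  obtain ⟨-, -, hm⟩ := sl2_odd_type_of_degree_q k (by omega) _ _ _ hd'' (hcls χ)
  rw [hU χ, hm]
  simp

theorem sl2_odd_degree_q_unique (hodd : Odd (Fintype.card F))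
    (χ ψ : Cfsg.IrrCharacter (Matrix.SpecialLinearGroup (Fin 2) F))
    (hχ : (χ : Matrix.SpecialLinearGroup (Fin 2) F → ℂ) 1 = (Fintype.card F : ℂ))
    (hψ : (ψ : Matrix.SpecialLinearGroup (Fin 2) F → ℂ) 1 = (Fintype.card F : ℂ)) : χ = ψ := by
  obtain ⟨k, hk⟩ := hodd
  have hq2 : 2 ≤ Fintype.card F := Fintype.one_lt_card
  obtain ⟨m, rp, rm, hd, -, hcls, χ₀, -, huniq⟩ := sl2_odd_types (F := F) k hk
  have h1 := hd χ
  have h2 := hd ψ
  rw [hχ, hk] at h1
  rw [hψ, hk] at h2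
  have h1' : 2 * k + 1 = m χ + k * (rp χ + rm χ) := by exact_mod_cast h1
  have h2' : 2 * k + 1 = m ψ + k * (rp ψ + rm ψ) := by exact_mod_cast h2
  rw [huniq χ (sl2_odd_type_of_degree_q k (by omega) _ _ _ h1' (hcls χ)),
    huniq ψ (sl2_odd_type_of_degree_q k (by omega) _ _ _ h2' (hcls ψ))]

theorem sl2_odd_exists_degree_q (hodd : Odd (Fintype.card F)) :
    ∃ χ : Cfsg.IrrCharacter (Matrix.SpecialLinearGroup (Fin 2) F),
      (χ : Matrix.SpecialLinearGroup (Fin 2) F → ℂ) 1 = (Fintype.card F : ℂ) := by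
  obtain ⟨k, hk⟩ := hodd
  obtain ⟨m, rp, rm, hd, -, hcls, χ₀, ⟨e1, e2, e3⟩, -⟩ := sl2_odd_types (F := F) k hk
  refine ⟨χ₀, ?_⟩
  rw [hd χ₀, e1, e2, e3, hk]
  push_cast
  ring

/-- The degrees other than `q` are prime to `p`. -/
theorem sl2_odd_degree_coprime (hodd : Odd (Fintype.card F)) (p : ℕ) (hp : p.Prime)
    (hpq : p ∣ Fintype.card F)
    (χ : Cfsg.IrrCharacter (Matrix.SpecialLinearGroup (Fin 2) F))
    (hne : (χ : Matrix.SpecialLinearGroup (Fin 2) F → ℂ) 1 ≠ (Fintype.card F : ℂ)) :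
    ∃ d : ℕ, (χ : Matrix.SpecialLinearGroup (Fin 2) F → ℂ) 1 = (d : ℂ) ∧ ¬ p ∣ d := by
  obtain ⟨k, hk⟩ := hodd
  obtain ⟨m, rp, rm, hd, -, hcls, -⟩ := sl2_odd_types (F := F) k hk
  refine ⟨m χ + k * (rp χ + rm χ), hd χ, ?_⟩
  rw [hk] at hpq
  have hp1 : ¬ p ∣ 1 := fun h => hp.one_lt.ne' (Nat.dvd_one.1 h)
  have hnk : ¬ p ∣ k := by
    intro h
    have h2 : p ∣ 2 * k := dvd_mul_of_dvd_right h 2
    exact hp1 ((Nat.dvd_add_right h2).1 hpq)
  have hnk1 : ¬ p ∣ k + 1 := by
    intro h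
    have h2 : p ∣ 2 * k + 1 + 1 := by
      have : 2 * k + 1 + 1 = 2 * (k + 1) := by ring
      rw [this]
      exact dvd_mul_of_dvd_right h 2
    exact hp1 ((Nat.dvd_add_right hpq).1 h2)
  have hp2 : p ≠ 2 := by
    rintro rfl
    omega
  have hn2 : ¬ p ∣ 2 := by
    intro h
    exact hp2 ((Nat.prime_dvd_prime_iff_eq hp Nat.prime_two).1 h)
  intro hdvd
  rcases hcls χ with ⟨e1, e2, e3⟩ | ⟨e1, e2⟩ | ⟨e1, e2, e3⟩
  · rw [e1, e2, e3] at hdvd
    simp at hdvd
    exact hp.one_lt.ne' hdvd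
  · rw [e1, mul_one] at hdvd
    have hm : m χ = 0 ∨ m χ = 1 := by omega
    rcases hm with hm | hm
    · rw [hm, zero_add] at hdvd
      exact hnk hdvd
    · rw [hm, add_comm] at hdvd
      exact hnk1 hdvd
  · rw [e1, e2] at hdvd
    have hm : m χ = 0 ∨ m χ = 1 ∨ m χ = 2 := by omega
    rcases hm with hm | hm | hm
    · rw [hm, zero_add] at hdvd
      have : k * (1 + 1) = 2 * k := by ring
      rw [this] at hdvd
      rcases (Nat.Prime.dvd_mul hp).1 hdvd with h | h
      · exact hn2 h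
      · exact hnk h
    · apply hne
      rw [hd χ, e1, e2, hm, hk]
      push_cast
      ring
    · have : 2 + k * (1 + 1) = 2 * (k + 1) := by ring
      rw [hm, this] at hdvd
      rcases (Nat.Prime.dvd_mul hp).1 hdvd with h | h
      · exact hn2 h
      · exact hnk1 h

/-- The Steinberg character takes the value `q` at `-1`. -/
theorem steinberg_neg_one (hodd : Odd (Fintype.card F))
    (χ : Cfsg.IrrCharacter (Matrix.SpecialLinearGroup (Fin 2) F))
    (hdeg : (χ : Matrix.SpecialLinearGroup (Fin 2) F → ℂ) 1 = (Fintype.card F : ℂ)) :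
    (χ : Matrix.SpecialLinearGroup (Fin 2) F → ℂ) (-1) = (Fintype.card F : ℂ) := by
  classical
  have : Fintype (Matrix.SpecialLinearGroup (Fin 2) F) := Fintype.ofFinite _
  have : Fintype (BSL F) := Fintype.ofFinite _
  have hU := sl2_odd_sum_uSL_of_degree_q hodd χ hdeg
  obtain ⟨f, hf⟩ := degree_q_eq_linear_mul (χ : Matrix.SpecialLinearGroup (Fin 2) F → ℂ) χ.2
    hdeg hU
  have hval := hf (-1)
  rw [indFun_alphaB_central (1 : MulChar F ℂ) (-1) (by simp) (by simp) (by simp)] at hval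
  have h1 : (1 : MulChar F ℂ)
      (((-1 : Matrix.SpecialLinearGroup (Fin 2) F) : Matrix (Fin 2) (Fin 2) F) 0 0) = 1 := by
    have : (((-1 : Matrix.SpecialLinearGroup (Fin 2) F) : Matrix (Fin 2) (Fin 2) F) 0 0) =
        ((-1 : Fˣ) : F) := by simp
    rw [this, MulChar.one_apply_coe]
  rw [h1] at hval
  have hfm : f (-1) = 1 := by
    have h2 : f (-1) ^ 2 = 1 := by
      rw [← map_pow]
      simp
    have hq := sl2_hom_pow_card f (-1)
    obtain ⟨k, hk⟩ := hodd
    rw [hk, pow_succ, pow_mul, h2, one_pow, one_mul] at hq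
    exact hq
  rw [hval, hfm]
  simp

end SL2Chars

section SL2BlockThm

variable {F : Type*} [Field F] [Fintype F]

/-- the block of the Steinberg character -/
def sl2Blk0 (F : Type*) [Field F] [Fintype F] :
    Set (Cfsg.IrrCharacter (Matrix.SpecialLinearGroup (Fin 2) F)) :=
  {χ : Cfsg.IrrCharacter (Matrix.SpecialLinearGroup (Fin 2) F) | (χ : Matrix.SpecialLinearGroup (Fin 2) F → ℂ) 1 = (Fintype.card F : ℂ)}

/-- the principal block -/
def sl2Blk1 (F : Type*) [Field F] [Fintype F] :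
    Set (Cfsg.IrrCharacter (Matrix.SpecialLinearGroup (Fin 2) F)) :=
  {χ : Cfsg.IrrCharacter (Matrix.SpecialLinearGroup (Fin 2) F) | (χ : Matrix.SpecialLinearGroup (Fin 2) F → ℂ) (-1) = (χ : Matrix.SpecialLinearGroup (Fin 2) F → ℂ) 1 ∧ (χ : Matrix.SpecialLinearGroup (Fin 2) F → ℂ) 1 ≠ (Fintype.card F : ℂ)}

/-- the block of the faithful characters -/
def sl2Blk2 (F : Type*) [Field F] [Fintype F] :
    Set (Cfsg.IrrCharacter (Matrix.SpecialLinearGroup (Fin 2) F)) :=
  {χ : Cfsg.IrrCharacter (Matrix.SpecialLinearGroup (Fin 2) F) | (χ : Matrix.SpecialLinearGroup (Fin 2) F → ℂ) (-1) = -(χ : Matrix.SpecialLinearGroup (Fin 2) F → ℂ) 1}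

theorem odd_card_of_charP (p : ℕ) [Fact p.Prime] [CharP F p] (hp2 : p ≠ 2) :
    Odd (Fintype.card F) := by
  obtain ⟨n, hp, hn⟩ := FiniteField.card F p
  rw [hn]
  exact (hp.odd_of_ne_two hp2).pow

theorem dvd_card_of_charP (p : ℕ) [Fact p.Prime] [CharP F p] : p ∣ Fintype.card F := by
  obtain ⟨n, hp, hn⟩ := FiniteField.card F p
  rw [hn]
  exact dvd_pow_self p n.ne_zero

theorem not_dvd_sq_sub_one (p q : ℕ) (hp : p.Prime) (hpq : p ∣ q) (hq : 1 ≤ q) :
    ¬ p ∣ q ^ 2 - 1 := by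
  intro hdvd
  have h4 : p ∣ q ^ 2 := dvd_pow hpq (by norm_num)
  have h5 : q ^ 2 = (q ^ 2 - 1) + 1 := by
    have : 1 ≤ q ^ 2 := Nat.one_le_pow _ _ hq
    omega
  rw [h5] at h4
  have := (Nat.dvd_add_right hdvd).1 h4
  exact hp.one_lt.ne' (Nat.dvd_one.1 this)

theorem irr_neg_one (χ : Cfsg.IrrCharacter (Matrix.SpecialLinearGroup (Fin 2) F)) :
    (χ : Matrix.SpecialLinearGroup (Fin 2) F → ℂ) (-1) =
        (χ : Matrix.SpecialLinearGroup (Fin 2) F → ℂ) 1 ∨
      (χ : Matrix.SpecialLinearGroup (Fin 2) F → ℂ) (-1) =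
        -(χ : Matrix.SpecialLinearGroup (Fin 2) F → ℂ) 1 := by
  classical
  have : Fintype (Matrix.SpecialLinearGroup (Fin 2) F) := Fintype.ofFinite _
  exact irr_central_involution χ (-1) negOne_mem_center (by simp)

theorem irr_one_ne_zero_sl2 (χ : Cfsg.IrrCharacter (Matrix.SpecialLinearGroup (Fin 2) F)) :
    (χ : Matrix.SpecialLinearGroup (Fin 2) F → ℂ) 1 ≠ 0 := by
  classical
  have : Fintype (Matrix.SpecialLinearGroup (Fin 2) F) := Fintype.ofFinite _
  exact Cfsg.Agent.Lib.helper81.irr_one_ne_zero χ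

theorem sl2Blk_cover (χ : Cfsg.IrrCharacter (Matrix.SpecialLinearGroup (Fin 2) F)) :
    χ ∈ sl2Blk0 F ∨ χ ∈ sl2Blk1 F ∨ χ ∈ sl2Blk2 F := by
  by_cases h : (χ : Matrix.SpecialLinearGroup (Fin 2) F → ℂ) 1 = (Fintype.card F : ℂ)
  · exact Or.inl h
  · rcases irr_neg_one χ with h1 | h1
    · exact Or.inr (Or.inl ⟨h1, h⟩)
    · exact Or.inr (Or.inr h1)

theorem sl2Blk01 (χ : Cfsg.IrrCharacter (Matrix.SpecialLinearGroup (Fin 2) F))
    (h0 : χ ∈ sl2Blk0 F) (h1 : χ ∈ sl2Blk1 F) : False := h1.2 h0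

theorem sl2Blk12 (χ : Cfsg.IrrCharacter (Matrix.SpecialLinearGroup (Fin 2) F))
    (h1 : χ ∈ sl2Blk1 F) (h2 : χ ∈ sl2Blk2 F) : False := by
  have h := irr_one_ne_zero_sl2 χ
  have e1 : (χ : Matrix.SpecialLinearGroup (Fin 2) F → ℂ) (-1) =
      (χ : Matrix.SpecialLinearGroup (Fin 2) F → ℂ) 1 := h1.1
  have e2 : (χ : Matrix.SpecialLinearGroup (Fin 2) F → ℂ) (-1) =
      -(χ : Matrix.SpecialLinearGroup (Fin 2) F → ℂ) 1 := h2
  apply h
  linear_combination (-1 / 2 : ℂ) * e1 + (1 / 2 : ℂ) * e2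

theorem sl2Blk02 (hodd : Odd (Fintype.card F))
    (χ : Cfsg.IrrCharacter (Matrix.SpecialLinearGroup (Fin 2) F))
    (h0 : χ ∈ sl2Blk0 F) (h2 : χ ∈ sl2Blk2 F) : False := by
  have h := irr_one_ne_zero_sl2 χ
  have e0 : (χ : Matrix.SpecialLinearGroup (Fin 2) F → ℂ) 1 = (Fintype.card F : ℂ) := h0
  have e1 := steinberg_neg_one hodd χ e0
  have e2 : (χ : Matrix.SpecialLinearGroup (Fin 2) F → ℂ) (-1) =
      -(χ : Matrix.SpecialLinearGroup (Fin 2) F → ℂ) 1 := h2
  apply h
  linear_combination (-1 / 2 : ℂ) * e1 + (1 / 2 : ℂ) * e2 + (1 / 2 : ℂ) * e0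

/-- Central characters of the characters of degree `≠ q` at noncentral `p`-regular elements lie
in the local ideal. -/
theorem memLocalIdeal_centralChar_sl2 (p : ℕ) [Fact p.Prime] [CharP F p] (hp2 : p ≠ 2)
    {M : Ideal AlgInt} (hM : IsPModular p M)
    (χ : Cfsg.IrrCharacter (Matrix.SpecialLinearGroup (Fin 2) F))
    (hχ : (χ : Matrix.SpecialLinearGroup (Fin 2) F → ℂ) 1 ≠ (Fintype.card F : ℂ))
    (g : Matrix.SpecialLinearGroup (Fin 2) F) (hreg : ¬ p ∣ orderOf g) (h1 : g ≠ 1)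
    (h2 : g ≠ -1) :
    MemLocalIdeal M (centralChar (χ : Matrix.SpecialLinearGroup (Fin 2) F → ℂ) g) := by
  classical
  have : Fintype (Matrix.SpecialLinearGroup (Fin 2) F) := Fintype.ofFinite _
  have hp : p.Prime := Fact.out
  obtain ⟨d, hd, hpd⟩ := sl2_odd_degree_coprime (odd_card_of_charP p hp2) p hp
    (dvd_card_of_charP p) χ hχ
  obtain ⟨m', hm'⟩ := dvd_index_centralizer_of_pregular p hp2 g hreg h1 h2
  have hint := Cfsg.Agent.Lib.helper81.irr_isIntegral χ g
  have ha : (p : AlgInt) * (m' : AlgInt) * ⟨_, hint⟩ ∈ M :=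
    M.mul_mem_right _ (M.mul_mem_right _ hM.2.2)
  have key := Cfsg.Agent.Lib.helper80.memLocalIdeal_div_natCast hM ha hpd
  unfold centralChar
  rw [hm', hd]
  convert key using 1
  push_cast
  ring

theorem centralChar_neg_one_blk1 (χ : Cfsg.IrrCharacter (Matrix.SpecialLinearGroup (Fin 2) F))
    (h : χ ∈ sl2Blk1 F) :
    centralChar (χ : Matrix.SpecialLinearGroup (Fin 2) F → ℂ) (-1) = 1 := by
  rw [centralChar_of_mem_center _ _ negOne_mem_center, h.1]
  exact div_self (irr_one_ne_zero_sl2 χ)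

theorem centralChar_neg_one_blk2 (χ : Cfsg.IrrCharacter (Matrix.SpecialLinearGroup (Fin 2) F))
    (h : χ ∈ sl2Blk2 F) :
    centralChar (χ : Matrix.SpecialLinearGroup (Fin 2) F → ℂ) (-1) = -1 := by
  have e : (χ : Matrix.SpecialLinearGroup (Fin 2) F → ℂ) (-1) =
      -(χ : Matrix.SpecialLinearGroup (Fin 2) F → ℂ) 1 := h
  rw [centralChar_of_mem_center _ _ negOne_mem_center, e, neg_div,
    div_self (irr_one_ne_zero_sl2 χ)]

theorem not_memLocalIdeal_two (p : ℕ) (hp2 : p ≠ 2) {M : Ideal AlgInt} (hM : IsPModular p M) :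
    ¬ MemLocalIdeal M (2 : ℂ) := by
  have h : ¬ p ∣ 2 := fun h => hp2 ((Nat.prime_dvd_prime_iff_eq hM.1 Nat.prime_two).1 h)
  have := Cfsg.Agent.Lib.helper80.not_memLocalIdeal_natCast hM h
  simpa using this

/-- **The `p`-blocks of `SL₂(q)`** (`q` a power of the odd prime `p`): two irreducible characters
are in the same block iff they are both the Steinberg character, or both have `χ(-1) = χ(1)`
and are not the Steinberg character, or both have `χ(-1) = -χ(1)`. -/
theorem sameBlock_iff_sl2 (p : ℕ) [Fact p.Prime] [CharP F p] (hp2 : p ≠ 2)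
    {M : Ideal AlgInt} (hM : IsPModular p M)
    (χ ψ : Cfsg.IrrCharacter (Matrix.SpecialLinearGroup (Fin 2) F)) :
    SameBlock M (χ : Matrix.SpecialLinearGroup (Fin 2) F → ℂ)
        (ψ : Matrix.SpecialLinearGroup (Fin 2) F → ℂ) ↔
      (χ ∈ sl2Blk0 F ∧ ψ ∈ sl2Blk0 F) ∨ (χ ∈ sl2Blk1 F ∧ ψ ∈ sl2Blk1 F) ∨
        (χ ∈ sl2Blk2 F ∧ ψ ∈ sl2Blk2 F) := by
  classical
  have : Fintype (Matrix.SpecialLinearGroup (Fin 2) F) := Fintype.ofFinite _
  have hp : p.Prime := Fact.out
  have hMp := Cfsg.Agent.Lib.helper20.isPrime_of_isPModular hM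
  have hodd := odd_card_of_charP (F := F) p hp2
  have hpq := dvd_card_of_charP (F := F) p
  have hq1 : 1 ≤ Fintype.card F := Fintype.card_pos
  have hcard : Nat.card (Matrix.SpecialLinearGroup (Fin 2) F) =
      Fintype.card F * (Fintype.card F ^ 2 - 1) := by
    rw [card_SL2, mul_comm]
  have hdz : ∀ χ ψ : Cfsg.IrrCharacter (Matrix.SpecialLinearGroup (Fin 2) F),
      χ ∈ sl2Blk0 F → SameBlock M (χ : Matrix.SpecialLinearGroup (Fin 2) F → ℂ)
        (ψ : Matrix.SpecialLinearGroup (Fin 2) F → ℂ) → χ = ψ := by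
    intro χ ψ h0 hs
    exact eq_of_sameBlock_of_defect_zero hM χ ψ (Fintype.card F) (Fintype.card F ^ 2 - 1) h0
      hcard (not_dvd_sq_sub_one p _ hp hpq hq1) hs
  constructor
  · intro hs
    rcases sl2Blk_cover χ with h0 | hχ
    · have := hdz χ ψ h0 hs
      exact Or.inl ⟨h0, this ▸ h0⟩
    · rcases sl2Blk_cover ψ with h0' | hψ
      · have := hdz ψ χ h0' (Cfsg.Agent.Lib.helper80.sameBlock_symm hMp hs)
        exact Or.inl ⟨this ▸ h0', h0'⟩
      · have hm := hs (-1)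
        rcases hχ with hχ | hχ <;> rcases hψ with hψ | hψ
        · exact Or.inr (Or.inl ⟨hχ, hψ⟩)
        · exfalso
          rw [centralChar_neg_one_blk1 χ hχ, centralChar_neg_one_blk2 ψ hψ] at hm
          apply not_memLocalIdeal_two p hp2 hM
          convert hm using 1
          norm_num
        · exfalso
          rw [centralChar_neg_one_blk2 χ hχ, centralChar_neg_one_blk1 ψ hψ] at hm
          apply not_memLocalIdeal_two p hp2 hM
          have := Cfsg.Agent.Lib.helper20.memLocalIdeal_neg hm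
          convert this using 1
          norm_num
        · exact Or.inr (Or.inr ⟨hχ, hψ⟩)
  · rintro (⟨h0, h0'⟩ | ⟨h1, h1'⟩ | ⟨h2, h2'⟩)
    · rw [sl2_odd_degree_q_unique hodd χ ψ h0 h0']
      exact Cfsg.Agent.Lib.helper80.sameBlock_refl hMp _
    · apply Cfsg.Agent.Lib.helper84.sameBlock_of_pRegular hM
      intro g hg
      by_cases hg1 : g = 1
      · rw [hg1, centralChar_one_eq, centralChar_one_eq, sub_self]
        exact Cfsg.Agent.Lib.helper20.memLocalIdeal_zero hMp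
      · by_cases hg2 : g = -1
        · rw [hg2, centralChar_neg_one_blk1 χ h1, centralChar_neg_one_blk1 ψ h1', sub_self]
          exact Cfsg.Agent.Lib.helper20.memLocalIdeal_zero hMp
        · exact Cfsg.Agent.Lib.helper20.memLocalIdeal_sub hMp
            (memLocalIdeal_centralChar_sl2 p hp2 hM χ h1.2 g hg hg1 hg2)
            (memLocalIdeal_centralChar_sl2 p hp2 hM ψ h1'.2 g hg hg1 hg2)
    · apply Cfsg.Agent.Lib.helper84.sameBlock_of_pRegular hM
      intro g hg
      by_cases hg1 : g = 1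
      · rw [hg1, centralChar_one_eq, centralChar_one_eq, sub_self]
        exact Cfsg.Agent.Lib.helper20.memLocalIdeal_zero hMp
      · by_cases hg2 : g = -1
        · rw [hg2, centralChar_neg_one_blk2 χ h2, centralChar_neg_one_blk2 ψ h2', sub_self]
          exact Cfsg.Agent.Lib.helper20.memLocalIdeal_zero hMp
        · exact Cfsg.Agent.Lib.helper20.memLocalIdeal_sub hMp
            (memLocalIdeal_centralChar_sl2 p hp2 hM χ (fun h => sl2Blk02 hodd χ h h2) g hg
              hg1 hg2)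
            (memLocalIdeal_centralChar_sl2 p hp2 hM ψ (fun h => sl2Blk02 hodd ψ h h2') g hg
              hg1 hg2)

end SL2BlockThm

section SL2BlockFinal

variable {F : Type*} [Field F] [Fintype F]

theorem negOne_ne_one_sl2 (hodd : Odd (Fintype.card F)) :
    (-1 : Matrix.SpecialLinearGroup (Fin 2) F) ≠ 1 := by
  intro h
  have h2 := two_ne_zero_of_odd hodd
  have h00 := congrArg (fun g : Matrix.SpecialLinearGroup (Fin 2) F =>
    (g : Matrix (Fin 2) (Fin 2) F) 0 0) h
  simp only [Matrix.SpecialLinearGroup.coe_neg, Matrix.SpecialLinearGroup.coe_one,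
    Matrix.neg_apply, Matrix.one_apply_eq] at h00
  apply h2
  linear_combination -h00

/-- The coefficients of the identity in the block idempotents of `SL₂(q)`. -/
theorem sl2_blockCoeff_one (hodd : Odd (Fintype.card F)) :
    blockCoeff (sl2Blk2 F) (1 : Matrix.SpecialLinearGroup (Fin 2) F) = 1 / 2 ∧
    blockCoeff (sl2Blk1 F) (1 : Matrix.SpecialLinearGroup (Fin 2) F) =
      1 / 2 - (Fintype.card F : ℂ) / ((Fintype.card F ^ 2 - 1 : ℕ) : ℂ) := by
  classical
  have : Fintype (Matrix.SpecialLinearGroup (Fin 2) F) := Fintype.ofFinite _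
  have hq2 : 2 ≤ Fintype.card F := Fintype.one_lt_card
  have hA := Cfsg.Agent.Lib.helper83.second_orthogonality
    (1 : Matrix.SpecialLinearGroup (Fin 2) F) 1
  rw [if_pos (IsConj.refl _)] at hA
  have htop : Subgroup.centralizer ({1} : Set (Matrix.SpecialLinearGroup (Fin 2) F)) = ⊤ := by
    rw [Subgroup.centralizer_eq_top_iff_subset]
    intro x hx
    rw [Set.mem_singleton_iff.1 hx]
    exact Subgroup.one_mem _
  rw [htop, Subgroup.card_top] at hA
  have hB := Cfsg.Agent.Lib.helper83.second_orthogonality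
    (-1 : Matrix.SpecialLinearGroup (Fin 2) F) 1
  rw [if_neg (fun h => negOne_ne_one_sl2 hodd (isConj_one_left.1 h))] at hB
  obtain ⟨St, hSt⟩ := sl2_odd_exists_degree_q (F := F) hodd
  set t0 : Cfsg.IrrCharacter (Matrix.SpecialLinearGroup (Fin 2) F) → ℂ := fun χ =>
    if χ ∈ sl2Blk0 F then (χ : Matrix.SpecialLinearGroup (Fin 2) F → ℂ) 1 *
      conj ((χ : Matrix.SpecialLinearGroup (Fin 2) F → ℂ) 1) else 0 with ht0
  set t1 : Cfsg.IrrCharacter (Matrix.SpecialLinearGroup (Fin 2) F) → ℂ := fun χ =>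
    if χ ∈ sl2Blk1 F then (χ : Matrix.SpecialLinearGroup (Fin 2) F → ℂ) 1 *
      conj ((χ : Matrix.SpecialLinearGroup (Fin 2) F → ℂ) 1) else 0 with ht1
  set t2 : Cfsg.IrrCharacter (Matrix.SpecialLinearGroup (Fin 2) F) → ℂ := fun χ =>
    if χ ∈ sl2Blk2 F then (χ : Matrix.SpecialLinearGroup (Fin 2) F → ℂ) 1 *
      conj ((χ : Matrix.SpecialLinearGroup (Fin 2) F → ℂ) 1) else 0 with ht2
  have hpt : ∀ χ : Cfsg.IrrCharacter (Matrix.SpecialLinearGroup (Fin 2) F),
      (χ : Matrix.SpecialLinearGroup (Fin 2) F → ℂ) 1 *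
        conj ((χ : Matrix.SpecialLinearGroup (Fin 2) F → ℂ) 1) = t0 χ + t1 χ + t2 χ ∧
      (χ : Matrix.SpecialLinearGroup (Fin 2) F → ℂ) (-1) *
        conj ((χ : Matrix.SpecialLinearGroup (Fin 2) F → ℂ) 1) = t0 χ + t1 χ - t2 χ := by
    intro χ
    rcases sl2Blk_cover χ with h | h | h
    · have h1 : χ ∉ sl2Blk1 F := fun h' => sl2Blk01 χ h h'
      have h2 : χ ∉ sl2Blk2 F := fun h' => sl2Blk02 hodd χ h h'
      have e : (χ : Matrix.SpecialLinearGroup (Fin 2) F → ℂ) (-1) =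
          (χ : Matrix.SpecialLinearGroup (Fin 2) F → ℂ) 1 := by
        rw [steinberg_neg_one hodd χ h]
        exact h.symm
      simp only [ht0, ht1, ht2, if_pos h, if_neg h1, if_neg h2, e]
      constructor <;> ring
    · have h0 : χ ∉ sl2Blk0 F := fun h' => sl2Blk01 χ h' h
      have h2 : χ ∉ sl2Blk2 F := fun h' => sl2Blk12 χ h h'
      simp only [ht0, ht1, ht2, if_pos h, if_neg h0, if_neg h2, h.1]
      constructor <;> ring
    · have h0 : χ ∉ sl2Blk0 F := fun h' => sl2Blk02 hodd χ h' h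
      have h1 : χ ∉ sl2Blk1 F := fun h' => sl2Blk12 χ h' h
      have e : (χ : Matrix.SpecialLinearGroup (Fin 2) F → ℂ) (-1) =
          -(χ : Matrix.SpecialLinearGroup (Fin 2) F → ℂ) 1 := h
      simp only [ht0, ht1, ht2, if_pos h, if_neg h0, if_neg h1, e]
      constructor <;> ring
  have hA' : ∑ χ, t0 χ + ∑ χ, t1 χ + ∑ χ, t2 χ =
      (Nat.card (Matrix.SpecialLinearGroup (Fin 2) F) : ℂ) := by
    rw [← hA, ← Finset.sum_add_distrib, ← Finset.sum_add_distrib]
    exact Finset.sum_congr rfl (fun χ _ => ((hpt χ).1).symm)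
  have hB' : ∑ χ, t0 χ + ∑ χ, t1 χ - ∑ χ, t2 χ = 0 := by
    rw [← hB, ← Finset.sum_add_distrib, ← Finset.sum_sub_distrib]
    exact Finset.sum_congr rfl (fun χ _ => ((hpt χ).2).symm)
  have h0 : ∑ χ, t0 χ = (Fintype.card F : ℂ) ^ 2 := by
    rw [Finset.sum_eq_single St]
    · have hmem : St ∈ sl2Blk0 F := hSt
      simp only [ht0, if_pos hmem, hSt, map_natCast]
      ring
    · intro χ _ hne
      have hmem : χ ∉ sl2Blk0 F := fun h => hne (sl2_odd_degree_q_unique hodd χ St h hSt)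
      simp only [ht0, if_neg hmem]
    · intro h
      exact absurd (Finset.mem_univ _) h
  have hG0 : (Nat.card (Matrix.SpecialLinearGroup (Fin 2) F) : ℂ) ≠ 0 := by
    exact_mod_cast (Nat.card_pos (α := Matrix.SpecialLinearGroup (Fin 2) F)).ne'
  have hG : (Nat.card (Matrix.SpecialLinearGroup (Fin 2) F) : ℂ) =
      ((Fintype.card F ^ 2 - 1 : ℕ) : ℂ) * (Fintype.card F : ℂ) := by
    rw [card_SL2]
    push_cast
    ring
  have hq0 : (Fintype.card F : ℂ) ≠ 0 := by
    exact_mod_cast Fintype.card_ne_zero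
  have hq1 : ((Fintype.card F ^ 2 - 1 : ℕ) : ℂ) ≠ 0 := by
    have : Fintype.card F ^ 2 - 1 ≠ 0 := by
      have : 4 ≤ Fintype.card F ^ 2 := by nlinarith
      omega
    exact_mod_cast this
  rw [Cfsg.Agent.Lib.helper80.blockCoeff_eq_sum, Cfsg.Agent.Lib.helper80.blockCoeff_eq_sum]
  have e2 : ∑ χ, t2 χ = (Nat.card (Matrix.SpecialLinearGroup (Fin 2) F) : ℂ) / 2 := by
    linear_combination (1 / 2 : ℂ) * hA' - (1 / 2 : ℂ) * hB'
  have e1 : ∑ χ, t1 χ = (Nat.card (Matrix.SpecialLinearGroup (Fin 2) F) : ℂ) / 2 -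
      (Fintype.card F : ℂ) ^ 2 := by
    linear_combination (1 / 2 : ℂ) * hA' + (1 / 2 : ℂ) * hB' - h0
  constructor
  · show (Nat.card (Matrix.SpecialLinearGroup (Fin 2) F) : ℂ)⁻¹ * ∑ χ, t2 χ = 1 / 2
    rw [e2]
    field_simp
  · show (Nat.card (Matrix.SpecialLinearGroup (Fin 2) F) : ℂ)⁻¹ * ∑ χ, t1 χ = _
    rw [e1, hG]
    field_simp

theorem sl2_defectClass (p : ℕ) [Fact p.Prime] [CharP F p] (hp2 : p ≠ 2)
    {M : Ideal AlgInt} (hM : IsPModular p M) :
    IsDefectClass M (sl2Blk1 F) (1 : Matrix.SpecialLinearGroup (Fin 2) F) ∧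
      IsDefectClass M (sl2Blk2 F) (1 : Matrix.SpecialLinearGroup (Fin 2) F) := by
  classical
  have : Fintype (Matrix.SpecialLinearGroup (Fin 2) F) := Fintype.ofFinite _
  have hp : p.Prime := Fact.out
  have hMp := Cfsg.Agent.Lib.helper20.isPrime_of_isPModular hM
  have hodd := odd_card_of_charP (F := F) p hp2
  have hpq := dvd_card_of_charP (F := F) p
  have hq1 : 1 ≤ Fintype.card F := Fintype.card_pos
  obtain ⟨c2, c1⟩ := sl2_blockCoeff_one (F := F) hodd
  have hn2 : ¬ p ∣ 2 := fun h => hp2 ((Nat.prime_dvd_prime_iff_eq hp Nat.prime_two).1 h)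
  have hhalfR : MemLocalRing M (1 / 2 : ℂ) := by
    have := Cfsg.Agent.Lib.helper80.memLocalRing_div_natCast hM (1 : AlgInt) hn2
    simpa using this
  have hhalfI : ¬ MemLocalIdeal M (1 / 2 : ℂ) := by
    intro h
    have h2R : MemLocalRing M (2 : ℂ) := by
      have := Cfsg.Agent.Lib.helper20.memLocalRing_natCast hMp 2
      simpa using this
    have := Cfsg.Agent.Lib.helper20.memLocalIdeal_mul_left hMp h2R h
    rw [show (2 : ℂ) * (1 / 2) = 1 by norm_num] at this
    exact Cfsg.Agent.Lib.helper20.not_memLocalIdeal_one this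
  have hx : MemLocalIdeal M ((Fintype.card F : ℂ) / ((Fintype.card F ^ 2 - 1 : ℕ) : ℂ)) := by
    have := Cfsg.Agent.Lib.helper80.memLocalIdeal_div_natCast hM
      (Cfsg.Agent.Lib.helper80.natCast_mem hM hpq) (not_dvd_sq_sub_one p _ hp hpq hq1)
    simpa using this
  constructor
  · apply isDefectClass_one
    · rw [c1]
      exact Cfsg.Agent.Lib.helper20.memLocalRing_sub hMp hhalfR
        (Cfsg.Agent.Lib.helper20.memLocalRing_of_memLocalIdeal hx)
    · rw [c1]
      intro h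
      apply hhalfI
      have := Cfsg.Agent.Lib.helper20.memLocalIdeal_add hMp h hx
      rwa [sub_add_cancel] at this
  · apply isDefectClass_one
    · rw [c2]
      exact hhalfR
    · rw [c2]
      exact hhalfI

/-- **The `p`-blocks of `SL₂(q)`, `q` a power of the odd prime `p`**: exactly three blocks (the
Steinberg character alone; the other characters with `χ(-1) = χ(1)`; the characters with
`χ(-1) = -χ(1)`), and every Sylow `p`-subgroup is a defect group of the last two. -/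
theorem sl2_blocks (p : ℕ) [Fact p.Prime] [CharP F p] (hp2 : p ≠ 2)
    (M : Ideal AlgInt) (hM : IsPModular p M) :
    (∀ B : Set (Cfsg.IrrCharacter (Matrix.SpecialLinearGroup (Fin 2) F)), IsPBlock M B ↔
      (B = sl2Blk0 F ∨ B = sl2Blk1 F ∨ B = sl2Blk2 F)) ∧
    Nat.card {B : Set (Cfsg.IrrCharacter (Matrix.SpecialLinearGroup (Fin 2) F)) //
      IsPBlock M B} = 3 ∧
    ∀ P : Sylow p (Matrix.SpecialLinearGroup (Fin 2) F),
      IsDefectGroup p M (sl2Blk1 F) (P : Subgroup (Matrix.SpecialLinearGroup (Fin 2) F)) ∧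
      IsDefectGroup p M (sl2Blk2 F) (P : Subgroup (Matrix.SpecialLinearGroup (Fin 2) F)) := by
  classical
  have : Fintype (Matrix.SpecialLinearGroup (Fin 2) F) := Fintype.ofFinite _
  have hMp := Cfsg.Agent.Lib.helper20.isPrime_of_isPModular hM
  have hodd := odd_card_of_charP (F := F) p hp2
  obtain ⟨hd1, hd2⟩ := sl2_defectClass (F := F) p hp2 hM
  -- nonemptiness
  obtain ⟨St, hSt⟩ := sl2_odd_exists_degree_q (F := F) hodd
  have hSt0 : St ∈ sl2Blk0 F := hSt
  have hne1 : ∃ χ, χ ∈ sl2Blk1 F := by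
    by_contra hcon
    have hE : sl2Blk1 F = ∅ := by
      ext χ
      simp only [Set.mem_empty_iff_false, iff_false]
      exact fun h => hcon ⟨χ, h⟩
    apply hd1.2.1
    rw [hE, Cfsg.Agent.Lib.helper80.blockCoeff_empty]
    exact Cfsg.Agent.Lib.helper20.memLocalIdeal_zero hMp
  have hne2 : ∃ χ, χ ∈ sl2Blk2 F := by
    by_contra hcon
    have hE : sl2Blk2 F = ∅ := by
      ext χ
      simp only [Set.mem_empty_iff_false, iff_false]
      exact fun h => hcon ⟨χ, h⟩
    apply hd2.2.1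
    rw [hE, Cfsg.Agent.Lib.helper80.blockCoeff_empty]
    exact Cfsg.Agent.Lib.helper20.memLocalIdeal_zero hMp
  -- the block of a character
  have hb0 : ∀ χ : Cfsg.IrrCharacter (Matrix.SpecialLinearGroup (Fin 2) F), χ ∈ sl2Blk0 F →
      blockOf M (χ : Matrix.SpecialLinearGroup (Fin 2) F → ℂ) = sl2Blk0 F := by
    intro χ hχ
    ext ψ
    show SameBlock M (χ : Matrix.SpecialLinearGroup (Fin 2) F → ℂ)
      (ψ : Matrix.SpecialLinearGroup (Fin 2) F → ℂ) ↔ _
    rw [sameBlock_iff_sl2 p hp2 hM]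
    constructor
    · rintro (⟨_, h⟩ | ⟨h', _⟩ | ⟨h', _⟩)
      · exact h
      · exact (sl2Blk01 χ hχ h').elim
      · exact (sl2Blk02 hodd χ hχ h').elim
    · intro h
      exact Or.inl ⟨hχ, h⟩
  have hb1 : ∀ χ : Cfsg.IrrCharacter (Matrix.SpecialLinearGroup (Fin 2) F), χ ∈ sl2Blk1 F →
      blockOf M (χ : Matrix.SpecialLinearGroup (Fin 2) F → ℂ) = sl2Blk1 F := by
    intro χ hχ
    ext ψ
    show SameBlock M (χ : Matrix.SpecialLinearGroup (Fin 2) F → ℂ)
      (ψ : Matrix.SpecialLinearGroup (Fin 2) F → ℂ) ↔ _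
    rw [sameBlock_iff_sl2 p hp2 hM]
    constructor
    · rintro (⟨h', _⟩ | ⟨_, h⟩ | ⟨h', _⟩)
      · exact (sl2Blk01 χ h' hχ).elim
      · exact h
      · exact (sl2Blk12 χ hχ h').elim
    · intro h
      exact Or.inr (Or.inl ⟨hχ, h⟩)
  have hb2 : ∀ χ : Cfsg.IrrCharacter (Matrix.SpecialLinearGroup (Fin 2) F), χ ∈ sl2Blk2 F →
      blockOf M (χ : Matrix.SpecialLinearGroup (Fin 2) F → ℂ) = sl2Blk2 F := by
    intro χ hχ
    ext ψ
    show SameBlock M (χ : Matrix.SpecialLinearGroup (Fin 2) F → ℂ)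
      (ψ : Matrix.SpecialLinearGroup (Fin 2) F → ℂ) ↔ _
    rw [sameBlock_iff_sl2 p hp2 hM]
    constructor
    · rintro (⟨h', _⟩ | ⟨h', _⟩ | ⟨_, h⟩)
      · exact (sl2Blk02 hodd χ h' hχ).elim
      · exact (sl2Blk12 χ h' hχ).elim
      · exact h
    · intro h
      exact Or.inr (Or.inr ⟨hχ, h⟩)
  have hiff : ∀ B : Set (Cfsg.IrrCharacter (Matrix.SpecialLinearGroup (Fin 2) F)),
      IsPBlock M B ↔ (B = sl2Blk0 F ∨ B = sl2Blk1 F ∨ B = sl2Blk2 F) := by
    intro B
    constructor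
    · rintro ⟨χ, rfl⟩
      rcases sl2Blk_cover χ with h | h | h
      · exact Or.inl (hb0 χ h)
      · exact Or.inr (Or.inl (hb1 χ h))
      · exact Or.inr (Or.inr (hb2 χ h))
    · rintro (rfl | rfl | rfl)
      · exact ⟨St, (hb0 St hSt0).symm⟩
      · obtain ⟨χ, hχ⟩ := hne1
        exact ⟨χ, (hb1 χ hχ).symm⟩
      · obtain ⟨χ, hχ⟩ := hne2
        exact ⟨χ, (hb2 χ hχ).symm⟩
  refine ⟨hiff, ?_, fun P => ⟨isDefectGroup_sylow_of_one _ hd1 P,
    isDefectGroup_sylow_of_one _ hd2 P⟩⟩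
  have hset : {B : Set (Cfsg.IrrCharacter (Matrix.SpecialLinearGroup (Fin 2) F)) |
      IsPBlock M B} = {sl2Blk0 F, sl2Blk1 F, sl2Blk2 F} := by
    ext B
    simp only [Set.mem_insert_iff, Set.mem_singleton_iff]
    exact hiff B
  have h01 : sl2Blk0 F ≠ sl2Blk1 F := by
    intro h
    exact sl2Blk01 St hSt0 (h ▸ hSt0)
  have h02 : sl2Blk0 F ≠ sl2Blk2 F := by
    intro h
    exact sl2Blk02 hodd St hSt0 (h ▸ hSt0)
  have h12 : sl2Blk1 F ≠ sl2Blk2 F := by
    intro h
    obtain ⟨χ, hχ⟩ := hne1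
    exact sl2Blk12 χ hχ (h ▸ hχ)
  have hcard : Nat.card {B : Set (Cfsg.IrrCharacter (Matrix.SpecialLinearGroup (Fin 2) F)) //
      IsPBlock M B} = Set.ncard {B : Set (Cfsg.IrrCharacter
        (Matrix.SpecialLinearGroup (Fin 2) F)) | IsPBlock M B} :=
    Nat.card_coe_set_eq _
  rw [hcard, hset, Set.ncard_eq_three]
  exact ⟨_, _, _, h01, h02, h12, rfl⟩

end SL2BlockFinal

end Cfsg.Agent.Lib.helper43
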