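-- helper43: the nonsplit torus of SL₂(q), q odd: conjugacy facts and values of functions
-- induced from it.
import Mathlib
import Cfsg.Prelude.Def_Characters
import Cfsg.Agent.Lib.helper43.SL2Blocks
import Cfsg.Agent.Lib.helper46.SL2NonSplit

set_option autoImplicit false

namespace Cfsg.Agent.Lib.helper43

open scoped ComplexConjugate
open Cfsg.Agent.Lib.helper4
open Matrix

section GeneralInd

variable {G : Type*} [Group G] [Fintype G]

/-- Projection formula: an induced function times a class function is induced. -/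
theorem indFun_mul_classFun (H : Subgroup G) (θ : H → ℂ) {f : G → ℂ}
    (hf : Cfsg.IsClassFunction G f) (g : G) :
    Cfsg.indFun H θ g * f g = Cfsg.indFun H (fun h : H => θ h * f h) g := by
  rw [indFun_apply, indFun_apply, mul_assoc, Finset.sum_mul]
  congr 1
  apply Finset.sum_congr rfl
  intro x _
  have hfx : f (x⁻¹ * g * x) = f g := by simpa using hf g x⁻¹
  by_cases hmem : x⁻¹ * g * x ∈ H
  · rw [extendByZero_apply_mem _ _ hmem, extendByZero_apply_mem _ _ hmem]
    simp only [hfx]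
  · rw [extendByZero_apply_of_not_mem _ _ hmem, extendByZero_apply_of_not_mem _ _ hmem, zero_mul]

/-- Value of an induced function at a central element of the subgroup. -/
theorem indFun_of_mem_center (H : Subgroup G) (θ : H → ℂ) {z : G}
    (hz : z ∈ Subgroup.center G) (hzH : z ∈ H) :
    Cfsg.indFun H θ z = (Nat.card H : ℂ)⁻¹ * ((Nat.card G : ℂ) * θ ⟨z, hzH⟩) := by
  rw [indFun_apply]
  congr 1
  have : ∀ x : G, Cfsg.extendByZero H θ (x⁻¹ * z * x) = θ ⟨z, hzH⟩ := by
    intro x
    have h1 : x⁻¹ * z * x = z := by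
      rw [Subgroup.mem_center_iff] at hz
      rw [mul_assoc, ← hz x, inv_mul_cancel_left]
    rw [h1, extendByZero_apply_mem _ _ hzH]
  simp only [this, Finset.sum_const, Finset.card_univ, nsmul_eq_mul, Nat.card_eq_fintype_card]

end GeneralInd

section Torus

variable {F : Type*} [Field F] [Fintype F]

/-- The data of a nonsplit torus `⟨t⟩` of `SL₂(q)`, `q` odd, with an element `w` inverting it. -/
structure NonsplitData (t w : Matrix.SpecialLinearGroup (Fin 2) F) : Prop where
  order : orderOf t = Fintype.card F + 1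
  cent : ∀ g : Matrix.SpecialLinearGroup (Fin 2) F, g * t = t * g → g ∈ Subgroup.zpowers t
  norm : ∀ g : Matrix.SpecialLinearGroup (Fin 2) F, g * t * g⁻¹ ∈ Subgroup.zpowers t →
    g * t * g⁻¹ = t ∨ g * t * g⁻¹ = t⁻¹
  invol : ∀ g : Matrix.SpecialLinearGroup (Fin 2) F, g * g = 1 → g = 1 ∨ g = -1
  winv : w * t * w⁻¹ = t⁻¹
  half : t ^ ((Fintype.card F + 1) / 2) = -1
  cent' : ∀ g : Matrix.SpecialLinearGroup (Fin 2) F, g ∈ Subgroup.zpowers t → g ≠ 1 → g ≠ -1 →
    ∀ h : Matrix.SpecialLinearGroup (Fin 2) F, h * g = g * h → h ∈ Subgroup.zpowers t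
  ell : ∀ g : Matrix.SpecialLinearGroup (Fin 2) F,
    (∀ (c : F) (v : Fin 2 → F), v ≠ 0 → (g : Matrix (Fin 2) (Fin 2) F).mulVec v ≠ c • v) →
    ∃ h : Matrix.SpecialLinearGroup (Fin 2) F, h * g * h⁻¹ ∈ Subgroup.zpowers t

theorem exists_nonsplitData (hodd : Odd (Fintype.card F)) :
    ∃ t w : Matrix.SpecialLinearGroup (Fin 2) F, NonsplitData t w := by
  obtain ⟨t, w, h1, h2, h3, h4, h5, h6, h7, h8⟩ :=
    Cfsg.Agent.Lib.helper46.nonsplit_torus_data hodd
  have hq : 2 * ((Fintype.card F + 1) / 2) = Fintype.card F + 1 := by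
    obtain ⟨k, hk⟩ := hodd
    omega
  have hhalf : t ^ ((Fintype.card F + 1) / 2) = -1 := by
    apply Subtype.ext
    rw [h6]
    simp
  refine ⟨t, w, ⟨by rw [h1, hq], h2, h3, ?_, h5, hhalf, ?_, h8⟩⟩
  · intro g hg
    rcases h4 g hg with h | h
    · exact Or.inl h
    · exact Or.inr (h.trans hhalf)
  · intro g hg hg1 hg2 h hh
    refine h7 g hg ?_ ?_ h hh
    · intro h'
      apply hg1
      apply Subtype.ext
      rw [h']
      simp
    · intro h'
      apply hg2
      apply Subtype.ext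
      rw [h']
      simp

variable {t w : Matrix.SpecialLinearGroup (Fin 2) F}

theorem NonsplitData.card_T (hd : NonsplitData t w) :
    Nat.card (Subgroup.zpowers t) = Fintype.card F + 1 := by
  rw [Nat.card_zpowers, hd.order]

theorem NonsplitData.negOne_mem (hd : NonsplitData t w) :
    (-1 : Matrix.SpecialLinearGroup (Fin 2) F) ∈ Subgroup.zpowers t := by
  rw [← hd.half]
  exact Subgroup.pow_mem _ (Subgroup.mem_zpowers t) _

omit [Fintype F] in
theorem comm_of_mem_zpowers {a b : Matrix.SpecialLinearGroup (Fin 2) F}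
    (ha : a ∈ Subgroup.zpowers t) (hb : b ∈ Subgroup.zpowers t) : a * b = b * a := by
  obtain ⟨i, rfl⟩ := Subgroup.mem_zpowers_iff.1 ha
  obtain ⟨j, rfl⟩ := Subgroup.mem_zpowers_iff.1 hb
  exact ((Commute.refl t).zpow_zpow i j).eq

theorem NonsplitData.w_conj (hd : NonsplitData t w) {c : Matrix.SpecialLinearGroup (Fin 2) F}
    (hc : c ∈ Subgroup.zpowers t) : w⁻¹ * c * w = c⁻¹ := by
  have h1 : w⁻¹ * t * w = t⁻¹ := by
    have h := hd.winv
    have h2 : t = w⁻¹ * t⁻¹ * w := by
      rw [← h]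
      group
    calc w⁻¹ * t * w = (w⁻¹ * t⁻¹ * w)⁻¹ := by group
      _ = t⁻¹ := by rw [← h2]
  obtain ⟨i, rfl⟩ := Subgroup.mem_zpowers_iff.1 hc
  have h3 : w⁻¹ * t ^ i * w = (w⁻¹ * t * w) ^ i := by
    have := map_zpow (MulAut.conj w⁻¹) t i
    simpa [MulAut.conj_apply] using this
  rw [h3, h1, _root_.inv_zpow]

theorem NonsplitData.w_not_mem (hd : NonsplitData t w) : w ∉ Subgroup.zpowers t := by
  intro hw
  have h1 := comm_of_mem_zpowers hw (Subgroup.mem_zpowers t)
  have h2 : w * t * w⁻¹ = t := by rw [h1]; group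
  rw [hd.winv] at h2
  have h3 : t ^ 2 = 1 := by
    rw [pow_two]
    nth_rewrite 1 [← h2]
    exact inv_mul_cancel t
  have h4 := orderOf_dvd_of_pow_eq_one h3
  rw [hd.order] at h4
  have h5 := Nat.le_of_dvd (by norm_num) h4
  have := Fintype.one_lt_card (α := F)
  omega

omit [Fintype F] in
theorem conj_negOne (x : Matrix.SpecialLinearGroup (Fin 2) F) :
    x * (-1 : Matrix.SpecialLinearGroup (Fin 2) F) * x⁻¹ = -1 := by
  have h := Subgroup.mem_center_iff.1 (negOne_mem_center (F := F)) x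
  rw [h, mul_assoc, mul_inv_cancel, mul_one]

/-- Conjugates of a noncentral element of the torus lying in the torus. -/
theorem NonsplitData.conj_mem (hd : NonsplitData t w)
    {c : Matrix.SpecialLinearGroup (Fin 2) F} (hc : c ∈ Subgroup.zpowers t)
    (hc1 : c ≠ 1) (hc2 : c ≠ -1) (x : Matrix.SpecialLinearGroup (Fin 2) F)
    (hx : x⁻¹ * c * x ∈ Subgroup.zpowers t) :
    (x ∈ Subgroup.zpowers t ∧ x⁻¹ * c * x = c) ∨
      (w⁻¹ * x ∈ Subgroup.zpowers t ∧ x⁻¹ * c * x = c⁻¹) := by
  have hcomm : t * (x⁻¹ * c * x) = (x⁻¹ * c * x) * t :=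
    comm_of_mem_zpowers (Subgroup.mem_zpowers t) hx
  have hcomm' : (x * t * x⁻¹) * c = c * (x * t * x⁻¹) := by
    have h1 : (x * t * x⁻¹) * c = x * (t * (x⁻¹ * c * x)) * x⁻¹ := by group
    have h2 : c * (x * t * x⁻¹) = x * ((x⁻¹ * c * x) * t) * x⁻¹ := by group
    rw [h1, h2, hcomm]
  have hmem := hd.cent' c hc hc1 hc2 _ hcomm'
  rcases hd.norm x hmem with h | h
  · left
    have hxt : x * t = t * x := by
      have : x * t = (x * t * x⁻¹) * x := by group
      rw [this, h]
    have hxT := hd.cent x hxt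
    refine ⟨hxT, ?_⟩
    have := comm_of_mem_zpowers hc hxT
    rw [mul_assoc, this, ← mul_assoc, inv_mul_cancel, one_mul]
  · right
    have hxt : (w⁻¹ * x) * t = t * (w⁻¹ * x) := by
      have h1 : (w⁻¹ * x) * t = w⁻¹ * (x * t * x⁻¹) * x := by group
      rw [h1, h, ← hd.winv]
      group
    have hxT := hd.cent _ hxt
    refine ⟨hxT, ?_⟩
    have h1 : x⁻¹ * c * x = (w⁻¹ * x)⁻¹ * (w⁻¹ * c * w) * (w⁻¹ * x) := by group
    rw [h1, hd.w_conj hc]
    have := comm_of_mem_zpowers (Subgroup.inv_mem _ hc) hxT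
    rw [mul_assoc, this, ← mul_assoc, inv_mul_cancel, one_mul]

/-- the extension by zero at a conjugate of a noncentral element of the torus -/
theorem NonsplitData.extendByZero_conj (hd : NonsplitData t w) (θ : Subgroup.zpowers t → ℂ)
    {c : Matrix.SpecialLinearGroup (Fin 2) F} (hc : c ∈ Subgroup.zpowers t)
    (hc1 : c ≠ 1) (hc2 : c ≠ -1) (x : Matrix.SpecialLinearGroup (Fin 2) F) :
    Cfsg.extendByZero (Subgroup.zpowers t) θ (x⁻¹ * c * x) =
      Cfsg.extendByZero (Subgroup.zpowers t)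
        (fun _ => Cfsg.extendByZero (Subgroup.zpowers t) θ c) x +
      Cfsg.extendByZero (Subgroup.zpowers t)
        (fun _ => Cfsg.extendByZero (Subgroup.zpowers t) θ c⁻¹) (w⁻¹ * x) := by
  by_cases hx : x ∈ Subgroup.zpowers t
  · have hx' : w⁻¹ * x ∉ Subgroup.zpowers t := by
      intro h
      apply hd.w_not_mem
      have : w = x * (w⁻¹ * x)⁻¹ := by group
      rw [this]
      exact Subgroup.mul_mem _ hx (Subgroup.inv_mem _ h)
    have h1 : x⁻¹ * c * x = c := by
      have := comm_of_mem_zpowers hc hx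
      rw [mul_assoc, this, ← mul_assoc, inv_mul_cancel, one_mul]
    rw [h1, extendByZero_apply_mem _ _ hx, extendByZero_apply_of_not_mem _ _ hx', add_zero]
  · by_cases hx' : w⁻¹ * x ∈ Subgroup.zpowers t
    · have h1 : x⁻¹ * c * x = c⁻¹ := by
        have h1 : x⁻¹ * c * x = (w⁻¹ * x)⁻¹ * (w⁻¹ * c * w) * (w⁻¹ * x) := by group
        rw [h1, hd.w_conj hc]
        have := comm_of_mem_zpowers (Subgroup.inv_mem _ hc) hx'
        rw [mul_assoc, this, ← mul_assoc, inv_mul_cancel, one_mul]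
      rw [h1, extendByZero_apply_of_not_mem _ _ hx, extendByZero_apply_mem _ _ hx', zero_add]
    · have h1 : x⁻¹ * c * x ∉ Subgroup.zpowers t := by
        intro h
        rcases hd.conj_mem hc hc1 hc2 x h with ⟨h2, -⟩ | ⟨h2, -⟩
        · exact hx h2
        · exact hx' h2
      rw [extendByZero_apply_of_not_mem _ _ h1, extendByZero_apply_of_not_mem _ _ hx,
        extendByZero_apply_of_not_mem _ _ hx', add_zero]

theorem pow_card_of_mem_BSL {g : Matrix.SpecialLinearGroup (Fin 2) F} (hg : g ∈ BSL F) :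
    g ^ ((Fintype.card F - 1) * Fintype.card F) = 1 := by
  have h := pow_card_eq_one' (G := BSL F) (x := ⟨g, hg⟩)
  rw [card_BSL] at h
  have h2 := congrArg Subtype.val h
  simpa using h2

/-- An upper triangular element with a conjugate in the nonsplit torus is `± 1`. -/
theorem NonsplitData.eq_one_or_negOne_of_conj (hd : NonsplitData t w)
    (hodd : Odd (Fintype.card F)) {g : Matrix.SpecialLinearGroup (Fin 2) F} (hg : g ∈ BSL F)
    (x : Matrix.SpecialLinearGroup (Fin 2) F) (hx : x⁻¹ * g * x ∈ Subgroup.zpowers t) :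
    g = 1 ∨ g = -1 := by
  obtain ⟨k, hk⟩ := hodd
  have hpow : ∀ n : ℕ, (x⁻¹ * g * x) ^ n = x⁻¹ * g ^ n * x := by
    intro n
    have := conj_pow (a := x⁻¹) (b := g) (i := n)
    simpa using this
  have h1 : (x⁻¹ * g * x) ^ (Fintype.card F + 1) = 1 := by
    have h := pow_card_eq_one' (G := Subgroup.zpowers t) (x := ⟨x⁻¹ * g * x, hx⟩)
    rw [hd.card_T] at h
    have h2 := congrArg Subtype.val h
    simpa using h2
  have h2 : (x⁻¹ * g * x) ^ ((Fintype.card F - 1) * Fintype.card F) = 1 := by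
    rw [hpow, pow_card_of_mem_BSL hg]
    group
  have d1 := orderOf_dvd_of_pow_eq_one h1
  have d2 := orderOf_dvd_of_pow_eq_one h2
  have d3 : orderOf (x⁻¹ * g * x) ∣ 2 := by
    have e1 : Fintype.card F + 1 = 2 * k + 2 := by omega
    have e2 : (Fintype.card F - 1) * Fintype.card F = 2 * k * (2 * k + 1) := by
      rw [hk]
      simp
    rw [e1] at d1
    rw [e2] at d2
    have d4 : orderOf (x⁻¹ * g * x) ∣ 2 * k * (2 * k + 2) := Dvd.dvd.mul_left d1 _
    have d5 : orderOf (x⁻¹ * g * x) ∣ 2 * k * (2 * k + 1) + (2 * k + 2) := Nat.dvd_add d2 d1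
    have e3 : 2 * k * (2 * k + 1) + (2 * k + 2) = 2 * k * (2 * k + 2) + 2 := by ring
    rw [e3] at d5
    exact (Nat.dvd_add_right d4).1 d5
  have h3 : (x⁻¹ * g * x) * (x⁻¹ * g * x) = 1 := by
    rw [← pow_two]
    exact orderOf_dvd_iff_pow_eq_one.1 d3
  rcases hd.invol _ h3 with h | h
  · left
    have : g = x * (x⁻¹ * g * x) * x⁻¹ := by group
    rw [this, h]
    group
  · right
    have : g = x * (x⁻¹ * g * x) * x⁻¹ := by group
    rw [this, h, conj_negOne]

omit [Fintype F] in
/-- An element with an eigenvector is conjugate to an upper triangular element. -/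
theorem exists_conj_mem_BSL_of_eigenvector (g : Matrix.SpecialLinearGroup (Fin 2) F) (c : F)
    (v : Fin 2 → F) (hv : v ≠ 0) (h : (g : Matrix (Fin 2) (Fin 2) F).mulVec v = c • v) :
    ∃ x : Matrix.SpecialLinearGroup (Fin 2) F,
      ((x⁻¹ * g * x : Matrix.SpecialLinearGroup (Fin 2) F) : Matrix (Fin 2) (Fin 2) F) 1 0 = 0 := by
  have e0 := congrFun h 0
  have e1 := congrFun h 1
  simp only [Matrix.mulVec, dotProduct, Fin.sum_univ_two, Pi.smul_apply, smul_eq_mul] at e0 e1
  have key : ∀ x : Matrix.SpecialLinearGroup (Fin 2) F,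
      (x : Matrix (Fin 2) (Fin 2) F) 0 0 = v 0 → (x : Matrix (Fin 2) (Fin 2) F) 1 0 = v 1 →
      ((x⁻¹ * g * x : Matrix.SpecialLinearGroup (Fin 2) F) : Matrix (Fin 2) (Fin 2) F) 1 0 = 0 := by
    intro x h00 h10
    rw [conj_apply_10, h00, h10]
    linear_combination v 0 * e1 - v 1 * e0
  by_cases h0 : v 0 = 0
  · have h1 : v 1 ≠ 0 := by
      intro h1
      apply hv
      funext i
      fin_cases i
      · exact h0
      · exact h1
    refine ⟨⟨!![v 0, -(v 1)⁻¹; v 1, 0], ?_⟩, ?_⟩
    · rw [Matrix.det_fin_two_of]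
      field_simp
      ring
    · apply key <;> simp
  · refine ⟨⟨!![v 0, 0; v 1, (v 0)⁻¹], ?_⟩, ?_⟩
    · rw [Matrix.det_fin_two_of]
      field_simp
      ring
    · apply key <;> simp

/-- Noncentral elements of the nonsplit torus have no conjugate in the upper triangular
subgroup. -/
theorem NonsplitData.not_conj_BSL (hd : NonsplitData t w) (hodd : Odd (Fintype.card F))
    {c : Matrix.SpecialLinearGroup (Fin 2) F} (hc : c ∈ Subgroup.zpowers t)
    (hc1 : c ≠ 1) (hc2 : c ≠ -1) (x : Matrix.SpecialLinearGroup (Fin 2) F) :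
    x⁻¹ * c * x ∉ BSL F := by
  intro hx
  have h1 : (x⁻¹)⁻¹ * (x⁻¹ * c * x) * x⁻¹ ∈ Subgroup.zpowers t := by
    have : (x⁻¹)⁻¹ * (x⁻¹ * c * x) * x⁻¹ = c := by group
    rw [this]
    exact hc
  rcases hd.eq_one_or_negOne_of_conj hodd hx x⁻¹ h1 with h | h
  · apply hc1
    have : c = x * (x⁻¹ * c * x) * x⁻¹ := by group
    rw [this, h]
    group
  · apply hc2
    have : c = x * (x⁻¹ * c * x) * x⁻¹ := by group
    rw [this, h, conj_negOne]

/-- Noncentral elements of the nonsplit torus have no eigenvectors. -/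
theorem NonsplitData.elliptic_of_mem (hd : NonsplitData t w) (hodd : Odd (Fintype.card F))
    {c : Matrix.SpecialLinearGroup (Fin 2) F} (hc : c ∈ Subgroup.zpowers t)
    (hc1 : c ≠ 1) (hc2 : c ≠ -1) (a : F) (v : Fin 2 → F) (hv : v ≠ 0) :
    (c : Matrix (Fin 2) (Fin 2) F).mulVec v ≠ a • v := by
  intro h
  obtain ⟨x, hx⟩ := exists_conj_mem_BSL_of_eigenvector c a v hv h
  exact hd.not_conj_BSL hodd hc hc1 hc2 x ((mem_BSL_iff _).2 hx)

section Ind

variable [Fintype (Matrix.SpecialLinearGroup (Fin 2) F)]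

/-- Value of a function induced from the nonsplit torus at a noncentral element of the torus. -/
theorem NonsplitData.indFun_noncentral (hd : NonsplitData t w) (θ : Subgroup.zpowers t → ℂ)
    {c : Matrix.SpecialLinearGroup (Fin 2) F} (hc : c ∈ Subgroup.zpowers t)
    (hc1 : c ≠ 1) (hc2 : c ≠ -1) :
    Cfsg.indFun (Subgroup.zpowers t) θ c =
      Cfsg.extendByZero (Subgroup.zpowers t) θ c +
        Cfsg.extendByZero (Subgroup.zpowers t) θ c⁻¹ := by
  classical
  have : Fintype (Subgroup.zpowers t) := Fintype.ofFinite _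
  rw [indFun_apply]
  simp only [hd.extendByZero_conj θ hc hc1 hc2]
  rw [Finset.sum_add_distrib, sum_extendByZero]
  have h2 : ∑ x : Matrix.SpecialLinearGroup (Fin 2) F,
      Cfsg.extendByZero (Subgroup.zpowers t)
        (fun _ => Cfsg.extendByZero (Subgroup.zpowers t) θ c⁻¹) (w⁻¹ * x) =
      ∑ x : Matrix.SpecialLinearGroup (Fin 2) F,
      Cfsg.extendByZero (Subgroup.zpowers t)
        (fun _ => Cfsg.extendByZero (Subgroup.zpowers t) θ c⁻¹) x :=
    Equiv.sum_comp (Equiv.mulLeft w⁻¹) _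
  rw [h2, sum_extendByZero]
  simp only [Finset.sum_const, Finset.card_univ, nsmul_eq_mul, ← Nat.card_eq_fintype_card]
  have h0 : (Nat.card (Subgroup.zpowers t) : ℂ) ≠ 0 := by
    rw [hd.card_T]
    exact_mod_cast Nat.succ_ne_zero (Fintype.card F)
  field_simp

/-- Value of a function induced from the nonsplit torus at a central element. -/
theorem NonsplitData.indFun_central (hd : NonsplitData t w) (θ : Subgroup.zpowers t → ℂ)
    {z : Matrix.SpecialLinearGroup (Fin 2) F}
    (hz : z ∈ Subgroup.center (Matrix.SpecialLinearGroup (Fin 2) F))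
    (hzT : z ∈ Subgroup.zpowers t) :
    Cfsg.indFun (Subgroup.zpowers t) θ z =
      ((Fintype.card F : ℂ) - 1) * (Fintype.card F : ℂ) * θ ⟨z, hzT⟩ := by
  rw [indFun_of_mem_center _ _ hz hzT, hd.card_T, card_SL2]
  have hq2 : 2 ≤ Fintype.card F := Fintype.one_lt_card
  have c2 : ((Fintype.card F ^ 2 - 1 : ℕ) : ℂ) = (Fintype.card F : ℂ) ^ 2 - 1 := by
    rw [Nat.cast_sub (Nat.one_le_pow _ _ (by omega))]
    simp
  have h0 : ((Fintype.card F + 1 : ℕ) : ℂ) ≠ 0 := by
    exact_mod_cast Nat.succ_ne_zero (Fintype.card F)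
  rw [Nat.cast_mul, c2]
  field_simp
  push_cast
  ring

/-- A function induced from the nonsplit torus vanishes at the noncentral upper triangular
elements. -/
theorem NonsplitData.indFun_of_mem_BSL (hd : NonsplitData t w) (hodd : Odd (Fintype.card F))
    (θ : Subgroup.zpowers t → ℂ) {g : Matrix.SpecialLinearGroup (Fin 2) F} (hg : g ∈ BSL F)
    (hg1 : g ≠ 1) (hg2 : g ≠ -1) : Cfsg.indFun (Subgroup.zpowers t) θ g = 0 := by
  apply indFun_eq_zero_of_forall_not_mem
  intro x hx
  rcases hd.eq_one_or_negOne_of_conj hodd hg x hx with h | h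
  · exact hg1 h
  · exact hg2 h

/-- A function induced from the upper triangular subgroup vanishes at the noncentral elements
of the nonsplit torus. -/
theorem NonsplitData.indFun_BSL_of_mem (hd : NonsplitData t w) (hodd : Odd (Fintype.card F))
    (θ : BSL F → ℂ) {c : Matrix.SpecialLinearGroup (Fin 2) F} (hc : c ∈ Subgroup.zpowers t)
    (hc1 : c ≠ 1) (hc2 : c ≠ -1) : Cfsg.indFun (BSL F) θ c = 0 := by
  apply indFun_eq_zero_of_forall_not_mem
  intro x
  exact hd.not_conj_BSL hodd hc hc1 hc2 x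

end Ind

end Torus

end Cfsg.Agent.Lib.helper43
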