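-- helper43: the cuspidal characters of SL₂(q), q odd, as differences of a generalized
-- character induced from the upper triangular subgroup and characters induced from the
-- nonsplit torus.
import Mathlib
import Cfsg.Prelude.Def_Characters
import Cfsg.Agent.Lib.helper43.SL2Torus

set_option autoImplicit false

namespace Cfsg.Agent.Lib.helper43

open scoped ComplexConjugate
open Cfsg.Agent.Lib.helper4
open Matrix

section CuspM

variable {F : Type*} [Field F] [Fintype F] [DecidableEq F]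
variable [Fintype (Matrix.SpecialLinearGroup (Fin 2) F)] [Fintype (BSL F)]

/-- Value of the induced character at an upper triangular element with distinct diagonal
entries. -/
theorem indFun_alphaB_split (α : MulChar F ℂ) (g : Matrix.SpecialLinearGroup (Fin 2) F)
    (h10 : (g : Matrix (Fin 2) (Fin 2) F) 1 0 = 0)
    (hne : (g : Matrix (Fin 2) (Fin 2) F) 0 0 ≠ (g : Matrix (Fin 2) (Fin 2) F) 1 1) :
    Cfsg.indFun (BSL F) (alphaB α) g = α ((g : Matrix (Fin 2) (Fin 2) F) 0 0) +
      α ((g : Matrix (Fin 2) (Fin 2) F) 1 1) := by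
  have hdet := sl2_det g
  rw [h10, mul_zero, sub_zero] at hdet
  have h00 : (g : Matrix (Fin 2) (Fin 2) F) 0 0 ≠ 0 := left_ne_zero_of_mul_eq_one hdet
  obtain ⟨a, ha⟩ : ∃ a : Fˣ, (a : F) = (g : Matrix (Fin 2) (Fin 2) F) 0 0 :=
    ⟨Units.mk0 _ h00, rfl⟩
  have ha' : ((a⁻¹ : Fˣ) : F) = (g : Matrix (Fin 2) (Fin 2) F) 1 1 := by
    rw [Units.val_inv_eq_inv_val, ha]
    exact (eq_inv_of_mul_eq_one_right hdet).symm
  have hne' : ((bSL a 0 : Matrix.SpecialLinearGroup (Fin 2) F) : Matrix (Fin 2) (Fin 2) F) 0 0 ≠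
      ((bSL a 0 : Matrix.SpecialLinearGroup (Fin 2) F) : Matrix (Fin 2) (Fin 2) F) 1 1 := by
    rw [bSL_00, bSL_11, ha, ha']
    exact hne
  obtain ⟨x, hx⟩ := exists_conj_diag_mul_uSL (bSL a 0) rfl rfl hne'
    (((a⁻¹ : Fˣ) : F) * (g : Matrix (Fin 2) (Fin 2) F) 0 1)
  have hg : g = bSL a 0 * uSL (((a⁻¹ : Fˣ) : F) * (g : Matrix (Fin 2) (Fin 2) F) 0 1) := by
    have e : (a : F) * ((a⁻¹ : Fˣ) : F) = 1 := by
      rw [← Units.val_mul, mul_inv_cancel, Units.val_one]
    apply sl2_ext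
    · simp [bSL_val, uSL_val, Matrix.mul_apply, Fin.sum_univ_two, ha]
    · simp only [bSL_val, uSL_val, Matrix.SpecialLinearGroup.coe_mul, Matrix.mul_apply,
        Fin.sum_univ_two, Matrix.of_apply, Matrix.cons_val', Matrix.cons_val_zero,
        Matrix.cons_val_one, Matrix.cons_val_fin_one]
      linear_combination (-(g : Matrix (Fin 2) (Fin 2) F) 0 1) * e
    · simp [bSL_val, uSL_val, Matrix.mul_apply, Fin.sum_univ_two, h10]
    · simp [bSL_val, uSL_val, Matrix.mul_apply, Fin.sum_univ_two, ha']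
  have key : Cfsg.indFun (BSL F) (alphaB α) g = Cfsg.indFun (BSL F) (alphaB α) (bSL a 0) := by
    rw [hg, ← hx]
    exact isClassFunction_indFun _ _ _ _
  rw [key, indFun_alphaB_diag α (bSL a 0) rfl rfl hne', bSL_00, bSL_11, ha, ha']

/-- The generalized character `(1_B^G - 2) · Ind_B^G α` of `SL₂(q)`. -/
noncomputable def cuspM (α : MulChar F ℂ) : Matrix.SpecialLinearGroup (Fin 2) F → ℂ :=
  fun g => (Cfsg.indFun (BSL F) (alphaB (1 : MulChar F ℂ)) g - 2) *
    Cfsg.indFun (BSL F) (alphaB α) g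

omit [Fintype F] [DecidableEq F] [Fintype (BSL F)] in
theorem isGeneralizedCharacter_cuspM (α : MulChar F ℂ) :
    Cfsg.IsGeneralizedCharacter (Matrix.SpecialLinearGroup (Fin 2) F) (cuspM α) := by
  have h1 := isGeneralizedCharacter_of_isCharacter
    (isCharacter_indFun_alphaB (1 : MulChar F ℂ))
  have hα := isGeneralizedCharacter_of_isCharacter (isCharacter_indFun_alphaB α)
  have hone := isGeneralizedCharacter_of_isCharacter
    (isCharacter_one (G := Matrix.SpecialLinearGroup (Fin 2) F))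
  have h := isGeneralizedCharacter_mul
    (isGeneralizedCharacter_sub (isGeneralizedCharacter_sub h1 hone) hone) hα
  convert h using 1
  funext g
  simp only [cuspM, Pi.mul_apply, Pi.sub_apply]
  ring

omit [Fintype F] [DecidableEq F] [Fintype (BSL F)] in
theorem isClassFunction_cuspM (α : MulChar F ℂ) :
    Cfsg.IsClassFunction (Matrix.SpecialLinearGroup (Fin 2) F) (cuspM α) := by
  intro g h
  unfold cuspM
  rw [isClassFunction_indFun _ _ g h, isClassFunction_indFun _ _ g h]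

/-- Value of `cuspM` at a central element. -/
theorem cuspM_central (α : MulChar F ℂ) (g : Matrix.SpecialLinearGroup (Fin 2) F)
    (h01 : (g : Matrix (Fin 2) (Fin 2) F) 0 1 = 0)
    (h10 : (g : Matrix (Fin 2) (Fin 2) F) 1 0 = 0)
    (heq : (g : Matrix (Fin 2) (Fin 2) F) 0 0 = (g : Matrix (Fin 2) (Fin 2) F) 1 1) :
    cuspM α g = ((Fintype.card F : ℂ) - 1) * ((Fintype.card F : ℂ) + 1) *
      α ((g : Matrix (Fin 2) (Fin 2) F) 0 0) := by
  have hdet := sl2_det g
  rw [h10, mul_zero, sub_zero] at hdet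
  have hu : IsUnit ((g : Matrix (Fin 2) (Fin 2) F) 0 0) :=
    (left_ne_zero_of_mul_eq_one hdet).isUnit
  unfold cuspM
  rw [indFun_alphaB_central _ g h01 h10 heq, indFun_alphaB_central _ g h01 h10 heq,
    MulChar.one_apply hu]
  ring

/-- Value of `cuspM` at `±` a nontrivial unipotent element. -/
theorem cuspM_unipotent (α : MulChar F ℂ) (g : Matrix.SpecialLinearGroup (Fin 2) F)
    (h10 : (g : Matrix (Fin 2) (Fin 2) F) 1 0 = 0)
    (heq : (g : Matrix (Fin 2) (Fin 2) F) 0 0 = (g : Matrix (Fin 2) (Fin 2) F) 1 1)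
    (h01 : (g : Matrix (Fin 2) (Fin 2) F) 0 1 ≠ 0) :
    cuspM α g = - α ((g : Matrix (Fin 2) (Fin 2) F) 0 0) := by
  have hdet := sl2_det g
  rw [h10, mul_zero, sub_zero] at hdet
  have hu : IsUnit ((g : Matrix (Fin 2) (Fin 2) F) 0 0) :=
    (left_ne_zero_of_mul_eq_one hdet).isUnit
  unfold cuspM
  rw [indFun_alphaB_unipotent _ g h10 heq h01, indFun_alphaB_unipotent _ g h10 heq h01,
    MulChar.one_apply hu]
  ring

/-- `cuspM` vanishes at the upper triangular elements with distinct diagonal entries. -/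
theorem cuspM_split (α : MulChar F ℂ) (g : Matrix.SpecialLinearGroup (Fin 2) F)
    (h10 : (g : Matrix (Fin 2) (Fin 2) F) 1 0 = 0)
    (hne : (g : Matrix (Fin 2) (Fin 2) F) 0 0 ≠ (g : Matrix (Fin 2) (Fin 2) F) 1 1) :
    cuspM α g = 0 := by
  have hdet := sl2_det g
  rw [h10, mul_zero, sub_zero] at hdet
  have hu : IsUnit ((g : Matrix (Fin 2) (Fin 2) F) 0 0) :=
    (left_ne_zero_of_mul_eq_one hdet).isUnit
  have hu' : IsUnit ((g : Matrix (Fin 2) (Fin 2) F) 1 1) :=
    (right_ne_zero_of_mul_eq_one hdet).isUnit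
  unfold cuspM
  rw [indFun_alphaB_split _ g h10 hne, MulChar.one_apply hu, MulChar.one_apply hu']
  norm_num

omit [Fintype F] [DecidableEq F] [Fintype (BSL F)] in
/-- `cuspM` as an induced function. -/
theorem cuspM_eq_indFun (α : MulChar F ℂ) :
    cuspM α = Cfsg.indFun (BSL F) (fun b : BSL F => alphaB α b *
      (Cfsg.indFun (BSL F) (alphaB (1 : MulChar F ℂ))
        (b : Matrix.SpecialLinearGroup (Fin 2) F) - 2)) := by
  funext g
  have hcf : Cfsg.IsClassFunction (Matrix.SpecialLinearGroup (Fin 2) F)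
      (fun g => Cfsg.indFun (BSL F) (alphaB (1 : MulChar F ℂ)) g - 2) := by
    intro g h
    show Cfsg.indFun (BSL F) (alphaB (1 : MulChar F ℂ)) (h * g * h⁻¹) - 2 = _
    rw [isClassFunction_indFun _ _ g h]
  rw [← indFun_mul_classFun (BSL F) (alphaB α) hcf g]
  unfold cuspM
  ring

omit [Fintype (Matrix.SpecialLinearGroup (Fin 2) F)] [Fintype (BSL F)] in
/-- sum over the units `a` with `a = a⁻¹` -/
theorem sum_units_self_inv (hodd : Odd (Fintype.card F)) (f : Fˣ → ℂ) :
    ∑ a : Fˣ, (if a = a⁻¹ then f a else 0) = f 1 + f (-1) := by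
  have h2 := two_ne_zero_of_odd hodd
  have hne : (1 : Fˣ) ≠ -1 := by
    intro h
    have h' := congrArg (fun u : Fˣ => (u : F)) h
    simp only [Units.val_one, Units.val_neg] at h'
    apply h2
    linear_combination h'
  have hpt : ∀ a : Fˣ, (if a = a⁻¹ then f a else 0) =
      (if a = 1 then f 1 else 0) + (if a = -1 then f (-1) else 0) := by
    intro a
    by_cases h1 : a = 1
    · subst h1
      simp [hne]
    · by_cases h2' : a = -1
      · subst h2'
        simp [hne.symm]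
      · rw [if_neg h1, if_neg h2', add_zero, if_neg]
        intro h
        have h3 : (a : F) * (a : F) = 1 := by
          have h4 : a * a = 1 := by
            nth_rewrite 2 [h]
            exact mul_inv_cancel a
          have h5 := congrArg (fun u : Fˣ => (u : F)) h4
          simpa using h5
        have h4 : ((a : F) - 1) * ((a : F) + 1) = 0 := by linear_combination h3
        rcases mul_eq_zero.1 h4 with h5 | h5
        · exact h1 (Units.ext (by simpa using sub_eq_zero.1 h5))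
        · exact h2' (Units.ext (by
            simp only [Units.val_neg, Units.val_one]
            linear_combination h5))
  simp only [hpt]
  rw [Finset.sum_add_distrib, Finset.sum_ite_eq', Finset.sum_ite_eq', if_pos (Finset.mem_univ _),
    if_pos (Finset.mem_univ _)]

omit [Fintype (Matrix.SpecialLinearGroup (Fin 2) F)] [Fintype (BSL F)] in
theorem sum_ite_zero (X Y : ℂ) :
    ∑ t : F, (if t = 0 then X else Y) = X + ((Fintype.card F : ℂ) - 1) * Y := by
  have hpt : ∀ t : F, (if t = 0 then X else Y) = Y + (if t = 0 then X - Y else 0) := by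
    intro t
    by_cases h : t = 0
    · rw [if_pos h, if_pos h]
      ring
    · rw [if_neg h, if_neg h, add_zero]
  simp only [hpt]
  rw [Finset.sum_add_distrib, Finset.sum_ite_eq', if_pos (Finset.mem_univ _), Finset.sum_const,
    Finset.card_univ, nsmul_eq_mul]
  ring

omit [Fintype F] [DecidableEq F] [Fintype (Matrix.SpecialLinearGroup (Fin 2) F)]
  [Fintype (BSL F)] in
theorem bSL_val_ne_of_ne {a : Fˣ} (h : a ≠ a⁻¹) (t : F) :
    ((bSL a t : Matrix.SpecialLinearGroup (Fin 2) F) : Matrix (Fin 2) (Fin 2) F) 0 0 ≠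
      ((bSL a t : Matrix.SpecialLinearGroup (Fin 2) F) : Matrix (Fin 2) (Fin 2) F) 1 1 := by
  rw [bSL_00, bSL_11]
  exact fun h' => h (Units.ext h')

/-- `1_B^G - 2` at the upper triangular elements. -/
theorem indFun_one_sub_two_bSL (a : Fˣ) (t : F) :
    Cfsg.indFun (BSL F) (alphaB (1 : MulChar F ℂ)) (bSL a t) - 2 =
      if a = a⁻¹ then (if t = 0 then (Fintype.card F : ℂ) - 1 else -1) else 0 := by
  by_cases ha : a = a⁻¹
  · have heq : ((bSL a t : Matrix.SpecialLinearGroup (Fin 2) F) : Matrix (Fin 2) (Fin 2) F) 0 0 =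
        ((bSL a t : Matrix.SpecialLinearGroup (Fin 2) F) : Matrix (Fin 2) (Fin 2) F) 1 1 := by
      rw [bSL_00, bSL_11, ← ha]
    rw [if_pos ha]
    by_cases ht : t = 0
    · rw [if_pos ht, indFun_alphaB_central _ _ (by rw [bSL_01, ht]) rfl heq, bSL_00,
        MulChar.one_apply a.isUnit]
      ring
    · rw [if_neg ht, indFun_alphaB_unipotent _ _ rfl heq (by rw [bSL_01]; exact ht), bSL_00,
        MulChar.one_apply a.isUnit]
      ring
  · rw [if_neg ha, indFun_alphaB_split _ _ rfl (bSL_val_ne_of_ne ha t), bSL_00, bSL_11,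
      MulChar.one_apply a.isUnit, MulChar.one_apply a⁻¹.isUnit]
    ring

/-- `cuspM` at the upper triangular elements. -/
theorem cuspM_bSL (α : MulChar F ℂ) (a : Fˣ) (t : F) :
    cuspM α (bSL a t) =
      if a = a⁻¹ then (if t = 0 then ((Fintype.card F : ℂ) - 1) * ((Fintype.card F : ℂ) + 1) *
        α (a : F) else - α (a : F)) else 0 := by
  by_cases ha : a = a⁻¹
  · have heq : ((bSL a t : Matrix.SpecialLinearGroup (Fin 2) F) : Matrix (Fin 2) (Fin 2) F) 0 0 =
        ((bSL a t : Matrix.SpecialLinearGroup (Fin 2) F) : Matrix (Fin 2) (Fin 2) F) 1 1 := by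
      rw [bSL_00, bSL_11, ← ha]
    rw [if_pos ha]
    by_cases ht : t = 0
    · rw [if_pos ht, cuspM_central _ _ (by rw [bSL_01, ht]) rfl heq, bSL_00]
    · rw [if_neg ht, cuspM_unipotent _ _ rfl heq (by rw [bSL_01]; exact ht), bSL_00]
  · rw [if_neg ha, cuspM_split _ _ rfl (bSL_val_ne_of_ne ha t)]

/-- The norm of `cuspM` is `2q`. -/
theorem classInner_cuspM_self (hodd : Odd (Fintype.card F)) (α : MulChar F ℂ) :
    Cfsg.classInner (cuspM α) (cuspM α) = 2 * (Fintype.card F : ℂ) := by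
  nth_rewrite 1 [cuspM_eq_indFun α]
  rw [frobenius_reciprocity (BSL F) _ (isClassFunction_cuspM α)]
  unfold Cfsg.classInner
  have hsum := sum_BSL (fun g : Matrix.SpecialLinearGroup (Fin 2) F =>
    α ((g : Matrix (Fin 2) (Fin 2) F) 0 0) *
      (Cfsg.indFun (BSL F) (alphaB (1 : MulChar F ℂ)) g - 2) * conj (cuspM α g))
  have hsum' : ∑ b : BSL F, alphaB α b *
      (Cfsg.indFun (BSL F) (alphaB (1 : MulChar F ℂ))
        (b : Matrix.SpecialLinearGroup (Fin 2) F) - 2) *
      conj (cuspM α (b : Matrix.SpecialLinearGroup (Fin 2) F)) =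
      ∑ a : Fˣ, ∑ t : F, α ((bSL a t : Matrix (Fin 2) (Fin 2) F) 0 0) *
      (Cfsg.indFun (BSL F) (alphaB (1 : MulChar F ℂ)) (bSL a t) - 2) *
        conj (cuspM α (bSL a t)) := hsum
  rw [hsum']
  obtain ⟨q, hq⟩ : ∃ q : ℂ, q = (Fintype.card F : ℂ) := ⟨_, rfl⟩
  have hterm : ∀ (a : Fˣ) (t : F), α ((bSL a t : Matrix (Fin 2) (Fin 2) F) 0 0) *
      (Cfsg.indFun (BSL F) (alphaB (1 : MulChar F ℂ)) (bSL a t) - 2) *
        conj (cuspM α (bSL a t)) =
      if a = a⁻¹ then (if t = 0 then (q - 1) ^ 2 * (q + 1) else 1) else 0 := by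
    intro a t
    have hα := alpha_mul_conj α a
    rw [indFun_one_sub_two_bSL, cuspM_bSL, bSL_00, ← hq]
    by_cases ha : a = a⁻¹
    · rw [if_pos ha, if_pos ha, if_pos ha]
      by_cases ht : t = 0
      · rw [if_pos ht, if_pos ht, if_pos ht, map_mul, map_mul, map_sub, map_add, map_one, hq,
          Complex.conj_natCast]
        linear_combination ((Fintype.card F : ℂ) - 1) ^ 2 * ((Fintype.card F : ℂ) + 1) * hα
      · rw [if_neg ht, if_neg ht, if_neg ht, map_neg]
        linear_combination hα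
    · rw [if_neg ha, if_neg ha, if_neg ha, map_zero, mul_zero]
  simp only [hterm]
  have hinner : ∀ a : Fˣ, ∑ t : F, (if a = a⁻¹ then (if t = 0 then (q - 1) ^ 2 * (q + 1) else 1)
      else 0) = if a = a⁻¹ then ((q - 1) ^ 2 * (q + 1) + (q - 1)) else 0 := by
    intro a
    by_cases ha : a = a⁻¹
    · simp only [if_pos ha]
      rw [sum_ite_zero, hq]
      ring
    · simp only [if_neg ha, Finset.sum_const_zero]
  simp only [hinner]
  rw [sum_units_self_inv hodd (fun _ => (q - 1) ^ 2 * (q + 1) + (q - 1)), card_BSL]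
  have hq2 : 2 ≤ Fintype.card F := Fintype.one_lt_card
  have c1 : ((Fintype.card F - 1 : ℕ) : ℂ) = q - 1 := by
    rw [Nat.cast_sub (by omega), hq]
    simp
  have hq0 : q ≠ 0 := by
    rw [hq]
    exact_mod_cast Fintype.card_ne_zero
  have hq1 : q - 1 ≠ 0 := by
    rw [← c1]
    have : Fintype.card F - 1 ≠ 0 := by omega
    exact_mod_cast this
  rw [Nat.cast_mul, c1, ← hq]
  field_simp
  ring

/-- `cuspM` is orthogonal to the trivial character. -/
theorem classInner_cuspM_one (α : MulChar F ℂ) :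
    Cfsg.classInner (cuspM α) (fun _ => (1 : ℂ)) = 0 := by
  rw [cuspM_eq_indFun α]
  rw [frobenius_reciprocity (BSL F) _ (χ := fun _ => (1 : ℂ)) (fun g h => rfl)]
  unfold Cfsg.classInner
  have hsum := sum_BSL (fun g : Matrix.SpecialLinearGroup (Fin 2) F =>
    α ((g : Matrix (Fin 2) (Fin 2) F) 0 0) *
      (Cfsg.indFun (BSL F) (alphaB (1 : MulChar F ℂ)) g - 2) * conj (1 : ℂ))
  have hsum' : ∑ b : BSL F, alphaB α b *
      (Cfsg.indFun (BSL F) (alphaB (1 : MulChar F ℂ))
        (b : Matrix.SpecialLinearGroup (Fin 2) F) - 2) * conj (1 : ℂ) =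
      ∑ a : Fˣ, ∑ t : F, α ((bSL a t : Matrix (Fin 2) (Fin 2) F) 0 0) *
      (Cfsg.indFun (BSL F) (alphaB (1 : MulChar F ℂ)) (bSL a t) - 2) * conj (1 : ℂ) := hsum
  rw [hsum']
  obtain ⟨q, hq⟩ : ∃ q : ℂ, q = (Fintype.card F : ℂ) := ⟨_, rfl⟩
  have hterm : ∀ (a : Fˣ) (t : F), α ((bSL a t : Matrix (Fin 2) (Fin 2) F) 0 0) *
      (Cfsg.indFun (BSL F) (alphaB (1 : MulChar F ℂ)) (bSL a t) - 2) * conj (1 : ℂ) =
      if a = a⁻¹ then (if t = 0 then (q - 1) * α (a : F) else - α (a : F)) else 0 := by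
    intro a t
    rw [indFun_one_sub_two_bSL, bSL_00, ← hq, map_one, mul_one]
    by_cases ha : a = a⁻¹
    · rw [if_pos ha, if_pos ha]
      by_cases ht : t = 0
      · rw [if_pos ht, if_pos ht]
        ring
      · rw [if_neg ht, if_neg ht]
        ring
    · rw [if_neg ha, if_neg ha, mul_zero]
  simp only [hterm]
  have hinner : ∀ a : Fˣ, ∑ t : F, (if a = a⁻¹ then (if t = 0 then (q - 1) * α (a : F)
      else - α (a : F)) else 0) = 0 := by
    intro a
    by_cases ha : a = a⁻¹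
    · simp only [if_pos ha]
      rw [sum_ite_zero, hq]
      ring
    · simp only [if_neg ha, Finset.sum_const_zero]
  simp only [hinner, Finset.sum_const_zero, mul_zero]

end CuspM

section HomFun

/-- a homomorphism to `ℂˣ` as a complex function -/
noncomputable def homFun {H : Type*} [Group H] (θ : H →* ℂˣ) : H → ℂ :=
  fun c => ((θ c : ℂˣ) : ℂ)

theorem homFun_apply {H : Type*} [Group H] (θ : H →* ℂˣ) (c : H) :
    homFun θ c = ((θ c : ℂˣ) : ℂ) := rfl

theorem isCharacter_homFun {H : Type*} [Group H] (θ : H →* ℂˣ) :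
    Cfsg.IsCharacter H (homFun θ) :=
  Cfsg.Agent.Lib.helper19.isCharacter_of_hom θ

theorem sum_hom_coe {H : Type*} [Group H] [Fintype H] (φ : H →* ℂˣ) [Decidable (φ = 1)] :
    ∑ c : H, ((φ c : ℂˣ) : ℂ) = if φ = 1 then (Fintype.card H : ℂ) else 0 := by
  split_ifs with h
  · rw [h]
    simp
  · have hex : ∃ a, φ a ≠ 1 := by
      by_contra hcon
      push Not at hcon
      exact h (MonoidHom.ext hcon)
    obtain ⟨a, ha⟩ := hex
    exact sum_hom_eq_zero φ ha

theorem conj_hom_eq_inv {H : Type*} [Group H] [Finite H] (θ : H →* ℂˣ) (c : H) :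
    conj ((θ c : ℂˣ) : ℂ) = (((θ c)⁻¹ : ℂˣ) : ℂ) := by
  rw [Units.val_inv_eq_inv_val]
  exact eq_inv_of_mul_eq_one_right (hom_mul_conj_eq_one θ c)

end HomFun

section CuspT

variable {F : Type*} [Field F] [Fintype F] [DecidableEq F]
variable [Fintype (Matrix.SpecialLinearGroup (Fin 2) F)] [Fintype (BSL F)]
variable {t w : Matrix.SpecialLinearGroup (Fin 2) F}

theorem cuspM_one (α : MulChar F ℂ) :
    cuspM α 1 = ((Fintype.card F : ℂ) - 1) * ((Fintype.card F : ℂ) + 1) := by
  rw [cuspM_central α 1 (by simp) (by simp) (by simp)]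
  simp

theorem cuspM_negOne (α : MulChar F ℂ) :
    cuspM α (-1) = ((Fintype.card F : ℂ) - 1) * ((Fintype.card F : ℂ) + 1) * α (-1) := by
  rw [cuspM_central α (-1) (by simp) (by simp) (by simp)]
  simp

omit [DecidableEq F] [Fintype (BSL F)] in
/-- `cuspM` vanishes at the noncentral elements of the nonsplit torus. -/
theorem NonsplitData.cuspM_of_mem (hd : NonsplitData t w) (hodd : Odd (Fintype.card F))
    (α : MulChar F ℂ) {c : Matrix.SpecialLinearGroup (Fin 2) F} (hc : c ∈ Subgroup.zpowers t)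
    (hc1 : c ≠ 1) (hc2 : c ≠ -1) : cuspM α c = 0 := by
  unfold cuspM
  rw [hd.indFun_BSL_of_mem hodd (alphaB α) hc hc1 hc2, mul_zero]

theorem NonsplitData.classInner_ind_cuspM (hd : NonsplitData t w) (hodd : Odd (Fintype.card F))
    (α : MulChar F ℂ) (θ : Subgroup.zpowers t →* ℂˣ)
    (hσ : α (-1) = ((θ ⟨-1, hd.negOne_mem⟩ : ℂˣ) : ℂ)) :
    Cfsg.classInner (Cfsg.indFun (Subgroup.zpowers t) (homFun θ)) (cuspM α) =
      2 * ((Fintype.card F : ℂ) - 1) := by
  classical
  have : Fintype (Subgroup.zpowers t) := Fintype.ofFinite _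
  rw [frobenius_reciprocity (Subgroup.zpowers t) _ (isClassFunction_cuspM α)]
  unfold Cfsg.classInner
  have hne : (1 : Subgroup.zpowers t) ≠ ⟨-1, hd.negOne_mem⟩ := by
    intro h
    exact negOne_ne_one_sl2 hodd (congrArg Subtype.val h).symm
  rw [Fintype.sum_eq_add (1 : Subgroup.zpowers t) ⟨-1, hd.negOne_mem⟩ hne]
  · have h1 : homFun θ 1 = 1 := by simp [homFun]
    have h2 := hom_mul_conj_eq_one θ ⟨-1, hd.negOne_mem⟩
    have h0 : ((Fintype.card F + 1 : ℕ) : ℂ) ≠ 0 := by
      exact_mod_cast Nat.succ_ne_zero (Fintype.card F)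
    simp only [Subgroup.coe_one, cuspM_one, cuspM_negOne, hσ, hd.card_T, h1, homFun_apply,
      map_mul, map_sub, map_add, map_one, Complex.conj_natCast]
    push_cast at h0 ⊢
    field_simp
    linear_combination ((Fintype.card F : ℂ) - 1) * h2
  · intro c hc
    have hc1 : (c : Matrix.SpecialLinearGroup (Fin 2) F) ≠ 1 := fun h => hc.1 (Subtype.ext h)
    have hc2 : (c : Matrix.SpecialLinearGroup (Fin 2) F) ≠ -1 := fun h => hc.2 (Subtype.ext h)
    beta_reduce
    rw [hd.cuspM_of_mem hodd α c.2 hc1 hc2, map_zero, mul_zero]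

theorem NonsplitData.classInner_cuspM_ind (hd : NonsplitData t w) (hodd : Odd (Fintype.card F))
    (α : MulChar F ℂ) (θ : Subgroup.zpowers t →* ℂˣ)
    (hσ : α (-1) = ((θ ⟨-1, hd.negOne_mem⟩ : ℂˣ) : ℂ)) :
    Cfsg.classInner (cuspM α) (Cfsg.indFun (Subgroup.zpowers t) (homFun θ)) =
      2 * ((Fintype.card F : ℂ) - 1) := by
  rw [← classInner_conj_symm, hd.classInner_ind_cuspM hodd α θ hσ, map_mul, map_sub, map_one,
    Complex.conj_natCast, Complex.conj_ofNat]

omit [Fintype (BSL F)] in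
/-- Inner product of two characters induced from the nonsplit torus. -/
theorem NonsplitData.classInner_ind_ind (hd : NonsplitData t w) (hodd : Odd (Fintype.card F))
    (θ θ' : Subgroup.zpowers t →* ℂˣ) [Decidable (θ = θ')] [Decidable (θ = θ'⁻¹)]
    (hσ : θ ⟨-1, hd.negOne_mem⟩ = θ' ⟨-1, hd.negOne_mem⟩) :
    Cfsg.classInner (Cfsg.indFun (Subgroup.zpowers t) (homFun θ))
      (Cfsg.indFun (Subgroup.zpowers t) (homFun θ')) =
      2 * ((Fintype.card F : ℂ) - 2) + ((if θ = θ' then 1 else 0) + (if θ = θ'⁻¹ then 1 else 0)) := by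
  classical
  have : Fintype (Subgroup.zpowers t) := Fintype.ofFinite _
  rw [frobenius_reciprocity (Subgroup.zpowers t) _ (isClassFunction_indFun _ _)]
  unfold Cfsg.classInner
  obtain ⟨q, hq⟩ : ∃ q : ℂ, q = (Fintype.card F : ℂ) := ⟨_, rfl⟩
  have hne : (1 : Subgroup.zpowers t) ≠ ⟨-1, hd.negOne_mem⟩ := by
    intro h
    exact negOne_ne_one_sl2 hodd (congrArg Subtype.val h).symm
  have hsq : θ ⟨-1, hd.negOne_mem⟩ * θ ⟨-1, hd.negOne_mem⟩ = 1 := by
    rw [← map_mul]
    have : (⟨-1, hd.negOne_mem⟩ : Subgroup.zpowers t) * ⟨-1, hd.negOne_mem⟩ = 1 := by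
      apply Subtype.ext
      simp
    rw [this, map_one]
  have hqc : conj q = q := by rw [hq, Complex.conj_natCast]
  have hpt : ∀ c : Subgroup.zpowers t, homFun θ c *
      conj (Cfsg.indFun (Subgroup.zpowers t) (homFun θ') (c : Matrix.SpecialLinearGroup (Fin 2) F)) =
      ((((θ * θ'⁻¹) c : ℂˣ) : ℂ) + (((θ * θ') c : ℂˣ) : ℂ)) +
        ((if c = 1 then (q - 1) * q - 2 else 0) +
          (if c = ⟨-1, hd.negOne_mem⟩ then (q - 1) * q - 2 else 0)) := by
    intro c
    by_cases hc1 : c = 1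
    · subst hc1
      rw [if_pos rfl, if_neg hne, add_zero, Subgroup.coe_one,
        hd.indFun_central _ (Subgroup.one_mem _) (Subgroup.one_mem _)]
      have e : (⟨1, Subgroup.one_mem _⟩ : Subgroup.zpowers t) = 1 := rfl
      simp only [e, homFun_apply, map_one, Units.val_one, mul_one, one_mul, map_mul, map_sub,
        ← hq, hqc]
      ring
    · by_cases hc2 : c = ⟨-1, hd.negOne_mem⟩
      · subst hc2
        rw [if_neg hne.symm, if_pos rfl, zero_add,
          hd.indFun_central _ negOne_mem_center hd.negOne_mem]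
        have h2 := hom_mul_conj_eq_one θ' ⟨-1, hd.negOne_mem⟩
        have h3 : ((θ' ⟨-1, hd.negOne_mem⟩ : ℂˣ) : ℂ) * ((θ' ⟨-1, hd.negOne_mem⟩ : ℂˣ) : ℂ) = 1 := by
          rw [← hσ, ← Units.val_mul, hsq, Units.val_one]
        have h4 : (((θ' ⟨-1, hd.negOne_mem⟩)⁻¹ : ℂˣ) : ℂ) = ((θ' ⟨-1, hd.negOne_mem⟩ : ℂˣ) : ℂ) := by
          rw [Units.val_inv_eq_inv_val]
          exact (eq_inv_of_mul_eq_one_right h3).symm
        simp only [homFun_apply, map_mul, map_sub, map_one, ← hq, hqc,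
          MonoidHom.mul_apply, MonoidHom.inv_apply, Units.val_mul, hσ, h4]
        linear_combination ((q - 1) * q) * h2 - 2 * h3
      · have hc1' : (c : Matrix.SpecialLinearGroup (Fin 2) F) ≠ 1 := fun h => hc1 (Subtype.ext h)
        have hc2' : (c : Matrix.SpecialLinearGroup (Fin 2) F) ≠ -1 := fun h => hc2 (Subtype.ext h)
        rw [if_neg hc1, if_neg hc2, add_zero, add_zero,
          hd.indFun_noncentral _ c.2 hc1' hc2', extendByZero_apply_mem _ _ c.2,
          extendByZero_apply_mem _ _ (Subgroup.inv_mem _ c.2)]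
        have e1 : (⟨(c : Matrix.SpecialLinearGroup (Fin 2) F), c.2⟩ : Subgroup.zpowers t) = c := rfl
        have e2 : (⟨(c : Matrix.SpecialLinearGroup (Fin 2) F)⁻¹, Subgroup.inv_mem _ c.2⟩ :
            Subgroup.zpowers t) = c⁻¹ := rfl
        rw [e1, e2, homFun_apply, homFun_apply, homFun_apply, map_add, conj_hom_eq_inv,
          conj_hom_eq_inv, map_inv, inv_inv, MonoidHom.mul_apply, MonoidHom.mul_apply,
          MonoidHom.inv_apply, Units.val_mul, Units.val_mul]
        ring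
  simp only [hpt]
  rw [Finset.sum_add_distrib, Finset.sum_add_distrib, Finset.sum_add_distrib,
    Finset.sum_ite_eq', Finset.sum_ite_eq', if_pos (Finset.mem_univ _), if_pos (Finset.mem_univ _),
    sum_hom_coe, sum_hom_coe, ← Nat.card_eq_fintype_card, hd.card_T]
  have e1 : (θ * θ'⁻¹ = 1) ↔ θ = θ' := by
    constructor
    · intro h
      ext c
      have h' := congrArg (fun φ : Subgroup.zpowers t →* ℂˣ => φ c) h
      simp only [MonoidHom.mul_apply, MonoidHom.inv_apply, MonoidHom.one_apply] at h'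
      rw [mul_inv_eq_one.1 h']
    · intro h
      ext c
      simp [h]
  have e2 : (θ * θ' = 1) ↔ θ = θ'⁻¹ := by
    constructor
    · intro h
      ext c
      have h' := congrArg (fun φ : Subgroup.zpowers t →* ℂˣ => φ c) h
      simp only [MonoidHom.mul_apply, MonoidHom.one_apply] at h'
      rw [MonoidHom.inv_apply, mul_eq_one_iff_eq_inv.1 h']
    · intro h
      ext c
      simp [h]
  have h0 : ((Fintype.card F + 1 : ℕ) : ℂ) ≠ 0 := by
    exact_mod_cast Nat.succ_ne_zero (Fintype.card F)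
  simp only [e1, e2]
  push_cast at h0 ⊢
  rw [← hq] at h0 ⊢
  by_cases h1 : θ = θ' <;> by_cases h2 : θ = θ'⁻¹
  · simp only [if_pos h1, if_pos h2]
    field_simp
    ring
  · simp only [if_pos h1, if_neg h2]
    field_simp
    ring
  · simp only [if_neg h1, if_pos h2]
    field_simp
    ring
  · simp only [if_neg h1, if_neg h2]
    field_simp
    ring

/-- The cuspidal generalized character attached to a character `θ` of the nonsplit torus
(and a multiplicative character `α` with the same value at `-1`). -/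
noncomputable def cuspChar (α : MulChar F ℂ) (θ : Subgroup.zpowers t →* ℂˣ) :
    Matrix.SpecialLinearGroup (Fin 2) F → ℂ :=
  cuspM α - Cfsg.indFun (Subgroup.zpowers t) (homFun θ)

omit [Fintype F] [DecidableEq F] [Fintype (BSL F)] in
theorem cuspChar_apply (α : MulChar F ℂ) (θ : Subgroup.zpowers t →* ℂˣ)
    (g : Matrix.SpecialLinearGroup (Fin 2) F) :
    cuspChar α θ g = cuspM α g - Cfsg.indFun (Subgroup.zpowers t) (homFun θ) g := rfl

omit [Fintype F] [DecidableEq F] [Fintype (BSL F)] in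
theorem isGeneralizedCharacter_cuspChar (α : MulChar F ℂ) (θ : Subgroup.zpowers t →* ℂˣ) :
    Cfsg.IsGeneralizedCharacter (Matrix.SpecialLinearGroup (Fin 2) F) (cuspChar α θ) :=
  isGeneralizedCharacter_sub (isGeneralizedCharacter_cuspM α)
    (isGeneralizedCharacter_of_isCharacter (isCharacter_indFun _ (isCharacter_homFun θ)))

/-- Inner products of the cuspidal generalized characters. -/
theorem NonsplitData.classInner_cuspChar (hd : NonsplitData t w) (hodd : Odd (Fintype.card F))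
    (α : MulChar F ℂ) (θ θ' : Subgroup.zpowers t →* ℂˣ) [Decidable (θ = θ')]
    [Decidable (θ = θ'⁻¹)]
    (hσ : α (-1) = ((θ ⟨-1, hd.negOne_mem⟩ : ℂˣ) : ℂ))
    (hσ' : α (-1) = ((θ' ⟨-1, hd.negOne_mem⟩ : ℂˣ) : ℂ)) :
    Cfsg.classInner (cuspChar α θ) (cuspChar α θ') =
      (if θ = θ' then 1 else 0) + (if θ = θ'⁻¹ then 1 else 0) := by
  unfold cuspChar
  rw [classInner_sub_left, classInner_sub_right, classInner_sub_right,
    classInner_cuspM_self hodd, hd.classInner_cuspM_ind hodd α θ' hσ',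
    hd.classInner_ind_cuspM hodd α θ hσ,
    hd.classInner_ind_ind hodd θ θ' (Units.ext (hσ.symm.trans hσ'))]
  ring

theorem NonsplitData.cuspChar_one (hd : NonsplitData t w) (α : MulChar F ℂ)
    (θ : Subgroup.zpowers t →* ℂˣ) : cuspChar α θ 1 = (Fintype.card F : ℂ) - 1 := by
  rw [cuspChar_apply, cuspM_one, hd.indFun_central _ (Subgroup.one_mem _) (Subgroup.one_mem _)]
  have e : (⟨1, Subgroup.one_mem _⟩ : Subgroup.zpowers t) = 1 := rfl
  rw [e, homFun_apply, map_one, Units.val_one]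
  ring

theorem NonsplitData.cuspChar_negOne (hd : NonsplitData t w) (α : MulChar F ℂ)
    (θ : Subgroup.zpowers t →* ℂˣ) (hσ : α (-1) = ((θ ⟨-1, hd.negOne_mem⟩ : ℂˣ) : ℂ)) :
    cuspChar α θ (-1) = ((Fintype.card F : ℂ) - 1) * ((θ ⟨-1, hd.negOne_mem⟩ : ℂˣ) : ℂ) := by
  rw [cuspChar_apply, cuspM_negOne, hd.indFun_central _ negOne_mem_center hd.negOne_mem, hσ,
    homFun_apply]
  ring

omit [DecidableEq F] [Fintype (BSL F)] in
theorem NonsplitData.cuspChar_of_mem (hd : NonsplitData t w) (hodd : Odd (Fintype.card F))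
    (α : MulChar F ℂ) (θ : Subgroup.zpowers t →* ℂˣ) (c : Subgroup.zpowers t)
    (hc1 : (c : Matrix.SpecialLinearGroup (Fin 2) F) ≠ 1)
    (hc2 : (c : Matrix.SpecialLinearGroup (Fin 2) F) ≠ -1) :
    cuspChar α θ (c : Matrix.SpecialLinearGroup (Fin 2) F) =
      -(((θ c : ℂˣ) : ℂ) + (((θ c)⁻¹ : ℂˣ) : ℂ)) := by
  rw [cuspChar_apply, hd.cuspM_of_mem hodd α c.2 hc1 hc2, hd.indFun_noncentral _ c.2 hc1 hc2,
    extendByZero_apply_mem _ _ c.2, extendByZero_apply_mem _ _ (Subgroup.inv_mem _ c.2)]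
  have e2 : (⟨(c : Matrix.SpecialLinearGroup (Fin 2) F)⁻¹, Subgroup.inv_mem _ c.2⟩ :
      Subgroup.zpowers t) = c⁻¹ := rfl
  rw [e2, homFun_apply, homFun_apply, map_inv]
  ring

theorem NonsplitData.cuspChar_split (hd : NonsplitData t w) (hodd : Odd (Fintype.card F))
    (α : MulChar F ℂ) (θ : Subgroup.zpowers t →* ℂˣ) (g : Matrix.SpecialLinearGroup (Fin 2) F)
    (h10 : (g : Matrix (Fin 2) (Fin 2) F) 1 0 = 0)
    (hne : (g : Matrix (Fin 2) (Fin 2) F) 0 0 ≠ (g : Matrix (Fin 2) (Fin 2) F) 1 1) :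
    cuspChar α θ g = 0 := by
  have hg1 : g ≠ 1 := by
    rintro rfl
    apply hne
    simp
  have hg2 : g ≠ -1 := by
    rintro rfl
    apply hne
    simp
  rw [cuspChar_apply, cuspM_split α g h10 hne,
    hd.indFun_of_mem_BSL hodd _ ((mem_BSL_iff g).2 h10) hg1 hg2, sub_zero]

theorem NonsplitData.cuspChar_unipotent (hd : NonsplitData t w) (hodd : Odd (Fintype.card F))
    (α : MulChar F ℂ) (θ : Subgroup.zpowers t →* ℂˣ) (g : Matrix.SpecialLinearGroup (Fin 2) F)
    (h10 : (g : Matrix (Fin 2) (Fin 2) F) 1 0 = 0)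
    (h00 : (g : Matrix (Fin 2) (Fin 2) F) 0 0 = 1)
    (h11 : (g : Matrix (Fin 2) (Fin 2) F) 1 1 = 1)
    (h01 : (g : Matrix (Fin 2) (Fin 2) F) 0 1 ≠ 0) :
    cuspChar α θ g = -1 := by
  have hg1 : g ≠ 1 := by
    rintro rfl
    apply h01
    simp
  have hg2 : g ≠ -1 := by
    rintro rfl
    apply h01
    simp
  rw [cuspChar_apply, cuspM_unipotent α g h10 (h00.trans h11.symm) h01,
    hd.indFun_of_mem_BSL hodd _ ((mem_BSL_iff g).2 h10) hg1 hg2, sub_zero, h00, map_one]

/-- The cuspidal generalized character is an irreducible character when `θ² ≠ 1`. -/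
theorem NonsplitData.isIrrCharacter_cuspChar (hd : NonsplitData t w)
    (hodd : Odd (Fintype.card F)) (α : MulChar F ℂ) (θ : Subgroup.zpowers t →* ℂˣ)
    (hσ : α (-1) = ((θ ⟨-1, hd.negOne_mem⟩ : ℂˣ) : ℂ)) (hθ : θ ≠ θ⁻¹) :
    Cfsg.IsIrrCharacter (Matrix.SpecialLinearGroup (Fin 2) F) (cuspChar α θ) := by
  classical
  apply isIrrCharacter_of_generalized_of_norm_one_of_pos (isGeneralizedCharacter_cuspChar α θ)
  · rw [hd.classInner_cuspChar hodd α θ θ hσ hσ, if_pos rfl, if_neg hθ, add_zero]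
  · rw [hd.cuspChar_one]
    have hq2 : 1 < Fintype.card F := Fintype.one_lt_card
    have : (((Fintype.card F : ℂ) - 1).re) = (Fintype.card F : ℝ) - 1 := by simp
    rw [this]
    have : (1 : ℝ) < (Fintype.card F : ℝ) := by exact_mod_cast hq2
    linarith

omit [DecidableEq F] [Fintype (Matrix.SpecialLinearGroup (Fin 2) F)] [Fintype (BSL F)] in
/-- A multiplicative character with prescribed value `± 1` at `-1`. -/
theorem exists_mulChar_negOne (hodd : Odd (Fintype.card F)) (σ : ℂˣ) (hσ : σ * σ = 1) :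
    ∃ α : MulChar F ℂ, α (-1) = (σ : ℂ) := by
  have h1 : ((σ : ℂ) - 1) * ((σ : ℂ) + 1) = 0 := by
    have := congrArg (fun u : ℂˣ => (u : ℂ)) hσ
    simp only [Units.val_mul, Units.val_one] at this
    linear_combination this
  have hu : IsUnit (-1 : F) := isUnit_one.neg
  rcases mul_eq_zero.1 h1 with h | h
  · refine ⟨1, ?_⟩
    rw [MulChar.one_apply hu]
    linear_combination -h
  · have hne : (-1 : F) ≠ 1 := by
      intro h'
      apply two_ne_zero_of_odd hodd
      linear_combination -h'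
    have : NeZero (Monoid.exponent Fˣ) := ⟨Monoid.exponent_ne_zero_of_finite⟩
    obtain ⟨χ, hχ⟩ := MulChar.exists_apply_ne_one_of_hasEnoughRootsOfUnity F ℂ hne
    refine ⟨χ, ?_⟩
    have h2 : χ (-1) * χ (-1) = 1 := by
      rw [← map_mul]
      simp
    have h3 : (χ (-1) - 1) * (χ (-1) + 1) = 0 := by linear_combination h2
    rcases mul_eq_zero.1 h3 with h4 | h4
    · exact absurd (sub_eq_zero.1 h4) hχ
    · linear_combination h4 - h

end CuspT

end Cfsg.Agent.Lib.helper43
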