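-- helper43: every irreducible character of degree q - 1 of SL₂(q), q odd, whose sum over the
-- unipotent subgroup vanishes, is one of the cuspidal characters attached to the characters
-- of the nonsplit torus (counting argument).
import Mathlib
import Cfsg.Prelude.Def_Characters
import Cfsg.Agent.Lib.helper43.SL2Cusp

set_option autoImplicit false

namespace Cfsg.Agent.Lib.helper43

open scoped ComplexConjugate
open Cfsg.Agent.Lib.helper4
open Matrix

section Count

variable {F : Type*} [Field F] [Fintype F]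
variable {t w : Matrix.SpecialLinearGroup (Fin 2) F}

open scoped IsMulCommutative in
omit [Fintype F] in
theorem finite_hom_zpowers [Finite F] (t : Matrix.SpecialLinearGroup (Fin 2) F) :
    Finite (Subgroup.zpowers t →* ℂˣ) := by
  have : NeZero (Monoid.exponent (Subgroup.zpowers t)) := ⟨Monoid.exponent_ne_zero_of_finite⟩
  obtain ⟨e⟩ := CommGroup.monoidHom_mulEquiv_of_hasEnoughRootsOfUnity (Subgroup.zpowers t) ℂ
  exact Finite.of_equiv _ e.symm.toEquiv

open scoped IsMulCommutative in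
theorem NonsplitData.card_hom (hd : NonsplitData t w) [Fintype (Subgroup.zpowers t →* ℂˣ)] :
    Fintype.card (Subgroup.zpowers t →* ℂˣ) = Fintype.card F + 1 := by
  have : NeZero (Monoid.exponent (Subgroup.zpowers t)) := ⟨Monoid.exponent_ne_zero_of_finite⟩
  rw [← Nat.card_eq_fintype_card,
    CommGroup.card_monoidHom_of_hasEnoughRootsOfUnity (Subgroup.zpowers t) ℂ, hd.card_T]

open scoped IsMulCommutative in
/-- At most two characters of the torus are equal to their inverse. -/
theorem NonsplitData.card_self_inv_le (hd : NonsplitData t w)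
    [Fintype (Subgroup.zpowers t →* ℂˣ)] [DecidableEq (Subgroup.zpowers t →* ℂˣ)] :
    (Finset.univ.filter (fun θ : Subgroup.zpowers t →* ℂˣ => θ = θ⁻¹)).card ≤ 2 := by
  classical
  have : NeZero (Monoid.exponent (Subgroup.zpowers t)) := ⟨Monoid.exponent_ne_zero_of_finite⟩
  obtain ⟨e⟩ := CommGroup.monoidHom_mulEquiv_of_hasEnoughRootsOfUnity (Subgroup.zpowers t) ℂ
  have h1 : (Finset.univ.filter (fun θ : Subgroup.zpowers t →* ℂˣ => θ = θ⁻¹)).card ≤
      ({1, ⟨-1, hd.negOne_mem⟩} : Finset (Subgroup.zpowers t)).card := by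
    apply Finset.card_le_card_of_injOn (fun θ => e θ)
    · intro θ hθ
      have hθ' : θ = θ⁻¹ := (Finset.mem_filter.1 hθ).2
      have h2 : θ * θ = 1 := by
        nth_rewrite 2 [hθ']
        exact mul_inv_cancel θ
      have h3 : e θ * e θ = 1 := by rw [← map_mul, h2, map_one]
      have h4 : (e θ : Matrix.SpecialLinearGroup (Fin 2) F) *
          (e θ : Matrix.SpecialLinearGroup (Fin 2) F) = 1 := by
        have := congrArg Subtype.val h3
        simpa using this
      have h5 : e θ = 1 ∨ e θ = ⟨-1, hd.negOne_mem⟩ := by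
        rcases hd.invol _ h4 with h | h
        · exact Or.inl (Subtype.ext h)
        · exact Or.inr (Subtype.ext h)
      simpa using h5
    · intro a _ b _ hab
      exact e.injective hab
  exact h1.trans Finset.card_le_two

section Surj

variable [DecidableEq F] [Fintype (Matrix.SpecialLinearGroup (Fin 2) F)] [Fintype (BSL F)]

/-- The sum of a cuspidal character over the upper unitriangular subgroup vanishes. -/
theorem NonsplitData.sum_cuspChar_uSL (hd : NonsplitData t w) (hodd : Odd (Fintype.card F))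
    (α : MulChar F ℂ) (θ : Subgroup.zpowers t →* ℂˣ) :
    ∑ b : F, cuspChar α θ (uSL b) = 0 := by
  have hpt : ∀ b : F, cuspChar α θ (uSL b) = if b = 0 then (Fintype.card F : ℂ) - 1 else -1 := by
    intro b
    by_cases hb : b = 0
    · rw [if_pos hb, hb, uSL_zero, hd.cuspChar_one]
    · rw [if_neg hb]
      exact hd.cuspChar_unipotent hodd α θ (uSL b) (by simp [uSL_val]) (by simp [uSL_val])
        (by simp [uSL_val]) (by simpa [uSL_val] using hb)
  simp only [hpt]
  rw [sum_ite_zero]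
  ring

omit [DecidableEq F] [Fintype (BSL F)] in
/-- **Exhaustion of the cuspidal characters**: every irreducible character of degree `q - 1`
of `SL₂(q)`, `q` odd, whose sum over the upper unitriangular subgroup vanishes, is the cuspidal
character attached to a character `θ` of the nonsplit torus with `θ² ≠ 1`. -/
theorem NonsplitData.cuspidal_surj (hd : NonsplitData t w) (hodd : Odd (Fintype.card F))
    (χ : Matrix.SpecialLinearGroup (Fin 2) F → ℂ)
    (hχ : Cfsg.IsIrrCharacter (Matrix.SpecialLinearGroup (Fin 2) F) χ)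
    (hχ1 : χ 1 = (Fintype.card F : ℂ) - 1) (hU : ∑ b : F, χ (uSL b) = 0) :
    ∃ (α : MulChar F ℂ) (θ : Subgroup.zpowers t →* ℂˣ), θ ≠ θ⁻¹ ∧
      α (-1) = ((θ ⟨-1, hd.negOne_mem⟩ : ℂˣ) : ℂ) ∧ χ = cuspChar α θ := by
  classical
  have : Fintype (Cfsg.IrrCharacter (Matrix.SpecialLinearGroup (Fin 2) F)) := Fintype.ofFinite _
  have hfin : Finite (Subgroup.zpowers t →* ℂˣ) := finite_hom_zpowers t
  have : Fintype (Subgroup.zpowers t →* ℂˣ) := Fintype.ofFinite _
  obtain ⟨k, hk⟩ := hodd
  have hodd : Odd (Fintype.card F) := ⟨k, hk⟩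
  have hk1 : 1 ≤ k := by
    have := Fintype.one_lt_card (α := F)
    omega
  have hqC : (Fintype.card F : ℂ) = 2 * (k : ℂ) + 1 := by
    rw [hk]; push_cast; ring
  have hq0 : (Fintype.card F : ℂ) ≠ 0 := by exact_mod_cast Fintype.card_ne_zero
  have hF : ringChar F ≠ 2 := ringChar_ne_two_of_odd hodd
  obtain ⟨ψ, hψ1⟩ := AddChar.exists_apply_ne_zero.2 (one_ne_zero : (1 : F) ≠ 0)
  have hψ : ψ ≠ 1 := by
    rintro rfl
    exact hψ1 (by simp)
  obtain ⟨ε, hε⟩ := FiniteField.exists_nonsquare hF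
  obtain ⟨m, rp, rm, hdeg, -, -, hsumU, hcls, -, -, -, -, hcount, -⟩ :=
    sl2_odd_classification k hk ψ hψ ε hε
  -- membership criterion
  have hmem : ∀ ζ : Cfsg.IrrCharacter (Matrix.SpecialLinearGroup (Fin 2) F),
      (ζ : Matrix.SpecialLinearGroup (Fin 2) F → ℂ) 1 = (Fintype.card F : ℂ) - 1 →
      ∑ b : F, (ζ : Matrix.SpecialLinearGroup (Fin 2) F → ℂ) (uSL b) = 0 →
      rp ζ = 1 ∧ rm ζ = 1 ∧ m ζ = 0 := by
    intro ζ h1 h2
    have hm : m ζ = 0 := by
      have h3 := hsumU ζ
      rw [h2] at h3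
      rcases mul_eq_zero.1 h3.symm with h4 | h4
      · exact absurd h4 hq0
      · exact_mod_cast h4
    have h4 := hdeg ζ
    rw [h1, hm, hqC] at h4
    have h5 : k * (rp ζ + rm ζ) = 2 * k := by
      have : ((k * (rp ζ + rm ζ) : ℕ) : ℂ) = ((2 * k : ℕ) : ℂ) := by
        push_cast
        linear_combination -h4
      exact_mod_cast this
    have h6 : rp ζ + rm ζ = 2 := by
      have : k * (rp ζ + rm ζ) = k * 2 := by rw [h5]; ring
      exact Nat.eq_of_mul_eq_mul_left (by omega) this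
    rcases hcls ζ with ⟨e1, e2, -⟩ | ⟨e1, e2⟩ | ⟨e1, e2⟩ | ⟨e1, e2, -⟩
    · omega
    · omega
    · omega
    · exact ⟨e1, e2, hm⟩
  -- the choice of `α`
  obtain ⟨αm, hαm⟩ := exists_mulChar_negOne (F := F) hodd (-1) (by simp)
  have hα1 : (1 : MulChar F ℂ) (-1) = 1 := MulChar.one_apply isUnit_one.neg
  have hsq : ∀ θ : Subgroup.zpowers t →* ℂˣ,
      θ ⟨-1, hd.negOne_mem⟩ = 1 ∨ θ ⟨-1, hd.negOne_mem⟩ = -1 := by
    intro θ
    have h1 : θ ⟨-1, hd.negOne_mem⟩ * θ ⟨-1, hd.negOne_mem⟩ = 1 := by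
      rw [← map_mul]
      have : (⟨-1, hd.negOne_mem⟩ : Subgroup.zpowers t) * ⟨-1, hd.negOne_mem⟩ = 1 := by
        apply Subtype.ext
        simp
      rw [this, map_one]
    have h2 : (((θ ⟨-1, hd.negOne_mem⟩ : ℂˣ) : ℂ) - 1) * (((θ ⟨-1, hd.negOne_mem⟩ : ℂˣ) : ℂ) + 1)
        = 0 := by
      have := congrArg (fun u : ℂˣ => (u : ℂ)) h1
      simp only [Units.val_mul, Units.val_one] at this
      linear_combination this
    rcases mul_eq_zero.1 h2 with h | h
    · left
      exact Units.ext (by simpa using sub_eq_zero.1 h)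
    · right
      exact Units.ext (by
        simp only [Units.val_neg, Units.val_one]
        linear_combination h)
  obtain ⟨αsel, hαsel⟩ : ∃ αsel : ℂˣ → MulChar F ℂ, αsel 1 = 1 ∧ αsel (-1) = αm :=
    ⟨fun σ => if σ = 1 then 1 else αm, by simp, by
      have : (-1 : ℂˣ) ≠ 1 := by
        intro h
        have := congrArg (fun u : ℂˣ => (u : ℂ)) h
        norm_num at this
      simp [this]⟩
  have hαval : ∀ θ : Subgroup.zpowers t →* ℂˣ, αsel (θ ⟨-1, hd.negOne_mem⟩) (-1) =
      ((θ ⟨-1, hd.negOne_mem⟩ : ℂˣ) : ℂ) := by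
    intro θ
    rcases hsq θ with h | h
    · rw [h, hαsel.1, hα1, Units.val_one]
    · rw [h, hαsel.2, hαm]
  -- the map `θ ↦ χ_θ`
  let f : {θ : Subgroup.zpowers t →* ℂˣ // θ ≠ θ⁻¹} →
      Cfsg.IrrCharacter (Matrix.SpecialLinearGroup (Fin 2) F) := fun θ =>
    ⟨cuspChar (αsel (θ.1 ⟨-1, hd.negOne_mem⟩)) θ.1,
      hd.isIrrCharacter_cuspChar hodd _ _ (hαval θ.1) θ.2⟩
  have hfval : ∀ θ, ((f θ : Cfsg.IrrCharacter (Matrix.SpecialLinearGroup (Fin 2) F)) :
      Matrix.SpecialLinearGroup (Fin 2) F → ℂ) = cuspChar (αsel (θ.1 ⟨-1, hd.negOne_mem⟩)) θ.1 :=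
    fun θ => rfl
  have hf_mem : ∀ θ, f θ ∈ Finset.univ.filter (fun ζ => rp ζ = 1 ∧ rm ζ = 1 ∧ m ζ = 0) := by
    intro θ
    refine Finset.mem_filter.2 ⟨Finset.mem_univ _, hmem (f θ) ?_ ?_⟩
    · rw [hfval, hd.cuspChar_one]
    · rw [hfval]
      exact hd.sum_cuspChar_uSL hodd _ _
  -- fibres have at most two elements
  have hfiber : ∀ b ∈ Finset.image f Finset.univ,
      (Finset.univ.filter (fun a => f a = b)).card ≤ 2 := by
    intro b hb
    obtain ⟨θ0, -, rfl⟩ := Finset.mem_image.1 hb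
    have hθ0' : θ0.1⁻¹ ≠ (θ0.1⁻¹)⁻¹ := by
      intro h
      apply θ0.2
      ext c
      have h' := congrArg (fun φ : Subgroup.zpowers t →* ℂˣ => φ c) h
      simp only [MonoidHom.inv_apply, inv_inv] at h'
      rw [MonoidHom.inv_apply, h']
    have hsub : Finset.univ.filter (fun a => f a = f θ0) ⊆ {θ0, ⟨θ0.1⁻¹, hθ0'⟩} := by
      intro a ha
      have hfa : f a = f θ0 := (Finset.mem_filter.1 ha).2
      have hval := congrArg Subtype.val hfa
      rw [hfval, hfval] at hval
      -- the signs agree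
      have hsign : a.1 ⟨-1, hd.negOne_mem⟩ = θ0.1 ⟨-1, hd.negOne_mem⟩ := by
        have h1 := congrFun hval (-1)
        rw [hd.cuspChar_negOne _ _ (hαval a.1), hd.cuspChar_negOne _ _ (hαval θ0.1)] at h1
        have hq1 : (Fintype.card F : ℂ) - 1 ≠ 0 := by
          rw [hqC]
          have : (k : ℂ) ≠ 0 := by exact_mod_cast (by omega : k ≠ 0)
          intro h
          apply this
          linear_combination h / 2
        exact Units.ext (mul_left_cancel₀ hq1 h1)
      rw [hsign] at hval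
      have hinner := hd.classInner_cuspChar hodd (αsel (θ0.1 ⟨-1, hd.negOne_mem⟩)) a.1 θ0.1
        (by rw [← hsign]; exact hαval a.1) (hαval θ0.1)
      rw [hval, classInner_irr_self (hd.isIrrCharacter_cuspChar hodd _ _ (hαval θ0.1) θ0.2)]
        at hinner
      simp only [Finset.mem_insert, Finset.mem_singleton]
      by_cases h1 : a.1 = θ0.1
      · exact Or.inl (Subtype.ext h1)
      · by_cases h2 : a.1 = θ0.1⁻¹
        · exact Or.inr (Subtype.ext h2)
        · rw [if_neg h1, if_neg h2] at hinner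
          norm_num at hinner
    exact (Finset.card_le_card hsub).trans Finset.card_le_two
  have hcard := Finset.card_le_mul_card_image (f := f) Finset.univ 2 hfiber
  -- the number of `θ` with `θ ≠ θ⁻¹`
  have hS : Fintype.card F - 1 ≤
      (Finset.univ : Finset {θ : Subgroup.zpowers t →* ℂˣ // θ ≠ θ⁻¹}).card := by
    rw [Finset.card_univ, Fintype.card_subtype]
    have h1 := Finset.card_filter_add_card_filter_not
      (s := (Finset.univ : Finset (Subgroup.zpowers t →* ℂˣ))) (fun θ => θ = θ⁻¹)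
    rw [Finset.card_univ, hd.card_hom] at h1
    have h1' : (Finset.univ.filter (fun θ : Subgroup.zpowers t →* ℂˣ => θ = θ⁻¹)).card +
        (Finset.univ.filter (fun θ : Subgroup.zpowers t →* ℂˣ => θ ≠ θ⁻¹)).card =
        Fintype.card F + 1 := h1
    have h2 := hd.card_self_inv_le
    omega
  have himg : Finset.image f Finset.univ =
      Finset.univ.filter (fun ζ => rp ζ = 1 ∧ rm ζ = 1 ∧ m ζ = 0) := by
    apply Finset.eq_of_subset_of_card_le
    · intro ζ hζ
      obtain ⟨θ, -, rfl⟩ := Finset.mem_image.1 hζ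
      exact hf_mem θ
    · rw [hcount]
      omega
  have hχmem : (⟨χ, hχ⟩ : Cfsg.IrrCharacter (Matrix.SpecialLinearGroup (Fin 2) F)) ∈
      Finset.image f Finset.univ := by
    rw [himg]
    exact Finset.mem_filter.2 ⟨Finset.mem_univ _, hmem ⟨χ, hχ⟩ hχ1 hU⟩
  obtain ⟨θ, -, hθ⟩ := Finset.mem_image.1 hχmem
  exact ⟨αsel (θ.1 ⟨-1, hd.negOne_mem⟩), θ.1, θ.2, hαval θ.1, (congrArg Subtype.val hθ).symm⟩

end Surj

end Count

end Cfsg.Agent.Lib.helper43
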