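-- helper43: transport of the nonsplit torus to an arbitrary cyclic subgroup of order q + 1 of
-- SL₂(q), and auxiliary facts for the statements on cuspidal characters.
import Mathlib
import Cfsg.Prelude.Def_Characters
import Cfsg.Agent.Lib.helper43.SL2CuspCount

set_option autoImplicit false

namespace Cfsg.Agent.Lib.helper43

open scoped ComplexConjugate
open Cfsg.Agent.Lib.helper4
open Matrix

section Final

variable {F : Type*} [Field F] [Fintype F]
variable {t w : Matrix.SpecialLinearGroup (Fin 2) F}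

omit [Fintype F] in
theorem sl2_center_cases {z : Matrix.SpecialLinearGroup (Fin 2) F}
    (hz : z ∈ Subgroup.center (Matrix.SpecialLinearGroup (Fin 2) F)) : z = 1 ∨ z = -1 := by
  obtain ⟨c, hc, hzc⟩ := (Cfsg.Agent.Lib.helper46.mem_center_iff_smul z).1 hz
  have h1 : (c - 1) * (c + 1) = 0 := by linear_combination hc
  rcases mul_eq_zero.1 h1 with h | h
  · left
    apply Subtype.ext
    rw [hzc, sub_eq_zero.1 h]
    simp
  · right
    apply Subtype.ext
    rw [hzc, eq_neg_of_add_eq_zero_left h]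
    simp

theorem dvd_two_aux (k d : ℕ) (d1 : d ∣ 2 * k + 2) (d2 : d ∣ 2 * k * (2 * k + 1)) : d ∣ 2 := by
  have d4 : d ∣ 2 * k * (2 * k + 2) := Dvd.dvd.mul_left d1 _
  have d5 : d ∣ 2 * k * (2 * k + 1) + (2 * k + 2) := Nat.dvd_add d2 d1
  have e3 : 2 * k * (2 * k + 1) + (2 * k + 2) = 2 * k * (2 * k + 2) + 2 := by ring
  rw [e3] at d5
  exact (Nat.dvd_add_right d4).1 d5

/-- Every cyclic subgroup of order `q + 1` of `SL₂(q)`, `q` odd, is conjugate to the nonsplit
torus. -/
theorem NonsplitData.exists_conj_equiv (hd : NonsplitData t w) (hodd : Odd (Fintype.card F))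
    (C : Subgroup (Matrix.SpecialLinearGroup (Fin 2) F)) (hC : IsCyclic C)
    (hcard : Nat.card C = Fintype.card F + 1) :
    ∃ (h : Matrix.SpecialLinearGroup (Fin 2) F) (e : C ≃* Subgroup.zpowers t),
      ∀ c : C, ((e c : Subgroup.zpowers t) : Matrix.SpecialLinearGroup (Fin 2) F) =
        h * (c : Matrix.SpecialLinearGroup (Fin 2) F) * h⁻¹ := by
  classical
  obtain ⟨k, hk⟩ := hodd
  have hodd : Odd (Fintype.card F) := ⟨k, hk⟩
  have hq2 : 2 ≤ Fintype.card F := Fintype.one_lt_card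
  obtain ⟨c0, hc0⟩ := hC.exists_generator
  have hord : orderOf (c0 : Matrix.SpecialLinearGroup (Fin 2) F) = Fintype.card F + 1 := by
    rw [Subgroup.orderOf_coe, orderOf_eq_card_of_forall_mem_zpowers hc0, hcard]
  -- the generator has no eigenvector
  have hell : ∀ (a : F) (v : Fin 2 → F), v ≠ 0 →
      ((c0 : Matrix.SpecialLinearGroup (Fin 2) F) : Matrix (Fin 2) (Fin 2) F).mulVec v ≠ a • v := by
    intro a v hv h
    obtain ⟨x, hx⟩ := exists_conj_mem_BSL_of_eigenvector _ a v hv h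
    have h1 := pow_card_of_mem_BSL ((mem_BSL_iff _).2 hx)
    have hpow : (x⁻¹ * (c0 : Matrix.SpecialLinearGroup (Fin 2) F) * x) ^
        ((Fintype.card F - 1) * Fintype.card F) =
        x⁻¹ * (c0 : Matrix.SpecialLinearGroup (Fin 2) F) ^ ((Fintype.card F - 1) * Fintype.card F)
          * x := by
      have := conj_pow (a := x⁻¹) (b := (c0 : Matrix.SpecialLinearGroup (Fin 2) F))
        (i := (Fintype.card F - 1) * Fintype.card F)
      simpa using this
    rw [hpow] at h1
    have h2 : (c0 : Matrix.SpecialLinearGroup (Fin 2) F) ^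
        ((Fintype.card F - 1) * Fintype.card F) = 1 := by
      have : (c0 : Matrix.SpecialLinearGroup (Fin 2) F) ^ ((Fintype.card F - 1) * Fintype.card F)
          = x * (x⁻¹ * (c0 : Matrix.SpecialLinearGroup (Fin 2) F) ^
            ((Fintype.card F - 1) * Fintype.card F) * x) * x⁻¹ := by group
      rw [this, h1]
      group
    have d2 := orderOf_dvd_of_pow_eq_one h2
    rw [hord] at d2
    have e1 : Fintype.card F + 1 = 2 * k + 2 := by omega
    have e2 : (Fintype.card F - 1) * Fintype.card F = 2 * k * (2 * k + 1) := by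
      rw [hk]
      simp
    rw [e2] at d2
    have d3 := dvd_two_aux k (Fintype.card F + 1) (by rw [e1]) d2
    have := Nat.le_of_dvd (by norm_num) d3
    omega
  obtain ⟨h, hh⟩ := hd.ell _ hell
  have hmem : ∀ c : C, h * (c : Matrix.SpecialLinearGroup (Fin 2) F) * h⁻¹ ∈
      Subgroup.zpowers t := by
    intro c
    obtain ⟨i, hi⟩ := Subgroup.mem_zpowers_iff.1 (hc0 c)
    have h1 : (c : Matrix.SpecialLinearGroup (Fin 2) F) =
        (c0 : Matrix.SpecialLinearGroup (Fin 2) F) ^ i := by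
      rw [← hi]
      simp
    have h2 : h * (c0 : Matrix.SpecialLinearGroup (Fin 2) F) ^ i * h⁻¹ =
        (h * (c0 : Matrix.SpecialLinearGroup (Fin 2) F) * h⁻¹) ^ i := by
      have := map_zpow (MulAut.conj h) (c0 : Matrix.SpecialLinearGroup (Fin 2) F) i
      simpa [MulAut.conj_apply] using this
    rw [h1, h2]
    exact Subgroup.zpow_mem _ hh i
  let φ : C →* Subgroup.zpowers t :=
    MonoidHom.codRestrict ((MulAut.conj h).toMonoidHom.comp C.subtype) (Subgroup.zpowers t)
      (fun c => by simp [MulAut.conj_apply, hmem c])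
  have hφ : ∀ c : C, ((φ c : Subgroup.zpowers t) : Matrix.SpecialLinearGroup (Fin 2) F) =
      h * (c : Matrix.SpecialLinearGroup (Fin 2) F) * h⁻¹ := fun c => rfl
  have hinj : Function.Injective φ := by
    intro a b hab
    have h1 := congrArg Subtype.val hab
    rw [hφ, hφ] at h1
    apply Subtype.ext
    have h2 : (a : Matrix.SpecialLinearGroup (Fin 2) F) =
        h⁻¹ * (h * (a : Matrix.SpecialLinearGroup (Fin 2) F) * h⁻¹) * h := by group
    rw [h2, h1]
    group
  have hfinC : Finite C := Nat.finite_of_card_ne_zero (by rw [hcard]; omega)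
  have hbij : Function.Bijective φ :=
    hinj.bijective_of_nat_card_le (by rw [hd.card_T, hcard])
  exact ⟨h, MulEquiv.ofBijective φ hbij, fun c => hφ c⟩

/-- There is a character of the nonsplit torus different from its inverse. -/
theorem NonsplitData.exists_hom_ne_inv (hd : NonsplitData t w) :
    ∃ θ : Subgroup.zpowers t →* ℂˣ, θ ≠ θ⁻¹ := by
  classical
  have hfin : Finite (Subgroup.zpowers t →* ℂˣ) := finite_hom_zpowers t
  have : Fintype (Subgroup.zpowers t →* ℂˣ) := Fintype.ofFinite _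
  by_contra hcon
  push Not at hcon
  have h1 := hd.card_self_inv_le
  have h2 : Finset.univ.filter (fun θ : Subgroup.zpowers t →* ℂˣ => θ = θ⁻¹) = Finset.univ :=
    Finset.filter_true_of_mem (fun θ _ => hcon θ)
  rw [h2, Finset.card_univ, hd.card_hom] at h1
  have := Fintype.one_lt_card (α := F)
  omega

/-- For `q = 3`, a character `θ` of the nonsplit torus with `θ ≠ θ⁻¹` satisfies
`θ(c) + θ(c)⁻¹ = 0` at the noncentral elements. -/
theorem NonsplitData.q3_aux (hd : NonsplitData t w) (hq : Fintype.card F = 3)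
    (θ : Subgroup.zpowers t →* ℂˣ) (hθ : θ ≠ θ⁻¹) (c : Subgroup.zpowers t)
    (hc1 : (c : Matrix.SpecialLinearGroup (Fin 2) F) ≠ 1)
    (hc2 : (c : Matrix.SpecialLinearGroup (Fin 2) F) ≠ -1) :
    ((θ c : ℂˣ) : ℂ) + (((θ c)⁻¹ : ℂˣ) : ℂ) = 0 := by
  -- squares of elements of the torus are `± 1`
  have hsqT : ∀ d : Subgroup.zpowers t, d * d = 1 ∨ d * d = ⟨-1, hd.negOne_mem⟩ := by
    intro d
    have h4 : d ^ 4 = 1 := by
      have h := pow_card_eq_one' (G := Subgroup.zpowers t) (x := d)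
      rw [hd.card_T, hq] at h
      exact h
    have h5 : ((d * d : Subgroup.zpowers t) : Matrix.SpecialLinearGroup (Fin 2) F) *
        ((d * d : Subgroup.zpowers t) : Matrix.SpecialLinearGroup (Fin 2) F) = 1 := by
      have : (d * d) * (d * d) = 1 := by
        rw [← h4, show (4 : ℕ) = 2 + 2 from rfl, pow_add, pow_two]
      have := congrArg Subtype.val this
      simpa using this
    rcases hd.invol _ h5 with h | h
    · exact Or.inl (Subtype.ext h)
    · exact Or.inr (Subtype.ext h)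
  have hneg : θ ⟨-1, hd.negOne_mem⟩ * θ ⟨-1, hd.negOne_mem⟩ = 1 := by
    rw [← map_mul]
    have : (⟨-1, hd.negOne_mem⟩ : Subgroup.zpowers t) * ⟨-1, hd.negOne_mem⟩ = 1 := by
      apply Subtype.ext
      simp
    rw [this, map_one]
  -- `θ(-1) ≠ 1`
  have hθneg : θ ⟨-1, hd.negOne_mem⟩ ≠ 1 := by
    intro h1
    apply hθ
    ext d
    rw [MonoidHom.inv_apply]
    have h2 : θ d * θ d = 1 := by
      rw [← map_mul]
      rcases hsqT d with h | h
      · rw [h, map_one]
      · rw [h, h1]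
    exact congrArg Units.val (eq_inv_of_mul_eq_one_left h2)
  have hθneg' : ((θ ⟨-1, hd.negOne_mem⟩ : ℂˣ) : ℂ) = -1 := by
    have h2 : (((θ ⟨-1, hd.negOne_mem⟩ : ℂˣ) : ℂ) - 1) * (((θ ⟨-1, hd.negOne_mem⟩ : ℂˣ) : ℂ) + 1)
        = 0 := by
      have := congrArg (fun u : ℂˣ => (u : ℂ)) hneg
      simp only [Units.val_mul, Units.val_one] at this
      linear_combination this
    rcases mul_eq_zero.1 h2 with h | h
    · exact absurd (Units.ext (by simpa using sub_eq_zero.1 h)) hθneg
    · linear_combination h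
  -- `c² = -1`
  have hcc : c * c = ⟨-1, hd.negOne_mem⟩ := by
    rcases hsqT c with h | h
    · exfalso
      have h' : (c : Matrix.SpecialLinearGroup (Fin 2) F) *
          (c : Matrix.SpecialLinearGroup (Fin 2) F) = 1 := by
        have := congrArg Subtype.val h
        simpa using this
      rcases hd.invol _ h' with h1 | h1
      · exact hc1 h1
      · exact hc2 h1
    · exact h
  have h3 : ((θ c : ℂˣ) : ℂ) * ((θ c : ℂˣ) : ℂ) = -1 := by
    rw [← Units.val_mul, ← map_mul, hcc, hθneg']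
  have h0 : ((θ c : ℂˣ) : ℂ) ≠ 0 := (θ c).ne_zero
  rw [Units.val_inv_eq_inv_val]
  field_simp
  linear_combination h3

/-- **The cuspidal characters of degree `q - 1` of `SL₂(q)`, `q` odd**, parametrized by the
characters `θ` with `θ² ≠ 1` of a cyclic subgroup `C` of order `q + 1`. -/
theorem sl2_cuspidal_main (hodd : Odd (Fintype.card F))
    (C : Subgroup (Matrix.SpecialLinearGroup (Fin 2) F)) (hC : IsCyclic C)
    (hcard : Nat.card C = Fintype.card F + 1) :
    (∀ θ : C →* ℂˣ, (∃ c : C, θ c ^ 2 ≠ 1) →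
      ∃ χ : Matrix.SpecialLinearGroup (Fin 2) F → ℂ, Cfsg.IsIrrCharacter (Matrix.SpecialLinearGroup (Fin 2) F) χ ∧ χ 1 = (Fintype.card F : ℂ) - 1 ∧
        (∀ c : C, (c : Matrix.SpecialLinearGroup (Fin 2) F) ∉ Subgroup.center (Matrix.SpecialLinearGroup (Fin 2) F) → χ c = -((θ c).val + (θ c)⁻¹.val)) ∧
        (∀ c : C, (c : Matrix.SpecialLinearGroup (Fin 2) F) ∈ Subgroup.center (Matrix.SpecialLinearGroup (Fin 2) F) → ∀ g : Matrix.SpecialLinearGroup (Fin 2) F, χ ((c : Matrix.SpecialLinearGroup (Fin 2) F) * g) = (θ c).val * χ g) ∧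
        (∀ g : Matrix.SpecialLinearGroup (Fin 2) F, (g : Matrix (Fin 2) (Fin 2) F) 0 1 = 0 → (g : Matrix (Fin 2) (Fin 2) F) 1 0 = 0 → (g : Matrix (Fin 2) (Fin 2) F) 0 0 ^ 2 ≠ 1 → χ g = 0) ∧
        (∀ g : Matrix.SpecialLinearGroup (Fin 2) F, (g : Matrix (Fin 2) (Fin 2) F) 1 0 = 0 → (g : Matrix (Fin 2) (Fin 2) F) 0 0 = 1 → (g : Matrix (Fin 2) (Fin 2) F) 1 1 = 1 → (g : Matrix (Fin 2) (Fin 2) F) 0 1 ≠ 0 → χ g = -1)) ∧
    (∀ χ : Matrix.SpecialLinearGroup (Fin 2) F → ℂ, Cfsg.IsIrrCharacter (Matrix.SpecialLinearGroup (Fin 2) F) χ → χ 1 = (Fintype.card F : ℂ) - 1 →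
      ∃ θ : C →* ℂˣ, (∃ c : C, θ c ^ 2 ≠ 1) ∧
        ∀ c : C, (c : Matrix.SpecialLinearGroup (Fin 2) F) ∉ Subgroup.center (Matrix.SpecialLinearGroup (Fin 2) F) → χ c = -((θ c).val + (θ c)⁻¹.val)) := by
  classical
  have : Fintype (Matrix.SpecialLinearGroup (Fin 2) F) := Fintype.ofFinite _
  have : Fintype (BSL F) := Fintype.ofFinite _
  have : Fintype (Cfsg.IrrCharacter (Matrix.SpecialLinearGroup (Fin 2) F)) := Fintype.ofFinite _
  obtain ⟨t, w, hd⟩ := exists_nonsplitData hodd
  obtain ⟨h, e, he⟩ := hd.exists_conj_equiv hodd C hC hcard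
  have hq2 : 2 ≤ Fintype.card F := Fintype.one_lt_card
  have hq1 : (Fintype.card F : ℂ) - 1 ≠ 0 := by
    intro h0
    have h1 : (Fintype.card F : ℂ) = 1 := sub_eq_zero.1 h0
    have h2 : Fintype.card F = 1 := by exact_mod_cast h1
    omega
  -- noncentral elements
  have hnc : ∀ c : C, (c : Matrix.SpecialLinearGroup (Fin 2) F) ∉
      Subgroup.center (Matrix.SpecialLinearGroup (Fin 2) F) →
      ((e c : Subgroup.zpowers t) : Matrix.SpecialLinearGroup (Fin 2) F) ≠ 1 ∧
      ((e c : Subgroup.zpowers t) : Matrix.SpecialLinearGroup (Fin 2) F) ≠ -1 := by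
    intro c hc
    rw [he]
    constructor
    · intro h1
      apply hc
      have h2 : (c : Matrix.SpecialLinearGroup (Fin 2) F) = 1 := by
        have h3 : (c : Matrix.SpecialLinearGroup (Fin 2) F) =
            h⁻¹ * (h * (c : Matrix.SpecialLinearGroup (Fin 2) F) * h⁻¹) * h := by group
        rw [h3, h1]
        group
      rw [h2]
      exact Subgroup.one_mem _
    · intro h1
      apply hc
      have h2 : (c : Matrix.SpecialLinearGroup (Fin 2) F) = -1 := by
        have h3 : (c : Matrix.SpecialLinearGroup (Fin 2) F) =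
            h⁻¹ * (h * (c : Matrix.SpecialLinearGroup (Fin 2) F) * h⁻¹) * (h⁻¹)⁻¹ := by group
        rw [h3, h1, conj_negOne]
      rw [h2]
      exact negOne_mem_center
  -- a character with `θ ≠ θ⁻¹` takes a value with square `≠ 1`
  have hex : ∀ θ' : Subgroup.zpowers t →* ℂˣ, θ' ≠ θ'⁻¹ →
      ∃ c : C, (θ'.comp e.toMonoidHom) c ^ 2 ≠ 1 := by
    intro θ' hθ'
    by_contra hcon
    push Not at hcon
    apply hθ'
    ext d
    have h1 := hcon (e.symm d)
    have h2 : θ' d ^ 2 = 1 := by simpa using h1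
    rw [MonoidHom.inv_apply]
    exact congrArg Units.val (eq_inv_of_mul_eq_one_left (by rw [← pow_two]; exact h2))
  constructor
  · intro θ hθ
    obtain ⟨c1, hc1⟩ := hθ
    obtain ⟨θ', hθ'e⟩ : ∃ θ' : Subgroup.zpowers t →* ℂˣ, ∀ c : C, θ' (e c) = θ c :=
      ⟨θ.comp e.symm.toMonoidHom, fun c => by simp⟩
    have hθ' : θ' ≠ θ'⁻¹ := by
      intro h1
      apply hc1
      have h2 := congrArg (fun φ : Subgroup.zpowers t →* ℂˣ => φ (e c1)) h1
      simp only [MonoidHom.inv_apply, hθ'e] at h2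
      rw [pow_two]
      nth_rewrite 2 [h2]
      exact mul_inv_cancel _
    have hsq : θ' ⟨-1, hd.negOne_mem⟩ * θ' ⟨-1, hd.negOne_mem⟩ = 1 := by
      rw [← map_mul]
      have : (⟨-1, hd.negOne_mem⟩ : Subgroup.zpowers t) * ⟨-1, hd.negOne_mem⟩ = 1 := by
        apply Subtype.ext
        simp
      rw [this, map_one]
    obtain ⟨α, hα⟩ := exists_mulChar_negOne hodd (θ' ⟨-1, hd.negOne_mem⟩) hsq
    have hirr := hd.isIrrCharacter_cuspChar hodd α θ' hα hθ'
    have hcf := isClassFunction_of_isCharacter (isCharacter_of_isIrrCharacter hirr)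
    refine ⟨cuspChar α θ', hirr, hd.cuspChar_one α θ', ?_, ?_, ?_, ?_⟩
    · intro c hc
      obtain ⟨n1, n2⟩ := hnc c hc
      have h1 := hd.cuspChar_of_mem hodd α θ' (e c) n1 n2
      rw [he, hcf, hθ'e] at h1
      exact h1
    · intro c hc g
      rcases sl2_center_cases hc with h1 | h1
      · have hc1' : c = 1 := Subtype.ext h1
        rw [h1, one_mul, hc1', map_one, Units.val_one, one_mul]
      · have hec : e c = ⟨-1, hd.negOne_mem⟩ := by
          apply Subtype.ext
          rw [he, h1, conj_negOne]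
        obtain ⟨cc, hcc⟩ := Cfsg.Agent.Lib.helper19.irr_mul_center
          (⟨cuspChar α θ', hirr⟩ : Cfsg.IrrCharacter (Matrix.SpecialLinearGroup (Fin 2) F))
          (-1) negOne_mem_center
        have h2 : cuspChar α θ' (1 * (-1)) = cc * cuspChar α θ' 1 := hcc 1
        rw [one_mul, hd.cuspChar_negOne α θ' hα, hd.cuspChar_one] at h2
        have hcc' : cc = ((θ' ⟨-1, hd.negOne_mem⟩ : ℂˣ) : ℂ) := by
          apply mul_left_cancel₀ hq1
          linear_combination -h2
        have h3 : cuspChar α θ' (g * (-1)) = cc * cuspChar α θ' g := hcc g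
        have h4 : (c : Matrix.SpecialLinearGroup (Fin 2) F) * g = g * (-1) := by
          rw [h1]
          simp
        rw [h4, h3, hcc', ← hθ'e c, hec]
    · intro g h01 h10 hne
      apply hd.cuspChar_split hodd α θ' g h10
      intro heq
      apply hne
      have hdet := sl2_det g
      rw [h01, zero_mul, sub_zero] at hdet
      rw [pow_two]
      nth_rewrite 2 [heq]
      exact hdet
    · intro g h10 h00 h11 h01
      exact hd.cuspChar_unipotent hodd α θ' g h10 h00 h11 h01
  · intro χ hχ hχ1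
    have hcf := isClassFunction_of_isCharacter (isCharacter_of_isIrrCharacter hχ)
    by_cases hU : ∑ b : F, χ (uSL b) = 0
    · obtain ⟨α, θ', hθ', hα, rfl⟩ := hd.cuspidal_surj hodd χ hχ hχ1 hU
      refine ⟨θ'.comp e.toMonoidHom, hex θ' hθ', ?_⟩
      intro c hc
      obtain ⟨n1, n2⟩ := hnc c hc
      have h1 := hd.cuspChar_of_mem hodd α θ' (e c) n1 n2
      rw [he, hcf] at h1
      exact h1
    · obtain ⟨k, hk⟩ := hodd
      obtain ⟨m, rp, rm, hdeg, hsumU, hcls, -⟩ := sl2_odd_types (F := F) k hk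
      have hm := hsumU ⟨χ, hχ⟩
      have hd1 := hdeg ⟨χ, hχ⟩
      simp only at hm hd1
      have hm0 : m ⟨χ, hχ⟩ ≠ 0 := by
        intro h0
        apply hU
        rw [hm, h0]
        simp
      have hd2 : m ⟨χ, hχ⟩ + k * (rp ⟨χ, hχ⟩ + rm ⟨χ, hχ⟩) = 2 * k := by
        have : ((m ⟨χ, hχ⟩ + k * (rp ⟨χ, hχ⟩ + rm ⟨χ, hχ⟩) : ℕ) : ℂ) = ((2 * k : ℕ) : ℂ) := by
          rw [← hd1, hχ1, hk]
          push_cast
          ring
        exact_mod_cast this
      have hk1 : k = 1 := by
        rcases hcls ⟨χ, hχ⟩ with ⟨e1, e2, e3⟩ | ⟨e1, e2⟩ | ⟨e1, e2, e3⟩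
        · rw [e1, e2, e3] at hd2
          omega
        · rw [e1, mul_one] at hd2
          omega
        · rw [e1, e2] at hd2
          omega
      have hq3 : Fintype.card F = 3 := by omega
      have hχ1' : χ 1 = (k : ℂ) + 1 := by
        rw [hχ1, hq3, hk1]
        norm_num
      obtain ⟨θ', hθ'⟩ := hd.exists_hom_ne_inv
      refine ⟨θ'.comp e.toMonoidHom, hex θ' hθ', ?_⟩
      intro c hc
      obtain ⟨n1, n2⟩ := hnc c hc
      have h0 := sl2_half_vanish_elliptic k hk χ hχ hχ1' hU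
        ((e c : Subgroup.zpowers t) : Matrix.SpecialLinearGroup (Fin 2) F)
        (hd.elliptic_of_mem ⟨k, hk⟩ (e c).2 n1 n2)
      rw [he, hcf] at h0
      have h5 := hd.q3_aux hq3 θ' hθ' (e c) n1 n2
      rw [h0]
      show (0 : ℂ) = -(((θ' (e c) : ℂˣ) : ℂ) + (((θ' (e c))⁻¹ : ℂˣ) : ℂ))
      rw [h5, neg_zero]

end Final

end Cfsg.Agent.Lib.helper43
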