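-- helper43: the two characters of degree (q - 1) / 2 of SL₂(q), q odd, q ≥ 5: they sum to the
-- cuspidal generalized character attached to the quadratic character of the nonsplit torus;
-- values at the elements without eigenvectors. Values of the characters of degree (q + 1) / 2
-- at the diagonal elements.
import Mathlib
import Cfsg.Prelude.Def_Characters
import Cfsg.Agent.Lib.helper43.SL2CuspFinal
import Cfsg.Agent.Lib.helper32.Coh2

set_option autoImplicit false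

namespace Cfsg.Agent.Lib.helper43

open scoped ComplexConjugate
open Cfsg.Agent.Lib.helper4
open Matrix

section Quad

variable {F : Type*} [Field F] [Fintype F]
variable {t w : Matrix.SpecialLinearGroup (Fin 2) F}

/-- The quadratic character of the nonsplit torus. -/
theorem NonsplitData.exists_quadHom (hd : NonsplitData t w) (hodd : Odd (Fintype.card F)) :
    ∃ θ0 : Subgroup.zpowers t →* ℂˣ, ∀ d : Subgroup.zpowers t,
      ((d : Matrix.SpecialLinearGroup (Fin 2) F) ^ ((Fintype.card F + 1) / 2) = 1 → θ0 d = 1) ∧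
      ((d : Matrix.SpecialLinearGroup (Fin 2) F) ^ ((Fintype.card F + 1) / 2) ≠ 1 →
        θ0 d = -1) := by
  classical
  have hneg1 : (-1 : Matrix.SpecialLinearGroup (Fin 2) F) ≠ 1 := negOne_ne_one_sl2 hodd
  obtain ⟨n, hn⟩ : ∃ n : ℕ, n = (Fintype.card F + 1) / 2 := ⟨_, rfl⟩
  rw [← hn]
  have hnn : n + n = Fintype.card F + 1 := by
    obtain ⟨k, hk⟩ := hodd
    omega
  have hpow : ∀ d : Subgroup.zpowers t, (d : Matrix.SpecialLinearGroup (Fin 2) F) ^ n = 1 ∨
      (d : Matrix.SpecialLinearGroup (Fin 2) F) ^ n = -1 := by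
    intro d
    apply hd.invol
    rw [← pow_add, hnn]
    have h := pow_card_eq_one' (G := Subgroup.zpowers t) (x := d)
    rw [hd.card_T] at h
    have h2 := congrArg Subtype.val h
    simpa using h2
  let f : Subgroup.zpowers t → ℂˣ :=
    fun d => if (d : Matrix.SpecialLinearGroup (Fin 2) F) ^ n = 1 then 1 else -1
  have hmul : ∀ a b : Subgroup.zpowers t, f (a * b) = f a * f b := by
    intro a b
    have hc : ((a * b : Subgroup.zpowers t) : Matrix.SpecialLinearGroup (Fin 2) F) ^ n =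
        (a : Matrix.SpecialLinearGroup (Fin 2) F) ^ n *
          (b : Matrix.SpecialLinearGroup (Fin 2) F) ^ n := by
      rw [Subgroup.coe_mul]
      exact Commute.mul_pow (comm_of_mem_zpowers a.2 b.2) n
    simp only [f]
    rw [hc]
    rcases hpow a with ha | ha <;> rcases hpow b with hb | hb
    · simp [ha, hb]
    · simp [ha, hb, hneg1]
    · simp [ha, hb, hneg1]
    · simp [ha, hb, hneg1]
  refine ⟨MonoidHom.mk' f hmul, fun d => ⟨fun h => ?_, fun h => ?_⟩⟩
  · show f d = 1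
    simp [f, h]
  · show f d = -1
    simp [f, h]

theorem NonsplitData.quadHom_props (hd : NonsplitData t w) (hodd : Odd (Fintype.card F))
    (θ0 : Subgroup.zpowers t →* ℂˣ)
    (hθ0 : ∀ d : Subgroup.zpowers t,
      ((d : Matrix.SpecialLinearGroup (Fin 2) F) ^ ((Fintype.card F + 1) / 2) = 1 → θ0 d = 1) ∧
      ((d : Matrix.SpecialLinearGroup (Fin 2) F) ^ ((Fintype.card F + 1) / 2) ≠ 1 →
        θ0 d = -1)) : θ0 = θ0⁻¹ ∧ θ0 ≠ 1 := by
  constructor
  · ext d
    rw [MonoidHom.inv_apply]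
    by_cases h : (d : Matrix.SpecialLinearGroup (Fin 2) F) ^ ((Fintype.card F + 1) / 2) = 1
    · rw [(hθ0 d).1 h]
      simp
    · rw [(hθ0 d).2 h]
      simp
  · intro h1
    have h2 := (hθ0 ⟨t, Subgroup.mem_zpowers t⟩).2 (by
      show t ^ ((Fintype.card F + 1) / 2) ≠ 1
      rw [hd.half]
      exact negOne_ne_one_sl2 hodd)
    rw [h1, MonoidHom.one_apply] at h2
    have := congrArg (fun u : ℂˣ => (u : ℂ)) h2
    norm_num at this

variable [DecidableEq F] [Fintype (Matrix.SpecialLinearGroup (Fin 2) F)] [Fintype (BSL F)]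

/-- The cuspidal generalized character of a nontrivial `θ` is orthogonal to the trivial
character. -/
theorem NonsplitData.classInner_cuspChar_one (α : MulChar F ℂ)
    (θ : Subgroup.zpowers t →* ℂˣ) (hθ1 : θ ≠ 1) :
    Cfsg.classInner (cuspChar α θ) (fun _ => (1 : ℂ)) = 0 := by
  classical
  have : Fintype (Subgroup.zpowers t) := Fintype.ofFinite _
  unfold cuspChar
  rw [classInner_sub_left, classInner_cuspM_one,
    frobenius_reciprocity (Subgroup.zpowers t) _ (χ := fun _ => (1 : ℂ)) (fun g h => rfl)]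
  unfold Cfsg.classInner
  simp only [map_one, mul_one, homFun_apply]
  rw [sum_hom_coe, if_neg hθ1]
  simp

/-- **The two characters of degree `(q - 1) / 2`**: the cuspidal generalized character attached
to the quadratic character `θ₀` of the nonsplit torus is the sum of two irreducible characters,
which are all the irreducible characters of degree `k = (q - 1) / 2` (`k ≥ 2`) and agree at the
elements without eigenvectors. -/
theorem NonsplitData.quad_decomp (hd : NonsplitData t w) (k : ℕ)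
    (hk : Fintype.card F = 2 * k + 1) (hk2 : 2 ≤ k) (α : MulChar F ℂ)
    (θ0 : Subgroup.zpowers t →* ℂˣ)
    (hσ : α (-1) = ((θ0 ⟨-1, hd.negOne_mem⟩ : ℂˣ) : ℂ)) (hself : θ0 = θ0⁻¹) (hne1 : θ0 ≠ 1) :
    ∃ χa χb : Matrix.SpecialLinearGroup (Fin 2) F → ℂ,
      Cfsg.IsIrrCharacter (Matrix.SpecialLinearGroup (Fin 2) F) χa ∧
      Cfsg.IsIrrCharacter (Matrix.SpecialLinearGroup (Fin 2) F) χb ∧
      cuspChar α θ0 = χa + χb ∧
      (∀ χ : Matrix.SpecialLinearGroup (Fin 2) F → ℂ,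
        Cfsg.IsIrrCharacter (Matrix.SpecialLinearGroup (Fin 2) F) χ → χ 1 = (k : ℂ) →
          χ = χa ∨ χ = χb) ∧
      (∀ g : Matrix.SpecialLinearGroup (Fin 2) F,
        (∀ (c : F) (v : Fin 2 → F), v ≠ 0 → (g : Matrix (Fin 2) (Fin 2) F).mulVec v ≠ c • v) →
        χa g = χb g) := by
  classical
  have : Fintype (Cfsg.IrrCharacter (Matrix.SpecialLinearGroup (Fin 2) F)) := Fintype.ofFinite _
  have hodd : Odd (Fintype.card F) := ⟨k, hk⟩
  have hF : ringChar F ≠ 2 := ringChar_ne_two_of_odd hodd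
  have hqC : (Fintype.card F : ℂ) = 2 * (k : ℂ) + 1 := by
    rw [hk]; push_cast; ring
  have hq0 : (Fintype.card F : ℂ) ≠ 0 := by exact_mod_cast Fintype.card_ne_zero
  have hkC : (k : ℂ) ≠ 0 := by exact_mod_cast (by omega : k ≠ 0)
  obtain ⟨ψ, hψ1⟩ := AddChar.exists_apply_ne_zero.2 (one_ne_zero : (1 : F) ≠ 0)
  have hψ : ψ ≠ 1 := by
    rintro rfl
    exact hψ1 (by simp)
  obtain ⟨ε, hε⟩ := FiniteField.exists_nonsquare hF
  have hε0 : ε ≠ 0 := by
    rintro rfl
    exact hε ⟨0, by simp⟩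
  obtain ⟨e, he⟩ : ∃ e : Fˣ, (e : F) = ε := ⟨Units.mk0 ε hε0, rfl⟩
  obtain ⟨m, rp, rm, hdeg, -, hD, hsumU, hcls, h00, -, -, -, -, -, -, h10c, h01c⟩ :=
    sl2_odd_classification k hk ψ hψ ε hε
  have hG0 : gaussSum (etaC F) ψ ≠ 0 := by
    intro h
    have h1 := gauss_mul_conj hF ψ hψ
    rw [h, zero_mul] at h1
    exact hq0 h1.symm
  -- the trivial character
  obtain ⟨triv, htrivval⟩ : ∃ triv : Cfsg.IrrCharacter (Matrix.SpecialLinearGroup (Fin 2) F),
      (triv : Matrix.SpecialLinearGroup (Fin 2) F → ℂ) = fun _ => (1 : ℂ) :=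
    ⟨⟨fun _ => 1, Cfsg.Agent.Lib.helper83.isIrrCharacter_one⟩, rfl⟩
  have htriv : rp triv = 0 ∧ rm triv = 0 := by
    have h1 := hdeg triv
    rw [htrivval] at h1
    beta_reduce at h1
    have h2 : (1 : ℕ) = m triv + k * (rp triv + rm triv) := by exact_mod_cast h1
    rcases hcls triv with ⟨e1, e2, -⟩ | ⟨e1, e2⟩ | ⟨e1, e2⟩ | ⟨e1, e2, -⟩
    · exact ⟨e1, e2⟩
    · rw [e1, e2] at h2
      omega
    · rw [e1, e2] at h2
      omega
    · rw [e1, e2] at h2
      omega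
  have huniq00 : ∀ ζ, rp ζ = 0 → rm ζ = 0 → ζ = triv := by
    intro ζ h1 h2
    exact Finset.card_le_one.1 (le_of_eq h00) ζ
      (Finset.mem_filter.2 ⟨Finset.mem_univ _, h1, h2⟩) triv
      (Finset.mem_filter.2 ⟨Finset.mem_univ _, htriv⟩)
  have huniq10 : ∀ ζ ζ', (rp ζ = 1 ∧ rm ζ = 0 ∧ m ζ = 0) → (rp ζ' = 1 ∧ rm ζ' = 0 ∧ m ζ' = 0) →
      ζ = ζ' := by
    intro ζ ζ' h1 h2
    exact Finset.card_le_one.1 (le_of_eq h10c) ζ
      (Finset.mem_filter.2 ⟨Finset.mem_univ _, h1⟩) ζ'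
      (Finset.mem_filter.2 ⟨Finset.mem_univ _, h2⟩)
  have huniq01 : ∀ ζ ζ', (rp ζ = 0 ∧ rm ζ = 1 ∧ m ζ = 0) → (rp ζ' = 0 ∧ rm ζ' = 1 ∧ m ζ' = 0) →
      ζ = ζ' := by
    intro ζ ζ' h1 h2
    exact Finset.card_le_one.1 (le_of_eq h01c) ζ
      (Finset.mem_filter.2 ⟨Finset.mem_univ _, h1⟩) ζ'
      (Finset.mem_filter.2 ⟨Finset.mem_univ _, h2⟩)
  -- the generalized character of norm two
  have hgen := isGeneralizedCharacter_cuspChar α θ0
  have hnorm : Cfsg.classInner (cuspChar α θ0) (cuspChar α θ0) = 2 := by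
    rw [hd.classInner_cuspChar hodd α θ0 θ0 hσ hσ, if_pos rfl, if_pos hself]
    norm_num
  obtain ⟨a, b, ha, hb, hab, hΦ⟩ := Cfsg.Agent.Lib.helper32.norm_two_decomp hgen hnorm
  have hsign : ∀ a : Matrix.SpecialLinearGroup (Fin 2) F → ℂ,
      (Cfsg.IsIrrCharacter (Matrix.SpecialLinearGroup (Fin 2) F) a ∨
        Cfsg.IsIrrCharacter (Matrix.SpecialLinearGroup (Fin 2) F) (-a)) →
      ∃ (ζ : Cfsg.IrrCharacter (Matrix.SpecialLinearGroup (Fin 2) F)) (s : ℤ),
        (s = 1 ∨ s = -1) ∧ a = (s : ℂ) • (ζ : Matrix.SpecialLinearGroup (Fin 2) F → ℂ) := by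
    intro a ha
    rcases ha with h | h
    · exact ⟨⟨a, h⟩, 1, Or.inl rfl, by simp⟩
    · exact ⟨⟨-a, h⟩, -1, Or.inr rfl, by simp⟩
  obtain ⟨ζa, sa, hsa, rfl⟩ := hsign a ha
  obtain ⟨ζb, sb, hsb, rfl⟩ := hsign b hb
  have hsaC : (sa : ℂ) ≠ 0 := by
    rcases hsa with rfl | rfl <;> norm_num
  have hsbC : (sb : ℂ) ≠ 0 := by
    rcases hsb with rfl | rfl <;> norm_num
  have hsbconj : conj (sb : ℂ) = (sb : ℂ) := map_intCast (starRingEnd ℂ) sb
  have hne : ζa ≠ ζb := by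
    intro h
    subst h
    rw [classInner_smul_left, classInner_smul_right, classInner_irr_self ζa.2, hsbconj,
      mul_one] at hab
    rcases mul_eq_zero.1 hab with h | h
    · exact hsaC h
    · exact hsbC h
  have hnef : (ζa : Matrix.SpecialLinearGroup (Fin 2) F → ℂ) ≠ ζb :=
    fun h => hne (Subtype.ext h)
  have hΦval : ∀ g, cuspChar α θ0 g = (sa : ℂ) * (ζa : Matrix.SpecialLinearGroup (Fin 2) F → ℂ) g +
      (sb : ℂ) * (ζb : Matrix.SpecialLinearGroup (Fin 2) F → ℂ) g := by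
    intro g
    rw [hΦ]
    simp
  -- F1: the sums over the unipotent subgroup
  have F1 : sa * (m ζa : ℤ) + sb * (m ζb : ℤ) = 0 := by
    have h1 := hd.sum_cuspChar_uSL hodd α θ0
    simp only [hΦval] at h1
    rw [Finset.sum_add_distrib, ← Finset.mul_sum, ← Finset.mul_sum, hsumU, hsumU] at h1
    have h2 : (Fintype.card F : ℂ) * ((sa : ℂ) * (m ζa : ℂ) + (sb : ℂ) * (m ζb : ℂ)) = 0 := by
      linear_combination h1
    rcases mul_eq_zero.1 h2 with h | h
    · exact absurd h hq0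
    · exact_mod_cast h
  -- F2: the degrees
  have F2 : sa * ((rp ζa : ℤ) + (rm ζa : ℤ)) + sb * ((rp ζb : ℤ) + (rm ζb : ℤ)) = 2 := by
    have h1 := hΦval 1
    rw [hd.cuspChar_one, hdeg, hdeg, hqC] at h1
    have h3 : ((sa : ℂ) * (m ζa : ℂ) + (sb : ℂ) * (m ζb : ℂ)) = 0 := by exact_mod_cast F1
    have h2 : (k : ℂ) * ((sa : ℂ) * ((rp ζa : ℂ) + (rm ζa : ℂ)) +
        (sb : ℂ) * ((rp ζb : ℂ) + (rm ζb : ℂ)) - 2) = 0 := by
      linear_combination -h1 - h3
    rcases mul_eq_zero.1 h2 with h | h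
    · exact absurd h hkC
    · have h4 : (sa : ℂ) * ((rp ζa : ℂ) + (rm ζa : ℂ)) +
          (sb : ℂ) * ((rp ζb : ℂ) + (rm ζb : ℂ)) = 2 := by linear_combination h
      exact_mod_cast h4
  -- F3: orthogonality to the trivial character
  have F3 := NonsplitData.classInner_cuspChar_one α θ0 hne1
  rw [hΦ, classInner_add_left, classInner_smul_left, classInner_smul_left, ← htrivval,
    classInner_irr ζa.2 triv.2, classInner_irr ζb.2 triv.2] at F3
  have hζa : ζa ≠ triv := by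
    intro h
    have h1 : ¬ ((ζb : Matrix.SpecialLinearGroup (Fin 2) F → ℂ) = triv) := by
      rw [← h]
      exact fun h' => hnef h'.symm
    rw [if_pos (congrArg Subtype.val h), if_neg h1] at F3
    apply hsaC
    linear_combination F3
  have hζb : ζb ≠ triv := by
    intro h
    have h1 : ¬ ((ζa : Matrix.SpecialLinearGroup (Fin 2) F → ℂ) = triv) := by
      rw [← h]
      exact hnef
    rw [if_pos (congrArg Subtype.val h), if_neg h1] at F3
    apply hsbC
    linear_combination F3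
  have ha00 : ¬ (rp ζa = 0 ∧ rm ζa = 0) := fun h => hζa (huniq00 ζa h.1 h.2)
  have hb00 : ¬ (rp ζb = 0 ∧ rm ζb = 0) := fun h => hζb (huniq00 ζb h.1 h.2)
  have hca := hcls ζa
  have hcb := hcls ζb
  have hfin : sa = 1 ∧ sb = 1 ∧ rp ζa + rm ζa = 1 ∧ rp ζb + rm ζb = 1 ∧ m ζa = 0 ∧ m ζb = 0 := by
    rcases hsa with rfl | rfl <;> rcases hsb with rfl | rfl <;> omega
  obtain ⟨rfl, rfl, hta, htb, hma, hmb⟩ := hfin
  have hΦ' : cuspChar α θ0 = (ζa : Matrix.SpecialLinearGroup (Fin 2) F → ℂ) + ζb := by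
    rw [hΦ]
    simp
  -- the types of `ζa`, `ζb`
  have htype : ∀ ζ, rp ζ + rm ζ = 1 → m ζ = 0 →
      (rp ζ = 1 ∧ rm ζ = 0 ∧ m ζ = 0) ∨ (rp ζ = 0 ∧ rm ζ = 1 ∧ m ζ = 0) := by
    intro ζ h1 h2
    have := hcls ζ
    omega
  -- uniqueness
  have huniq : ∀ ζ : Cfsg.IrrCharacter (Matrix.SpecialLinearGroup (Fin 2) F),
      (ζ : Matrix.SpecialLinearGroup (Fin 2) F → ℂ) 1 = (k : ℂ) → ζ = ζa ∨ ζ = ζb := by
    intro ζ h1
    have h2 := hdeg ζ
    rw [h1] at h2
    have h3 : k = m ζ + k * (rp ζ + rm ζ) := by exact_mod_cast h2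
    have h4 : rp ζ + rm ζ = 1 ∧ m ζ = 0 := by
      rcases hcls ζ with ⟨e1, e2, e3⟩ | ⟨e1, e2⟩ | ⟨e1, e2⟩ | ⟨e1, e2, e3⟩
      · rw [e1, e2, e3] at h3
        omega
      · rw [e1, e2] at h3
        omega
      · rw [e1, e2] at h3
        omega
      · rw [e1, e2] at h3
        omega
    rcases htype ζ h4.1 h4.2 with hz | hz <;> rcases htype ζa hta hma with hza | hza <;>
      rcases htype ζb htb hmb with hzb | hzb
    · exact Or.inl (huniq10 _ _ hz hza)
    · exact Or.inl (huniq10 _ _ hz hza)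
    · exact Or.inr (huniq10 _ _ hz hzb)
    · exact absurd (huniq01 _ _ hza hzb) hne
    · exact absurd (huniq10 _ _ hza hzb) hne
    · exact Or.inr (huniq01 _ _ hz hzb)
    · exact Or.inl (huniq01 _ _ hz hza)
    · exact Or.inl (huniq01 _ _ hz hza)
  -- the twist
  have hcfa := isClassFunction_of_isCharacter (isCharacter_of_isIrrCharacter ζa.2)
  have hirr' := isIrrCharacter_comp_mulEquiv (twistSL e) ζa.2
  have hdega : (ζa : Matrix.SpecialLinearGroup (Fin 2) F → ℂ) 1 = (k : ℂ) := by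
    rw [hdeg, hma]
    have : ((rp ζa : ℂ) + (rm ζa : ℂ)) = 1 := by exact_mod_cast hta
    rw [this]
    simp
  have htw : (fun g => (ζa : Matrix.SpecialLinearGroup (Fin 2) F → ℂ) (twistSL e g)) = ζb := by
    have h1 : (fun g => (ζa : Matrix.SpecialLinearGroup (Fin 2) F → ℂ) (twistSL e g)) 1 =
        (k : ℂ) := by
      show (ζa : Matrix.SpecialLinearGroup (Fin 2) F → ℂ) (twistSL e 1) = _
      rw [map_one, hdega]
    rcases huniq ⟨_, hirr'⟩ h1 with h | h
    · exfalso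
      have h2 := congrFun (congrArg Subtype.val h) (uSL 1)
      simp only at h2
      rw [twistSL_apply, twistFun_uSL, mul_one, he] at h2
      have h3 := hD ζa
      rw [h2, sub_self] at h3
      rcases mul_eq_zero.1 h3.symm with h4 | h4
      · have h5 : (rp ζa : ℂ) = (rm ζa : ℂ) := sub_eq_zero.1 h4
        have h6 : rp ζa = rm ζa := by exact_mod_cast h5
        omega
      · exact hG0 h4
    · exact congrArg Subtype.val h
  refine ⟨ζa, ζb, ζa.2, ζb.2, hΦ', ?_, ?_⟩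
  · intro χ hχ hχ1
    rcases huniq ⟨χ, hχ⟩ hχ1 with h | h
    · exact Or.inl (congrArg Subtype.val h)
    · exact Or.inr (congrArg Subtype.val h)
  · intro g hg
    obtain ⟨s, t', hN⟩ := exists_norm_eq hodd g hg ε
    rw [← he] at hN
    rw [← htw]
    show (ζa : Matrix.SpecialLinearGroup (Fin 2) F → ℂ) g =
      (ζa : Matrix.SpecialLinearGroup (Fin 2) F → ℂ) (twistSL e g)
    have hy := conjElt_mul e g s t' hN
    have h3 : twistFun e g = conjElt e g s t' hN * g * (conjElt e g s t' hN)⁻¹ := by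
      rw [hy]
      group
    rw [twistSL_apply, h3]
    exact (hcfa g _).symm

end Quad

section HalfValues

variable {F : Type*} [Field F] [Fintype F]

/-- **Values of the characters of degree `(q - 1) / 2` of `SL₂(q)`** (`q` odd, `q ≥ 5`) at the
elements without eigenvectors. -/
theorem sl2_half_cuspidal_value (hodd : Odd (Fintype.card F)) (hq : 5 ≤ Fintype.card F)
    (χ : Matrix.SpecialLinearGroup (Fin 2) F → ℂ)
    (hχ : Cfsg.IsIrrCharacter (Matrix.SpecialLinearGroup (Fin 2) F) χ)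
    (hχ1 : χ 1 = (((Fintype.card F - 1) / 2 : ℕ) : ℂ))
    (g : Matrix.SpecialLinearGroup (Fin 2) F)
    (hg : ∀ (c : F) (v : Fin 2 → F), v ≠ 0 → (g : Matrix (Fin 2) (Fin 2) F).mulVec v ≠ c • v) :
    (g ^ ((Fintype.card F + 1) / 2) = 1 → χ g = -1) ∧
      (g ^ ((Fintype.card F + 1) / 2) ≠ 1 → χ g = 1) := by
  classical
  have : Fintype (Matrix.SpecialLinearGroup (Fin 2) F) := Fintype.ofFinite _
  have : Fintype (BSL F) := Fintype.ofFinite _
  obtain ⟨k, hk⟩ := hodd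
  have hodd : Odd (Fintype.card F) := ⟨k, hk⟩
  have hk2 : 2 ≤ k := by omega
  have hχ1' : χ 1 = (k : ℂ) := by
    rw [hχ1]
    have : (Fintype.card F - 1) / 2 = k := by omega
    rw [this]
  obtain ⟨t, w, hd⟩ := exists_nonsplitData hodd
  obtain ⟨θ0, hθ0⟩ := hd.exists_quadHom hodd
  obtain ⟨hself, hne1⟩ := hd.quadHom_props hodd θ0 hθ0
  have hsq : θ0 ⟨-1, hd.negOne_mem⟩ * θ0 ⟨-1, hd.negOne_mem⟩ = 1 := by
    rw [← map_mul]
    have : (⟨-1, hd.negOne_mem⟩ : Subgroup.zpowers t) * ⟨-1, hd.negOne_mem⟩ = 1 := by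
      apply Subtype.ext
      simp
    rw [this, map_one]
  obtain ⟨α, hα⟩ := exists_mulChar_negOne hodd (θ0 ⟨-1, hd.negOne_mem⟩) hsq
  obtain ⟨χa, χb, ha, hb, hΦ, huniq, heq⟩ := hd.quad_decomp k hk hk2 α θ0 hα hself hne1
  have h2 : 2 * χ g = cuspChar α θ0 g := by
    rw [hΦ]
    show _ = χa g + χb g
    rcases huniq χ hχ hχ1' with rfl | rfl
    · rw [← heq g hg]
      ring
    · rw [heq g hg]
      ring
  obtain ⟨h, hh⟩ := hd.ell g hg
  have hv : (![1, 0] : Fin 2 → F) ≠ 0 := by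
    intro h0
    have := congrFun h0 0
    simp at this
  have hc1 : h * g * h⁻¹ ≠ 1 := by
    intro h1
    have hg1 : g = 1 := by
      have h3 : g = h⁻¹ * (h * g * h⁻¹) * h := by group
      rw [h3, h1]
      group
    apply hg 1 ![1, 0] hv
    rw [hg1]
    simp
  have hc2 : h * g * h⁻¹ ≠ -1 := by
    intro h1
    have hg1 : g = -1 := by
      have h3 : g = h⁻¹ * (h * g * h⁻¹) * (h⁻¹)⁻¹ := by group
      rw [h3, h1, conj_negOne]
    apply hg (-1) ![1, 0] hv
    rw [hg1]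
    simp
  have hcfΦ : cuspChar α θ0 (h * g * h⁻¹) = cuspChar α θ0 g := by
    rw [hΦ]
    show χa (h * g * h⁻¹) + χb (h * g * h⁻¹) = χa g + χb g
    rw [isClassFunction_of_isCharacter (isCharacter_of_isIrrCharacter ha) g h,
      isClassFunction_of_isCharacter (isCharacter_of_isIrrCharacter hb) g h]
  have hval := hd.cuspChar_of_mem hodd α θ0 ⟨h * g * h⁻¹, hh⟩ hc1 hc2
  rw [hcfΦ, ← h2] at hval
  have hpow : (h * g * h⁻¹) ^ ((Fintype.card F + 1) / 2) =
      h * g ^ ((Fintype.card F + 1) / 2) * h⁻¹ := conj_pow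
  constructor
  · intro hgn
    have h3 : θ0 ⟨h * g * h⁻¹, hh⟩ = 1 := (hθ0 _).1 (by
      show (h * g * h⁻¹) ^ ((Fintype.card F + 1) / 2) = 1
      rw [hpow, hgn]
      group)
    rw [h3] at hval
    simp only [Units.val_one, inv_one] at hval
    linear_combination hval / 2
  · intro hgn
    have h3 : θ0 ⟨h * g * h⁻¹, hh⟩ = -1 := (hθ0 _).2 (by
      show (h * g * h⁻¹) ^ ((Fintype.card F + 1) / 2) ≠ 1
      rw [hpow]
      intro h1
      apply hgn
      have h4 : g ^ ((Fintype.card F + 1) / 2) =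
          h⁻¹ * (h * g ^ ((Fintype.card F + 1) / 2) * h⁻¹) * h := by group
      rw [h4, h1]
      group)
    rw [h3] at hval
    simp only [Units.val_neg, Units.val_one, inv_neg, inv_one] at hval
    linear_combination hval / 2

/-- **Values of the characters of degree `(q + 1) / 2` of `SL₂(q)`** (`q` odd, `q ≥ 5`) at the
diagonal elements. -/
theorem sl2_half_principal_value (hodd : Odd (Fintype.card F)) (hq : 5 ≤ Fintype.card F)
    (χ : Matrix.SpecialLinearGroup (Fin 2) F → ℂ)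
    (hχ : Cfsg.IsIrrCharacter (Matrix.SpecialLinearGroup (Fin 2) F) χ)
    (hχ1 : χ 1 = (((Fintype.card F + 1) / 2 : ℕ) : ℂ))
    (g : Matrix.SpecialLinearGroup (Fin 2) F)
    (h01 : (g : Matrix (Fin 2) (Fin 2) F) 0 1 = 0) (h10 : (g : Matrix (Fin 2) (Fin 2) F) 1 0 = 0)
    (hne : (g : Matrix (Fin 2) (Fin 2) F) 0 0 ^ 2 ≠ 1) :
    (IsSquare ((g : Matrix (Fin 2) (Fin 2) F) 0 0) → χ g = 1) ∧
      (¬ IsSquare ((g : Matrix (Fin 2) (Fin 2) F) 0 0) → χ g = -1) := by
  classical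
  have : Fintype (Matrix.SpecialLinearGroup (Fin 2) F) := Fintype.ofFinite _
  have : Fintype (BSL F) := Fintype.ofFinite _
  have : Fintype (Cfsg.IrrCharacter (Matrix.SpecialLinearGroup (Fin 2) F)) := Fintype.ofFinite _
  obtain ⟨k, hk⟩ := hodd
  have hodd : Odd (Fintype.card F) := ⟨k, hk⟩
  have hk2 : 2 ≤ k := by omega
  have hF : ringChar F ≠ 2 := ringChar_ne_two_of_odd hodd
  have hq0 : (Fintype.card F : ℂ) ≠ 0 := by exact_mod_cast Fintype.card_ne_zero
  have hχ1' : χ 1 = (k : ℂ) + 1 := by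
    rw [hχ1]
    have : (Fintype.card F + 1) / 2 = k + 1 := by omega
    rw [this]
    push_cast
    ring
  obtain ⟨m, rp, rm, hdeg, hsumU, hcls, -⟩ := sl2_odd_types (F := F) k hk
  have hm : m ⟨χ, hχ⟩ = 1 := by
    have hd1 := hdeg ⟨χ, hχ⟩
    simp only at hd1
    rw [hχ1'] at hd1
    have hd2 : k + 1 = m ⟨χ, hχ⟩ + k * (rp ⟨χ, hχ⟩ + rm ⟨χ, hχ⟩) := by exact_mod_cast hd1
    rcases hcls ⟨χ, hχ⟩ with ⟨e1, e2, e3⟩ | ⟨e1, e2⟩ | ⟨e1, e2, e3⟩
    · rw [e1, e2, e3] at hd2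
      omega
    · rw [e1, mul_one] at hd2
      omega
    · rw [e1, e2] at hd2
      omega
  have hU : ∑ b : F, χ (uSL b) ≠ 0 := by
    have h1 := hsumU ⟨χ, hχ⟩
    simp only at h1
    rw [h1, hm]
    simpa using hq0
  obtain ⟨ψ, hψ1⟩ := AddChar.exists_apply_ne_zero.2 (one_ne_zero : (1 : F) ≠ 0)
  have hψ : ψ ≠ 1 := by
    rintro rfl
    exact hψ1 (by simp)
  obtain ⟨ε, hε⟩ := FiniteField.exists_nonsquare hF
  have hε0 : ε ≠ 0 := by
    rintro rfl
    exact hε ⟨0, by simp⟩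
  obtain ⟨e, he⟩ : ∃ e : Fˣ, (e : F) = ε := ⟨Units.mk0 ε hε0, rfl⟩
  rw [← he] at hε
  obtain ⟨χ₁, χ₂, h₁, h₂, hne12, hind, d₁, d₂, htw, huniq⟩ :=
    sl2_half_twist k hk ψ hψ e hε (etaC F) etaC_isQuadratic.sq_eq_one (etaC_ne_one hF)
  have htg : twistFun e g = g := by
    apply sl2_ext <;> simp [twistFun_val, h01, h10]
  have heq : χ₂ g = χ₁ g := by
    rw [← htw g, htg]
  have hdet := sl2_det g
  rw [h01, zero_mul, sub_zero] at hdet
  have hne' : (g : Matrix (Fin 2) (Fin 2) F) 0 0 ≠ (g : Matrix (Fin 2) (Fin 2) F) 1 1 := by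
    intro h
    apply hne
    rw [pow_two]
    nth_rewrite 2 [h]
    exact hdet
  have hsum : χ₁ g + χ₂ g = etaC F ((g : Matrix (Fin 2) (Fin 2) F) 0 0) +
      etaC F ((g : Matrix (Fin 2) (Fin 2) F) 1 1) := by
    have h := indFun_alphaB_diag (etaC F) g h01 h10 hne'
    rw [hind] at h
    exact h
  have h00 : (g : Matrix (Fin 2) (Fin 2) F) 0 0 ≠ 0 := left_ne_zero_of_mul_eq_one hdet
  have h11 : (g : Matrix (Fin 2) (Fin 2) F) 1 1 ≠ 0 := right_ne_zero_of_mul_eq_one hdet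
  have hsq_iff : IsSquare ((g : Matrix (Fin 2) (Fin 2) F) 1 1) ↔
      IsSquare ((g : Matrix (Fin 2) (Fin 2) F) 0 0) := by
    constructor
    · rintro ⟨r, hr⟩
      refine ⟨(g : Matrix (Fin 2) (Fin 2) F) 0 0 * r, ?_⟩
      rw [hr] at hdet
      linear_combination (-(g : Matrix (Fin 2) (Fin 2) F) 0 0) * hdet
    · rintro ⟨r, hr⟩
      refine ⟨(g : Matrix (Fin 2) (Fin 2) F) 1 1 * r, ?_⟩
      rw [hr] at hdet
      linear_combination (-(g : Matrix (Fin 2) (Fin 2) F) 1 1) * hdet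
  constructor
  · intro hs
    rw [etaC_of_isSquare h00 hs, etaC_of_isSquare h11 (hsq_iff.2 hs)] at hsum
    rcases huniq χ hχ hχ1' hU with rfl | rfl
    · linear_combination (hsum - heq) / 2
    · linear_combination (hsum + heq) / 2
  · intro hs
    rw [etaC_of_not_isSquare hs, etaC_of_not_isSquare (fun h => hs (hsq_iff.1 h))] at hsum
    rcases huniq χ hχ hχ1' hU with rfl | rfl
    · linear_combination (hsum - heq) / 2
    · linear_combination (hsum + heq) / 2

end HalfValues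

end Cfsg.Agent.Lib.helper43
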