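-- helper43: character degrees of PSL₂(q) and SL₂(q): transport of degree sets along
-- isomorphisms and quotients; the unique irreducible character of degree divisible by the
-- defining characteristic (the Steinberg character).
import Mathlib
import Cfsg.Prelude.Def_Characters
import Cfsg.Prelude.Def_DegreeGraph
import Cfsg.Agent.Lib.helper43.SL2HalfCusp
import Cfsg.Agent.Lib.helper43.SL2Even
import Cfsg.Agent.Lib.helper82.CharQuot

set_option autoImplicit false

namespace Cfsg.Agent.Lib.helper43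

open Matrix

section GeneralDeg

variable {G : Type*} [Group G]

/-- Irreducible characters pull back along group isomorphisms. -/
theorem isIrrCharacter_comp_mulEquiv' {S : Type*} [Group S] (e : S ≃* G) {χ : G → ℂ}
    (h : Cfsg.IsIrrCharacter G χ) : Cfsg.IsIrrCharacter S (fun s => χ (e s)) := by
  obtain ⟨n, ρ, hirr, rfl⟩ := h
  exact ⟨n, Cfsg.Agent.Lib.helper82.compRep e.toMonoidHom ρ,
    (Cfsg.Agent.Lib.helper82.isIrreducible_comp_iff e.toMonoidHom e.surjective ρ).mpr hirr, rfl⟩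

/-- Isomorphic groups have the same set of irreducible character degrees. -/
theorem charDegrees_of_mulEquiv {S : Type*} [Group S] (e : S ≃* G) :
    Cfsg.charDegrees S = Cfsg.charDegrees G := by
  ext d
  constructor
  · rintro ⟨χ, rfl⟩
    refine ⟨⟨fun g => (χ : S → ℂ) (e.symm g), isIrrCharacter_comp_mulEquiv' e.symm χ.2⟩, ?_⟩
    show Cfsg.charDegree (fun g => (χ : S → ℂ) (e.symm g)) = Cfsg.charDegree (χ : S → ℂ)
    unfold Cfsg.charDegree
    simp only [map_one]
  · rintro ⟨χ, rfl⟩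
    refine ⟨⟨fun g => (χ : G → ℂ) (e g), isIrrCharacter_comp_mulEquiv' e χ.2⟩, ?_⟩
    show Cfsg.charDegree (fun g => (χ : G → ℂ) (e g)) = Cfsg.charDegree (χ : G → ℂ)
    unfold Cfsg.charDegree
    simp only [map_one]

/-- The degrees of a quotient are the degrees of the characters trivial on the kernel. -/
theorem charDegrees_quotient [Finite G] (N : Subgroup G) [N.Normal] :
    Cfsg.charDegrees (G ⧸ N) = {d | ∃ χ : Cfsg.IrrCharacter G,
      (∀ x ∈ N, (χ : G → ℂ) x = (χ : G → ℂ) 1) ∧ Cfsg.charDegree (χ : G → ℂ) = d} := by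
  ext d
  constructor
  · rintro ⟨ψ, rfl⟩
    exact ⟨(Cfsg.Agent.Lib.helper82.irrInfl N ψ).1, (Cfsg.Agent.Lib.helper82.irrInfl N ψ).2, rfl⟩
  · rintro ⟨χ, hN, rfl⟩
    refine ⟨Cfsg.Agent.Lib.helper82.irrQuotEquiv N ⟨χ, hN⟩, ?_⟩
    have h1 := Cfsg.Agent.Lib.helper82.irrQuotEquiv_apply N ⟨χ, hN⟩ 1
    unfold Cfsg.charDegree
    rw [← h1]
    rfl

/-- The degree of an irreducible character with `χ 1 = d`. -/
theorem charDegree_eq_of_one_eq (χ : Cfsg.IrrCharacter G) (d : ℕ)
    (h : (χ : G → ℂ) 1 = (d : ℂ)) : Cfsg.charDegree (χ : G → ℂ) = d := by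
  unfold Cfsg.charDegree
  rw [h]
  simp

/-- The trivial character gives the degree `1`. -/
theorem one_mem_charDegrees : 1 ∈ Cfsg.charDegrees G := by
  refine ⟨⟨fun g => (((1 : G →* ℂˣ) g : ℂˣ) : ℂ),
    Cfsg.Agent.Lib.helper82.isIrrCharacter_of_hom 1⟩, ?_⟩
  unfold Cfsg.charDegree
  simp

end GeneralDeg

section SL2pSing

variable {F : Type*} [Field F] [Fintype F]

omit [Fintype F] in
/-- In characteristic `2`, `-1 = 1` in `SL₂`. -/
theorem negOne_eq_one_sl2 [CharP F 2] : (-1 : Matrix.SpecialLinearGroup (Fin 2) F) = 1 := by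
  apply Subtype.ext
  rw [Matrix.SpecialLinearGroup.coe_neg, Matrix.SpecialLinearGroup.coe_one]
  exact CharTwo.neg_eq _

/-- Degrees of the irreducible characters of `SL₂(q)`, `q` even. -/
theorem sl2_even_degrees [CharP F 2] :
    (∀ χ : Cfsg.IrrCharacter (Matrix.SpecialLinearGroup (Fin 2) F),
      Cfsg.charDegree (χ : Matrix.SpecialLinearGroup (Fin 2) F → ℂ) = 1 ∨
      Cfsg.charDegree (χ : Matrix.SpecialLinearGroup (Fin 2) F → ℂ) = Fintype.card F - 1 ∨
      Cfsg.charDegree (χ : Matrix.SpecialLinearGroup (Fin 2) F → ℂ) = Fintype.card F ∨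
      Cfsg.charDegree (χ : Matrix.SpecialLinearGroup (Fin 2) F → ℂ) = Fintype.card F + 1) ∧
    (∃ χ₀ : Cfsg.IrrCharacter (Matrix.SpecialLinearGroup (Fin 2) F),
      Cfsg.charDegree (χ₀ : Matrix.SpecialLinearGroup (Fin 2) F → ℂ) = Fintype.card F ∧
      ∀ χ : Cfsg.IrrCharacter (Matrix.SpecialLinearGroup (Fin 2) F),
        Cfsg.charDegree (χ : Matrix.SpecialLinearGroup (Fin 2) F → ℂ) = Fintype.card F →
          χ = χ₀) ∧
    (∃ χ : Cfsg.IrrCharacter (Matrix.SpecialLinearGroup (Fin 2) F),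
      Cfsg.charDegree (χ : Matrix.SpecialLinearGroup (Fin 2) F → ℂ) = Fintype.card F - 1) ∧
    (4 ≤ Fintype.card F → ∃ χ : Cfsg.IrrCharacter (Matrix.SpecialLinearGroup (Fin 2) F),
      Cfsg.charDegree (χ : Matrix.SpecialLinearGroup (Fin 2) F → ℂ) = Fintype.card F + 1) := by
  classical
  have : Fintype (Matrix.SpecialLinearGroup (Fin 2) F) := Fintype.ofFinite _
  have : Fintype (Cfsg.IrrCharacter (Matrix.SpecialLinearGroup (Fin 2) F)) := Fintype.ofFinite _
  have hq : 2 ≤ Fintype.card F := Fintype.one_lt_card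
  obtain ⟨m, r, hdeg, -, hcls, -, e2, e3, e4⟩ := sl2_even_classification F
  have hd : ∀ χ : Cfsg.IrrCharacter (Matrix.SpecialLinearGroup (Fin 2) F),
      Cfsg.charDegree (χ : Matrix.SpecialLinearGroup (Fin 2) F → ℂ) =
        m χ + (Fintype.card F - 1) * r χ := by
    intro χ
    apply charDegree_eq_of_one_eq
    rw [hdeg χ]
    push_cast [Nat.cast_sub (show 1 ≤ Fintype.card F by omega)]
    ring
  refine ⟨?_, ?_, ?_, ?_⟩
  · intro χ
    rw [hd χ]
    rcases hcls χ with ⟨h1, h2⟩ | ⟨h1, h2⟩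
    · left
      rw [h1, h2]
      simp
    · rw [h1, mul_one]
      omega
  · obtain ⟨a, ha⟩ := Finset.card_eq_one.1 e2
    have ha' : a ∈ Finset.univ.filter (fun χ => r χ = 1 ∧ m χ = 1) := by
      rw [ha]
      exact Finset.mem_singleton_self a
    obtain ⟨h1, h2⟩ := (Finset.mem_filter.1 ha').2
    refine ⟨a, ?_, fun χ hχ => ?_⟩
    · rw [hd a, h1, h2]
      omega
    · have : χ ∈ Finset.univ.filter (fun χ => r χ = 1 ∧ m χ = 1) := by
        refine Finset.mem_filter.2 ⟨Finset.mem_univ _, ?_⟩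
        rw [hd χ] at hχ
        rcases hcls χ with ⟨h1, h2⟩ | ⟨h1, h2⟩
        · rw [h1, h2] at hχ
          simp at hχ
          omega
        · rw [h1, mul_one] at hχ
          exact ⟨h1, by omega⟩
      rw [ha] at this
      exact Finset.mem_singleton.1 this
  · have hpos : 0 < (Finset.univ.filter (fun χ => r χ = 1 ∧ m χ = 0)).card := by omega
    obtain ⟨χ, hχ⟩ := Finset.card_pos.1 hpos
    obtain ⟨h1, h2⟩ := (Finset.mem_filter.1 hχ).2
    refine ⟨χ, ?_⟩
    rw [hd χ, h1, h2]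
    omega
  · intro h4
    have hpos : 0 < (Finset.univ.filter (fun χ => r χ = 1 ∧ m χ = 2)).card := by omega
    obtain ⟨χ, hχ⟩ := Finset.card_pos.1 hpos
    obtain ⟨h1, h2⟩ := (Finset.mem_filter.1 hχ).2
    refine ⟨χ, ?_⟩
    rw [hd χ, h1, h2]
    omega

/-- The irreducible characters of `SL₂(q)` of degree divisible by the defining characteristic:
there is exactly one, of degree `q`, and it is trivial on the centre. -/
theorem sl2_p_singular (p : ℕ) [Fact p.Prime] [CharP F p] :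
    (∀ χ : Cfsg.IrrCharacter (Matrix.SpecialLinearGroup (Fin 2) F),
      p ∣ Cfsg.charDegree (χ : Matrix.SpecialLinearGroup (Fin 2) F → ℂ) →
        Cfsg.charDegree (χ : Matrix.SpecialLinearGroup (Fin 2) F → ℂ) = Fintype.card F) ∧
    ∃ χ₀ : Cfsg.IrrCharacter (Matrix.SpecialLinearGroup (Fin 2) F),
      Cfsg.charDegree (χ₀ : Matrix.SpecialLinearGroup (Fin 2) F → ℂ) = Fintype.card F ∧
      (∀ z ∈ Subgroup.center (Matrix.SpecialLinearGroup (Fin 2) F),
        (χ₀ : Matrix.SpecialLinearGroup (Fin 2) F → ℂ) z =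
          (χ₀ : Matrix.SpecialLinearGroup (Fin 2) F → ℂ) 1) ∧
      ∀ χ : Cfsg.IrrCharacter (Matrix.SpecialLinearGroup (Fin 2) F),
        Cfsg.charDegree (χ : Matrix.SpecialLinearGroup (Fin 2) F → ℂ) = Fintype.card F →
          χ = χ₀ := by
  have hp : p.Prime := Fact.out
  have hpq : p ∣ Fintype.card F := dvd_card_of_charP p
  have hq : 2 ≤ Fintype.card F := Fintype.one_lt_card
  by_cases hp2 : p = 2
  · subst hp2
    obtain ⟨hall, ⟨χ₀, h0, huniq⟩, -, -⟩ := sl2_even_degrees (F := F)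
    refine ⟨?_, χ₀, h0, ?_, huniq⟩
    · intro χ hdvd
      rcases hall χ with h | h | h | h
      · rw [h] at hdvd
        omega
      · rw [h] at hdvd
        omega
      · exact h
      · rw [h] at hdvd
        omega
    · intro z hz
      rcases sl2_center_cases hz with h | h
      · rw [h]
      · rw [h, negOne_eq_one_sl2]
  · have hodd : Odd (Fintype.card F) := odd_card_of_charP p hp2
    have hone : ∀ χ : Cfsg.IrrCharacter (Matrix.SpecialLinearGroup (Fin 2) F),
        Cfsg.charDegree (χ : Matrix.SpecialLinearGroup (Fin 2) F → ℂ) = Fintype.card F →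
        (χ : Matrix.SpecialLinearGroup (Fin 2) F → ℂ) 1 = (Fintype.card F : ℂ) := by
      intro χ h
      rw [Cfsg.Agent.Lib.helper81.irr_one_eq_charDegree χ, h]
    obtain ⟨χ₀, h0⟩ := sl2_odd_exists_degree_q (F := F) hodd
    refine ⟨?_, χ₀, charDegree_eq_of_one_eq χ₀ _ h0, ?_, ?_⟩
    · intro χ hdvd
      by_contra hne
      have hne' : (χ : Matrix.SpecialLinearGroup (Fin 2) F → ℂ) 1 ≠ (Fintype.card F : ℂ) :=
        fun h => hne (charDegree_eq_of_one_eq χ _ h)
      obtain ⟨d, hd, hnd⟩ := sl2_odd_degree_coprime hodd p hp hpq χ hne'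
      rw [charDegree_eq_of_one_eq χ d hd] at hdvd
      exact hnd hdvd
    · intro z hz
      rcases sl2_center_cases hz with h | h
      · rw [h]
      · rw [h, steinberg_neg_one hodd χ₀ h0, h0]
    · intro χ hχ
      exact sl2_odd_degree_q_unique hodd χ χ₀ (hone χ hχ) h0

/-- **The Steinberg character of `PSL₂(q)`**: it is the unique irreducible character of degree
divisible by the defining characteristic, and its degree is `q`. -/
theorem psl2_p_singular (p : ℕ) [Fact p.Prime] [CharP F p] :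
    Nat.card {χ : Cfsg.IrrCharacter (Matrix.ProjectiveSpecialLinearGroup (Fin 2) F) //
      p ∣ Cfsg.charDegree (χ : Matrix.ProjectiveSpecialLinearGroup (Fin 2) F → ℂ)} = 1 ∧
    ∀ χ : Cfsg.IrrCharacter (Matrix.ProjectiveSpecialLinearGroup (Fin 2) F),
      p ∣ Cfsg.charDegree (χ : Matrix.ProjectiveSpecialLinearGroup (Fin 2) F → ℂ) →
        Cfsg.charDegree (χ : Matrix.ProjectiveSpecialLinearGroup (Fin 2) F → ℂ) =
          Fintype.card F := by
  have hpq : p ∣ Fintype.card F := dvd_card_of_charP p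
  obtain ⟨hall, χ₀, h0, hcen, huniq⟩ := sl2_p_singular (F := F) p
  let N : Subgroup (Matrix.SpecialLinearGroup (Fin 2) F) :=
    Subgroup.center (Matrix.SpecialLinearGroup (Fin 2) F)
  let E := Cfsg.Agent.Lib.helper82.irrQuotEquiv N
  have hdeg : ∀ ψ : Cfsg.IrrCharacter (Matrix.ProjectiveSpecialLinearGroup (Fin 2) F),
      Cfsg.charDegree (ψ : Matrix.ProjectiveSpecialLinearGroup (Fin 2) F → ℂ) =
        Cfsg.charDegree (((E.symm ψ).1 : Cfsg.IrrCharacter (Matrix.SpecialLinearGroup (Fin 2) F)) :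
          Matrix.SpecialLinearGroup (Fin 2) F → ℂ) := fun ψ => rfl
  have hall' : ∀ ψ : Cfsg.IrrCharacter (Matrix.ProjectiveSpecialLinearGroup (Fin 2) F),
      p ∣ Cfsg.charDegree (ψ : Matrix.ProjectiveSpecialLinearGroup (Fin 2) F → ℂ) →
        Cfsg.charDegree (ψ : Matrix.ProjectiveSpecialLinearGroup (Fin 2) F → ℂ) =
          Fintype.card F := by
    intro ψ hψ
    rw [hdeg ψ] at hψ ⊢
    exact hall _ hψ
  refine ⟨?_, hall'⟩
  rw [Nat.card_eq_one_iff_unique]
  constructor
  · constructor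
    rintro ⟨ψ₁, h1⟩ ⟨ψ₂, h2⟩
    apply Subtype.ext
    show ψ₁ = ψ₂
    apply E.symm.injective
    apply Subtype.ext
    have e1 := hall' ψ₁ h1
    have e2 := hall' ψ₂ h2
    rw [hdeg] at e1 e2
    rw [huniq _ e1, huniq _ e2]
  · refine ⟨⟨E ⟨χ₀, hcen⟩, ?_⟩⟩
    rw [hdeg, Equiv.symm_apply_apply, h0]
    exact hpq

end SL2pSing

end Cfsg.Agent.Lib.helper43
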