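import Mathlib
import Cfsg.Prelude.Def_Characters
import Cfsg.Prelude.Def_Blocks
import Cfsg.Agent.Lib.helper80.Transport
import Cfsg.Agent.Lib.helper4.CharTheory
import Cfsg.Agent.Lib.helper82.Ito
import Cfsg.Agent.Lib.helper82.CharQuot
import Cfsg.Agent.Lib.helper32.Coh8
import Cfsg.Agent.Lib.helper69.StemExp
import Cfsg.Agent.Lib.helper83.CharBasic
import Cfsg.Agent.Lib.helper21.GalConj
import Cfsg.Agent.Lib.helper46.Dicyclic
import Cfsg.Agent.Lib.helper43.PSL2Deg

/-!
# Counting irreducible characters of degree prime to `ℓ` in Sylow normalizers (helper43)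

Abstract counting lemmas used for the McKay equality of `SL₂(q)`:

* `card_irr_degree_congr`: the number of irreducible characters whose degree satisfies a
  predicate is invariant under group isomorphism;
* `card_pprime_normalizer_of_comm`: for an abelian Sylow `ℓ`-subgroup `S`, every irreducible
  character of `N_G(S)` has degree prime to `ℓ`, so their number is the class number of `N_G(S)`;
* `card_odd_degree_dicyclic`: a dicyclic group has exactly four irreducible characters of odd
  degree;
* `card_odd_degree_of_card_24`: a group of order `24` with a normal subgroup of order `8`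
  contained in the commutator subgroup and containing a central involution has exactly four
  irreducible characters of odd degree;
* `nonempty_mulEquiv_normalizer_map`: the normalizer of the image of `Q` under an automorphism.
-/

set_option autoImplicit false

namespace Cfsg.Agent.Lib.helper43

open Cfsg

universe u

section McKayCount

/-- Transport of the count of irreducible characters whose degree satisfies `P`. -/
theorem card_irr_degree_congr {K₁ K₂ : Type u} [Group K₁] [Group K₂] (φ : K₁ ≃* K₂)
    (P : ℕ → Prop) :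
    Nat.card {χ : IrrCharacter K₁ // P (charDegree (χ : K₁ → ℂ))} =
      Nat.card {χ : IrrCharacter K₂ // P (charDegree (χ : K₂ → ℂ))} := by
  apply Nat.card_congr
  refine (helper80.irrEquiv φ).subtypeEquiv (fun χ => ?_)
  have h : charDegree ((helper80.irrEquiv φ χ : IrrCharacter K₂) : K₂ → ℂ)
      = charDegree (χ : K₁ → ℂ) := by
    unfold charDegree
    have : ((helper80.irrEquiv φ χ : IrrCharacter K₂) : K₂ → ℂ) 1 = (χ : K₁ → ℂ) 1 := by
      show (helper80.irrMap φ χ : K₂ → ℂ) 1 = (χ : K₁ → ℂ) 1
      rw [helper80.irrMap_apply, map_one]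
    rw [this]
  rw [h]

/-- The normalizer of the image of `Q` under an automorphism `e` is isomorphic to the normalizer
of `Q`. -/
theorem nonempty_mulEquiv_normalizer_map {G : Type u} [Group G] (Q B : Subgroup G)
    (hB : Subgroup.normalizer (Q : Set G) = B) (e : G ≃* G) (P : Subgroup G)
    (hP : P = Q.map e.toMonoidHom) :
    Nonempty (↥B ≃* ↥(Subgroup.normalizer (P : Set G))) := by
  have h : Subgroup.normalizer (P : Set G) = B.map e.toMonoidHom := by
    rw [hP, ← Subgroup.map_equiv_normalizer_eq, hB]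
  exact ⟨(e.subgroupMap B).trans (MulEquiv.subgroupCongr h.symm)⟩

/-- If the Sylow `ℓ`-subgroup `S` is abelian, all irreducible characters of `N_G(S)` have degree
prime to `ℓ` (Itô), so their number is the class number of `N_G(S)`. -/
theorem card_pprime_normalizer_of_comm {G : Type u} [Group G] [Finite G] {ℓ : ℕ} [Fact ℓ.Prime]
    (S : Sylow ℓ G) (hS : ∀ a ∈ (S : Subgroup G), ∀ b ∈ (S : Subgroup G), a * b = b * a) :
    Nat.card {ψ : IrrCharacter (Subgroup.normalizer ((S : Subgroup G) : Set G)) //
        ¬ ℓ ∣ charDegree (ψ : Subgroup.normalizer ((S : Subgroup G) : Set G) → ℂ)} =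
      Nat.card (ConjClasses (Subgroup.normalizer ((S : Subgroup G) : Set G))) := by
  rw [← helper4.card_irr_eq_card_conjClasses]
  apply Nat.card_congr
  refine Equiv.subtypeUnivEquiv (fun ψ => ?_)
  have hnorm : ((S : Subgroup G).subgroupOf
      (Subgroup.normalizer ((S : Subgroup G) : Set G))).Normal := Subgroup.normal_in_normalizer
  obtain ⟨d, hd1, hd2⟩ := helper82.ito_char ((S : Subgroup G).subgroupOf
      (Subgroup.normalizer ((S : Subgroup G) : Set G))) (by
    intro a ha b hb
    apply Subtype.ext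
    exact hS a ha b hb) ψ.2
  rw [charDegree_eq_of_one_eq ψ d hd1]
  intro hℓ
  have h1 : ℓ ∣ (S : Subgroup G).relIndex (Subgroup.normalizer ((S : Subgroup G) : Set G)) :=
    dvd_trans hℓ hd2
  have h2 : (S : Subgroup G).relIndex (Subgroup.normalizer ((S : Subgroup G) : Set G))
      ∣ (S : Subgroup G).index := Subgroup.relIndex_dvd_index_of_le Subgroup.le_normalizer
  exact S.not_dvd_index (dvd_trans h1 h2)

/-- A dicyclic group `⟨u⟩ ∪ w⟨u⟩` has exactly four irreducible characters of odd degree. -/
theorem card_odd_degree_dicyclic {G : Type u} [Group G] [Finite G] (m : ℕ) [NeZero m] (u w : G)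
    (hu : orderOf u = 2 * m) (hw : w * u * w⁻¹ = u⁻¹) (hwU : w ∉ Subgroup.zpowers u)
    (hw2 : w * w = u ^ m) (D : Subgroup G)
    (hD : ∀ g, g ∈ D ↔ g ∈ Subgroup.zpowers u ∨ w⁻¹ * g ∈ Subgroup.zpowers u) :
    Nat.card {ψ : IrrCharacter D // ¬ 2 ∣ charDegree (ψ : D → ℂ)} = 4 := by
  classical
  have : Fintype D := Fintype.ofFinite _
  have : Fintype (IrrCharacter D) := Fintype.ofFinite _
  have hm : 0 < m := Nat.pos_of_ne_zero (NeZero.ne m)
  have hcard : Nat.card D = 4 * m := helper46.dicyclic_card m u w hu hw hwU hw2 D hD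
  have hk : Nat.card (ConjClasses D) = m + 3 :=
    helper46.dicyclic_card_conjClasses m u w hu hw hwU hw2 D hD
  have hUD : Subgroup.zpowers u ≤ D := fun x hx => (hD x).mpr (Or.inl hx)
  have hAidx : ((Subgroup.zpowers u).subgroupOf D).index = 2 := by
    have h1 := Subgroup.relIndex_mul_index hUD
    have h2 := (Subgroup.zpowers u).card_mul_index
    have h3 := D.card_mul_index
    rw [Nat.card_zpowers, hu] at h2
    rw [hcard] at h3
    have h4 : (Subgroup.zpowers u).relIndex D * (4 * m * D.index) = 2 * (4 * m * D.index) := by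
      calc (Subgroup.zpowers u).relIndex D * (4 * m * D.index)
          = 4 * m * ((Subgroup.zpowers u).relIndex D * D.index) := by ring
        _ = 4 * m * (Subgroup.zpowers u).index := by rw [h1]
        _ = 2 * (2 * m * (Subgroup.zpowers u).index) := by ring
        _ = 2 * (4 * m * D.index) := by rw [h2, h3]
    have h5 : 4 * m * D.index ≠ 0 := by
      rw [h3]
      exact Nat.card_pos.ne'
    exact Nat.eq_of_mul_eq_mul_right (Nat.pos_of_ne_zero h5) h4
  have hAn : ((Subgroup.zpowers u).subgroupOf D).Normal := Subgroup.normal_of_index_eq_two hAidx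
  have hdeg : ∀ χ : IrrCharacter D,
      charDegree (χ : D → ℂ) = 1 ∨ charDegree (χ : D → ℂ) = 2 := by
    intro χ
    obtain ⟨d, hd1, hd2⟩ := helper82.ito_char ((Subgroup.zpowers u).subgroupOf D) (by
      intro a ha b hb
      apply Subtype.ext
      have ha' : (a : G) ∈ Subgroup.zpowers u := ha
      have hb' : (b : G) ∈ Subgroup.zpowers u := hb
      obtain ⟨i, hi⟩ := Subgroup.mem_zpowers_iff.mp ha'
      obtain ⟨j, hj⟩ := Subgroup.mem_zpowers_iff.mp hb'
      show (a : G) * (b : G) = (b : G) * (a : G)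
      rw [← hi, ← hj, ← zpow_add, ← zpow_add, add_comm]) χ.2
    rw [charDegree_eq_of_one_eq χ d hd1]
    rw [hAidx] at hd2
    have hle := Nat.le_of_dvd (by norm_num) hd2
    have hd0 : d ≠ 0 := by
      rintro rfl
      simp at hd2
    interval_cases d
    · exact absurd rfl hd0
    · exact Or.inl rfl
    · exact Or.inr rfl
  have hsum : ∑ χ : IrrCharacter D, charDegree (χ : D → ℂ) ^ 2 = 4 * m := by
    rw [helper32.sum_irr_degree_sq, hcard]
  have hI : Fintype.card (IrrCharacter D) = m + 3 := by
    rw [← Nat.card_eq_fintype_card, helper4.card_irr_eq_card_conjClasses, hk]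
  rw [Nat.card_eq_fintype_card, Fintype.card_subtype]
  have h1 : ∑ χ : IrrCharacter D, charDegree (χ : D → ℂ) ^ 2
      = ∑ χ : IrrCharacter D, (if ¬ 2 ∣ charDegree (χ : D → ℂ) then 1 else 4) := by
    apply Finset.sum_congr rfl
    intro χ _
    rcases hdeg χ with h | h <;> rw [h] <;> norm_num
  rw [h1, Finset.sum_ite, Finset.sum_const, Finset.sum_const, smul_eq_mul, smul_eq_mul] at hsum
  have h2 := Finset.card_filter_add_card_filter_not
    (s := (Finset.univ : Finset (IrrCharacter D))) (fun χ => ¬ 2 ∣ charDegree (χ : D → ℂ))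
  rw [Finset.card_univ, hI] at h2
  omega

/-- A group of order `24` with a normal subgroup `S` of order `8` inside the commutator subgroup
and a central involution `z ∈ S` has exactly four irreducible characters of odd degree. -/
theorem card_odd_degree_of_card_24 {N : Type u} [Group N] [Finite N] (hN : Nat.card N = 24)
    (S : Subgroup N) [S.Normal] (hS : Nat.card S = 8) (hSc : S ≤ commutator N)
    (z : N) (hz : z ∈ Subgroup.center N) (hz2 : z * z = 1) (hz1 : z ≠ 1) (hzS : z ∈ S) :
    Nat.card {ψ : IrrCharacter N // ¬ 2 ∣ charDegree (ψ : N → ℂ)} = 4 := by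
  classical
  have : Fintype N := Fintype.ofFinite _
  have : Fintype (IrrCharacter N) := Fintype.ofFinite _
  have hlin : Nat.card {χ : IrrCharacter N // (χ : N → ℂ) 1 = 1} = (commutator N).index :=
    helper82.card_linear_irr
  have hidx3 : S.index = 3 := by
    have := S.card_mul_index
    rw [hS, hN] at this
    omega
  have hci : (commutator N).index ∣ 3 := by
    rw [← hidx3]
    exact Subgroup.index_dvd_of_le hSc
  have hord : orderOf z = 2 := orderOf_eq_prime (by rw [pow_two]; exact hz2) hz1
  have hZn : (Subgroup.zpowers z).Normal := by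
    refine ⟨fun x hx g => ?_⟩
    obtain ⟨i, rfl⟩ := Subgroup.mem_zpowers_iff.mp hx
    have hc : g * z = z * g := Subgroup.mem_center_iff.mp hz g
    have h1 : g * z * g⁻¹ = z := by rw [hc, mul_inv_cancel_right]
    have : g * z ^ i * g⁻¹ = z ^ i := by rw [← conj_zpow, h1]
    rw [this]
    exact Subgroup.zpow_mem _ (Subgroup.mem_zpowers z) i
  have hZcard : Nat.card (Subgroup.zpowers z) = 2 := by rw [Nat.card_zpowers, hord]
  have hZidx : (Subgroup.zpowers z).index = 12 := by
    have := (Subgroup.zpowers z).card_mul_index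
    rw [hZcard, hN] at this
    omega
  have hsumZ := helper32.sum_irr_degree_sq_above (Subgroup.zpowers z)
  rw [hZidx] at hsumZ
  -- characters of odd degree are trivial on `⟨z⟩`
  have hodd_triv : ∀ χ : IrrCharacter N, ¬ 2 ∣ charDegree (χ : N → ℂ) →
      ∀ x ∈ Subgroup.zpowers z, (χ : N → ℂ) x = (χ : N → ℂ) 1 := by
    intro χ hχ x hx
    obtain ⟨c, hc1, hc2⟩ := helper69.irr_center_det χ z hz
    have hcd := hc2 (hSc hzS)
    have hχ1 : (χ : N → ℂ) 1 ≠ 0 := by
      rw [helper83.irr_one_eq_charDegree]
      have : charDegree (χ : N → ℂ) ≠ 0 := by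
        intro h0
        apply hχ
        rw [h0]
        exact dvd_zero 2
      exact_mod_cast this
    have hzc : (χ : N → ℂ) z = c * (χ : N → ℂ) 1 := by
      have := hc1 1
      rwa [one_mul] at this
    have hcc : c * c = 1 := by
      have h := hc1 z
      rw [hz2, hzc] at h
      have h3 : (χ : N → ℂ) 1 * (c * c - 1) = 0 := by linear_combination -h
      rcases mul_eq_zero.mp h3 with h0 | h0
      · exact absurd h0 hχ1
      · linear_combination h0
    have hc : c = 1 := by
      have h3 : (c - 1) * (c + 1) = 0 := by linear_combination hcc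
      rcases mul_eq_zero.mp h3 with h0 | h0
      · linear_combination h0
      · exfalso
        have hcm : c = -1 := by linear_combination h0
        rw [hcm] at hcd
        have hodd : Odd (charDegree (χ : N → ℂ)) := by
          rw [Nat.odd_iff]
          omega
        rw [hodd.neg_one_pow] at hcd
        norm_num at hcd
    obtain ⟨i, rfl⟩ := Subgroup.mem_zpowers_iff.mp hx
    rw [← zpow_mod_orderOf, hord]
    have hi : i % ((2 : ℕ) : ℤ) = 0 ∨ i % ((2 : ℕ) : ℤ) = 1 := by omega
    rcases hi with h | h
    · rw [h, zpow_zero]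
    · rw [h, zpow_one, hzc, hc, one_mul]
  -- the counting
  obtain ⟨T, hT⟩ : ∃ T : Finset (IrrCharacter N), T = Finset.univ.filter
      (fun χ : IrrCharacter N => ∀ x ∈ Subgroup.zpowers z, (χ : N → ℂ) x = (χ : N → ℂ) 1) :=
    ⟨_, rfl⟩
  obtain ⟨O, hO⟩ : ∃ O : Finset (IrrCharacter N), O = Finset.univ.filter
      (fun χ : IrrCharacter N => ¬ 2 ∣ charDegree (χ : N → ℂ)) := ⟨_, rfl⟩
  rw [← hT] at hsumZ
  have hOT : O ⊆ T := by
    intro χ hχ
    rw [hO, Finset.mem_filter] at hχ
    rw [hT, Finset.mem_filter]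
    exact ⟨Finset.mem_univ _, hodd_triv χ hχ.2⟩
  have hle : ∀ χ ∈ T, charDegree (χ : N → ℂ) ^ 2 ≤ 12 := by
    intro χ hχ
    rw [← hsumZ]
    exact Finset.single_le_sum (f := fun χ : IrrCharacter N => charDegree (χ : N → ℂ) ^ 2)
      (fun _ _ => Nat.zero_le _) hχ
  have hdegO : ∀ χ ∈ O, charDegree (χ : N → ℂ) = 1 ∨ charDegree (χ : N → ℂ) = 3 := by
    intro χ hχ
    have h1 := hle χ (hOT hχ)
    have h2 : ¬ 2 ∣ charDegree (χ : N → ℂ) := by
      rw [hO, Finset.mem_filter] at hχ
      exact hχ.2
    have h3 : charDegree (χ : N → ℂ) ≤ 3 := by nlinarith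
    omega
  have hsplit : ∑ χ ∈ T, charDegree (χ : N → ℂ) ^ 2
      = ∑ χ ∈ O, charDegree (χ : N → ℂ) ^ 2 + ∑ χ ∈ T \ O, charDegree (χ : N → ℂ) ^ 2 := by
    rw [← Finset.sum_sdiff hOT, add_comm]
  have h4 : 4 ∣ ∑ χ ∈ T \ O, charDegree (χ : N → ℂ) ^ 2 := by
    apply Finset.dvd_sum
    intro χ hχ
    have h2 : 2 ∣ charDegree (χ : N → ℂ) := by
      by_contra h
      apply (Finset.mem_sdiff.mp hχ).2
      rw [hO, Finset.mem_filter]
      exact ⟨Finset.mem_univ _, h⟩
    obtain ⟨r, hr⟩ := h2
    exact ⟨r ^ 2, by rw [hr]; ring⟩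
  obtain ⟨O1, hO1⟩ : ∃ O1 : Finset (IrrCharacter N),
      O1 = O.filter (fun χ : IrrCharacter N => charDegree (χ : N → ℂ) = 1) := ⟨_, rfl⟩
  have hO1card : O1.card = (commutator N).index := by
    rw [← hlin, Nat.card_eq_fintype_card, Fintype.card_subtype]
    congr 1
    ext χ
    rw [hO1, hO, Finset.mem_filter, Finset.mem_filter, Finset.mem_filter,
      ← helper21.charDegree_eq_one_iff]
    constructor
    · rintro ⟨-, h⟩
      exact ⟨Finset.mem_univ _, h⟩
    · rintro ⟨-, h⟩
      exact ⟨⟨Finset.mem_univ _, by rw [h]; norm_num⟩, h⟩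
  have hsumO : ∑ χ ∈ O, charDegree (χ : N → ℂ) ^ 2 + 9 * O1.card = O1.card + 9 * O.card := by
    have h5 : ∑ χ ∈ O, charDegree (χ : N → ℂ) ^ 2
        = ∑ χ ∈ O, (if charDegree (χ : N → ℂ) = 1 then 1 else 9) := by
      apply Finset.sum_congr rfl
      intro χ hχ
      rcases hdegO χ hχ with h | h <;> rw [h] <;> norm_num
    rw [h5, Finset.sum_ite, Finset.sum_const, Finset.sum_const, smul_eq_mul, smul_eq_mul,
      mul_one, ← hO1]
    have hc := Finset.card_filter_add_card_filter_not (s := O)
      (fun χ : IrrCharacter N => charDegree (χ : N → ℂ) = 1)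
    rw [← hO1] at hc
    omega
  rw [Nat.card_eq_fintype_card, Fintype.card_subtype, ← hO]
  obtain ⟨r, hr⟩ := h4
  have hO1le : O1.card ≤ O.card := by
    rw [hO1]
    exact Finset.card_le_card (Finset.filter_subset _ _)
  have ha : O1.card = 1 ∨ O1.card = 3 := by
    rw [hO1card]
    have hle3 := Nat.le_of_dvd (by norm_num) hci
    have h0 : (commutator N).index ≠ 0 := by
      intro h
      rw [h] at hci
      simp at hci
    have h2 : (commutator N).index ≠ 2 := by
      intro h
      rw [h] at hci
      omega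
    omega
  rw [hsplit, hr] at hsumZ
  omega

end McKayCount

end Cfsg.Agent.Lib.helper43
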