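import Mathlib
import Cfsg.Agent.Lib.helper43.McKayCount
import Cfsg.Agent.Lib.helper46.Sylow2Torus
import Cfsg.Agent.Lib.helper46.SL2Sylow

/-!
# Sylow normalizers in a group with a self-centralizing cyclic torus (helper43)

Variants of `helper46.sylow_cyclic_torus` and `helper46.sylow_two_torus` (same hypotheses, the
first parts of the proofs are adapted from there) with the conclusions needed for the McKay
equality:

* `sylow_cyclic_torus_equiv`: for `ℓ` odd, a Sylow `ℓ`-subgroup is abelian and its normalizer is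
  isomorphic to the normalizer of the torus;
* `sylow_two_torus_odd_count`: the normalizer of a Sylow `2`-subgroup has exactly four
  irreducible characters of odd degree.
-/

set_option autoImplicit false

namespace Cfsg.Agent.Lib.helper43

open Cfsg
open Cfsg.Agent.Lib.helper46

universe u

section McKayTorus

variable {G : Type u} [Group G]

/-- For `ℓ` odd and a cyclic torus `⟨t⟩` of index prime to `ℓ` and order divisible by `ℓ` which
is the centralizer of each of its elements of order `> 2`: a Sylow `ℓ`-subgroup is abelian and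
its normalizer is isomorphic to the normalizer of the torus. -/
theorem sylow_cyclic_torus_equiv [Finite G] (ℓ : ℕ) [Fact ℓ.Prime] (hℓ : ℓ ≠ 2) (t : G)
    (hdvd : ℓ ∣ orderOf t) (hidx : ¬ ℓ ∣ Nat.card G / orderOf t)
    (hcent : ∀ x ∈ Subgroup.zpowers t, x * x ≠ 1 →
      ∀ h : G, h * x = x * h → h ∈ Subgroup.zpowers t)
    (P : Sylow ℓ G) :
    (∀ a ∈ (P : Subgroup G), ∀ b ∈ (P : Subgroup G), a * b = b * a) ∧
    Nonempty (↥(Subgroup.normalizer (Subgroup.zpowers t : Set G)) ≃*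
      ↥(Subgroup.normalizer ((P : Subgroup G) : Set G))) := by
  have hℓp : ℓ.Prime := Fact.out
  have hm0 : orderOf t ≠ 0 := (orderOf_pos t).ne'
  have hmG : orderOf t ∣ Nat.card G := orderOf_dvd_natCard t
  obtain ⟨m, hm⟩ : ∃ m, m = orderOf t := ⟨_, rfl⟩
  rw [← hm] at hm0 hmG hdvd hidx
  obtain ⟨a, ha⟩ : ∃ a, a = m.factorization ℓ := ⟨_, rfl⟩
  have ha1 : 1 ≤ a := by
    rw [ha]
    exact hℓp.factorization_pos_of_dvd hm0 hdvd
  have hG0 : Nat.card G / m ≠ 0 := by
    intro h0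
    have h1 : Nat.card G = m * (Nat.card G / m) := (Nat.mul_div_cancel' hmG).symm
    rw [h0, mul_zero] at h1
    exact Nat.card_pos.ne' h1
  have hGfac : (Nat.card G).factorization ℓ = a := by
    have h1 : Nat.card G = m * (Nat.card G / m) := (Nat.mul_div_cancel' hmG).symm
    rw [h1, Nat.factorization_mul hm0 hG0, Finsupp.add_apply,
      Nat.factorization_eq_zero_of_not_dvd hidx, add_zero, ha]
  have hm' : ℓ ^ a * (m / ℓ ^ a) = m := by
    rw [ha]
    exact Nat.ordProj_mul_ordCompl_eq_self m ℓ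
  obtain ⟨m', hm'def⟩ : ∃ m', m' = m / ℓ ^ a := ⟨_, rfl⟩
  rw [← hm'def] at hm'
  have hm'0 : m' ≠ 0 := by
    rintro rfl
    rw [mul_zero] at hm'
    exact hm0 hm'.symm
  have hords : orderOf (t ^ m') = ℓ ^ a := by
    rw [orderOf_pow_of_dvd hm'0 (by rw [← hm]; exact Dvd.intro_left _ hm'), ← hm]
    exact Nat.div_eq_of_eq_mul_left (Nat.pos_of_ne_zero hm'0) hm'.symm
  have hsT : t ^ m' ∈ Subgroup.zpowers t := Subgroup.pow_mem _ (Subgroup.mem_zpowers t) m'
  have hss : t ^ m' * t ^ m' ≠ 1 := by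
    intro h1
    have h2 : (t ^ m') ^ 2 = 1 := by rw [pow_two]; exact h1
    have h3 := orderOf_dvd_of_pow_eq_one h2
    rw [hords] at h3
    have h4 : ℓ ∣ 2 := dvd_trans (dvd_pow_self ℓ (by omega)) h3
    exact hℓ ((Nat.prime_dvd_prime_iff_eq hℓp Nat.prime_two).mp h4)
  have hQcard : Nat.card (Subgroup.zpowers (t ^ m'))
      = ℓ ^ (Nat.card G).factorization ℓ := by
    rw [Nat.card_zpowers, hords, hGfac]
  obtain ⟨e, hP⟩ := sylow_eq_map_of_card ℓ (Subgroup.zpowers (t ^ m')) hQcard P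
  -- the centralizer of `Q`
  have hCQ : Subgroup.centralizer ((Subgroup.zpowers (t ^ m') : Subgroup G) : Set G)
      = Subgroup.zpowers t := by
    ext h
    rw [Subgroup.mem_centralizer_iff]
    constructor
    · intro hh
      exact hcent _ hsT hss h (hh _ (Subgroup.mem_zpowers _)).symm
    · intro hh x hx
      have hxT : x ∈ Subgroup.zpowers t := by
        obtain ⟨k, rfl⟩ := Subgroup.mem_zpowers_iff.mp hx
        exact Subgroup.zpow_mem _ hsT k
      obtain ⟨i, rfl⟩ := Subgroup.mem_zpowers_iff.mp hh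
      obtain ⟨j, rfl⟩ := Subgroup.mem_zpowers_iff.mp hxT
      rw [← _root_.zpow_add, ← _root_.zpow_add, add_comm]
  -- the normalizer of `Q`
  have hNQ : Subgroup.normalizer ((Subgroup.zpowers (t ^ m') : Subgroup G) : Set G)
      = Subgroup.normalizer (Subgroup.zpowers t : Set G) := by
    apply le_antisymm
    · have := normalizer_le_normalizer_centralizer (Subgroup.zpowers (t ^ m'))
      rw [hCQ] at this
      exact this
    · intro g hg
      have key : ∀ g : G, g ∈ Subgroup.normalizer (Subgroup.zpowers t : Set G) →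
          g * t ^ m' * g⁻¹ ∈ Subgroup.zpowers (t ^ m') := by
        intro g hg
        have h1 : g * t * g⁻¹ ∈ Subgroup.zpowers t :=
          (Subgroup.mem_normalizer_iff.mp hg t).mp (Subgroup.mem_zpowers t)
        obtain ⟨i, hi⟩ := Subgroup.mem_zpowers_iff.mp h1
        have e : (t ^ i) ^ m' = (t ^ m') ^ i := by
          rw [← zpow_natCast (t ^ i) m', ← _root_.zpow_mul, mul_comm, _root_.zpow_mul,
            zpow_natCast]
        rw [← conj_pow, ← hi, e]
        exact Subgroup.zpow_mem _ (Subgroup.mem_zpowers _) i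
      apply mem_normalizer_zpowers
      · exact key g hg
      · have := key g⁻¹ (Subgroup.inv_mem _ hg)
        rw [inv_inv] at this
        exact this
  refine ⟨?_, ?_⟩
  · intro x hx y hy
    rw [hP] at hx hy
    obtain ⟨x', hx', rfl⟩ := Subgroup.mem_map.mp hx
    obtain ⟨y', hy', rfl⟩ := Subgroup.mem_map.mp hy
    obtain ⟨i, rfl⟩ := Subgroup.mem_zpowers_iff.mp hx'
    obtain ⟨j, rfl⟩ := Subgroup.mem_zpowers_iff.mp hy'
    rw [← map_mul, ← map_mul, ← _root_.zpow_add, ← _root_.zpow_add, add_comm]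
  · exact nonempty_mulEquiv_normalizer_map (Subgroup.zpowers (t ^ m'))
      (Subgroup.normalizer (Subgroup.zpowers t : Set G)) hNQ e (P : Subgroup G) hP

/-- In a group with a self-centralizing cyclic torus `⟨t⟩` of order `2n` (`n` even), inverted by
`w`, a unique involution and `|G|_2 = 2 |⟨t⟩|_2`: the normalizer of a Sylow `2`-subgroup has
exactly four irreducible characters of odd degree. -/
theorem sylow_two_torus_odd_count [Finite G] (n : ℕ) [NeZero n] (hn : 2 ≤ n) (heven : Even n)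
    (t w : G) (ht : orderOf t = 2 * n)
    (hC : ∀ g : G, g * t = t * g → g ∈ Subgroup.zpowers t)
    (hconj : ∀ g : G, g * t * g⁻¹ ∈ Subgroup.zpowers t → g * t * g⁻¹ = t ∨ g * t * g⁻¹ = t⁻¹)
    (hinv : ∀ g : G, g * g = 1 → g = 1 ∨ g = t ^ n)
    (hw : w * t * w⁻¹ = t⁻¹)
    (hcent : ∀ x ∈ Subgroup.zpowers t, x * x ≠ 1 →
      ∀ h : G, h * x = x * h → h ∈ Subgroup.zpowers t)
    (hfac : (Nat.card G).factorization 2 = (2 * n).factorization 2 + 1)
    (hω : ¬ 4 ∣ n →
      ∃ ω : G, ω * t ^ (n / 2) * ω⁻¹ = t ^ (n / 2) * w ∧ ω * w * ω⁻¹ = t ^ (n / 2))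
    (S : Sylow 2 G) :
    Nat.card {ψ : IrrCharacter (Subgroup.normalizer ((S : Subgroup G) : Set G)) //
      ¬ 2 ∣ charDegree (ψ : Subgroup.normalizer ((S : Subgroup G) : Set G) → ℂ)} = 4 := by
  classical
  obtain ⟨hwT, hw2⟩ := torus_w_sq n hn t w ht hC hinv hw
  have hn0 : 2 * n ≠ 0 := by omega
  obtain ⟨a, ha⟩ : ∃ a, a = (2 * n).factorization 2 := ⟨_, rfl⟩
  obtain ⟨m', hm'def⟩ : ∃ m', m' = 2 * n / 2 ^ a := ⟨_, rfl⟩
  have hm' : 2 ^ a * m' = 2 * n := by
    rw [hm'def, ha]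
    exact Nat.ordProj_mul_ordCompl_eq_self (2 * n) 2
  have hm'odd : ¬ 2 ∣ m' := by
    rw [hm'def, ha]
    exact Nat.not_dvd_ordCompl Nat.prime_two hn0
  have ha2 : 2 ≤ a := by
    rw [ha]
    apply (Nat.Prime.pow_dvd_iff_le_factorization Nat.prime_two hn0).mp
    obtain ⟨r, hr⟩ := heven
    exact ⟨r, by omega⟩
  obtain ⟨b, rfl⟩ : ∃ b, a = b + 1 := ⟨a - 1, by omega⟩
  have hb1 : 1 ≤ b := by omega
  have hnb : 2 ^ b * m' = n := by
    have : 2 * (2 ^ b * m') = 2 * n := by rw [← hm']; ring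
    omega
  have hm'0 : m' ≠ 0 := by
    rintro rfl
    rw [mul_zero] at hnb
    omega
  have h2b : 2 ≤ 2 ^ b := by
    calc 2 = 2 ^ 1 := rfl
      _ ≤ 2 ^ b := Nat.pow_le_pow_right (by norm_num) hb1
  -- the generator of the `2`-part of the torus
  obtain ⟨u, hu⟩ : ∃ u, u = t ^ m' := ⟨_, rfl⟩
  have hordu : orderOf u = 2 * 2 ^ b := by
    rw [hu, orderOf_pow_of_dvd hm'0 (by rw [ht, ← hm']; exact Dvd.intro_left _ rfl), ht]
    apply Nat.div_eq_of_eq_mul_left (Nat.pos_of_ne_zero hm'0)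
    rw [← hm']
    ring
  have huT : u ∈ Subgroup.zpowers t := by
    rw [hu]
    exact Subgroup.pow_mem _ (Subgroup.mem_zpowers t) m'
  have huleT : Subgroup.zpowers u ≤ Subgroup.zpowers t := by
    rw [Subgroup.zpowers_le]
    exact huT
  have hun : u ^ (2 ^ b) = t ^ n := by rw [hu, ← pow_mul, mul_comm, hnb]
  have hwu : w * u * w⁻¹ = u⁻¹ := conj_eq_inv_of_mem_zpowers t w hw u huT
  have hwU : w ∉ Subgroup.zpowers u := fun h => hwT (huleT h)
  have hw2u : w * w = u ^ (2 ^ b) := by rw [hun]; exact hw2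
  have hw2mem : w * w ∈ Subgroup.zpowers u := by
    rw [hw2u]
    exact Subgroup.pow_mem _ (Subgroup.mem_zpowers u) _
  obtain ⟨S₀, hS₀⟩ : ∃ S₀ : Subgroup G,
      ∀ g, g ∈ S₀ ↔ g ∈ Subgroup.zpowers u ∨ w⁻¹ * g ∈ Subgroup.zpowers u :=
    ⟨dicSub u w hwu hw2mem, mem_dicSub u w hwu hw2mem⟩
  have hnzb : NeZero (2 ^ b) := ⟨by positivity⟩
  have hS₀card : Nat.card S₀ = 4 * 2 ^ b :=
    dicyclic_card (2 ^ b) u w hordu hwu hwU hw2u S₀ hS₀
  have hSyl : Nat.card S₀ = 2 ^ (Nat.card G).factorization 2 := by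
    rw [hS₀card, hfac, ← ha]
    ring
  obtain ⟨e, hS⟩ := sylow_eq_map_of_card 2 S₀ hSyl S
  have huS₀ : u ∈ S₀ := (hS₀ u).mpr (Or.inl (Subgroup.mem_zpowers u))
  have hwS₀ : w ∈ S₀ :=
    (hS₀ w).mpr (Or.inr (by rw [inv_mul_cancel]; exact Subgroup.one_mem _))
  have hUleS₀ : Subgroup.zpowers u ≤ S₀ := fun x hx => (hS₀ x).mpr (Or.inl hx)
  -- the central involution
  have htn2 : t ^ n * t ^ n = 1 := by
    rw [← pow_add, ← two_mul, ← ht]
    exact pow_orderOf_eq_one t
  have htn1 : t ^ n ≠ 1 := by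
    intro h
    have h1 := orderOf_dvd_of_pow_eq_one h
    rw [ht] at h1
    have := Nat.le_of_dvd (by omega) h1
    omega
  have hzc : t ^ n ∈ Subgroup.center G := by
    rw [Subgroup.mem_center_iff]
    intro g
    have h1 : (g * t ^ n * g⁻¹) * (g * t ^ n * g⁻¹) = 1 := by
      calc (g * t ^ n * g⁻¹) * (g * t ^ n * g⁻¹) = g * (t ^ n * t ^ n) * g⁻¹ := by group
        _ = 1 := by rw [htn2]; group
    rcases hinv _ h1 with h2 | h2
    · exfalso
      apply htn1
      calc t ^ n = g⁻¹ * (g * t ^ n * g⁻¹) * g := by group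
        _ = 1 := by rw [h2]; group
    · calc g * t ^ n = (g * t ^ n * g⁻¹) * g := by group
        _ = t ^ n * g := by rw [h2]
  -- the normalizer of `S₀`, from `helper46.sylow_two_torus` applied to `S₀` itself
  obtain ⟨-, r2, r3⟩ := sylow_two_torus n hn heven t w ht hC hconj hinv hw hcent hfac
    (Sylow.ofCard S₀ hSyl)
  have r2' : 4 ∣ n → Subgroup.normalizer (S₀ : Set G) = S₀ := r2
  have r3' : ¬ 4 ∣ n →
      (∃ ω : G, ω * t ^ (n / 2) * ω⁻¹ = t ^ (n / 2) * w ∧ ω * w * ω⁻¹ = t ^ (n / 2)) →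
      Nat.card (Subgroup.normalizer (S₀ : Set G)) = 3 * Nat.card S₀ := r3
  obtain ⟨φ⟩ := nonempty_mulEquiv_normalizer_map S₀ (Subgroup.normalizer (S₀ : Set G)) rfl e
    (S : Subgroup G) hS
  rw [← card_irr_degree_congr φ (fun d => ¬ 2 ∣ d)]
  by_cases h4 : 4 ∣ n
  · have hN := r2' h4
    rw [card_irr_degree_congr (MulEquiv.subgroupCongr hN) (fun d => ¬ 2 ∣ d)]
    exact card_odd_degree_dicyclic (2 ^ b) u w hordu hwu hwU hw2u S₀ hS₀
  · have hN24 := r3' h4 (hω h4)
    obtain ⟨ω, hω1, hω2⟩ := hω h4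
    have hb : b = 1 := by
      by_contra hne
      have hb2 : 2 ≤ b := by omega
      apply h4
      rw [← hnb]
      exact Dvd.dvd.mul_right (pow_dvd_pow 2 hb2) m'
    subst hb
    have hm'n : m' = n / 2 := by omega
    rw [← hm'n, ← hu] at hω1 hω2
    have hcard8 : Nat.card S₀ = 8 := by rw [hS₀card]; norm_num
    rw [hcard8] at hN24
    have hωN : ω ∈ Subgroup.normalizer (S₀ : Set G) := by
      apply mem_normalizer_of_conj_mem
      intro x hx
      have huw : u * w ∈ S₀ := Subgroup.mul_mem _ huS₀ hwS₀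
      rcases (hS₀ x).mp hx with h1 | h1
      · obtain ⟨c, rfl⟩ := Subgroup.mem_zpowers_iff.mp h1
        rw [← conj_zpow, hω1]
        exact Subgroup.zpow_mem _ huw c
      · obtain ⟨c, hc⟩ := Subgroup.mem_zpowers_iff.mp h1
        have hx' : x = w * u ^ c := by rw [hc]; group
        have e : ω * x * ω⁻¹ = (ω * w * ω⁻¹) * (ω * u ^ c * ω⁻¹) := by rw [hx']; group
        rw [e, hω2, ← conj_zpow, hω1]
        exact Subgroup.mul_mem _ huS₀ (Subgroup.zpow_mem _ huw c)
    have hSN : S₀ ≤ Subgroup.normalizer (S₀ : Set G) := Subgroup.le_normalizer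
    have hnorm : (S₀.subgroupOf (Subgroup.normalizer (S₀ : Set G))).Normal :=
      Subgroup.normal_in_normalizer
    have htnS₀ : t ^ n ∈ S₀ := by
      rw [← hun]
      exact hUleS₀ (Subgroup.pow_mem _ (Subgroup.mem_zpowers u) _)
    -- `S₀` lies in the commutator subgroup of its normalizer
    have hcomm : ∀ a b : ↥(Subgroup.normalizer (S₀ : Set G)),
        a * b * a⁻¹ * b⁻¹ ∈ commutator ↥(Subgroup.normalizer (S₀ : Set G)) := by
      intro a b
      rw [commutator_def, ← commutatorElement_def]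
      exact Subgroup.commutator_mem_commutator (Subgroup.mem_top a) (Subgroup.mem_top b)
    have hwC : w ∈ (commutator ↥(Subgroup.normalizer (S₀ : Set G))).map
        (Subgroup.normalizer (S₀ : Set G)).subtype := by
      refine Subgroup.mem_map.mpr ⟨_, hcomm ⟨u, hSN huS₀⟩⁻¹ ⟨ω, hωN⟩, ?_⟩
      show u⁻¹ * ω * u⁻¹⁻¹ * ω⁻¹ = w
      calc u⁻¹ * ω * u⁻¹⁻¹ * ω⁻¹ = u⁻¹ * (ω * u * ω⁻¹) := by group
        _ = w := by rw [hω1]; group
    have huC : u ∈ (commutator ↥(Subgroup.normalizer (S₀ : Set G))).map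
        (Subgroup.normalizer (S₀ : Set G)).subtype := by
      have h1 : ω * w * ω⁻¹ * w⁻¹ ∈ (commutator ↥(Subgroup.normalizer (S₀ : Set G))).map
          (Subgroup.normalizer (S₀ : Set G)).subtype :=
        Subgroup.mem_map.mpr ⟨_, hcomm ⟨ω, hωN⟩ ⟨w, hSN hwS₀⟩, rfl⟩
      have h2 := Subgroup.mul_mem _ h1 hwC
      rw [hω2] at h2
      simpa using h2
    have hS₀C : ∀ x ∈ S₀, x ∈ (commutator ↥(Subgroup.normalizer (S₀ : Set G))).map
        (Subgroup.normalizer (S₀ : Set G)).subtype := by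
      intro x hx
      rcases (hS₀ x).mp hx with h1 | h1
      · obtain ⟨c, rfl⟩ := Subgroup.mem_zpowers_iff.mp h1
        exact Subgroup.zpow_mem _ huC c
      · obtain ⟨c, hc⟩ := Subgroup.mem_zpowers_iff.mp h1
        have hx' : x = w * u ^ c := by rw [hc]; group
        rw [hx']
        exact Subgroup.mul_mem _ hwC (Subgroup.zpow_mem _ huC c)
    refine card_odd_degree_of_card_24 hN24 (S₀.subgroupOf (Subgroup.normalizer (S₀ : Set G)))
      ?_ ?_ ⟨t ^ n, hSN htnS₀⟩ ?_ ?_ ?_ ?_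
    · rw [Nat.card_congr (Subgroup.subgroupOfEquivOfLe hSN).toEquiv, hcard8]
    · intro y hy
      have hy' : (y : G) ∈ S₀ := hy
      obtain ⟨c, hc, hcy⟩ := Subgroup.mem_map.mp (hS₀C _ hy')
      have : c = y := Subtype.ext hcy
      rw [← this]
      exact hc
    · rw [Subgroup.mem_center_iff]
      intro g
      apply Subtype.ext
      exact Subgroup.mem_center_iff.mp hzc (g : G)
    · apply Subtype.ext
      exact htn2
    · intro h
      apply htn1
      exact congrArg Subtype.val h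
    · exact htnS₀

end McKayTorus

end Cfsg.Agent.Lib.helper43
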