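import Mathlib
import Cfsg.Agent.Lib.helper43.McKayTorus
import Cfsg.Agent.Lib.helper43.SL2OddClass
import Cfsg.Agent.Lib.helper43.SL2Blocks

/-!
# The McKay equality for `SL₂(q)`, `q` odd: the `SL₂` side (helper43)

* `sl2_odd_count`: the number of irreducible characters of `SL₂(q)`, `q = 2k + 1`, whose degree
  satisfies a predicate `P`, from the classification `sl2_odd_classification`;
* `normalizer_USL`: the normalizer of the upper unitriangular subgroup is the Borel subgroup.
-/

set_option autoImplicit false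

namespace Cfsg.Agent.Lib.helper43

open Cfsg

section McKaySL2

variable {F : Type*} [Field F] [Fintype F]

/-- The number of irreducible characters of `SL₂(q)`, `q = 2k + 1`, whose degree satisfies `P`:
the degrees are `1`, `q`, `q + 1` (`k - 1` times), `q - 1` (`k` times), `(q + 1) / 2` (twice),
`(q - 1) / 2` (twice). -/
theorem sl2_odd_count (k : ℕ) (hk : Fintype.card F = 2 * k + 1) (P : ℕ → Prop)
    [DecidablePred P] :
    Nat.card {χ : Cfsg.IrrCharacter (Matrix.SpecialLinearGroup (Fin 2) F) //
        P (Cfsg.charDegree (χ : Matrix.SpecialLinearGroup (Fin 2) F → ℂ))} =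
      (if P 1 then 1 else 0) + (if P (2 * k + 1) then 1 else 0)
        + (if P (2 * k + 2) then k - 1 else 0) + (if P (2 * k) then k else 0)
        + (if P (k + 1) then 2 else 0) + (if P k then 2 else 0) := by
  classical
  have : Fintype (Matrix.SpecialLinearGroup (Fin 2) F) := Fintype.ofFinite _
  have : Fintype (Cfsg.IrrCharacter (Matrix.SpecialLinearGroup (Fin 2) F)) := Fintype.ofFinite _
  have h2 : ringChar F ≠ 2 := by
    intro h
    have := (FiniteField.even_card_iff_char_two (F := F)).1 h
    omega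
  obtain ⟨ψ, hψ1⟩ := AddChar.exists_apply_ne_zero.2 (one_ne_zero : (1 : F) ≠ 0)
  have hψ : ψ ≠ 1 := by
    rintro rfl
    exact hψ1 (by simp)
  obtain ⟨ε, hε⟩ := FiniteField.exists_nonsquare h2
  obtain ⟨m, rp, rm, hdeg, -, -, -, hcls, c00, hhalf, c111, c112, c110, c101, c011, c100,
    c010⟩ := sl2_odd_classification k hk ψ hψ ε hε
  have hd : ∀ χ : Cfsg.IrrCharacter (Matrix.SpecialLinearGroup (Fin 2) F),
      Cfsg.charDegree (χ : Matrix.SpecialLinearGroup (Fin 2) F → ℂ)
        = m χ + k * (rp χ + rm χ) := by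
    intro χ
    apply charDegree_eq_of_one_eq
    rw [hdeg χ]
    push_cast
    ring
  -- the value of the indicator on each character
  have key : ∀ χ : Cfsg.IrrCharacter (Matrix.SpecialLinearGroup (Fin 2) F),
      (if P (Cfsg.charDegree (χ : Matrix.SpecialLinearGroup (Fin 2) F → ℂ)) then 1 else 0)
        = (if rp χ = 0 ∧ rm χ = 0 then (if P 1 then 1 else 0) else 0)
          + (if rp χ = 1 ∧ rm χ = 1 ∧ m χ = 1 then (if P (2 * k + 1) then 1 else 0) else 0)
          + (if rp χ = 1 ∧ rm χ = 1 ∧ m χ = 2 then (if P (2 * k + 2) then 1 else 0) else 0)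
          + (if rp χ = 1 ∧ rm χ = 1 ∧ m χ = 0 then (if P (2 * k) then 1 else 0) else 0)
          + (if rp χ = 1 ∧ rm χ = 0 ∧ m χ = 1 then (if P (k + 1) then 1 else 0) else 0)
          + (if rp χ = 0 ∧ rm χ = 1 ∧ m χ = 1 then (if P (k + 1) then 1 else 0) else 0)
          + (if rp χ = 1 ∧ rm χ = 0 ∧ m χ = 0 then (if P k then 1 else 0) else 0)
          + (if rp χ = 0 ∧ rm χ = 1 ∧ m χ = 0 then (if P k then 1 else 0) else 0) := by
    intro χ
    rw [hd χ]
    rcases hcls χ with ⟨e1, e2, e3⟩ | ⟨e1, e2⟩ | ⟨e1, e2⟩ | ⟨e1, e2, e3⟩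
    · rw [e1, e2, e3]
      simp
    · have hm1 := hhalf χ (by omega)
      rw [e1, e2]
      have hm : m χ = 0 ∨ m χ = 1 := by omega
      rcases hm with hm | hm
      · rw [hm]
        simp
      · rw [hm]
        simp [add_comm]
    · have hm1 := hhalf χ (by omega)
      rw [e1, e2]
      have hm : m χ = 0 ∨ m χ = 1 := by omega
      rcases hm with hm | hm
      · rw [hm]
        simp
      · rw [hm]
        simp [add_comm]
    · rw [e1, e2]
      have hm : m χ = 0 ∨ m χ = 1 ∨ m χ = 2 := by omega
      have e : k * (1 + 1) = 2 * k := by ring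
      rw [e]
      rcases hm with hm | hm | hm
      · rw [hm]
        simp
      · rw [hm]
        simp [add_comm]
      · rw [hm]
        simp [add_comm]
  have hconst : ∀ (C : Cfsg.IrrCharacter (Matrix.SpecialLinearGroup (Fin 2) F) → Prop)
      [DecidablePred C] (v : ℕ),
      ∑ χ, (if C χ then v else 0) = (Finset.univ.filter C).card * v := by
    intro C _ v
    rw [← Finset.sum_filter, Finset.sum_const, smul_eq_mul]
  rw [Nat.card_eq_fintype_card, Fintype.card_subtype, Finset.card_filter]
  rw [Finset.sum_congr rfl (fun χ _ => key χ)]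
  simp only [Finset.sum_add_distrib]
  rw [hconst, hconst, hconst, hconst, hconst, hconst, hconst, hconst,
    c00, c111, c112, c110, c101, c011, c100, c010]
  split_ifs <;> ring

end McKaySL2

section NormalizerUSL

variable {F : Type*} [Field F] [Finite F]

/-- The normalizer of the upper unitriangular subgroup of `SL₂(F)` is the Borel subgroup. -/
theorem normalizer_USL :
    Subgroup.normalizer ((USL F : Subgroup (Matrix.SpecialLinearGroup (Fin 2) F)) :
      Set (Matrix.SpecialLinearGroup (Fin 2) F)) = BSL F := by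
  ext g
  rw [mem_BSL_iff]
  constructor
  · intro h
    have h1 := (Subgroup.mem_normalizer_iff.mp h (uSL 1)).mp (uSL_mem 1)
    obtain ⟨b, hb⟩ := h1
    have h2 : g * uSL 1 = uSL b * g := by
      rw [hb]
      group
    have h3 := congrArg (fun x : Matrix.SpecialLinearGroup (Fin 2) F =>
      (x : Matrix (Fin 2) (Fin 2) F) 1 1) h2
    simp only [Matrix.SpecialLinearGroup.coe_mul, uSL_val, Matrix.mul_apply, Fin.sum_univ_two,
      Matrix.of_apply, Matrix.cons_val', Matrix.cons_val_zero, Matrix.cons_val_one,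
      Matrix.cons_val_fin_one] at h3
    linear_combination h3
  · intro h
    have : Finite (Matrix.SpecialLinearGroup (Fin 2) F) := inferInstance
    apply helper46.mem_normalizer_of_conj_mem
    rintro x ⟨b, rfl⟩
    refine ⟨(g : Matrix (Fin 2) (Fin 2) F) 0 0 ^ 2 * b, ?_⟩
    rw [eq_mul_inv_iff_mul_eq]
    have hdet := g.det_coe
    rw [Matrix.det_fin_two, h, mul_zero, sub_zero] at hdet
    apply sl2_ext <;>
      simp only [Matrix.SpecialLinearGroup.coe_mul, uSL_val, Matrix.mul_apply, Fin.sum_univ_two,
        Matrix.of_apply, Matrix.cons_val', Matrix.cons_val_zero, Matrix.cons_val_one,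
        Matrix.cons_val_fin_one, h]
    · ring
    · linear_combination ((g : Matrix (Fin 2) (Fin 2) F) 0 0 * b) * hdet
    · ring
    · ring

end NormalizerUSL

end Cfsg.Agent.Lib.helper43
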