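import Mathlib

set_option autoImplicit false

namespace Cfsg.Agent.Lib.helper43

/-- If an automorphism inverts an element `x` with `x ≠ x⁻¹`, its order is even. -/
theorem two_dvd_orderOf_of_inverts {H : Type*} [Group H] [Finite H] (f : MulAut H) (x : H)
    (hf : f x = x⁻¹) (hne : x ≠ x⁻¹) : 2 ∣ orderOf f := by
  have key : ∀ k : ℕ, (f ^ k) x = x ∨ (f ^ k) x = x⁻¹ ∧ Odd k := by
    intro k
    induction k with
    | zero => left; simp
    | succ k ih =>
      rcases Nat.even_or_odd k with hk | hk
      · right
        rcases ih with h | ⟨_, h⟩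
        · refine ⟨?_, hk.add_one⟩
          rw [pow_succ', MulAut.mul_apply, h, hf]
        · exact absurd hk (Nat.not_even_iff_odd.2 h)
      · left
        have h2 : (f ^ k) x = x⁻¹ := by
          rcases ih with h | ⟨h, _⟩
          · -- k odd and (f^k) x = x : write k = 2j+1
            obtain ⟨j, rfl⟩ := hk
            have hsq : ∀ j : ℕ, (f ^ (2 * j)) x = x := by
              intro j
              induction j with
              | zero => simp
              | succ j ihj =>
                have : 2 * (j + 1) = 2 * j + 2 := by ring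
                rw [this, pow_add, MulAut.mul_apply, pow_two, MulAut.mul_apply, hf, map_inv, hf,
                  inv_inv, ihj]
            rw [pow_succ, MulAut.mul_apply, hf, map_inv, hsq]
          · exact h
        rw [pow_succ', MulAut.mul_apply, h2, map_inv, hf, inv_inv]
  by_contra hodd
  have hodd' : Odd (orderOf f) := Nat.not_even_iff_odd.1 (fun h => hodd (even_iff_two_dvd.1 h))
  have h1 : (f ^ orderOf f) x = x := by rw [pow_orderOf_eq_one]; rfl
  have hsq : ∀ j : ℕ, (f ^ (2 * j)) x = x := by
    intro j
    induction j with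
    | zero => simp
    | succ j ihj =>
      have : 2 * (j + 1) = 2 * j + 2 := by ring
      rw [this, pow_add, MulAut.mul_apply, pow_two, MulAut.mul_apply, hf, map_inv, hf,
        inv_inv, ihj]
  obtain ⟨j, hj⟩ := hodd'
  rw [hj, pow_succ, MulAut.mul_apply, hf, map_inv, hsq] at h1
  exact hne h1.symm

/-- Burnside fusion consequence: if `P` is an abelian Sylow `p`-subgroup and some `x ∈ P` with
`x ≠ x⁻¹` is conjugate in `G` to its inverse, then `|N(P) : C(P)|` is even. -/
theorem two_dvd_index_centralizer_normalizer {G : Type*} [Group G] [Finite G] {p : ℕ} [Fact p.Prime]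
    (P : Sylow p G) (hP : IsMulCommutative (P : Subgroup G)) (x g : G) (hx : x ∈ (P : Subgroup G))
    (hxg : g⁻¹ * x * g = x⁻¹) (hne : x ≠ x⁻¹) :
    2 ∣ ((Subgroup.centralizer ((P : Subgroup G) : Set G)).subgroupOf
      (Subgroup.normalizer ((P : Subgroup G) : Set G))).index := by
  have := hP
  obtain ⟨n, hn, hn2⟩ := P.conj_eq_normalizer_conj_of_mem x g hx (by rw [hxg]; exact inv_mem hx)
  rw [hxg] at hn2
  set m : Subgroup.normalizer ((P : Subgroup G) : Set G) := ⟨n⁻¹, inv_mem hn⟩ with hm
  set φ := (P : Subgroup G).normalizerMonoidHom with hφ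
  have h1 : (φ m) ⟨x, hx⟩ = (⟨x, hx⟩ : (P : Subgroup G))⁻¹ := by
    apply Subtype.ext
    simp only [hφ, hm, Subgroup.normalizerMonoidHom_apply_apply_coe, inv_inv, Subgroup.coe_inv]
    exact hn2.symm
  have h2 : 2 ∣ orderOf (φ m) := by
    apply two_dvd_orderOf_of_inverts (φ m) ⟨x, hx⟩ h1
    intro h
    apply hne
    have := congrArg Subtype.val h
    simpa using this
  rw [← Subgroup.normalizerMonoidHom_ker, Subgroup.index_ker]
  have h3 : orderOf (⟨φ m, ⟨m, rfl⟩⟩ : φ.range) = orderOf (φ m) := by
    rw [← Subgroup.orderOf_coe]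
  exact h2.trans (h3 ▸ orderOf_dvd_natCard _)

end Cfsg.Agent.Lib.helper43
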