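import Mathlib
import Cfsg.Prelude.Def_KGroupFacts
import Cfsg.Agent.Lib.helper43.AutTwoTransB
import Cfsg.Agent.Lib.helper15.PrimeDeg
import Cfsg.Agent.Lib.helper21.PrimeDegree
import Cfsg.Agent.Lib.helper21.SylowCard

set_option autoImplicit false

/-!
# Simple groups with a subgroup of prime index have solvable outer automorphism group

A finite simple group with a subgroup of prime index `p` is a transitive group of degree `p`;
by Burnside it is cyclic or doubly transitive.  In the doubly transitive case every automorphism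
of odd order is induced by a permutation normalizing the group; by the Frattini argument the
normalizer is the product of the group and the normalizer of a Sylow `p`-subgroup, which is
solvable.  Hence the odd-order part of `Out` is solvable, and the quotient is a `2`-group.
-/

namespace Cfsg.Agent.Lib.helper43

/-- A finite quotient group in which the images of all elements of odd order lie in a solvable
subgroup is solvable. -/
theorem solvable_quot_of_odd {A : Type*} [Group A] [Finite A] (I : Subgroup A) [I.Normal]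
    (T₀ : Subgroup (A ⧸ I)) [hT₀ : Group.IsSolvable T₀]
    (h : ∀ a : A, Odd (orderOf a) → (QuotientGroup.mk a : A ⧸ I) ∈ T₀) : Group.IsSolvable (A ⧸ I) := by
  classical
  obtain ⟨s, hs⟩ : ∃ s : Set (A ⧸ I),
      s = {x : A ⧸ I | ∃ a : A, Odd (orderOf a) ∧ (QuotientGroup.mk a : A ⧸ I) = x} := ⟨_, rfl⟩
  obtain ⟨T, hT⟩ : ∃ T : Subgroup (A ⧸ I), T = Subgroup.normalClosure s := ⟨_, rfl⟩
  have hTn : T.Normal := by rw [hT]; exact Subgroup.normalClosure_normal
  have hTle : T ≤ T₀ := by
    rw [hT, Subgroup.normalClosure, Subgroup.closure_le]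
    intro y hy
    rw [Group.mem_conjugatesOfSet_iff] at hy
    obtain ⟨b, hb, hby⟩ := hy
    rw [hs] at hb
    obtain ⟨a, ha, rfl⟩ := hb
    rw [isConj_iff] at hby
    obtain ⟨c, rfl⟩ := hby
    obtain ⟨c', rfl⟩ := QuotientGroup.mk_surjective c
    have h1 : ((c' : A ⧸ I) * (a : A ⧸ I) * (c' : A ⧸ I)⁻¹) =
        ((c' * a * c'⁻¹ : A) : A ⧸ I) := by
      rw [QuotientGroup.mk_mul, QuotientGroup.mk_mul, QuotientGroup.mk_inv]
    rw [SetLike.mem_coe, h1]
    apply h
    have h2 : orderOf (c' * a * c'⁻¹) = orderOf a := by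
      have := orderOf_injective (MulAut.conj c').toMonoidHom (MulAut.conj c').injective a
      simpa using this
    rw [h2]
    exact ha
  have : Group.IsSolvable T := Group.isSolvable_of_isSolvable_injective (Subgroup.inclusion_injective hTle)
  have : Fact (Nat.Prime 2) := ⟨Nat.prime_two⟩
  have h2 : IsPGroup 2 ((A ⧸ I) ⧸ T) := by
    intro y
    obtain ⟨x, rfl⟩ := QuotientGroup.mk_surjective y
    obtain ⟨a, rfl⟩ := QuotientGroup.mk_surjective x
    refine ⟨(orderOf a).factorization 2, ?_⟩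
    rw [← QuotientGroup.mk_pow, QuotientGroup.eq_one_iff, ← QuotientGroup.mk_pow, hT]
    apply Subgroup.subset_normalClosure
    rw [hs]
    refine ⟨a ^ 2 ^ (orderOf a).factorization 2, ?_, rfl⟩
    have hpos : orderOf a ≠ 0 := (orderOf_pos a).ne'
    rw [orderOf_pow' a (pow_ne_zero _ (by norm_num)),
      Nat.gcd_eq_right (Nat.ordProj_dvd (orderOf a) 2)]
    rw [← Nat.not_even_iff_odd, even_iff_two_dvd]
    exact Nat.not_dvd_ordCompl Nat.prime_two hpos
  have : Group.IsNilpotent ((A ⧸ I) ⧸ T) := h2.isNilpotent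
  have : Group.IsSolvable ((A ⧸ I) ⧸ T) := inferInstance
  exact Group.isSolvable_of_ker_le_range T.subtype (QuotientGroup.mk' T) (by simp)

/-- Automorphisms of a cyclic group commute. -/
theorem mulAut_comm_of_cyclic {Q : Type*} [Group Q] [IsCyclic Q] (α β : MulAut Q) :
    α * β = β * α := by
  obtain ⟨m, hm⟩ := MonoidHom.map_cyclic α.toMonoidHom
  obtain ⟨n, hn⟩ := MonoidHom.map_cyclic β.toMonoidHom
  have hm' : ∀ x : Q, α x = x ^ m := hm
  have hn' : ∀ x : Q, β x = x ^ n := hn
  ext x
  rw [MulAut.mul_apply, MulAut.mul_apply, hn', hm', hm', hn', ← zpow_mul, ← zpow_mul, mul_comm]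

/-- A group of permutations of a set of prime size `p` with a normal subgroup of order `p` is
solvable. -/
theorem solvable_of_normal_prime {Ω : Type*} [Fintype Ω] {Γ : Type*} [Group Γ]
    (ι : Γ →* Equiv.Perm Ω) (hι : Function.Injective ι) (Q : Subgroup Γ) [Q.Normal]
    (hQ : Nat.card Q = Fintype.card Ω) (hp : (Fintype.card Ω).Prime) : Group.IsSolvable Γ := by
  classical
  have : Fact (Fintype.card Ω).Prime := ⟨hp⟩
  have hcycQ : IsCyclic Q := isCyclic_of_prime_card hQ
  obtain ⟨c₁, hc₁⟩ := hcycQ.exists_generator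
  have hord : orderOf c₁ = Fintype.card Ω := by
    rw [orderOf_eq_card_of_forall_mem_zpowers hc₁, hQ]
  obtain ⟨c, hc⟩ : ∃ c : Equiv.Perm Ω, c = ι (c₁ : Γ) := ⟨_, rfl⟩
  have hordc : orderOf c = Fintype.card Ω := by
    rw [hc, orderOf_injective ι hι, Subgroup.orderOf_coe, hord]
  have hcyc : c.IsCycle :=
    Equiv.Perm.isCycle_of_prime_order' (by rw [hordc]; exact hp)
      (by rw [hordc]; have := hp.pos; omega)
  have hsupp : c.support = Finset.univ := by
    apply Finset.eq_univ_of_card
    rw [← hcyc.orderOf, hordc]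
  have hmove : ∀ x, c x ≠ x := fun x => by
    have : x ∈ c.support := by rw [hsupp]; exact Finset.mem_univ x
    exact Equiv.Perm.mem_support.mp this
  obtain ⟨o⟩ : Nonempty Ω := by
    rw [← Fintype.card_pos_iff]; exact hp.pos
  have hcent : ∀ τ : Equiv.Perm Ω, τ * c = c * τ → τ ∈ Subgroup.zpowers c := by
    intro τ hτ
    obtain ⟨i, hi⟩ := hcyc.exists_zpow_eq (hmove o) (hmove (τ o))
    refine ⟨i, ?_⟩
    ext x
    obtain ⟨j, hj⟩ := hcyc.exists_zpow_eq (hmove o) (hmove x)
    have hcomm : τ * c ^ j = c ^ j * τ := (Commute.zpow_right (show Commute τ c from hτ) j).eq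
    have h1 : τ x = (c ^ j) (τ o) := by
      rw [← hj]
      exact congrArg (fun σ : Equiv.Perm Ω => σ o) hcomm
    have h2 : (c ^ i * c ^ j) o = (c ^ j * c ^ i) o := by
      rw [(Commute.zpow_zpow_self c i j).eq]
    show (c ^ i) x = τ x
    rw [h1, ← hi, ← hj]
    exact h2
  obtain ⟨ρ, hρ⟩ : ∃ ρ : Γ →* MulAut Q, ρ = MulAut.conjNormal := ⟨_, rfl⟩
  have hker : ∀ a ∈ ρ.ker, ι a ∈ Subgroup.zpowers c := by
    intro a ha
    apply hcent
    have h1 : ρ a c₁ = c₁ := by rw [MonoidHom.mem_ker.mp ha]; rfl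
    have h2 : a * (c₁ : Γ) * a⁻¹ = c₁ := by
      have := congrArg Subtype.val h1
      rwa [hρ, MulAut.conjNormal_apply] at this
    have h3 : ι a * ι (c₁ : Γ) * (ι a)⁻¹ = ι (c₁ : Γ) := by
      rw [← map_inv, ← map_mul, ← map_mul, h2]
    rw [hc]
    calc ι a * ι (c₁ : Γ) = ι a * ι (c₁ : Γ) * (ι a)⁻¹ * ι a := by group
      _ = ι (c₁ : Γ) * ι a := by rw [h3]
  have hcomm : ∀ a b : ρ.ker, a * b = b * a := by
    intro a b
    obtain ⟨i, hi⟩ := hker a a.2
    obtain ⟨j, hj⟩ := hker b b.2
    apply Subtype.ext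
    apply hι
    have hi' : ι (a : Γ) = c ^ i := hi.symm
    have hj' : ι (b : Γ) = c ^ j := hj.symm
    rw [Subgroup.coe_mul, Subgroup.coe_mul, map_mul, map_mul, hi', hj']
    exact (Commute.zpow_zpow_self c i j).eq
  have : Group.IsSolvable ρ.ker := Group.isSolvable_of_comm hcomm
  have : Group.IsSolvable (MulAut Q) := Group.isSolvable_of_comm mulAut_comm_of_cyclic
  exact Group.isSolvable_of_ker_le_range ρ.ker.subtype ρ (by simp)

/-- Conjugation by an element of the normalizer of a subgroup, as an automorphism of the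
subgroup. -/
def normAut {Ω : Type*} (G : Subgroup (Equiv.Perm Ω)) :
    ↥(Subgroup.normalizer (G : Set (Equiv.Perm Ω))) →* MulAut G where
  toFun n :=
    { toFun := fun g => ⟨n.1 * g.1 * n.1⁻¹, (Subgroup.mem_normalizer_iff.mp n.2 g.1).mp g.2⟩
      invFun := fun g => ⟨n.1⁻¹ * g.1 * n.1, by
        have := (Subgroup.mem_normalizer_iff.mp (inv_mem n.2) g.1).mp g.2
        rwa [inv_inv] at this⟩
      left_inv := fun g => Subtype.ext (by
        show n.1⁻¹ * (n.1 * g.1 * n.1⁻¹) * n.1 = g.1
        group)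
      right_inv := fun g => Subtype.ext (by
        show n.1 * (n.1⁻¹ * g.1 * n.1) * n.1⁻¹ = g.1
        group)
      map_mul' := fun g g' => Subtype.ext (by
        show n.1 * (g.1 * g'.1) * n.1⁻¹ = (n.1 * g.1 * n.1⁻¹) * (n.1 * g'.1 * n.1⁻¹)
        group) }
  map_one' := by
    refine MulEquiv.ext fun g => Subtype.ext ?_
    show (1 : Equiv.Perm Ω) * g.1 * (1 : Equiv.Perm Ω)⁻¹ = g.1
    group
  map_mul' := fun n n' => by
    refine MulEquiv.ext fun g => Subtype.ext ?_
    show (n.1 * n'.1) * g.1 * (n.1 * n'.1)⁻¹ = n.1 * (n'.1 * g.1 * n'.1⁻¹) * n.1⁻¹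
    group

theorem normAut_apply {Ω : Type*} (G : Subgroup (Equiv.Perm Ω))
    (n : ↥(Subgroup.normalizer (G : Set (Equiv.Perm Ω)))) (g : G) :
    ((normAut G n g : G) : Equiv.Perm Ω) = n.1 * g.1 * n.1⁻¹ := rfl

/-- A doubly transitive permutation group of prime degree has solvable outer automorphism
group. -/
theorem out_solvable_of_two_trans_prime {Ω : Type*} [Fintype Ω] (hp : (Fintype.card Ω).Prime)
    (G : Subgroup (Equiv.Perm Ω)) (h2 : MulAction.IsMultiplyPretransitive G Ω 2) :
    Group.IsSolvable (Cfsg.Out G) := by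
  classical
  have hfact : Fact (Fintype.card Ω).Prime := ⟨hp⟩
  have htr : MulAction.IsPretransitive G Ω := MulAction.isPretransitive_of_is_two_pretransitive
  obtain ⟨o⟩ : Nonempty Ω := by
    rw [← Fintype.card_pos_iff]; exact hp.pos
  have hcardΩ : Nat.card Ω = Fintype.card Ω := Nat.card_eq_fintype_card
  have hdvd : Fintype.card Ω ∣ Nat.card G :=
    Cfsg.Agent.Lib.helper21.prime_dvd_card_of_pretransitive (Γ := G) (α := Ω) hcardΩ
  have hsq : ¬ (Fintype.card Ω) ^ 2 ∣ Nat.card G :=
    Cfsg.Agent.Lib.helper21.not_prime_sq_dvd_card_of_faithful (Γ := G) (α := Ω) hcardΩ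
  have hidx : (MulAction.stabilizer G o).index = Fintype.card Ω := by
    rw [MulAction.index_stabilizer_of_transitive, hcardΩ]
  have hHall : (Nat.card (MulAction.stabilizer G o)).Coprime (MulAction.stabilizer G o).index := by
    rw [hidx, Nat.coprime_comm, hp.coprime_iff_not_dvd]
    intro hd
    apply hsq
    rw [← Subgroup.card_mul_index (MulAction.stabilizer G o), hidx, pow_two]
    exact Nat.mul_dvd_mul_right hd _
  -- the normalizer and the Frattini argument
  obtain ⟨N, hN⟩ : ∃ N : Subgroup (Equiv.Perm Ω),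
      N = Subgroup.normalizer (G : Set (Equiv.Perm Ω)) := ⟨_, rfl⟩
  have hGN : G ≤ N := by rw [hN]; exact Subgroup.le_normalizer
  obtain ⟨K, hK⟩ : ∃ K : Subgroup N, K = G.subgroupOf N := ⟨_, rfl⟩
  have hKn : K.Normal := by
    rw [hK]; subst hN; exact Subgroup.normal_in_normalizer
  have hcardK : Nat.card K = Nat.card G := by
    rw [hK]; exact Nat.card_congr (Subgroup.subgroupOfEquivOfLe hGN).toEquiv
  obtain ⟨P⟩ : Nonempty (Sylow (Fintype.card Ω) K) := inferInstance
  have hcardP : Nat.card P = Fintype.card Ω :=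
    Cfsg.Agent.Lib.helper21.sylow_card_eq_prime P (by rw [hcardK]; exact hdvd)
      (by rw [hcardK]; exact hsq)
  obtain ⟨Q, hQ⟩ : ∃ Q : Subgroup N, Q = (P : Subgroup K).map K.subtype := ⟨_, rfl⟩
  have hcardQ : Nat.card Q = Fintype.card Ω := by
    rw [hQ, Subgroup.card_map_of_injective K.subtype_injective]; exact hcardP
  have hFr : Subgroup.normalizer (Q : Set N) ⊔ K = ⊤ := by
    rw [hQ]; exact Sylow.normalizer_sup_eq_top P
  obtain ⟨S, hS⟩ : ∃ S : Subgroup N, S = Subgroup.normalizer (Q : Set N) := ⟨_, rfl⟩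
  rw [← hS] at hFr
  have hQS : Q ≤ S := by rw [hS]; exact Subgroup.le_normalizer
  have hQ'n : (Q.subgroupOf S).Normal := by
    subst hS; exact Subgroup.normal_in_normalizer
  have hcardQ' : Nat.card (Q.subgroupOf S) = Fintype.card Ω := by
    rw [← hcardQ]; exact Nat.card_congr (Subgroup.subgroupOfEquivOfLe hQS).toEquiv
  have hSsolv : Group.IsSolvable S :=
    solvable_of_normal_prime (N.subtype.comp S.subtype)
      (N.subtype_injective.comp S.subtype_injective) (Q.subgroupOf S) hcardQ' hp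
  -- the map to Out
  subst hN
  obtain ⟨Ψ, hΨ⟩ : ∃ Ψ : ↥(Subgroup.normalizer (G : Set (Equiv.Perm Ω))) →* Cfsg.Out G,
      Ψ = (QuotientGroup.mk' (Cfsg.Inn G)).comp (normAut G) := ⟨_, rfl⟩
  have hΨK : ∀ k ∈ K, Ψ k = 1 := by
    intro k hk
    rw [hK, Subgroup.mem_subgroupOf] at hk
    rw [hΨ, MonoidHom.comp_apply, QuotientGroup.mk'_apply, QuotientGroup.eq_one_iff]
    refine ⟨⟨k.1, hk⟩, ?_⟩
    refine MulEquiv.ext fun g => Subtype.ext ?_
    rfl
  have hTsolv : Group.IsSolvable (Ψ.comp S.subtype).range :=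
    Group.isSolvable_of_surjective (MonoidHom.rangeRestrict_surjective (Ψ.comp S.subtype))
  refine solvable_quot_of_odd (Cfsg.Inn G) (Ψ.comp S.subtype).range ?_
  intro a ha
  obtain ⟨σ, hσN, hσ⟩ := aut_induced_of_hall G h2 o hHall a ha
  have hmem : (⟨σ, hσN⟩ : ↥(Subgroup.normalizer (G : Set (Equiv.Perm Ω)))) ∈
      ((S ⊔ K : Subgroup _) : Set _) := by
    rw [hFr]; trivial
  rw [Subgroup.mul_normal S K, Set.mem_mul] at hmem
  obtain ⟨s, hs, k, hk, hsk⟩ := hmem
  have ha' : a = normAut G ⟨σ, hσN⟩ := by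
    refine MulEquiv.ext fun g => Subtype.ext ?_
    rw [hσ g]
    rfl
  refine ⟨⟨s, hs⟩, ?_⟩
  have h1 : Ψ (s * k) = Ψ s := by rw [map_mul, hΨK k hk, mul_one]
  rw [MonoidHom.comp_apply, Subgroup.coe_subtype]
  show Ψ s = _
  rw [← h1, hsk, hΨ, MonoidHom.comp_apply, QuotientGroup.mk'_apply, ha']

/-- Solvability of `Out` transfers along an isomorphism. -/
theorem out_solvable_of_mulEquiv {G : Type*} {G' : Type*} [Group G] [Group G'] (e : G ≃* G')
    (h : Group.IsSolvable (Cfsg.Out G')) : Group.IsSolvable (Cfsg.Out G) := by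
  obtain ⟨f, hf⟩ : ∃ f : MulAut G' →* MulAut G, f = (MulAut.congr e.symm).toMonoidHom :=
    ⟨_, rfl⟩
  have hfI : Cfsg.Inn G' ≤ (Cfsg.Inn G).comap f := by
    rintro _ ⟨g, rfl⟩
    rw [Subgroup.mem_comap]
    refine ⟨e.symm g, ?_⟩
    refine MulEquiv.ext fun x => ?_
    rw [hf]
    apply e.injective
    simp [MulAut.congr]
  have hF : Function.Surjective (QuotientGroup.map (Cfsg.Inn G') (Cfsg.Inn G) f hfI) := by
    intro y
    obtain ⟨a, rfl⟩ := QuotientGroup.mk_surjective y
    refine ⟨QuotientGroup.mk ((MulAut.congr e) a), ?_⟩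
    rw [QuotientGroup.map_mk]
    congr 1
    rw [hf]
    refine MulEquiv.ext fun x => ?_
    simp [MulAut.congr]
  exact Group.isSolvable_of_surjective hF

/-- **A case of the Schreier conjecture**: a finite simple group with a subgroup of prime index
has solvable outer automorphism group. -/
theorem out_solvable_of_prime_index {G : Type*} [Group G] [Finite G] [IsSimpleGroup G]
    (H : Subgroup G) (hH : H.index.Prime) : Group.IsSolvable (Cfsg.Out G) := by
  classical
  have hfact : Fact H.index.Prime := ⟨hH⟩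
  letI : Fintype (G ⧸ H) := Fintype.ofFinite _
  have hcard : Fintype.card (G ⧸ H) = H.index := by
    rw [← Nat.card_eq_fintype_card]; rfl
  have hinj : Function.Injective (MulAction.toPermHom G (G ⧸ H)) := by
    rw [← MonoidHom.ker_eq_bot_iff]
    rcases (MonoidHom.normal_ker (MulAction.toPermHom G (G ⧸ H))).eq_bot_or_eq_top with h | h
    · exact h
    · exfalso
      have hHtop : H = ⊤ := by
        rw [eq_top_iff]
        intro g _
        have hg : g ∈ (MulAction.toPermHom G (G ⧸ H)).ker := by rw [h]; trivial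
        have h1 := MonoidHom.mem_ker.mp hg
        have h2 : g • (QuotientGroup.mk 1 : G ⧸ H) = QuotientGroup.mk 1 := by
          have := congrArg (fun σ : Equiv.Perm (G ⧸ H) => σ (QuotientGroup.mk 1)) h1
          simpa using this
        rw [MulAction.Quotient.smul_mk, smul_eq_mul, mul_one] at h2
        rw [QuotientGroup.eq] at h2
        simpa using h2
      rw [hHtop, Subgroup.index_top] at hH
      exact Nat.not_prime_one hH
  have hfaith : FaithfulSMul G (G ⧸ H) :=
    ⟨fun {a b} h => hinj (Equiv.ext fun x => h x)⟩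
  rcases Cfsg.Agent.Lib.helper15.PrimeDeg.burnside_prime_degree (p := H.index) (G := G)
    (α := G ⧸ H) hcard with hs | h2
  · -- solvable: `G` is cyclic
    have hcomm : ∀ a b : G, a * b = b * a := IsSimpleGroup.comm_iff_isSolvable.mpr hs
    have hcyc : IsCyclic G := by
      letI : CommGroup G := { ‹Group G› with mul_comm := hcomm }
      exact IsSimpleGroup.isCyclic
    have : Group.IsSolvable (MulAut G) := Group.isSolvable_of_comm mulAut_comm_of_cyclic
    infer_instance
  · obtain ⟨φ, hφ⟩ : ∃ φ : G →* Equiv.Perm (G ⧸ H), φ = MulAction.toPermHom G (G ⧸ H) :=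
      ⟨_, rfl⟩
    have hφinj : Function.Injective φ := by rw [hφ]; exact hinj
    have h2' : MulAction.IsMultiplyPretransitive φ.range (G ⧸ H) 2 := by
      refine ⟨fun x y => ?_⟩
      obtain ⟨g, hg⟩ := MulAction.exists_smul_eq G x y
      refine ⟨⟨φ g, g, rfl⟩, ?_⟩
      rw [← hg, hφ]
      rfl
    exact out_solvable_of_mulEquiv (MonoidHom.ofInjective hφinj)
      (out_solvable_of_two_trans_prime (by rw [hcard]; exact hH) φ.range h2')

end Cfsg.Agent.Lib.helper43
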