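import Mathlib
import Cfsg.Prelude.Def_Transfer
import Cfsg.Agent.Lib.helper3.PGroupNormal
import Cfsg.Agent.Lib.helper3.PGroupFrattini

set_option autoImplicit false
open Cfsg

namespace Cfsg.Agent.Lib.helper79.P3

open scoped commutatorElement

theorem h43_p3_extraspecial27 {G : Type*} [Group G] [Finite G] (hG : Nat.card G = 27)
    (hna : ∃ a b : G, a * b ≠ b * a) : Cfsg.IsExtraspecial 3 G := by
  classical
  have : Fact (Nat.Prime 3) := ⟨by norm_num⟩
  have hG' : Nat.card G = 3 ^ 3 := by rw [hG]; norm_num
  have hP : IsPGroup 3 G := IsPGroup.of_card hG'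
  have : Nontrivial G := by
    apply (Finite.one_lt_card_iff_nontrivial).mp
    rw [hG]; norm_num
  obtain ⟨a, b, hab⟩ := hna
  -- the centre
  have hZdvd : Nat.card (Subgroup.center G) ∣ 3 ^ 3 := by
    rw [← hG']; exact Subgroup.card_subgroup_dvd_card _
  have hZnt : Nontrivial (Subgroup.center G) := hP.center_nontrivial
  have hZ1 : Nat.card (Subgroup.center G) ≠ 1 := by
    intro h1
    have := (Finite.one_lt_card_iff_nontrivial).mpr hZnt
    omega
  have hmul : Nat.card (G ⧸ Subgroup.center G) * Nat.card (Subgroup.center G) = 27 := by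
    rw [← hG]; exact (Subgroup.card_eq_card_quotient_mul_card_subgroup _).symm
  have hZ27 : Nat.card (Subgroup.center G) ≠ 27 := by
    intro h27
    have htop : Subgroup.center G = ⊤ :=
      Subgroup.eq_top_of_card_eq _ (by rw [h27, hG])
    have ha : a ∈ Subgroup.center G := by rw [htop]; exact Subgroup.mem_top a
    exact hab ((Subgroup.mem_center_iff.mp ha b).symm)
  have hZ9 : Nat.card (Subgroup.center G) ≠ 9 := by
    intro h9
    have hq : Nat.card (G ⧸ Subgroup.center G) = 3 := by
      rw [h9] at hmul; omega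
    have : IsCyclic (G ⧸ Subgroup.center G) := isCyclic_of_prime_card hq
    exact hab (commutative_of_cyclic_center_quotient (QuotientGroup.mk' (Subgroup.center G))
      (by rw [QuotientGroup.ker_mk']) a b)
  have hZ3 : Nat.card (Subgroup.center G) = 3 := by
    obtain ⟨k, hk, hkeq⟩ := (Nat.dvd_prime_pow (by norm_num : Nat.Prime 3)).mp hZdvd
    interval_cases k
    · exact absurd (by simpa using hkeq) hZ1
    · simpa using hkeq
    · exact absurd (by rw [hkeq]; norm_num) hZ9
    · exact absurd (by rw [hkeq]; norm_num) hZ27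
  have hq9 : Nat.card (G ⧸ Subgroup.center G) = 3 ^ 2 := by
    rw [hZ3] at hmul; omega
  -- commutator ≤ centre
  have hcomm_le : commutator G ≤ Subgroup.center G := by
    rw [← Subgroup.Normal.quotient_commutative_iff_commutator_le]
    exact IsPGroup.isMulCommutative_of_card_eq_prime_sq hq9
  -- commutator ≠ ⊥
  have hcomm_ne : commutator G ≠ ⊥ := by
    intro hbot
    have hmem : ⁅a, b⁆ ∈ commutator G :=
      Subgroup.commutator_mem_commutator (Subgroup.mem_top a) (Subgroup.mem_top b)
    rw [hbot, Subgroup.mem_bot, commutatorElement_eq_one_iff_mul_comm] at hmem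
    exact hab hmem
  have hcomm_eq : commutator G = Subgroup.center G := by
    apply Subgroup.eq_of_le_of_card_ge hcomm_le
    have hd : Nat.card (commutator G) ∣ 3 := by
      rw [← hZ3]; exact Subgroup.card_dvd_of_le hcomm_le
    have h1 : Nat.card (commutator G) ≠ 1 := by
      intro h1
      exact hcomm_ne (Subgroup.eq_bot_of_card_eq _ h1)
    rcases (Nat.dvd_prime (by norm_num : Nat.Prime 3)).mp hd with h | h
    · exact absurd h h1
    · rw [h, hZ3]
  -- cubes lie in the centre
  have hpow : ∀ x : G, x ^ 3 ∈ Subgroup.center G := by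
    intro x
    rw [← QuotientGroup.eq_one_iff, QuotientGroup.mk_pow]
    have hord : orderOf (x : G ⧸ Subgroup.center G) ∣ 3 ^ 2 := by
      rw [← hq9]; exact orderOf_dvd_natCard _
    obtain ⟨k, hk, hkeq⟩ := (Nat.dvd_prime_pow (by norm_num : Nat.Prime 3)).mp hord
    have hk2 : k ≠ 2 := by
      intro h2
      subst h2
      have : IsCyclic (G ⧸ Subgroup.center G) :=
        isCyclic_of_orderOf_eq_card (x : G ⧸ Subgroup.center G) (by rw [hkeq, hq9])
      exact hab (commutative_of_cyclic_center_quotient (QuotientGroup.mk' (Subgroup.center G))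
        (by rw [QuotientGroup.ker_mk']) a b)
    have hk1 : k ≤ 1 := by omega
    apply orderOf_dvd_iff_pow_eq_one.mp
    rw [hkeq]
    exact pow_dvd_pow 3 hk1 |>.trans (by norm_num)
  have hfr_le : frattini G ≤ Subgroup.center G :=
    Cfsg.Agent.Lib.helper3.frattini_le_of_pow_mem_of_commutator_le (p := 3) (Subgroup.center G) hpow hcomm_le
  have hfr_ge : Subgroup.center G ≤ frattini G := by
    rw [← hcomm_eq]
    exact Cfsg.Agent.Lib.helper3.commutator_le_frattini hP
  exact ⟨⟨hP, le_antisymm hfr_le hfr_ge, hcomm_eq⟩, hZ3⟩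

end Cfsg.Agent.Lib.helper79.P3
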