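-- helper43: the character degree graph of PSL₂(q) and SL₂(q), q even.
import Mathlib
import Cfsg.Prelude.Def_Characters
import Cfsg.Prelude.Def_DegreeGraph
import Cfsg.Agent.Lib.helper43.PSL2Deg

set_option autoImplicit false

namespace Cfsg.Agent.Lib.helper43

open Matrix

section EvenGraph

variable {F : Type*} [Field F] [Fintype F]

/-- The degree set of `SL₂(q)`, `q ≥ 4` even. -/
theorem charDegrees_sl2_even [CharP F 2] (h4 : 4 ≤ Fintype.card F) :
    Cfsg.charDegrees (Matrix.SpecialLinearGroup (Fin 2) F) =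
      {1, Fintype.card F - 1, Fintype.card F, Fintype.card F + 1} := by
  obtain ⟨hall, ⟨χ₀, h0, -⟩, ⟨χ₁, h1⟩, h2⟩ := sl2_even_degrees (F := F)
  obtain ⟨χ₂, h2⟩ := h2 h4
  ext d
  simp only [Set.mem_insert_iff, Set.mem_singleton_iff]
  constructor
  · rintro ⟨χ, rfl⟩
    exact hall χ
  · rintro (h | h | h | h)
    · rw [h]
      exact one_mem_charDegrees
    · exact ⟨χ₁, h1.trans h.symm⟩
    · exact ⟨χ₀, h0.trans h.symm⟩
    · exact ⟨χ₂, h2.trans h.symm⟩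

/-- In characteristic `2`, `PSL₂(q)` and `SL₂(q)` have the same degree set. -/
theorem charDegrees_psl2_even [CharP F 2] :
    Cfsg.charDegrees (Matrix.ProjectiveSpecialLinearGroup (Fin 2) F) =
      Cfsg.charDegrees (Matrix.SpecialLinearGroup (Fin 2) F) := by
  have h := charDegrees_quotient (Subgroup.center (Matrix.SpecialLinearGroup (Fin 2) F))
  refine h.trans ?_
  ext d
  constructor
  · rintro ⟨χ, -, hχ⟩
    exact ⟨χ, hχ⟩
  · rintro ⟨χ, hχ⟩
    refine ⟨χ, fun z hz => ?_, hχ⟩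
    rcases sl2_center_cases hz with h | h
    · rw [h]
    · rw [h, negOne_eq_one_sl2]

/-- The arithmetic of the degree graph for the degree set `{1, q - 1, q, q + 1}`, `q` a power
of `2`. -/
theorem degreeGraph_even_aux (cd : Set ℕ) (q n : ℕ) (hq : q = 2 ^ n) (h4 : 4 ≤ q)
    (hcd : cd = {1, q - 1, q, q + 1}) :
    {p : ℕ | p.Prime ∧ ∃ d ∈ cd, p ∣ d} = {r : ℕ | r.Prime ∧ r ∣ q * (q ^ 2 - 1)} ∧
    ∀ r s : ℕ, (r ≠ s ∧ r.Prime ∧ s.Prime ∧ ∃ d ∈ cd, r * s ∣ d) ↔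
      (r ≠ s ∧ r.Prime ∧ s.Prime ∧ ((r ∣ q + 1 ∧ s ∣ q + 1) ∨ (r ∣ q - 1 ∧ s ∣ q - 1))) := by
  have e1 : q ^ 2 - 1 = (q - 1) * (q + 1) := by
    obtain ⟨a, rfl⟩ : ∃ a, q = a + 1 := ⟨q - 1, by omega⟩
    rw [Nat.sub_eq_iff_eq_add (Nat.one_le_pow 2 (a + 1) (by omega))]
    simp only [Nat.add_sub_cancel]
    ring
  subst hcd
  constructor
  · ext r
    simp only [Set.mem_ofPred_eq, Set.mem_insert_iff, Set.mem_singleton_iff]
    constructor
    · rintro ⟨hr, d, hd, hrd⟩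
      refine ⟨hr, ?_⟩
      rw [e1]
      rcases hd with rfl | rfl | rfl | rfl
      · exact absurd (Nat.dvd_one.1 hrd) hr.one_lt.ne'
      · exact dvd_mul_of_dvd_right (dvd_mul_of_dvd_left hrd _) _
      · exact dvd_mul_of_dvd_left hrd _
      · exact dvd_mul_of_dvd_right (dvd_mul_of_dvd_right hrd _) _
    · rintro ⟨hr, hdvd⟩
      refine ⟨hr, ?_⟩
      rw [e1] at hdvd
      rcases (Nat.Prime.dvd_mul hr).1 hdvd with h | h
      · exact ⟨q, Or.inr (Or.inr (Or.inl rfl)), h⟩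
      · rcases (Nat.Prime.dvd_mul hr).1 h with h | h
        · exact ⟨q - 1, Or.inr (Or.inl rfl), h⟩
        · exact ⟨q + 1, Or.inr (Or.inr (Or.inr rfl)), h⟩
  · intro r s
    constructor
    · rintro ⟨hne, hr, hs, d, hd, hrs⟩
      refine ⟨hne, hr, hs, ?_⟩
      have hr' : r ∣ d := dvd_trans (dvd_mul_right r s) hrs
      have hs' : s ∣ d := dvd_trans (dvd_mul_left s r) hrs
      simp only [Set.mem_insert_iff, Set.mem_singleton_iff] at hd
      rcases hd with rfl | rfl | rfl | rfl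
      · exact absurd (Nat.dvd_one.1 hr') hr.one_lt.ne'
      · exact Or.inr ⟨hr', hs'⟩
      · exfalso
        rw [hq] at hr' hs'
        have h1 := (Nat.prime_dvd_prime_iff_eq hr Nat.prime_two).1 (hr.dvd_of_dvd_pow hr')
        have h2 := (Nat.prime_dvd_prime_iff_eq hs Nat.prime_two).1 (hs.dvd_of_dvd_pow hs')
        exact hne (h1.trans h2.symm)
      · exact Or.inl ⟨hr', hs'⟩
    · rintro ⟨hne, hr, hs, h⟩
      refine ⟨hne, hr, hs, ?_⟩
      have hco : Nat.Coprime r s := (Nat.coprime_primes hr hs).2 hne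
      rcases h with ⟨h1, h2⟩ | ⟨h1, h2⟩
      · exact ⟨q + 1, Or.inr (Or.inr (Or.inr rfl)), hco.mul_dvd_of_dvd_of_dvd h1 h2⟩
      · exact ⟨q - 1, Or.inr (Or.inl rfl), hco.mul_dvd_of_dvd_of_dvd h1 h2⟩

/-- **The character degree graph of `PSL₂(q)` and `SL₂(q)`, `q ≥ 4` even.** -/
theorem degreeGraph_psl2_even (F : Type*) [Field F] [Fintype F] [CharP F 2] (q : ℕ)
    (hq : Fintype.card F = q) (h4 : 4 ≤ q) {S : Type*} [Group S]
    (hS : Nonempty (S ≃* Matrix.ProjectiveSpecialLinearGroup (Fin 2) F) ∨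
      Nonempty (S ≃* Matrix.SpecialLinearGroup (Fin 2) F)) :
    Cfsg.degreePrimes S = {r : ℕ | r.Prime ∧ r ∣ q * (q ^ 2 - 1)} ∧
    ∀ r s : ℕ, (Cfsg.degreeGraph S).Adj r s ↔
      (r ≠ s ∧ r.Prime ∧ s.Prime ∧ ((r ∣ q + 1 ∧ s ∣ q + 1) ∨ (r ∣ q - 1 ∧ s ∣ q - 1))) := by
  subst hq
  have hcd : Cfsg.charDegrees S =
      {1, Fintype.card F - 1, Fintype.card F, Fintype.card F + 1} := by
    rcases hS with ⟨⟨e⟩⟩ | ⟨⟨e⟩⟩
    · rw [charDegrees_of_mulEquiv e, charDegrees_psl2_even, charDegrees_sl2_even h4]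
    · rw [charDegrees_of_mulEquiv e, charDegrees_sl2_even h4]
  obtain ⟨n, -, hn⟩ := FiniteField.card F 2
  exact degreeGraph_even_aux (Cfsg.charDegrees S) (Fintype.card F) n hn h4 hcd

end EvenGraph

end Cfsg.Agent.Lib.helper43
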