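-- helper43: the character degree graph of PSL₂(q) and SL₂(q), q odd, q > 5: existence of
-- irreducible characters of degrees q + 1 and q - 1 trivial on the centre, the list of the
-- degrees, and the arithmetic of the graph.
import Mathlib
import Cfsg.Prelude.Def_Characters
import Cfsg.Prelude.Def_DegreeGraph
import Cfsg.Agent.Lib.helper43.PSL2Graph

set_option autoImplicit false

namespace Cfsg.Agent.Lib.helper43

open Matrix

section OddGraph

variable {F : Type*} [Field F] [Fintype F]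

/-- A principal series character of degree `q + 1` trivial on the centre (`q > 5` odd). -/
theorem exists_principal_even (h5 : 5 < Fintype.card F) :
    ∃ χ : Cfsg.IrrCharacter (Matrix.SpecialLinearGroup (Fin 2) F),
      (χ : Matrix.SpecialLinearGroup (Fin 2) F → ℂ) 1 = ((Fintype.card F + 1 : ℕ) : ℂ) ∧
      (χ : Matrix.SpecialLinearGroup (Fin 2) F → ℂ) (-1) =
        (χ : Matrix.SpecialLinearGroup (Fin 2) F → ℂ) 1 := by
  classical
  have : Fintype (Matrix.SpecialLinearGroup (Fin 2) F) := Fintype.ofFinite _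
  have : Fintype (BSL F) := Fintype.ofFinite _
  have hq1 : Fintype.card F - 1 ≠ 0 := by omega
  obtain ⟨β, hβ⟩ := MulChar.exists_mulChar_orderOf F (dvd_refl (Fintype.card F - 1))
    (Complex.isPrimitiveRoot_exp _ hq1)
  have h4 : β ^ 4 ≠ 1 := by
    intro h
    have h' := orderOf_dvd_of_pow_eq_one h
    rw [hβ] at h'
    have := Nat.le_of_dvd (by norm_num) h'
    omega
  have hα2 : (β ^ 2) ^ 2 ≠ 1 := by
    rw [← pow_mul]
    exact h4
  have hirr := (isIrrCharacter_indFun_alphaB_iff (β ^ 2)).2 hα2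
  have hv1 : (β ^ 2) (1 : F) = 1 := map_one _
  have hv2 : (β ^ 2) (-1 : F) = 1 := by
    rw [MulChar.pow_apply' β (by norm_num), ← map_pow, neg_one_sq, map_one]
  refine ⟨⟨_, hirr⟩, ?_, ?_⟩
  · show Cfsg.indFun (BSL F) (alphaB (β ^ 2)) 1 = _
    rw [indFun_alphaB_central (β ^ 2) 1 (by simp) (by simp) (by simp)]
    simp only [Matrix.SpecialLinearGroup.coe_one, Matrix.one_apply_eq, hv1]
    push_cast
    ring
  · show Cfsg.indFun (BSL F) (alphaB (β ^ 2)) (-1) = Cfsg.indFun (BSL F) (alphaB (β ^ 2)) 1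
    rw [indFun_alphaB_central (β ^ 2) 1 (by simp) (by simp) (by simp),
      indFun_alphaB_central (β ^ 2) (-1) (by simp) (by simp) (by simp)]
    simp only [Matrix.SpecialLinearGroup.coe_one, Matrix.one_apply_eq, hv1,
      Matrix.SpecialLinearGroup.coe_neg, Matrix.neg_apply, hv2]

open scoped IsMulCommutative in
/-- A character of the nonsplit torus whose fourth power is nontrivial. -/
theorem NonsplitData.exists_hom_pow_four {t w : Matrix.SpecialLinearGroup (Fin 2) F}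
    (hd : NonsplitData t w) (h5 : 5 < Fintype.card F) :
    ∃ θ : Subgroup.zpowers t →* ℂˣ, θ ^ 4 ≠ 1 := by
  have : NeZero (Monoid.exponent (Subgroup.zpowers t)) := ⟨Monoid.exponent_ne_zero_of_finite⟩
  obtain ⟨e⟩ := CommGroup.monoidHom_mulEquiv_of_hasEnoughRootsOfUnity (Subgroup.zpowers t) ℂ
  refine ⟨e.symm ⟨t, Subgroup.mem_zpowers t⟩, fun h => ?_⟩
  have h1 : (⟨t, Subgroup.mem_zpowers t⟩ : Subgroup.zpowers t) ^ 4 = 1 := by
    have := congrArg e h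
    rwa [map_pow, MulEquiv.apply_symm_apply, map_one] at this
  have h2 : t ^ 4 = 1 := by
    have := congrArg Subtype.val h1
    simpa using this
  have h3 := orderOf_dvd_of_pow_eq_one h2
  rw [hd.order] at h3
  have := Nat.le_of_dvd (by norm_num) h3
  omega

/-- A cuspidal character of degree `q - 1` trivial on the centre (`q > 5` odd). -/
theorem exists_cuspidal_even (hodd : Odd (Fintype.card F)) (h5 : 5 < Fintype.card F) :
    ∃ χ : Cfsg.IrrCharacter (Matrix.SpecialLinearGroup (Fin 2) F),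
      (χ : Matrix.SpecialLinearGroup (Fin 2) F → ℂ) 1 = ((Fintype.card F - 1 : ℕ) : ℂ) ∧
      (χ : Matrix.SpecialLinearGroup (Fin 2) F → ℂ) (-1) =
        (χ : Matrix.SpecialLinearGroup (Fin 2) F → ℂ) 1 := by
  classical
  have : Fintype (Matrix.SpecialLinearGroup (Fin 2) F) := Fintype.ofFinite _
  have : Fintype (BSL F) := Fintype.ofFinite _
  obtain ⟨t, w, hd⟩ := exists_nonsplitData hodd
  obtain ⟨ϑ, hϑ⟩ := hd.exists_hom_pow_four h5
  have hsq : (⟨-1, hd.negOne_mem⟩ : Subgroup.zpowers t) * ⟨-1, hd.negOne_mem⟩ = 1 := by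
    apply Subtype.ext
    simp
  have hθ1 : (ϑ * ϑ) ⟨-1, hd.negOne_mem⟩ = 1 := by
    rw [MonoidHom.mul_apply, ← map_mul, hsq, map_one]
  have hne : ϑ * ϑ ≠ (ϑ * ϑ)⁻¹ := by
    intro h
    apply hϑ
    ext c
    have hc := congrArg (fun f : Subgroup.zpowers t →* ℂˣ => f c) h
    simp only [MonoidHom.mul_apply, MonoidHom.inv_apply] at hc
    have h4 : ϑ c * ϑ c * (ϑ c * ϑ c) = 1 := by
      nth_rewrite 2 [hc]
      exact mul_inv_cancel _
    rw [MonoidHom.pow_apply, MonoidHom.one_apply]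
    have : ϑ c ^ 4 = ϑ c * ϑ c * (ϑ c * ϑ c) := by
      rw [show (4 : ℕ) = 2 + 2 from rfl, pow_add, pow_two]
    rw [this, h4]
  have hσ : (1 : MulChar F ℂ) (-1) = (((ϑ * ϑ) ⟨-1, hd.negOne_mem⟩ : ℂˣ) : ℂ) := by
    rw [hθ1, Units.val_one]
    exact MulChar.one_apply (isUnit_one.neg)
  have hirr := hd.isIrrCharacter_cuspChar hodd 1 (ϑ * ϑ) hσ hne
  have hq1 : 1 ≤ Fintype.card F := by omega
  refine ⟨⟨_, hirr⟩, ?_, ?_⟩
  · show cuspChar 1 (ϑ * ϑ) 1 = _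
    rw [hd.cuspChar_one]
    push_cast [Nat.cast_sub hq1]
    ring
  · show cuspChar 1 (ϑ * ϑ) (-1) = cuspChar 1 (ϑ * ϑ) 1
    rw [hd.cuspChar_one, hd.cuspChar_negOne 1 (ϑ * ϑ) hσ, hθ1, Units.val_one, mul_one]

/-- The possible degrees of the irreducible characters of `SL₂(q)`, `q = 2k + 1`. -/
theorem sl2_odd_degree_cases (k : ℕ) (hk : Fintype.card F = 2 * k + 1)
    (χ : Cfsg.IrrCharacter (Matrix.SpecialLinearGroup (Fin 2) F)) :
    Cfsg.charDegree (χ : Matrix.SpecialLinearGroup (Fin 2) F → ℂ) = 1 ∨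
    Cfsg.charDegree (χ : Matrix.SpecialLinearGroup (Fin 2) F → ℂ) = k ∨
    Cfsg.charDegree (χ : Matrix.SpecialLinearGroup (Fin 2) F → ℂ) = k + 1 ∨
    Cfsg.charDegree (χ : Matrix.SpecialLinearGroup (Fin 2) F → ℂ) = 2 * k ∨
    Cfsg.charDegree (χ : Matrix.SpecialLinearGroup (Fin 2) F → ℂ) = 2 * k + 1 ∨
    Cfsg.charDegree (χ : Matrix.SpecialLinearGroup (Fin 2) F → ℂ) = 2 * k + 2 := by
  obtain ⟨m, rp, rm, hd, -, hcls, -⟩ := sl2_odd_types (F := F) k hk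
  rw [charDegree_eq_of_one_eq χ _ (hd χ)]
  rcases hcls χ with ⟨e1, e2, e3⟩ | ⟨e1, e2⟩ | ⟨e1, e2, e3⟩
  · rw [e1, e2, e3]
    simp
  · rw [e1, mul_one]
    omega
  · rw [e1, e2]
    omega

/-- Membership in the degree set of a group isomorphic to `PSL₂(q)` or `SL₂(q)`, from a
character of `SL₂(q)` trivial on the centre. -/
theorem mem_charDegrees_of_center_trivial
    (χ : Cfsg.IrrCharacter (Matrix.SpecialLinearGroup (Fin 2) F))
    (hc : ∀ z ∈ Subgroup.center (Matrix.SpecialLinearGroup (Fin 2) F),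
      (χ : Matrix.SpecialLinearGroup (Fin 2) F → ℂ) z =
        (χ : Matrix.SpecialLinearGroup (Fin 2) F → ℂ) 1)
    {S : Type*} [Group S]
    (hS : Nonempty (S ≃* Matrix.ProjectiveSpecialLinearGroup (Fin 2) F) ∨
      Nonempty (S ≃* Matrix.SpecialLinearGroup (Fin 2) F)) :
    Cfsg.charDegree (χ : Matrix.SpecialLinearGroup (Fin 2) F → ℂ) ∈ Cfsg.charDegrees S := by
  rcases hS with ⟨⟨e⟩⟩ | ⟨⟨e⟩⟩
  · rw [charDegrees_of_mulEquiv e]
    have h := charDegrees_quotient (Subgroup.center (Matrix.SpecialLinearGroup (Fin 2) F))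
    exact h.symm.subset ⟨χ, hc, rfl⟩
  · rw [charDegrees_of_mulEquiv e]
    exact ⟨χ, rfl⟩

/-- Every degree of a group isomorphic to `PSL₂(q)` or `SL₂(q)` is a degree of `SL₂(q)`. -/
theorem charDegrees_subset_sl2 {S : Type*} [Group S]
    (hS : Nonempty (S ≃* Matrix.ProjectiveSpecialLinearGroup (Fin 2) F) ∨
      Nonempty (S ≃* Matrix.SpecialLinearGroup (Fin 2) F)) :
    Cfsg.charDegrees S ⊆ Cfsg.charDegrees (Matrix.SpecialLinearGroup (Fin 2) F) := by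
  intro d hd
  rcases hS with ⟨⟨e⟩⟩ | ⟨⟨e⟩⟩
  · rw [charDegrees_of_mulEquiv e] at hd
    have h := charDegrees_quotient (Subgroup.center (Matrix.SpecialLinearGroup (Fin 2) F))
    obtain ⟨χ, -, hχ⟩ := h.subset hd
    exact ⟨χ, hχ⟩
  · rw [charDegrees_of_mulEquiv e] at hd
    exact hd

/-- The arithmetic of the degree graph for `q = 2k + 1` a power of an odd prime. -/
theorem degreeGraph_odd_aux (cd : Set ℕ) (q k t n : ℕ) (ht : t.Prime)
    (hqt : q = t ^ n) (hk : q = 2 * k + 1)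
    (hsub : ∀ d ∈ cd, d = 1 ∨ d = k ∨ d = k + 1 ∨ d = 2 * k ∨ d = 2 * k + 1 ∨ d = 2 * k + 2)
    (h1 : q ∈ cd) (h2 : q - 1 ∈ cd) (h3 : q + 1 ∈ cd) :
    {p : ℕ | p.Prime ∧ ∃ d ∈ cd, p ∣ d} = {r : ℕ | r.Prime ∧ r ∣ q * (q ^ 2 - 1)} ∧
    ∀ r s : ℕ, (r ≠ s ∧ r.Prime ∧ s.Prime ∧ ∃ d ∈ cd, r * s ∣ d) ↔
      (r ≠ s ∧ r.Prime ∧ s.Prime ∧ r ∣ q ^ 2 - 1 ∧ s ∣ q ^ 2 - 1 ∧
        (r = 2 ∨ s = 2 ∨ (r ∣ q + 1 ∧ s ∣ q + 1) ∨ (r ∣ q - 1 ∧ s ∣ q - 1))) := by
  have e1 : q ^ 2 - 1 = (q - 1) * (q + 1) := by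
    subst hk
    rw [Nat.sub_eq_iff_eq_add (Nat.one_le_pow 2 (2 * k + 1) (by omega))]
    simp only [Nat.add_sub_cancel]
    ring
  have em : q - 1 = 2 * k := by omega
  have ep : q + 1 = 2 * (k + 1) := by omega
  have hcase : ∀ d ∈ cd, ∀ r : ℕ, r.Prime → r ∣ d → r ∣ q ∨ r ∣ q - 1 ∨ r ∣ q + 1 := by
    intro d hd r hr hrd
    rcases hsub d hd with rfl | rfl | rfl | rfl | rfl | rfl
    · exact absurd (Nat.dvd_one.1 hrd) hr.one_lt.ne'
    · exact Or.inr (Or.inl (em ▸ dvd_mul_of_dvd_right hrd 2))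
    · exact Or.inr (Or.inr (ep ▸ dvd_mul_of_dvd_right hrd 2))
    · exact Or.inr (Or.inl (em ▸ hrd))
    · exact Or.inl (hk ▸ hrd)
    · exact Or.inr (Or.inr (by rw [ep]; exact hrd))
  constructor
  · ext r
    simp only [Set.mem_ofPred_eq]
    constructor
    · rintro ⟨hr, d, hd, hrd⟩
      refine ⟨hr, ?_⟩
      rw [e1]
      rcases hcase d hd r hr hrd with h | h | h
      · exact dvd_mul_of_dvd_left h _
      · exact dvd_mul_of_dvd_right (dvd_mul_of_dvd_left h _) _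
      · exact dvd_mul_of_dvd_right (dvd_mul_of_dvd_right h _) _
    · rintro ⟨hr, hdvd⟩
      refine ⟨hr, ?_⟩
      rw [e1] at hdvd
      rcases (Nat.Prime.dvd_mul hr).1 hdvd with h | h
      · exact ⟨q, h1, h⟩
      · rcases (Nat.Prime.dvd_mul hr).1 h with h | h
        · exact ⟨q - 1, h2, h⟩
        · exact ⟨q + 1, h3, h⟩
  · intro r s
    constructor
    · rintro ⟨hne, hr, hs, d, hd, hrs⟩
      have hr' : r ∣ d := dvd_trans (dvd_mul_right r s) hrs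
      have hs' : s ∣ d := dvd_trans (dvd_mul_left s r) hrs
      have hnq : ¬ (r ∣ q ∧ s ∣ q) := by
        rintro ⟨hrq, hsq⟩
        rw [hqt] at hrq hsq
        have h1 := (Nat.prime_dvd_prime_iff_eq hr ht).1 (hr.dvd_of_dvd_pow hrq)
        have h2 := (Nat.prime_dvd_prime_iff_eq hs ht).1 (hs.dvd_of_dvd_pow hsq)
        exact hne (h1.trans h2.symm)
      have key : (r ∣ q - 1 ∧ s ∣ q - 1) ∨ (r ∣ q + 1 ∧ s ∣ q + 1) := by
        rcases hsub d hd with rfl | rfl | rfl | rfl | rfl | rfl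
        · exact absurd (Nat.dvd_one.1 hr') hr.one_lt.ne'
        · exact Or.inl ⟨em ▸ dvd_mul_of_dvd_right hr' 2, em ▸ dvd_mul_of_dvd_right hs' 2⟩
        · exact Or.inr ⟨ep ▸ dvd_mul_of_dvd_right hr' 2, ep ▸ dvd_mul_of_dvd_right hs' 2⟩
        · exact Or.inl ⟨em ▸ hr', em ▸ hs'⟩
        · exact absurd ⟨hk ▸ hr', hk ▸ hs'⟩ hnq
        · exact Or.inr ⟨by rw [ep]; exact hr', by rw [ep]; exact hs'⟩
      rw [e1]
      rcases key with ⟨a, b⟩ | ⟨a, b⟩
      · exact ⟨hne, hr, hs, dvd_mul_of_dvd_left a _, dvd_mul_of_dvd_left b _,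
          Or.inr (Or.inr (Or.inr ⟨a, b⟩))⟩
      · exact ⟨hne, hr, hs, dvd_mul_of_dvd_right a _, dvd_mul_of_dvd_right b _,
          Or.inr (Or.inr (Or.inl ⟨a, b⟩))⟩
    · rintro ⟨hne, hr, hs, hr2, hs2, h⟩
      refine ⟨hne, hr, hs, ?_⟩
      have hco : Nat.Coprime r s := (Nat.coprime_primes hr hs).2 hne
      rw [e1] at hr2 hs2
      have d2m : 2 ∣ q - 1 := em ▸ dvd_mul_right 2 k
      have d2p : 2 ∣ q + 1 := ep ▸ dvd_mul_right 2 (k + 1)
      rcases h with h | h | ⟨a, b⟩ | ⟨a, b⟩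
      · subst h
        rcases (Nat.Prime.dvd_mul hs).1 hs2 with h | h
        · exact ⟨q - 1, h2, hco.mul_dvd_of_dvd_of_dvd d2m h⟩
        · exact ⟨q + 1, h3, hco.mul_dvd_of_dvd_of_dvd d2p h⟩
      · subst h
        rcases (Nat.Prime.dvd_mul hr).1 hr2 with h | h
        · exact ⟨q - 1, h2, hco.mul_dvd_of_dvd_of_dvd h d2m⟩
        · exact ⟨q + 1, h3, hco.mul_dvd_of_dvd_of_dvd h d2p⟩
      · exact ⟨q + 1, h3, hco.mul_dvd_of_dvd_of_dvd a b⟩
      · exact ⟨q - 1, h2, hco.mul_dvd_of_dvd_of_dvd a b⟩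

/-- **The character degree graph of `PSL₂(q)` and `SL₂(q)`, `q > 5` odd.** -/
theorem degreeGraph_psl2_odd (F : Type*) [Field F] [Fintype F] (t : ℕ) [Fact t.Prime]
    [CharP F t] (ht : t ≠ 2) (q : ℕ) (hq : Fintype.card F = q) (h5 : 5 < q)
    {S : Type*} [Group S]
    (hS : Nonempty (S ≃* Matrix.ProjectiveSpecialLinearGroup (Fin 2) F) ∨
      Nonempty (S ≃* Matrix.SpecialLinearGroup (Fin 2) F)) :
    Cfsg.degreePrimes S = {r : ℕ | r.Prime ∧ r ∣ q * (q ^ 2 - 1)} ∧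
    ∀ r s : ℕ, (Cfsg.degreeGraph S).Adj r s ↔
      (r ≠ s ∧ r.Prime ∧ s.Prime ∧ r ∣ q ^ 2 - 1 ∧ s ∣ q ^ 2 - 1 ∧
        (r = 2 ∨ s = 2 ∨ (r ∣ q + 1 ∧ s ∣ q + 1) ∨ (r ∣ q - 1 ∧ s ∣ q - 1))) := by
  subst hq
  have hodd : Odd (Fintype.card F) := odd_card_of_charP t ht
  obtain ⟨k, hk⟩ := hodd
  obtain ⟨n, htp, hn⟩ := FiniteField.card F t
  have hcen : ∀ χ : Cfsg.IrrCharacter (Matrix.SpecialLinearGroup (Fin 2) F),
      (χ : Matrix.SpecialLinearGroup (Fin 2) F → ℂ) (-1) =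
        (χ : Matrix.SpecialLinearGroup (Fin 2) F → ℂ) 1 →
      ∀ z ∈ Subgroup.center (Matrix.SpecialLinearGroup (Fin 2) F),
        (χ : Matrix.SpecialLinearGroup (Fin 2) F → ℂ) z =
          (χ : Matrix.SpecialLinearGroup (Fin 2) F → ℂ) 1 := by
    intro χ hχ z hz
    rcases sl2_center_cases hz with h | h
    · rw [h]
    · rw [h, hχ]
  have h1 : Fintype.card F ∈ Cfsg.charDegrees S := by
    obtain ⟨-, χ₀, h0, hc, -⟩ := sl2_p_singular (F := F) t
    rw [← h0]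
    exact mem_charDegrees_of_center_trivial χ₀ hc hS
  have h2 : Fintype.card F - 1 ∈ Cfsg.charDegrees S := by
    obtain ⟨χ, hχ1, hχ2⟩ := exists_cuspidal_even (F := F) ⟨k, hk⟩ h5
    rw [← charDegree_eq_of_one_eq χ _ hχ1]
    exact mem_charDegrees_of_center_trivial χ (hcen χ hχ2) hS
  have h3 : Fintype.card F + 1 ∈ Cfsg.charDegrees S := by
    obtain ⟨χ, hχ1, hχ2⟩ := exists_principal_even (F := F) h5
    rw [← charDegree_eq_of_one_eq χ _ hχ1]
    exact mem_charDegrees_of_center_trivial χ (hcen χ hχ2) hS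
  have hsub : ∀ d ∈ Cfsg.charDegrees S,
      d = 1 ∨ d = k ∨ d = k + 1 ∨ d = 2 * k ∨ d = 2 * k + 1 ∨ d = 2 * k + 2 := by
    intro d hd
    obtain ⟨χ, rfl⟩ := charDegrees_subset_sl2 hS hd
    exact sl2_odd_degree_cases k hk χ
  exact degreeGraph_odd_aux (Cfsg.charDegrees S) (Fintype.card F) k t n htp hn hk hsub h1 h2 h3

end OddGraph

end Cfsg.Agent.Lib.helper43
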