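import Mathlib
import Cfsg.Agent.Lib.helper68.HallPet
import Cfsg.Agent.Lib.helper65.PearlDefs
import Cfsg.Agent.Lib.helper65.PearlBasic
import Cfsg.Agent.Lib.helper43.PearlD1

set_option autoImplicit false

namespace Cfsg.Agent.Lib.helper65.PearlPow

open Cfsg.Agent.Lib.helper68

variable {H : Type*} [Group H]

/-- A1 (M/L). Removing an atom does not change the high differences. -/
theorem h43_atom_remove {v : ℕ} (hv : 1 ≤ v) {s : ℕ → H} (hs : PolySeq v s) (k : ℕ) (hk : 1 ≤ k)
    (a : H) (ha : a ∈ gam H (k + v)) (j : ℕ) (hj : k + 1 ≤ j) :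
    Rel (v + j + 1) (dl^[j] s) (dl^[j] (fun n => (a ^ (n.choose k))⁻¹ * s n)) := by
  set s' : ℕ → H := fun n => (a ^ (n.choose k))⁻¹ * s n with hs'
  have claim : ∀ i, i ≤ k →
      Rel (v + i + 1) (fun n => (a ^ (n.choose (k - i)))⁻¹ * dl^[i] s n) (dl^[i] s') := by
    intro i
    induction i with
    | zero =>
      intro _
      exact rel_of_eq _ rfl
    | succ i ih =>
      intro hik
      have ih' := ih (by omega)
      have hr : PolySeq (v + i) (dl^[i] s) := polyseq_dl_iter hs i
      have hat : PolySeq (v + i) (fun n : ℕ => a ^ (n.choose (k - i))) :=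
        PolySeq.atom (k - i) (v + i) a (by
          have : k - i + (v + i) = k + v := by omega
          rw [this]; exact ha)
      have ht : PolySeq (v + i) (fun n => (a ^ (n.choose (k - i)))⁻¹ * dl^[i] s n) :=
        PolySeq.mul (PolySeq.inv hat) hr
      have h1 := rel_dl ht ih'
      have hat' : PolySeq (v + i + 1) (fun n : ℕ => a ^ (n.choose (k - (i + 1)))) :=
        PolySeq.atom (k - (i + 1)) (v + i + 1) a (by
          have : k - (i + 1) + (v + i + 1) = k + v := by omega
          rw [this]; exact ha)
      have hr1 : PolySeq (v + i + 1) (dl (dl^[i] s)) := PolySeq.diff hr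
      have h2 : Rel (v + (i + 1) + 1)
          (fun n => (a ^ (n.choose (k - (i + 1))))⁻¹ * dl^[i + 1] s n)
          (dl (fun n => (a ^ (n.choose (k - i)))⁻¹ * dl^[i] s n)) := by
        unfold Rel
        have hc : PolySeq (v + i + 1 + (v + i))
            (fun n => com ((a ^ (n.choose (k - (i + 1))))⁻¹) (dl^[i] s n)) :=
          PolySeq.comm (PolySeq.inv hat') hr
        have hc2 : PolySeq (v + (i + 1) + 1)
            (fun n => com ((a ^ (n.choose (k - (i + 1))))⁻¹) (dl^[i] s n)) :=
          PolySeq.mono (by omega) hc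
        have hc' := polyseq_conj hc2 hr1
        have e : (fun n => ((a ^ (n.choose (k - (i + 1))))⁻¹ * dl^[i + 1] s n)⁻¹ *
              dl (fun n => (a ^ (n.choose (k - i)))⁻¹ * dl^[i] s n) n) =
            fun n => (dl (dl^[i] s) n)⁻¹ *
              com ((a ^ (n.choose (k - (i + 1))))⁻¹) (dl^[i] s n) * dl (dl^[i] s) n := by
          funext n
          rw [Function.iterate_succ_apply']
          have hch : (n + 1).choose (k - i) = n.choose (k - (i + 1)) + n.choose (k - i) := by
            have h5 : k - i = (k - (i + 1)) + 1 := by omega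
            rw [h5, Nat.choose_succ_succ]
          unfold dl com
          beta_reduce
          rw [hch, pow_add]
          group
        rw [e]
        exact hc'
      have e2 : dl^[i + 1] s' = dl (dl^[i] s') := Function.iterate_succ_apply' dl i s'
      rw [e2]
      exact rel_trans h2 h1
  have hk' := claim k le_rfl
  have hconst : PolySeq (v + k) (fun n => (a ^ (n.choose (k - k)))⁻¹ * dl^[k] s n) := by
    have hat : PolySeq (v + k) (fun n : ℕ => a ^ (n.choose (k - k))) :=
      PolySeq.atom (k - k) (v + k) a (by rw [Nat.sub_self, zero_add, add_comm]; exact ha)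
    exact PolySeq.mul (PolySeq.inv hat) (polyseq_dl_iter hs k)
  have h4 := rel_dl hconst hk'
  have e3 : dl (fun n => (a ^ (n.choose (k - k)))⁻¹ * dl^[k] s n) = dl^[k + 1] s := by
    funext n
    rw [Function.iterate_succ_apply']
    unfold dl
    beta_reduce
    rw [Nat.sub_self, Nat.choose_zero_right, Nat.choose_zero_right]
    group
  rw [e3, ← Function.iterate_succ_apply' dl k s'] at h4
  have fin : ∀ m, Rel (v + (k + 1 + m) + 1) (dl^[k + 1 + m] s) (dl^[k + 1 + m] s') := by
    intro m
    induction m with
    | zero => exact h4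
    | succ m ih =>
      have h6 := rel_dl (polyseq_dl_iter hs (k + 1 + m)) ih
      rw [← Function.iterate_succ_apply' dl (k + 1 + m) s,
        ← Function.iterate_succ_apply' dl (k + 1 + m) s'] at h6
      exact h6
  obtain ⟨m, rfl⟩ : ∃ m, j = k + 1 + m := ⟨j - (k + 1), by omega⟩
  exact fin m

end Cfsg.Agent.Lib.helper65.PearlPow
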