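import Mathlib
import Cfsg.Agent.Lib.helper68.HallPet
import Cfsg.Agent.Lib.helper65.PearlDefs
import Cfsg.Agent.Lib.helper65.PearlBasic

set_option autoImplicit false

namespace Cfsg.Agent.Lib.helper65.PearlPow

open Cfsg.Agent.Lib.helper68

variable {H : Type*} [Group H]

/-- D2 (S/M). With `e = s⁻¹ s'`: `(ph x s)⁻¹ ph x s' = com (com (s n) x) (e n) * com (e n) x`. -/
theorem rel_ph {u v : ℕ} (x : H) {s s' : ℕ → H} (hs : PolySeq v s) (h : Rel u s s') :
    Rel (u + 1) (ph x s) (ph x s') := by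
  unfold Rel at h ⊢
  have e1 : (fun n : ℕ => (ph x s n)⁻¹ * ph x s' n) = fun n =>
      com (ph x s n) ((s n)⁻¹ * s' n) * ph x (fun n => (s n)⁻¹ * s' n) n := by
    funext n
    unfold ph com
    group
  rw [e1]
  exact PolySeq.mul (PolySeq.mono (by omega) (PolySeq.comm (polyseq_ph x hs) h)) (polyseq_ph x h)

end Cfsg.Agent.Lib.helper65.PearlPow
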