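import Mathlib
import Cfsg.Agent.Lib.helper44.PresDefs

set_option autoImplicit false

/-!
# S2286 piece PW (parallel spare of helper43): algebra of `polyWord`, prefixed names
-/

namespace Cfsg.Agent.Lib.helper43.Pres

open Polynomial
open Cfsg.Agent.Lib.helper44.Pres

/-- the padded product -/
theorem h43_polyWord_pad {G : Type*} [Group G] {p : ℕ} (g v : G) (f : (ZMod p)[X]) (N : ℕ)
    (hN : f.natDegree < N) :
    ((List.range N).map fun n => (g ^ n * v * (g ^ n)⁻¹) ^ (f.coeff n).val).prod
      = polyWord g v f := by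
  have key : ∀ N, f.natDegree + 1 ≤ N →
      ((List.range N).map fun n => (g ^ n * v * (g ^ n)⁻¹) ^ (f.coeff n).val).prod
        = polyWord g v f := by
    intro N hN'
    induction N, hN' using Nat.le_induction with
    | base => rfl
    | succ N hle ih =>
      rw [List.range_succ, List.map_append, List.prod_append, ih]
      have h0 : f.coeff N = 0 := Polynomial.coeff_eq_zero_of_natDegree_lt (by omega)
      simp [h0]
  exact key N hN

theorem h43_polyWord_map {G H : Type*} [Group G] [Group H] {p : ℕ} (φ : G →* H) (g v : G)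
    (f : (ZMod p)[X]) : φ (polyWord g v f) = polyWord (φ g) (φ v) f := by
  unfold polyWord
  rw [map_list_prod, List.map_map]
  congr 1
  apply List.map_congr_left
  intro n _
  simp

theorem h43_polyWord_zero {G : Type*} [Group G] {p : ℕ} (g u : G) :
    polyWord g u (0 : (ZMod p)[X]) = 1 := by
  simp [polyWord]

theorem h43_polyWord_one {G : Type*} [Group G] {p : ℕ} [Fact p.Prime] (g u : G) :
    polyWord g u (1 : (ZMod p)[X]) = u := by
  have : Fact (1 < p) := ⟨(Fact.out : p.Prime).one_lt⟩
  simp [polyWord, ZMod.val_one]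

theorem h43_polyWord_X_mul {G : Type*} [Group G] {p : ℕ} [Fact p.Prime] (g u : G)
    (f : (ZMod p)[X]) : polyWord g u (X * f) = g * polyWord g u f * g⁻¹ := by
  have hdeg : (X * f).natDegree < f.natDegree + 1 + 1 := by
    have := Polynomial.natDegree_mul_le (p := (X : (ZMod p)[X])) (q := f)
    have hX : (X : (ZMod p)[X]).natDegree ≤ 1 := Polynomial.natDegree_X_le
    omega
  rw [← h43_polyWord_pad g u (X * f) (f.natDegree + 1 + 1) hdeg,
    ← h43_polyWord_pad g u f (f.natDegree + 1) (Nat.lt_succ_self _)]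
  rw [List.range_succ_eq_map, List.map_cons, List.prod_cons, List.map_map]
  have h0 : (X * f).coeff 0 = 0 := by simp
  rw [h0, ZMod.val_zero, pow_zero, one_mul]
  have hconj : ∀ L : List G, (L.map fun x => g * x * g⁻¹).prod = g * L.prod * g⁻¹ := by
    intro L
    exact (map_list_prod (MulAut.conj g) L).symm
  rw [← hconj, List.map_map]
  congr 1
  apply List.map_congr_left
  intro n _
  simp only [Function.comp_apply, Polynomial.coeff_X_mul]
  rw [← conj_pow]
  congr 1
  rw [pow_succ']
  group

theorem h43_polyWord_add {G : Type*} [Group G] {p : ℕ} [Fact p.Prime] (g u : G) (hp : u ^ p = 1)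
    (hcomm : ∀ n : ℕ, Commute u (g ^ n * u * (g ^ n)⁻¹)) (f f' : (ZMod p)[X]) :
    polyWord g u (f + f') = polyWord g u f * polyWord g u f' := by
  have hpp : p.Prime := Fact.out
  have : NeZero p := ⟨hpp.ne_zero⟩
  -- the conjugates commute pairwise
  have hc : ∀ m n : ℕ, Commute (g ^ m * u * (g ^ m)⁻¹) (g ^ n * u * (g ^ n)⁻¹) := by
    have key : ∀ m k : ℕ, Commute (g ^ m * u * (g ^ m)⁻¹) (g ^ (m + k) * u * (g ^ (m + k))⁻¹) := by
      intro m k
      have h1 : g ^ (m + k) * u * (g ^ (m + k))⁻¹
          = g ^ m * (g ^ k * u * (g ^ k)⁻¹) * (g ^ m)⁻¹ := by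
        rw [pow_add]; group
      rw [h1]
      have h2 := hcomm k
      have h3 : (g ^ m * u * (g ^ m)⁻¹) * (g ^ m * (g ^ k * u * (g ^ k)⁻¹) * (g ^ m)⁻¹)
          = g ^ m * (u * (g ^ k * u * (g ^ k)⁻¹)) * (g ^ m)⁻¹ := by group
      have h4 : (g ^ m * (g ^ k * u * (g ^ k)⁻¹) * (g ^ m)⁻¹) * (g ^ m * u * (g ^ m)⁻¹)
          = g ^ m * ((g ^ k * u * (g ^ k)⁻¹) * u) * (g ^ m)⁻¹ := by group
      show _ * _ = _ * _
      rw [h3, h4, h2.eq]
    intro m n
    rcases le_total m n with h | h
    · obtain ⟨k, rfl⟩ := Nat.exists_eq_add_of_le h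
      exact key m k
    · obtain ⟨k, rfl⟩ := Nat.exists_eq_add_of_le h
      exact (key n k).symm
  -- p-th powers of the conjugates are trivial
  have hcp : ∀ n : ℕ, (g ^ n * u * (g ^ n)⁻¹) ^ p = 1 := by
    intro n
    rw [conj_pow, hp, mul_one, mul_inv_cancel]
  have hsplit : ∀ (n : ℕ) (a b : ZMod p), (g ^ n * u * (g ^ n)⁻¹) ^ (a + b).val
      = (g ^ n * u * (g ^ n)⁻¹) ^ a.val * (g ^ n * u * (g ^ n)⁻¹) ^ b.val := by
    intro n a b
    rw [ZMod.val_add, ← pow_eq_pow_mod _ (hcp n), pow_add]
  -- the padded statement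
  have hQ : ∀ N : ℕ,
      ((List.range N).map fun n => (g ^ n * u * (g ^ n)⁻¹) ^ ((f + f').coeff n).val).prod
        = ((List.range N).map fun n => (g ^ n * u * (g ^ n)⁻¹) ^ (f.coeff n).val).prod *
          ((List.range N).map fun n => (g ^ n * u * (g ^ n)⁻¹) ^ (f'.coeff n).val).prod := by
    intro N
    induction N with
    | zero => simp
    | succ N ih =>
      rw [List.range_succ, List.map_append, List.prod_append, List.map_append, List.prod_append,
        List.map_append, List.prod_append, ih]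
      simp only [List.map_cons, List.map_nil, List.prod_cons, List.prod_nil, mul_one]
      rw [Polynomial.coeff_add, hsplit]
      have hcm : Commute ((g ^ N * u * (g ^ N)⁻¹) ^ (f.coeff N).val)
          ((List.range N).map fun n => (g ^ n * u * (g ^ n)⁻¹) ^ (f'.coeff n).val).prod := by
        apply Commute.list_prod_right
        intro x hx
        obtain ⟨n, -, rfl⟩ := List.mem_map.mp hx
        exact (hc N n).pow_pow _ _
      calc _ = ((List.range N).map fun n => (g ^ n * u * (g ^ n)⁻¹) ^ (f.coeff n).val).prod *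
            (((List.range N).map fun n => (g ^ n * u * (g ^ n)⁻¹) ^ (f'.coeff n).val).prod *
              (g ^ N * u * (g ^ N)⁻¹) ^ (f.coeff N).val) *
              (g ^ N * u * (g ^ N)⁻¹) ^ (f'.coeff N).val := by simp only [mul_assoc]
        _ = _ := by rw [← hcm.eq]; simp only [mul_assoc]
  have hN1 : (f + f').natDegree < max f.natDegree f'.natDegree + 1 :=
    Nat.lt_succ_of_le (Polynomial.natDegree_add_le f f')
  have hN2 : f.natDegree < max f.natDegree f'.natDegree + 1 :=
    Nat.lt_succ_of_le (le_max_left _ _)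
  have hN3 : f'.natDegree < max f.natDegree f'.natDegree + 1 :=
    Nat.lt_succ_of_le (le_max_right _ _)
  rw [← h43_polyWord_pad g u (f + f') _ hN1, ← h43_polyWord_pad g u f _ hN2,
    ← h43_polyWord_pad g u f' _ hN3]
  exact hQ _

end Cfsg.Agent.Lib.helper43.Pres
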