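import Mathlib
import Cfsg.Agent.Lib.helper44.PresDefs
import Cfsg.Agent.Lib.helper43.PresPW

set_option autoImplicit false

/-!
# S2286 piece PW (spare, NOT canonical: canonical is helper92.PresPW): prefixed restatements

The proofs are in `Cfsg.Agent.Lib.helper43.PresPW` (prefixed names `h43_polyWord_*`).
-/

namespace Cfsg.Agent.Lib.helper43.Pres

open Polynomial
open Cfsg.Agent.Lib.helper44.Pres

-- PW
theorem h43s_polyWord_map {G H : Type*} [Group G] [Group H] {p : ℕ} (φ : G →* H) (g v : G)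
    (f : (ZMod p)[X]) : φ (polyWord g v f) = polyWord (φ g) (φ v) f :=
  Cfsg.Agent.Lib.helper43.Pres.h43_polyWord_map φ g v f

-- PW
theorem h43s_polyWord_zero {G : Type*} [Group G] {p : ℕ} (g u : G) :
    polyWord g u (0 : (ZMod p)[X]) = 1 :=
  Cfsg.Agent.Lib.helper43.Pres.h43_polyWord_zero g u

-- PW
theorem h43s_polyWord_one {G : Type*} [Group G] {p : ℕ} [Fact p.Prime] (g u : G) :
    polyWord g u (1 : (ZMod p)[X]) = u :=
  Cfsg.Agent.Lib.helper43.Pres.h43_polyWord_one g u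

-- PW
theorem h43s_polyWord_X_mul {G : Type*} [Group G] {p : ℕ} [Fact p.Prime] (g u : G) (f : (ZMod p)[X]) :
    polyWord g u (X * f) = g * polyWord g u f * g⁻¹ :=
  Cfsg.Agent.Lib.helper43.Pres.h43_polyWord_X_mul g u f

-- PW
theorem h43s_polyWord_add {G : Type*} [Group G] {p : ℕ} [Fact p.Prime] (g u : G) (hp : u ^ p = 1)
    (hcomm : ∀ n : ℕ, Commute u (g ^ n * u * (g ^ n)⁻¹)) (f f' : (ZMod p)[X]) :
    polyWord g u (f + f') = polyWord g u f * polyWord g u f' :=
  Cfsg.Agent.Lib.helper43.Pres.h43_polyWord_add g u hp hcomm f f'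

end Cfsg.Agent.Lib.helper43.Pres
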