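import Mathlib
import Cfsg.Agent.Lib.helper45.RUDefs

/-!
# S2279 piece C (Om_wrap), racer copy by helper43 (prefixed name `h43_Om_wrap`)
-/

set_option autoImplicit false

namespace Cfsg.Agent.Lib.helper45.RU

open Matrix Cfsg.Agent.Lib.helper44

variable {n : ℕ} {F : Type*} [Field F] {S : Set (Matrix (Fin n) (Fin n) F)}

/-- **C** (racer copy) -/
theorem h43_Om_wrap (hS : MatGrp S) (hJ : jm F n ∈ S) (l : Fin n) (hl : l.val + 1 = n)
    (i i' : ℕ) (hi : i + 2 ≤ n) (hi' : i' + 2 ≤ n) (h : n ≤ i + i' + 1) {x y : F}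
    (hx : x ∈ Om S l i) (hy : y ∈ Om S l i') : x * y ∈ Om S l (i + i' + 1 - n) := by
  have hJj : ∀ k : ℕ, 1 ≤ k → (jm F n) ^ k ∈ S := by
    intro k hk
    induction k with
    | zero => omega
    | succ k ih =>
      rcases Nat.eq_zero_or_pos k with h0 | hpos
      · rw [h0, zero_add, pow_one]; exact hJ
      · rw [pow_succ]; exact hS.mul (ih hpos) hJ
  obtain ⟨s, hs⟩ : ∃ s, s = n - 1 - i := ⟨_, rfl⟩
  obtain ⟨k, hk⟩ : ∃ k, k = i + i' + 1 - n := ⟨_, rfl⟩
  have hs1 : 1 ≤ s := by omega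
  have hks : i' = k + s := by omega
  have his : i + s + 1 = n := by omega
  have hk2 : k + 2 ≤ n := by omega
  rw [← hk]
  have hY : 1 + vecMulVec ((jm F n) ^ s *ᵥ (Pi.single l 1 : Fin n → F)) (y • rowv F n k) ∈ S := by
    refine hS.conj (hJj s hs1) hy ?_
    show (1 + vecMulVec ((jm F n) ^ s *ᵥ (Pi.single l 1 : Fin n → F)) (y • rowv F n k)) *
      (jm F n) ^ s = (jm F n) ^ s * tau l i' y
    unfold tau
    rw [mul_add, mul_one, Matrix.mul_vecMulVec, add_mul, one_mul, Matrix.vecMulVec_mul,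
      Matrix.smul_vecMul, ← rowv_add, hks]
  have hX : 1 + vecMulVec (Pi.single l 1) (x • rowv F n i) ∈ S := hx
  have h1 : (y • rowv F n k) ⬝ᵥ (Pi.single l 1 : Fin n → F) = 0 := by
    rw [smul_dotProduct, rowv_dot_last k l hl hk2, smul_zero]
  have h2 : (y • rowv F n k) ⬝ᵥ ((jm F n) ^ s *ᵥ (Pi.single l 1 : Fin n → F)) = 0 := by
    rw [smul_dotProduct, Matrix.dotProduct_mulVec, ← rowv_add, ← hks,
      rowv_dot_last i' l hl hi', smul_zero]
  have h3 : (x • rowv F n i) ⬝ᵥ ((jm F n) ^ s *ᵥ (Pi.single l 1 : Fin n → F)) = x := by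
    rw [smul_dotProduct, Matrix.dotProduct_mulVec, ← rowv_add,
      rowv_dot_last_top (i + s) l hl his, smul_eq_mul, mul_one]
  generalize (jm F n) ^ s *ᵥ (Pi.single l 1 : Fin n → F) = w at hY h2 h3
  have hC : 1 + vecMulVec (Pi.single l 1)
      (((x • rowv F n i) ⬝ᵥ w) • (y • rowv F n k)) ∈ S := by
    refine MatGrp_comm_mem hS hX hY ?_
    have eYX : (1 + vecMulVec w (y • rowv F n k)) *
        (1 + vecMulVec (Pi.single l 1) (x • rowv F n i)) =
        1 + vecMulVec (Pi.single l 1) (x • rowv F n i) + vecMulVec w (y • rowv F n k) := by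
      rw [mul_add, mul_one, add_mul, one_mul, Matrix.vecMulVec_mul_vecMulVec, h1, zero_smul,
        Matrix.vecMulVec_zero, add_zero]
      abel
    have eXY : (1 + vecMulVec (Pi.single l 1) (x • rowv F n i)) *
        (1 + vecMulVec w (y • rowv F n k)) =
        1 + vecMulVec (Pi.single l 1) (x • rowv F n i) + vecMulVec w (y • rowv F n k)
          + vecMulVec (Pi.single l 1) (((x • rowv F n i) ⬝ᵥ w) • (y • rowv F n k)) := by
      rw [mul_add, mul_one, add_mul, one_mul, Matrix.vecMulVec_mul_vecMulVec]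
      abel
    rw [eXY, eYX]
    simp only [add_mul, one_mul, mul_add, mul_one, Matrix.vecMulVec_mul_vecMulVec,
      smul_dotProduct, h1, h2, smul_zero, zero_smul, Matrix.vecMulVec_zero, add_zero]
    abel
  rw [h3, smul_smul] at hC
  exact hC

end Cfsg.Agent.Lib.helper45.RU
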