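import Mathlib
import Cfsg.Agent.Lib.helper45.RUDefs

/-!
# S2279 piece D (Om_shift), racer copy by helper43 (prefixed name `h43_Om_shift`)
-/

set_option autoImplicit false

namespace Cfsg.Agent.Lib.helper45.RU

open Matrix Cfsg.Agent.Lib.helper44

variable {n : ℕ} {F : Type*} [Field F] {S : Set (Matrix (Fin n) (Fin n) F)}

/-- the vectors `w_j` with `J^j w_j = e_l` -/
def h43_W (F : Type*) [Field F] (n j : ℕ) : Fin n → F :=
  fun i => (-1) ^ (n - 1 - i.val) * (((n - 1 - i.val) + j - 1).choose (n - 1 - i.val) : F)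

theorem h43_jm_mulVec_W (j : ℕ) : jm F n *ᵥ h43_W F n (j + 1) = h43_W F n j := by
  ext i
  rw [jm_mulVec]
  unfold h43_W
  by_cases h : i.val + 1 < n
  · rw [dif_pos h]
    obtain ⟨s, hs⟩ : ∃ s, n - 1 - i.val = s + 1 := ⟨n - 1 - i.val - 1, by omega⟩
    have hs' : n - 1 - (i.val + 1) = s := by omega
    simp only [hs, hs']
    have e1 : s + 1 + (j + 1) - 1 = (s + j) + 1 := by omega
    have e2 : s + (j + 1) - 1 = s + j := by omega
    have e3 : s + 1 + j - 1 = s + j := by omega
    rw [e1, e2, e3, Nat.choose_succ_succ, Nat.cast_add, pow_succ]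
    ring
  · rw [dif_neg h, add_zero]
    have hr : n - 1 - i.val = 0 := by omega
    simp only [hr]
    simp

theorem h43_W_zero (l : Fin n) (hl : l.val + 1 = n) : h43_W F n 0 = Pi.single l 1 := by
  ext i
  unfold h43_W
  rw [Pi.single_apply]
  by_cases h : i = l
  · subst h
    have hr : n - 1 - i.val = 0 := by omega
    rw [if_pos rfl, hr]; simp
  · rw [if_neg h]
    have hne : i.val ≠ l.val := fun e => h (Fin.ext e)
    have hi := i.2
    obtain ⟨s, hs⟩ : ∃ s, n - 1 - i.val = s + 1 := ⟨n - 1 - i.val - 1, by omega⟩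
    rw [hs]
    have h0 : (s + 1 + 0 - 1).choose (s + 1) = 0 := Nat.choose_eq_zero_of_lt (by omega)
    rw [h0]; simp

theorem h43_pow_mulVec_W (l : Fin n) (hl : l.val + 1 = n) (j : ℕ) :
    (jm F n) ^ j *ᵥ h43_W F n j = Pi.single l 1 := by
  induction j with
  | zero => rw [pow_zero, Matrix.one_mulVec, h43_W_zero l hl]
  | succ j ih => rw [pow_succ, ← Matrix.mulVec_mulVec, h43_jm_mulVec_W, ih]

theorem h43_W_first (z : Fin n) (hz : z.val = 0) (j : ℕ) (hj : 1 ≤ j) :
    h43_W F n j z = (-1) ^ (n - 1) * ((n + j - 2).choose (j - 1) : F) := by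
  unfold h43_W
  rw [hz, Nat.sub_zero]
  have hn := z.2
  have e : n - 1 + j - 1 = n + j - 2 := by omega
  rw [e]
  have e2 : (n + j - 2).choose (n - 1) = (n + j - 2).choose (j - 1) :=
    Nat.choose_symm_of_eq_add (by omega)
  rw [e2]

/-- **D** (racer copy) -/
theorem h43_Om_shift (hS : MatGrp S) (hJ : jm F n ∈ S) (z l : Fin n) (hz : z.val = 0)
    (hl : l.val + 1 = n) (j i' : ℕ) (hj : 1 ≤ j) (hij : i' + j + 2 ≤ n) {x y : F}
    (hx : x ∈ Om S l 0) (hy : y ∈ Om S l i') :
    ((n + j - 2).choose (j - 1) : F) * x * y ∈ Om S l (i' + j) := by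
  have hJj : ∀ k : ℕ, 1 ≤ k → (jm F n) ^ k ∈ S := by
    intro k hk
    induction k with
    | zero => omega
    | succ k ih =>
      rcases Nat.eq_zero_or_pos k with h0 | hpos
      · rw [h0, zero_add, pow_one]; exact hJ
      · rw [pow_succ]; exact hS.mul (ih hpos) hJ
  have hJw : (jm F n) ^ j *ᵥ h43_W F n j = Pi.single l 1 := h43_pow_mulVec_W l hl j
  have hwz := h43_W_first (F := F) z hz j hj
  generalize h43_W F n j = w at hJw hwz
  have hY : 1 + vecMulVec w (y • rowv F n (i' + j)) ∈ S := by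
    refine hS.conj' (hJj j hj) hy ?_
    show (jm F n) ^ j * (1 + vecMulVec w (y • rowv F n (i' + j))) = tau l i' y * (jm F n) ^ j
    unfold tau
    rw [mul_add, mul_one, Matrix.mul_vecMulVec, hJw, add_mul, one_mul, Matrix.vecMulVec_mul,
      Matrix.smul_vecMul, ← rowv_add]
  have hX : 1 + vecMulVec (Pi.single l 1) (x • rowv F n 0) ∈ S := hx
  have h1 : (y • rowv F n (i' + j)) ⬝ᵥ (Pi.single l 1 : Fin n → F) = 0 := by
    rw [smul_dotProduct, rowv_dot_last (i' + j) l hl (by omega), smul_zero]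
  have h2 : (y • rowv F n (i' + j)) ⬝ᵥ w = 0 := by
    rw [smul_dotProduct, rowv_add, ← Matrix.dotProduct_mulVec, hJw,
      rowv_dot_last i' l hl (by omega), smul_zero]
  have h3 : (x • rowv F n 0) ⬝ᵥ w = x * ((-1) ^ (n - 1) * ((n + j - 2).choose (j - 1) : F)) := by
    rw [smul_dotProduct, rowv_zero z hz, single_dotProduct, one_mul, smul_eq_mul, hwz]
  have hC : 1 + vecMulVec (Pi.single l 1)
      (((x • rowv F n 0) ⬝ᵥ w) • (y • rowv F n (i' + j))) ∈ S := by
    refine MatGrp_comm_mem hS hX hY ?_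
    have eYX : (1 + vecMulVec w (y • rowv F n (i' + j))) *
        (1 + vecMulVec (Pi.single l 1) (x • rowv F n 0)) =
        1 + vecMulVec (Pi.single l 1) (x • rowv F n 0) + vecMulVec w (y • rowv F n (i' + j)) := by
      rw [mul_add, mul_one, add_mul, one_mul, Matrix.vecMulVec_mul_vecMulVec, h1, zero_smul,
        Matrix.vecMulVec_zero, add_zero]
      abel
    have eXY : (1 + vecMulVec (Pi.single l 1) (x • rowv F n 0)) *
        (1 + vecMulVec w (y • rowv F n (i' + j))) =
        1 + vecMulVec (Pi.single l 1) (x • rowv F n 0) + vecMulVec w (y • rowv F n (i' + j))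
          + vecMulVec (Pi.single l 1) (((x • rowv F n 0) ⬝ᵥ w) • (y • rowv F n (i' + j))) := by
      rw [mul_add, mul_one, add_mul, one_mul, Matrix.vecMulVec_mul_vecMulVec]
      abel
    rw [eXY, eYX]
    simp only [add_mul, one_mul, mul_add, mul_one, Matrix.vecMulVec_mul_vecMulVec,
      smul_dotProduct, h1, h2, smul_zero, zero_smul, Matrix.vecMulVec_zero, add_zero]
    abel
  rw [h3, smul_smul] at hC
  have hC' : x * ((-1) ^ (n - 1) * ((n + j - 2).choose (j - 1) : F)) * y ∈ Om S l (i' + j) := hC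
  rcases neg_one_pow_eq_or F (n - 1) with he | he
  · rw [he, one_mul] at hC'
    have e : ((n + j - 2).choose (j - 1) : F) * x * y = x * ((n + j - 2).choose (j - 1) : F) * y := by
      ring
    rw [e]; exact hC'
  · rw [he] at hC'
    have e : x * (-1 * ((n + j - 2).choose (j - 1) : F)) * y
        = -(((n + j - 2).choose (j - 1) : F) * x * y) := by ring
    rw [e] at hC'
    exact (Om_neg_iff hS l hl (i' + j) (by omega)).mp hC'

end Cfsg.Agent.Lib.helper45.RU
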