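import Mathlib

/-! S2113 piece FLAB: a bi-additive pairing on a field of order `3^(2m+1)` (`m ≥ 1`) invariant
under `(ν, ν * φ ν)` is trivial. -/

set_option autoImplicit false

namespace Cfsg.Agent.Lib.helper43.S2113

open Polynomial in
theorem helper43_exists_pt {F : Type*} [Field F] [Fintype F] (Q : F[X]) (hQ : Q ≠ 0)
    (hdeg : Q.natDegree + 2 < Fintype.card F) :
    ∃ x : F, x ≠ 0 ∧ x + 1 ≠ 0 ∧ Q.eval x ≠ 0 := by
  have h1 : (X + 1 : F[X]) ≠ 0 := fun h => by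
    have := congrArg (eval 0) h
    simp at this
  have hf : (X * (X + 1) * Q : F[X]) ≠ 0 := mul_ne_zero (mul_ne_zero X_ne_zero h1) hQ
  have hd : (X * (X + 1) * Q : F[X]).natDegree ≤ Q.natDegree + 2 := by
    refine le_trans natDegree_mul_le ?_
    have h2 : (X * (X + 1) : F[X]).natDegree ≤ 2 := by
      compute_degree
    omega
  obtain ⟨a, ha⟩ := exists_eval_ne_zero_of_natDegree_lt_card _ hf (by
    rw [Cardinal.mk_fintype]
    exact_mod_cast lt_of_le_of_lt hd hdeg)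
  simp only [eval_mul, eval_X, eval_add, eval_one] at ha
  have ha0 : a ≠ 0 := fun h => ha (by rw [h]; ring)
  have ha1 : a + 1 ≠ 0 := fun h => ha (by rw [h]; ring)
  have ha2 : Q.eval a ≠ 0 := fun h => ha (by rw [h]; ring)
  exact ⟨a, ha0, ha1, ha2⟩

theorem helper43_three_eq_zero {K : Type*} [Field K] [Fintype K] {m : ℕ}
    (hK : Fintype.card K = 3 ^ (2 * m + 1)) : (3 : K) = 0 := by
  have h := Nat.cast_card_eq_zero K
  rw [hK] at h
  push_cast at h
  exact (pow_eq_zero_iff (by omega)).mp h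

theorem helper43_frob_add_one {K : Type*} [Field K] (h3 : (3 : K) = 0) (k : ℕ) (x : K) :
    (x + 1) ^ 3 ^ k = x ^ 3 ^ k + 1 := by
  induction k with
  | zero => simp
  | succ k ih =>
    rw [pow_succ, pow_mul, pow_mul, ih]
    linear_combination (x ^ 3 ^ k + (x ^ 3 ^ k) ^ 2) * h3

theorem helper43_card_bound {m : ℕ} (hm : 1 ≤ m) : 2 * (3 ^ m * 3) + 8 < 3 ^ (2 * m + 1) := by
  obtain ⟨k, rfl⟩ : ∃ k, m = k + 1 := ⟨m - 1, by omega⟩
  have e1 : 3 ^ (2 * (k + 1) + 1) = 3 * (3 ^ (k + 1) * 3 ^ (k + 1)) := by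
    rw [show 2 * (k + 1) + 1 = (k + 1) + (k + 1) + 1 by ring, pow_succ, pow_add]
    ring
  have e2 : 3 ≤ 3 ^ (k + 1) := by
    calc 3 = 3 ^ 1 := by norm_num
      _ ≤ 3 ^ (k + 1) := Nat.pow_le_pow_right (by norm_num) (by omega)
  rw [e1]
  nlinarith

/-- the common core of FLAB / FLAC: if `B (ν * s) (ψ ν * t) = B s t` for `ν ≠ 0` and some `x ∉ {0,-1}`
has `ψ (x+1) + ψ x * ψ (x+1) - ψ x ≠ 0` (with `ψ x ≠ 0`, `ψ (x+1) ≠ 0`), then `B = 1`. -/
theorem helper43_pairing_core {K : Type*} [Field K] {Γ : Type*} [Group Γ] (B : K → K → Γ)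
    (hl : ∀ s s' t, B (s + s') t = B s t * B s' t) (hr : ∀ s t t', B s (t + t') = B s t * B s t')
    (ψ : K → K) (hinv : ∀ ν s t, ν ≠ 0 → B (ν * s) (ψ ν * t) = B s t)
    (x : K) (hx0 : x ≠ 0) (hx1 : x + 1 ≠ 0) (ha : ψ x ≠ 0) (hb : ψ (x + 1) ≠ 0)
    (hδ : ψ (x + 1) + ψ x * ψ (x + 1) - ψ x ≠ 0) : ∀ s t, B s t = 1 := by
  set a := ψ x with hadef
  set b := ψ (x + 1) with hbdef
  have key : ∀ s t, B s ((b + a * b - a) * t) = 1 := by
    intro s t
    have e1 : B ((x + 1) * s) (b * (a * t)) = B s (a * t) := hinv (x + 1) s (a * t) hx1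
    have e2 : B (x * s) (a * (b * t)) = B s (b * t) := hinv x s (b * t) hx0
    have e3 : B ((x + 1) * s) (b * (a * t)) = B (x * s) (a * (b * t)) * B s (a * b * t) := by
      rw [show (x + 1) * s = x * s + s by ring, hl, show b * (a * t) = a * (b * t) by ring,
        show a * (b * t) = a * b * t by ring]
    have e4 : B s (a * t) = B s (b * t + a * b * t) := by
      rw [hr, ← e2, ← e3, e1]
    have e5 : B s (b * t + a * b * t) = B s ((b + a * b - a) * t) * B s (a * t) := by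
      rw [← hr]
      congr 1
      ring
    rw [← e4] at e5
    exact mul_right_cancel (e5.symm.trans (one_mul _).symm)
  intro s t
  have := key s (t / (b + a * b - a))
  rwa [mul_div_cancel₀ _ hδ] at this

open Polynomial in
theorem helper43_fl_ab_pt {F : Type*} [Field F] [Fintype F] (E : ℕ) (hE : E ≠ 0)
    (hcard : 2 * E + 4 < Fintype.card F) :
    ∃ x : F, x ≠ 0 ∧ x + 1 ≠ 0 ∧
      x ^ (2 * E + 2) + x ^ (2 * E + 1) + x ^ (E + 2) + x ^ (E + 1) + x ^ E + x + 1 ≠ 0 := by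
  have h3 : (X ^ (2 * E + 2) + X ^ (2 * E + 1) + X ^ (E + 2) + X ^ (E + 1) + X ^ E + X + 1 : F[X])
      ≠ 0 := fun h => by
    have := congrArg (eval 0) h
    simp [hE] at this
  have hdeg : (X ^ (2 * E + 2) + X ^ (2 * E + 1) + X ^ (E + 2) + X ^ (E + 1) + X ^ E + X + 1 :
      F[X]).natDegree ≤ 2 * E + 2 := by
    compute_degree <;> omega
  obtain ⟨a, ha0, ha1, ha⟩ := helper43_exists_pt _ h3 (by omega)
  simp only [eval_mul, eval_X, eval_add, eval_one, eval_pow] at ha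
  exact ⟨a, ha0, ha1, ha⟩

/-- PIECE FLAB (verbatim statement of `Cfsg.Agent.Lib.helper51.S2113.fl_ab`). -/
theorem helper43_fl_ab {K : Type*} [Field K] [Fintype K] {m : ℕ} (hm : 1 ≤ m)
    (hK : Fintype.card K = 3 ^ (2 * m + 1)) {Γ : Type*} [Group Γ] (B : K → K → Γ)
    (hl : ∀ s s' t, B (s + s') t = B s t * B s' t) (hr : ∀ s t t', B s (t + t') = B s t * B s t')
    (hinv : ∀ ν s t, ν ≠ 0 → B (ν * s) (ν * (ν ^ 3 ^ m) ^ 3 * t) = B s t) : ∀ s t, B s t = 1 := by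
  have h3 : (3 : K) = 0 := helper43_three_eq_zero hK
  have hfrob : ∀ x : K, (x + 1) ^ (3 ^ m * 3) = x ^ (3 ^ m * 3) + 1 := by
    intro x
    have := helper43_frob_add_one h3 (m + 1) x
    rwa [pow_succ] at this
  have hE : 3 ^ m * 3 ≠ 0 := by positivity
  have hcard : 2 * (3 ^ m * 3) + 4 < Fintype.card K := by
    rw [hK]
    have := helper43_card_bound hm
    omega
  obtain ⟨x, hx0, hx1, hp⟩ := helper43_fl_ab_pt (F := K) (3 ^ m * 3) hE hcard
  have hinv' : ∀ ν s t, ν ≠ 0 → B (ν * s) ((fun z : K => z * z ^ (3 ^ m * 3)) ν * t) = B s t := by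
    intro ν s t hν
    have := hinv ν s t hν
    rw [← pow_mul] at this
    exact this
  refine helper43_pairing_core B hl hr (fun z : K => z * z ^ (3 ^ m * 3)) hinv' x hx0 hx1
    (mul_ne_zero hx0 (pow_ne_zero _ hx0)) (mul_ne_zero hx1 (pow_ne_zero _ hx1)) ?_
  show (x + 1) * (x + 1) ^ (3 ^ m * 3) + x * x ^ (3 ^ m * 3) * ((x + 1) * (x + 1) ^ (3 ^ m * 3))
    - x * x ^ (3 ^ m * 3) ≠ 0
  rw [hfrob]
  intro h
  apply hp
  generalize (3 : ℕ) ^ m * 3 = E at h ⊢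
  linear_combination h

end Cfsg.Agent.Lib.helper43.S2113
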