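import Mathlib
import Cfsg.Agent.Lib.helper43.S2113FLAB

/-! S2113 piece FLAC: a bi-additive pairing on a field of order `3^(2m+1)` (`m ≥ 1`) invariant
under `(ν, ν^2 * φ ν)` is trivial. -/

set_option autoImplicit false

namespace Cfsg.Agent.Lib.helper43.S2113

open Polynomial in
theorem helper43_fl_ac_pt {F : Type*} [Field F] [Fintype F] (E : ℕ) (hE : E ≠ 0)
    (hcard : 2 * E + 6 < Fintype.card F) :
    ∃ x : F, x ≠ 0 ∧ x + 1 ≠ 0 ∧
      x ^ (2 * E + 4) + x ^ (E + 4) + 2 * x ^ (2 * E + 3) + 2 * x ^ (E + 3) + x ^ (2 * E + 2)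
        + x ^ (E + 2) + x ^ 2 + 2 * x ^ (E + 1) + 2 * x + x ^ E + 1 ≠ 0 := by
  have h3 : (X ^ (2 * E + 4) + X ^ (E + 4) + 2 * X ^ (2 * E + 3) + 2 * X ^ (E + 3)
      + X ^ (2 * E + 2) + X ^ (E + 2) + X ^ 2 + 2 * X ^ (E + 1) + 2 * X + X ^ E + 1 : F[X])
      ≠ 0 := fun h => by
    have := congrArg (eval 0) h
    simp [hE] at this
  have hdeg : (X ^ (2 * E + 4) + X ^ (E + 4) + 2 * X ^ (2 * E + 3) + 2 * X ^ (E + 3)
      + X ^ (2 * E + 2) + X ^ (E + 2) + X ^ 2 + 2 * X ^ (E + 1) + 2 * X + X ^ E + 1 :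
      F[X]).natDegree ≤ 2 * E + 4 := by
    compute_degree <;> omega
  obtain ⟨a, ha0, ha1, ha⟩ := helper43_exists_pt _ h3 (by omega)
  simp only [eval_mul, eval_X, eval_add, eval_one, eval_pow, eval_ofNat] at ha
  exact ⟨a, ha0, ha1, ha⟩

/-- PIECE FLAC (verbatim statement of `Cfsg.Agent.Lib.helper51.S2113.fl_ac`). -/
theorem helper43_fl_ac {K : Type*} [Field K] [Fintype K] {m : ℕ} (hm : 1 ≤ m)
    (hK : Fintype.card K = 3 ^ (2 * m + 1)) {Γ : Type*} [Group Γ] (B : K → K → Γ)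
    (hl : ∀ s s' t, B (s + s') t = B s t * B s' t) (hr : ∀ s t t', B s (t + t') = B s t * B s t')
    (hinv : ∀ ν s t, ν ≠ 0 → B (ν * s) (ν ^ 2 * (ν ^ 3 ^ m) ^ 3 * t) = B s t) :
    ∀ s t, B s t = 1 := by
  have h3 : (3 : K) = 0 := helper43_three_eq_zero hK
  have hfrob : ∀ x : K, (x + 1) ^ (3 ^ m * 3) = x ^ (3 ^ m * 3) + 1 := by
    intro x
    have := helper43_frob_add_one h3 (m + 1) x
    rwa [pow_succ] at this
  have hE : 3 ^ m * 3 ≠ 0 := by positivity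
  have hcard : 2 * (3 ^ m * 3) + 6 < Fintype.card K := by
    rw [hK]
    have := helper43_card_bound hm
    omega
  obtain ⟨x, hx0, hx1, hp⟩ := helper43_fl_ac_pt (F := K) (3 ^ m * 3) hE hcard
  have hinv' : ∀ ν s t, ν ≠ 0 →
      B (ν * s) ((fun z : K => z ^ 2 * z ^ (3 ^ m * 3)) ν * t) = B s t := by
    intro ν s t hν
    have := hinv ν s t hν
    rw [← pow_mul] at this
    exact this
  refine helper43_pairing_core B hl hr (fun z : K => z ^ 2 * z ^ (3 ^ m * 3)) hinv' x hx0 hx1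
    (mul_ne_zero (pow_ne_zero _ hx0) (pow_ne_zero _ hx0))
    (mul_ne_zero (pow_ne_zero _ hx1) (pow_ne_zero _ hx1)) ?_
  show (x + 1) ^ 2 * (x + 1) ^ (3 ^ m * 3)
    + x ^ 2 * x ^ (3 ^ m * 3) * ((x + 1) ^ 2 * (x + 1) ^ (3 ^ m * 3))
    - x ^ 2 * x ^ (3 ^ m * 3) ≠ 0
  rw [hfrob]
  intro h
  apply hp
  generalize (3 : ℕ) ^ m * 3 = E at h ⊢
  linear_combination h

end Cfsg.Agent.Lib.helper43.S2113
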