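import Mathlib

set_option autoImplicit false

namespace Cfsg.Agent.Lib.helper43.S3174

theorem h43fin_aux {T : Type*} [Group T] (c e k d : T) (hce : Commute c e) (hcd : Commute c d)
    (hck : Commute c k) (hke : Commute k e) (hkd : Commute k d) :
    (c * e) * (k * d) * (c * e)⁻¹ * (k * d)⁻¹ = e * d * e⁻¹ * d⁻¹ := by
  have h1 : Commute c (e * k * d * e⁻¹) :=
    ((hce.mul_right hck).mul_right hcd).mul_right hce.inv_right
  have h2 : Commute k (e * d * e⁻¹ * d⁻¹) :=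
    ((hke.mul_right hkd).mul_right hke.inv_right).mul_right hkd.inv_right
  calc (c * e) * (k * d) * (c * e)⁻¹ * (k * d)⁻¹
      = (c * (e * k * d * e⁻¹)) * c⁻¹ * d⁻¹ * k⁻¹ := by group
    _ = ((e * k * d * e⁻¹) * c) * c⁻¹ * d⁻¹ * k⁻¹ := by rw [h1.eq]
    _ = (e * k) * d * e⁻¹ * d⁻¹ * k⁻¹ := by group
    _ = (k * e) * d * e⁻¹ * d⁻¹ * k⁻¹ := by rw [hke.eq]
    _ = (k * (e * d * e⁻¹ * d⁻¹)) * k⁻¹ := by group
    _ = ((e * d * e⁻¹ * d⁻¹) * k) * k⁻¹ := by rw [h2.eq]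
    _ = e * d * e⁻¹ * d⁻¹ := by group

/-- a subgroup generated by pairwise commuting involutions is elementary abelian. -/
theorem h43fin_closure {Q : Type*} [Group Q] (S : Set Q)
    (hScomm : ∀ a ∈ S, ∀ b ∈ S, a * b = b * a) (hSsq : ∀ a ∈ S, a * a = 1) :
    (∀ a ∈ Subgroup.closure S, ∀ b ∈ Subgroup.closure S, a * b = b * a) ∧
      ∀ a ∈ Subgroup.closure S, a * a = 1 := by
  have h1 : Subgroup.closure S ≤ Subgroup.centralizer S := by
    rw [Subgroup.closure_le]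
    intro a ha
    rw [SetLike.mem_coe, Subgroup.mem_centralizer_iff]
    intro b hb
    exact hScomm b hb a ha
  have hcomm : ∀ a ∈ Subgroup.closure S, ∀ b ∈ Subgroup.closure S, a * b = b * a := by
    intro a ha b hb
    have hb' := h1 hb
    have h2 : Subgroup.closure S ≤ Subgroup.centralizer {b} := by
      rw [Subgroup.closure_le]
      intro s hs
      rw [SetLike.mem_coe, Subgroup.mem_centralizer_singleton_iff]
      exact (Subgroup.mem_centralizer_iff.mp hb') s hs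
    exact Subgroup.mem_centralizer_singleton_iff.mp (h2 ha)
  refine ⟨hcomm, ?_⟩
  intro a ha
  induction ha using Subgroup.closure_induction with
  | mem x hx => exact hSsq x hx
  | one => simp
  | mul x y hx hy ihx ihy =>
    have := hcomm x hx y hy
    calc x * y * (x * y) = x * (y * x) * y := by group
      _ = x * (x * y) * y := by rw [this]
      _ = (x * x) * (y * y) := by group
      _ = 1 := by rw [ihx, ihy, one_mul]
  | inv x hx ih =>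
    rw [← mul_inv_rev, ih, inv_one]

/-- FIN, with the piece HYP as a hypothesis. -/
theorem exists_bad_subgroup_core {T : Type*} [Group T] [Finite T]
    (hHYP : ∀ (X N : Subgroup T), N ≤ X → (∀ x ∈ X, x ^ 2 ∈ N) →
      (∀ x ∈ X, ∀ y ∈ X, x * y * x⁻¹ * y⁻¹ ∈ N) → ∀ v : T, v ∈ X → v ∉ N →
      ∃ K : Subgroup T, N ≤ K ∧ K ≤ X ∧ v ∉ K ∧ Nat.card ↥X = 2 * Nat.card ↥K)
    (W Z2 Z3 D : Subgroup T) [hWn : W.Normal]
    (hZ3W : Z3 ≤ W) (h23 : Z2 ≤ Z3) (hcen : ∀ w ∈ W, ∀ z ∈ Z3, w * z = z * w)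
    (hcomm : ∀ x ∈ W, ∀ y ∈ W, x * y * x⁻¹ * y⁻¹ ∈ Z3)
    (t : T) (htfix : ∀ z ∈ Z3, t * z * t⁻¹ = z → z ∈ Z2)
    (hDW : D ≤ W) (hZD : Z3 ≤ D) (hD : ∀ w ∈ W, w ∈ D ↔ t * w * t⁻¹ * w⁻¹ ∈ Z3)
    (hDcard : Nat.card ↥W * Nat.card ↥Z3 ≤ Nat.card ↥D * Nat.card ↥D)
    (hDsq : ∀ d ∈ D, d ^ 2 ∈ Z2) (hDcomm : ∀ d ∈ D, ∀ d' ∈ D, d * d' * d⁻¹ * d'⁻¹ ∈ Z2)
    (hcard : Nat.card ↥W = 2 ^ 8 * Nat.card ↥Z3)
    (e : T) (he : e ∈ W) (he2 : e ^ 2 ∈ Z2) (hc : t * e * t⁻¹ * e⁻¹ ∉ Z3)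
    (hccen : ∀ w ∈ W, (t * e * t⁻¹ * e⁻¹) * w = w * (t * e * t⁻¹ * e⁻¹))
    (z₃ : T) (hz3 : z₃ ∈ Z3) (hz3' : z₃ ∉ Z2) :
    ∃ U : Subgroup T, U ≤ W ∧ z₃ ∉ U ∧ Nat.card ↥W ≤ 16 * Nat.card ↥U := by
  classical
  -- `[e, d] ∈ Z2` for `d ∈ D`
  have hed : ∀ d ∈ D, e * d * e⁻¹ * d⁻¹ ∈ Z2 := by
    intro d hd
    have hdW : d ∈ W := hDW hd
    have hk : t * d * t⁻¹ * d⁻¹ ∈ Z3 := (hD d hdW).mp hd
    have hg : e * d * e⁻¹ * d⁻¹ ∈ Z3 := hcomm e he d hdW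
    apply htfix _ hg
    have e1 : t * (e * d * e⁻¹ * d⁻¹) * t⁻¹
        = ((t * e * t⁻¹ * e⁻¹) * e) * ((t * d * t⁻¹ * d⁻¹) * d) * ((t * e * t⁻¹ * e⁻¹) * e)⁻¹
          * ((t * d * t⁻¹ * d⁻¹) * d)⁻¹ := by group
    rw [e1]
    apply h43fin_aux
    · exact hccen e he
    · exact hccen d hdW
    · exact hccen _ (hZ3W hk)
    · exact (hcen e he _ hk).symm
    · exact (hcen d hdW _ hk).symm
  -- the quotient of `W` by `Z2`
  have hZn : (Z2.subgroupOf W).Normal := by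
    constructor
    intro n hn g
    rw [Subgroup.mem_subgroupOf] at hn ⊢
    have h1 : (g : T) * (n : T) = (n : T) * (g : T) := hcen g g.2 n (h23 hn)
    have h2 : ((g * n * g⁻¹ : W) : T) = (n : T) := by
      push_cast
      rw [h1, mul_inv_cancel_right]
    rw [h2]
    exact hn
  let π : W →* W ⧸ (Z2.subgroupOf W) := QuotientGroup.mk' (Z2.subgroupOf W)
  have hπ1 : ∀ w : W, π w = 1 ↔ (w : T) ∈ Z2 := by
    intro w
    show (QuotientGroup.mk w : W ⧸ (Z2.subgroupOf W)) = 1 ↔ _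
    rw [QuotientGroup.eq_one_iff, Subgroup.mem_subgroupOf]
  have hπcomm : ∀ a b : W, ((a : T) * b * (a : T)⁻¹ * (b : T)⁻¹ ∈ Z2) → π a * π b = π b * π a := by
    intro a b hab
    have h1 : π (a * b * a⁻¹ * b⁻¹) = 1 := by
      rw [hπ1]
      push_cast
      exact hab
    rw [map_mul, map_mul, map_mul, map_inv, map_inv] at h1
    have h2 := mul_inv_eq_one.mp h1
    exact mul_inv_eq_iff_eq_mul.mp h2
  let S : Set (W ⧸ (Z2.subgroupOf W)) := {q | ∃ d : W, (d : T) ∈ D ∧ π d = q} ∪ {π ⟨e, he⟩}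
  have hScomm : ∀ a ∈ S, ∀ b ∈ S, a * b = b * a := by
    rintro a (⟨d, hd, rfl⟩ | rfl) b (⟨d', hd', rfl⟩ | rfl)
    · exact hπcomm d d' (hDcomm _ hd _ hd')
    · exact (hπcomm ⟨e, he⟩ d (hed _ hd)).symm
    · exact hπcomm ⟨e, he⟩ d' (hed _ hd')
    · rfl
  have hSsq : ∀ a ∈ S, a * a = 1 := by
    rintro a (⟨d, hd, rfl⟩ | rfl)
    · rw [← map_mul, hπ1]
      push_cast
      rw [← pow_two]
      exact hDsq _ hd
    · rw [← map_mul, hπ1]
      show e * e ∈ Z2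
      rw [← pow_two]
      exact he2
  obtain ⟨hCcomm, hCsq⟩ := h43fin_closure S hScomm hSsq
  let X : Subgroup T := ((Subgroup.closure S).comap π).map W.subtype
  have hXmem : ∀ x : T, x ∈ X ↔ ∃ y : W, π y ∈ Subgroup.closure S ∧ (y : T) = x := by
    intro x
    show x ∈ ((Subgroup.closure S).comap π).map W.subtype ↔ _
    rw [Subgroup.mem_map]
    constructor
    · rintro ⟨y, hy, rfl⟩
      exact ⟨y, hy, rfl⟩
    · rintro ⟨y, hy, rfl⟩
      exact ⟨y, hy, rfl⟩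
  have hXW : X ≤ W := Subgroup.map_subtype_le _
  have hDX : D ≤ X := by
    intro d hd
    rw [hXmem]
    refine ⟨⟨d, hDW hd⟩, Subgroup.subset_closure (Or.inl ⟨⟨d, hDW hd⟩, hd, rfl⟩), rfl⟩
  have heX : e ∈ X := by
    rw [hXmem]
    exact ⟨⟨e, he⟩, Subgroup.subset_closure (Or.inr rfl), rfl⟩
  have heD : e ∉ D := by
    intro h
    exact hc ((hD e he).mp h)
  have hXsq : ∀ x ∈ X, x ^ 2 ∈ Z2 := by
    intro x hx
    obtain ⟨y, hy, rfl⟩ := (hXmem x).mp hx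
    have h1 : π (y * y) = 1 := by
      rw [map_mul]; exact hCsq _ hy
    rw [hπ1] at h1
    rw [pow_two]
    exact_mod_cast h1
  have hXcomm : ∀ x ∈ X, ∀ y ∈ X, x * y * x⁻¹ * y⁻¹ ∈ Z2 := by
    intro x hx y hy
    obtain ⟨x', hx', rfl⟩ := (hXmem x).mp hx
    obtain ⟨y', hy', rfl⟩ := (hXmem y).mp hy
    have h1 : π (x' * y' * x'⁻¹ * y'⁻¹) = 1 := by
      rw [map_mul, map_mul, map_mul, map_inv, map_inv, hCcomm _ hx' _ hy']
      group
    rw [hπ1] at h1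
    exact_mod_cast h1
  have hZ2X : Z2 ≤ X := le_trans h23 (le_trans hZD hDX)
  have hz3X : z₃ ∈ X := hDX (hZD hz3)
  obtain ⟨K, hZK, hKX, hzK, hXK⟩ := hHYP X Z2 hZ2X hXsq hXcomm z₃ hz3X hz3'
  refine ⟨K, le_trans hKX hXW, hzK, ?_⟩
  -- cardinalities
  have hDX2 : 2 * Nat.card D ≤ Nat.card X := by
    obtain ⟨k, hk⟩ := Subgroup.card_dvd_of_le hDX
    have hDpos : 0 < Nat.card D := Nat.card_pos
    have hXpos : 0 < Nat.card X := Nat.card_pos
    rcases k with _ | _ | k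
    · rw [hk] at hXpos; omega
    · exfalso
      apply heD
      have : D = X := Subgroup.eq_of_le_of_card_ge hDX (by rw [hk]; omega)
      rw [this]
      exact heX
    · rw [hk]
      have : Nat.card D * 2 ≤ Nat.card D * (k + 1 + 1) := Nat.mul_le_mul_left _ (by omega)
      omega
  have hW16 : Nat.card W ≤ 16 * Nat.card D := by
    have h1 : Nat.card W * Nat.card W ≤ (16 * Nat.card D) * (16 * Nat.card D) := by
      calc Nat.card W * Nat.card W = 2 ^ 8 * (Nat.card W * Nat.card Z3) := by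
            conv_lhs => rw [hcard]
            conv_rhs => rw [hcard]
            ring
        _ ≤ 2 ^ 8 * (Nat.card D * Nat.card D) := Nat.mul_le_mul_left _ hDcard
        _ = (16 * Nat.card D) * (16 * Nat.card D) := by ring
    exact Nat.mul_self_le_mul_self_iff.mp h1
  omega

end Cfsg.Agent.Lib.helper43.S3174
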