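import Mathlib
import Cfsg.Agent.Lib.helper39.S3174HYP
import Cfsg.Agent.Lib.helper43.S3174FINCore

set_option autoImplicit false

namespace Cfsg.Agent.Lib.helper43.S3174

/-- FIN -/
theorem exists_bad_subgroup {T : Type*} [Group T] [Finite T] (W Z2 Z3 D : Subgroup T) [W.Normal]
    (hZ3W : Z3 ≤ W) (h23 : Z2 ≤ Z3) (hcen : ∀ w ∈ W, ∀ z ∈ Z3, w * z = z * w)
    (hcomm : ∀ x ∈ W, ∀ y ∈ W, x * y * x⁻¹ * y⁻¹ ∈ Z3) (hZ3el : ∀ z ∈ Z3, z ^ 2 = 1)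
    (t : T) (htfix : ∀ z ∈ Z3, t * z * t⁻¹ = z → z ∈ Z2)
    (hDW : D ≤ W) (hZD : Z3 ≤ D) (hD : ∀ w ∈ W, w ∈ D ↔ t * w * t⁻¹ * w⁻¹ ∈ Z3)
    (hDcard : Nat.card ↥W * Nat.card ↥Z3 ≤ Nat.card ↥D * Nat.card ↥D)
    (hDsq : ∀ d ∈ D, d ^ 2 ∈ Z2) (hDcomm : ∀ d ∈ D, ∀ d' ∈ D, d * d' * d⁻¹ * d'⁻¹ ∈ Z2)
    (hcard : Nat.card ↥W = 2 ^ 8 * Nat.card ↥Z3)
    (e : T) (he : e ∈ W) (he2 : e ^ 2 ∈ Z2) (hc : t * e * t⁻¹ * e⁻¹ ∉ Z3)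
    (hccen : ∀ w ∈ W, (t * e * t⁻¹ * e⁻¹) * w = w * (t * e * t⁻¹ * e⁻¹))
    (z₃ : T) (hz3 : z₃ ∈ Z3) (hz3' : z₃ ∉ Z2) :
    ∃ U : Subgroup T, U ≤ W ∧ z₃ ∉ U ∧ Nat.card ↥W ≤ 16 * Nat.card ↥U :=
  exists_bad_subgroup_core
    (fun X N h1 h2 h3 v h4 h5 =>
      Cfsg.Agent.Lib.helper39.S3174.exists_index_two_avoiding X N h1 h2 h3 v h4 h5)
    W Z2 Z3 D hZ3W h23 hcen hcomm t htfix hDW hZD hD hDcard hDsq hDcomm hcard e he he2 hc hccen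
    z₃ hz3 hz3'

end Cfsg.Agent.Lib.helper43.S3174
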