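import Mathlib
import Cfsg.Agent.Lib.helper68.CentMax

set_option autoImplicit false

namespace Cfsg.Agent.Lib.helper43.S3174

/-- in a finite `2`-group every coatom has index `2`. -/
theorem h43_coatom_index_two {G : Type*} [Group G] [Finite G] (hG : IsPGroup 2 G)
    (K : Subgroup G) (hK : IsCoatom K) : K.index = 2 := by
  haveI : Fact (Nat.Prime 2) := ⟨Nat.prime_two⟩
  haveI : Group.IsNilpotent G := hG.isNilpotent
  haveI : K.Normal := Subgroup.NormalizerCondition.normal_of_coatom K normalizerCondition_of_isNilpotent hK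
  have hprime := Cfsg.Agent.Lib.helper68.normal_coatom_index_prime hK
  obtain ⟨n, hn⟩ := hG.index K
  rw [hn] at hprime ⊢
  rcases n with _ | _ | n
  · simp at hprime
    exact absurd hprime Nat.not_prime_one
  · rfl
  · exfalso
    exact Nat.Prime.not_prime_pow (by omega) hprime

/-- FRAT -/
theorem frat_facts {T : Type*} [Group T] [Finite T] (hT : IsPGroup 2 T) (W : Subgroup T) [W.Normal]
    (hd : ∀ U : Subgroup ↥W, U.index ≤ 16 → frattini ↥W ≤ U) :
    ((frattini ↥W).map W.subtype).Normal ∧ (frattini ↥W).map W.subtype ≤ W ∧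
    Nat.card ↥((frattini ↥W).map W.subtype) = Nat.card ↥(frattini ↥W) ∧
    (∀ x ∈ W, x ^ 2 ∈ (frattini ↥W).map W.subtype) ∧
    (∀ x ∈ W, ∀ y ∈ W, x * y * x⁻¹ * y⁻¹ ∈ (frattini ↥W).map W.subtype) ∧
    (∀ U : Subgroup T, U ≤ W → Nat.card ↥W ≤ 16 * Nat.card ↥U → (frattini ↥W).map W.subtype ≤ U) := by
  have hW : IsPGroup 2 ↥W := hT.to_subgroup W
  have hmem : ∀ x : ↥W, (∀ K : Subgroup ↥W, IsCoatom K → x ∈ K) → x ∈ frattini ↥W := by
    intro x hx
    unfold frattini Order.radical
    simp only [Subgroup.mem_iInf]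
    intro K hK
    exact hx K hK
  refine ⟨inferInstance, Subgroup.map_subtype_le _, ?_, ?_, ?_, ?_⟩
  · exact Subgroup.card_map_of_injective (Subgroup.subtype_injective W)
  · intro x hx
    refine ⟨⟨x, hx⟩ ^ 2, ?_, rfl⟩
    apply hmem
    intro K hK
    exact Subgroup.sq_mem_of_index_two (h43_coatom_index_two hW K hK) _
  · intro x hx y hy
    refine ⟨⟨x, hx⟩ * ⟨y, hy⟩ * ⟨x, hx⟩⁻¹ * ⟨y, hy⟩⁻¹, ?_, rfl⟩
    apply hmem
    intro K hK
    have h2 := h43_coatom_index_two hW K hK
    rw [mul_assoc, Subgroup.mul_mem_iff_of_index_two h2, Subgroup.mul_mem_iff_of_index_two h2,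
      Subgroup.mul_mem_iff_of_index_two h2, inv_mem_iff, inv_mem_iff]
  · intro U hUW hcard
    have hidx : (U.subgroupOf W).index ≤ 16 := by
      have h1 : (U.subgroupOf W).index * Nat.card (U.subgroupOf W) = Nat.card W :=
        Subgroup.index_mul_card _
      have h2 : Nat.card (U.subgroupOf W) = Nat.card U :=
        Nat.card_congr (Subgroup.subgroupOfEquivOfLe hUW).toEquiv
      have hUpos : 0 < Nat.card U := Nat.card_pos
      rw [h2] at h1
      rw [← h1] at hcard
      exact Nat.le_of_mul_le_mul_right hcard hUpos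
    have := hd (U.subgroupOf W) hidx
    intro x hx
    obtain ⟨y, hy, rfl⟩ := hx
    exact Subgroup.mem_subgroupOf.mp (this hy)

end Cfsg.Agent.Lib.helper43.S3174
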