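import Mathlib

set_option autoImplicit false

namespace Cfsg.Agent.Lib.helper43.S3174

/-- MB1, with the pieces FP and HYP as hypotheses. -/
theorem exists_K0_core {T : Type*} [Group T] [Finite T]
    (hFP : ∀ (N M : Subgroup T) [N.Normal] [M.Normal], N < M →
      ∃ v ∈ M, v ∉ N ∧ ∀ τ : T, v * τ * v⁻¹ * τ⁻¹ ∈ N)
    (hHYP : ∀ (X N : Subgroup T), N ≤ X → (∀ x ∈ X, x ^ 2 ∈ N) →
      (∀ x ∈ X, ∀ y ∈ X, x * y * x⁻¹ * y⁻¹ ∈ N) → ∀ v : T, v ∈ X → v ∉ N →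
      ∃ K : Subgroup T, N ≤ K ∧ K ≤ X ∧ v ∉ K ∧ Nat.card ↥X = 2 * Nat.card ↥K)
    (W N A : Subgroup T) [hWn : W.Normal] [hNn : N.Normal]
    (hNW : N ≤ W) (hne : N ≠ W) (hsq : ∀ x ∈ W, x ^ 2 ∈ N)
    (hcomm : ∀ x ∈ W, ∀ y ∈ W, x * y * x⁻¹ * y⁻¹ ∈ N)
    (hNA : N ≤ A) (hA : Nat.card ↥A ≤ 2 * Nat.card ↥N)
    (hfix : ∀ w ∈ W, (∀ τ : T, w * τ * w⁻¹ * τ⁻¹ ∈ N) → w ∈ A) :
    ∃ K0 : Subgroup T, N ≤ K0 ∧ K0 ≤ W ∧ Nat.card ↥W = 2 * Nat.card ↥K0 ∧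
      ∀ w ∈ W, (∀ τ : T, τ * w * τ⁻¹ ∈ K0) → w ∈ N := by
  classical
  have hlt : N < W := lt_of_le_of_ne hNW hne
  obtain ⟨v, hvW, hvN, hvfix⟩ := hFP N W hlt
  have hvA : v ∈ A := hfix v hvW hvfix
  obtain ⟨K0, hNK0, hK0W, hvK0, hcard⟩ := hHYP W N hNW hsq hcomm v hvW hvN
  refine ⟨K0, hNK0, hK0W, hcard, ?_⟩
  let K : Subgroup T :=
    { carrier := {w | w ∈ W ∧ ∀ τ : T, τ * w * τ⁻¹ ∈ K0}
      mul_mem' := by
        rintro a b ⟨ha, ha'⟩ ⟨hb, hb'⟩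
        refine ⟨W.mul_mem ha hb, fun τ => ?_⟩
        have : τ * (a * b) * τ⁻¹ = (τ * a * τ⁻¹) * (τ * b * τ⁻¹) := by group
        rw [this]
        exact K0.mul_mem (ha' τ) (hb' τ)
      one_mem' := ⟨W.one_mem, fun τ => by simp⟩
      inv_mem' := by
        rintro a ⟨ha, ha'⟩
        refine ⟨W.inv_mem ha, fun τ => ?_⟩
        have : τ * a⁻¹ * τ⁻¹ = (τ * a * τ⁻¹)⁻¹ := by group
        rw [this]
        exact K0.inv_mem (ha' τ) }
  have hKmem : ∀ w : T, w ∈ K ↔ (w ∈ W ∧ ∀ τ : T, τ * w * τ⁻¹ ∈ K0) := fun w => Iff.rfl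
  have hKn : K.Normal := by
    constructor
    intro w hw g
    rw [hKmem] at hw ⊢
    obtain ⟨hwW, hw'⟩ := hw
    refine ⟨hWn.conj_mem w hwW g, fun τ => ?_⟩
    have : τ * (g * w * g⁻¹) * τ⁻¹ = (τ * g) * w * (τ * g)⁻¹ := by group
    rw [this]
    exact hw' _
  have hNK : N ≤ K := by
    intro n hn
    rw [hKmem]
    exact ⟨hNW hn, fun τ => hNK0 (hNn.conj_mem n hn τ)⟩
  have hvK : v ∉ K := by
    intro h
    apply hvK0
    have := ((hKmem v).mp h).2 1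
    simpa using this
  intro w hwW hw
  have hwK : w ∈ K := (hKmem w).mpr ⟨hwW, hw⟩
  by_contra hwN
  have hltK : N < K := lt_of_le_of_ne hNK (by
    intro heq
    apply hwN
    rw [heq]
    exact hwK)
  obtain ⟨v', hv'K, hv'N, hv'fix⟩ := @hFP N K hNn hKn hltK
  have hv'A : v' ∈ A := hfix v' ((hKmem v').mp hv'K).1 hv'fix
  have hidx : (N.subgroupOf A).index = 2 := by
    have h1 : (N.subgroupOf A).index * Nat.card (N.subgroupOf A) = Nat.card A :=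
      Subgroup.index_mul_card _
    have h2 : Nat.card (N.subgroupOf A) = Nat.card N :=
      Nat.card_congr (Subgroup.subgroupOfEquivOfLe hNA).toEquiv
    have hNpos : 0 < Nat.card N := Nat.card_pos
    rw [h2] at h1
    have hle : (N.subgroupOf A).index ≤ 2 := by
      rw [← h1] at hA
      exact Nat.le_of_mul_le_mul_right hA hNpos
    have hne0 : (N.subgroupOf A).index ≠ 0 := Subgroup.index_ne_zero_of_finite
    have hne1 : (N.subgroupOf A).index ≠ 1 := by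
      intro h
      rw [Subgroup.index_eq_one] at h
      have : (⟨v', hv'A⟩ : A) ∈ N.subgroupOf A := by
        rw [h]; trivial
      exact hv'N (Subgroup.mem_subgroupOf.mp this)
    omega
  have hmem : (⟨v', hv'A⟩ : A)⁻¹ * ⟨v, hvA⟩ ∈ N.subgroupOf A := by
    rw [Subgroup.mul_mem_iff_of_index_two hidx, inv_mem_iff]
    constructor
    · intro h
      exact absurd (Subgroup.mem_subgroupOf.mp h) hv'N
    · intro h
      exact absurd (Subgroup.mem_subgroupOf.mp h) hvN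
  have hmem' : v'⁻¹ * v ∈ N := Subgroup.mem_subgroupOf.mp hmem
  apply hvK
  have : v = v' * (v'⁻¹ * v) := by group
  rw [this]
  exact K.mul_mem hv'K (hNK hmem')

end Cfsg.Agent.Lib.helper43.S3174
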