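import Mathlib
import Cfsg.Agent.Lib.helper39.S3174FP
import Cfsg.Agent.Lib.helper39.S3174HYP
import Cfsg.Agent.Lib.helper43.S3174MB1Core

set_option autoImplicit false

namespace Cfsg.Agent.Lib.helper43.S3174

/-- MB1 -/
theorem exists_K0 {T : Type*} [Group T] [Finite T] (hT : IsPGroup 2 T) (W N A : Subgroup T) [W.Normal] [N.Normal]
    (hNW : N ≤ W) (hne : N ≠ W) (hsq : ∀ x ∈ W, x ^ 2 ∈ N) (hcomm : ∀ x ∈ W, ∀ y ∈ W, x * y * x⁻¹ * y⁻¹ ∈ N)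
    (hNA : N ≤ A) (hA : Nat.card ↥A ≤ 2 * Nat.card ↥N)
    (hfix : ∀ w ∈ W, (∀ τ : T, w * τ * w⁻¹ * τ⁻¹ ∈ N) → w ∈ A) :
    ∃ K0 : Subgroup T, N ≤ K0 ∧ K0 ≤ W ∧ Nat.card ↥W = 2 * Nat.card ↥K0 ∧
      ∀ w ∈ W, (∀ τ : T, τ * w * τ⁻¹ ∈ K0) → w ∈ N :=
  exists_K0_core
    (fun N M _ _ h => Cfsg.Agent.Lib.helper39.S3174.exists_fixed_mod hT N M h)
    (fun X N h1 h2 h3 v h4 h5 =>
      Cfsg.Agent.Lib.helper39.S3174.exists_index_two_avoiding X N h1 h2 h3 v h4 h5)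
    W N A hNW hne hsq hcomm hNA hA hfix

end Cfsg.Agent.Lib.helper43.S3174
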