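import Mathlib
import Cfsg.Agent.Lib.helper37.S3390Defs

set_option autoImplicit false

namespace Cfsg.Agent.Lib.helper43.S3390A2

open Cfsg.Agent.Lib.helper37.S3390

variable {G : Type*} [Group G] [Finite G] {Ω : Type*} [MulAction G Ω]

/-- PIECE A2: if `T = S ∩ G_α` has order 2 (and `S ≰ G_α`), its involution has centralizer of
order 4 in `S`. -/
theorem card_centralizer_of_card_two
    (h3 : ∀ g : G, ∀ a b c : Ω, a ≠ b → a ≠ c → b ≠ c → g • a = a → g • b = b → g • c = c → g = 1)
    (S : Subgroup G) (hS : IsPGroup 2 S) (α : Ω) (h4 : ¬ S ≤ MulAction.stabilizer G α)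
    (hT2 : Nat.card ↥(S ⊓ MulAction.stabilizer G α) = 2) :
    ∃ u : ↥S, orderOf u = 2 ∧ Nat.card ↥(Subgroup.centralizer ({u} : Set ↥S)) = 4 := by
  classical
  have h1 : S ⊓ MulAction.stabilizer G α ≠ ⊥ := by
    intro h
    rw [h] at hT2
    simp at hT2
  obtain ⟨n, hnS, hnα, hnT, hfixT, hTn⟩ := exists_swap h3 S hS α h1 h4
  obtain ⟨⟨t, ht⟩, ht1⟩ := (Subgroup.ne_bot_iff_exists_ne_one).mp h1
  have ht1' : t ≠ 1 := fun h => ht1 (Subtype.ext h)
  have huniq : ∀ s ∈ S ⊓ MulAction.stabilizer G α, s ≠ 1 → s = t := by
    intro s hs hs1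
    obtain ⟨y, hy, hyu⟩ := (Nat.card_eq_two_iff' (1 : ↥(S ⊓ MulAction.stabilizer G α))).mp hT2
    have e1 : (⟨s, hs⟩ : ↥(S ⊓ MulAction.stabilizer G α)) = y :=
      hyu _ (by intro h; apply hs1; exact congrArg Subtype.val h)
    have e2 : (⟨t, ht⟩ : ↥(S ⊓ MulAction.stabilizer G α)) = y := hyu _ ht1
    exact congrArg Subtype.val (e1.trans e2.symm)
  have hTcases : ∀ s ∈ S ⊓ MulAction.stabilizer G α, s = 1 ∨ s = t := by
    intro s hs
    by_cases h : s = 1
    · exact Or.inl h
    · exact Or.inr (huniq s hs h)
  have htt : t * t = 1 := by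
    by_contra h
    have := huniq (t * t) (mul_mem ht ht) h
    apply ht1'
    have h' : t * t = t * 1 := by rw [mul_one]; exact this
    exact mul_left_cancel h'
  have htα : t • α = α := MulAction.mem_stabilizer_iff.mp ht.2
  have hntn : n * t * n⁻¹ = t := by
    apply huniq _ (hnT t ht)
    intro h
    apply ht1'
    have : n * t = n := by
      have h' := congrArg (fun x => x * n) h
      simpa using h'
    have h' : n * t = n * 1 := by rw [mul_one]; exact this
    exact mul_left_cancel h'
  have hnt : n * t = t * n := by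
    have h' := congrArg (fun x => x * n) hntn
    simpa using h'
  have hn1 : n ≠ 1 := by
    intro h
    apply hnα
    rw [h, one_smul]
  have hnT' : n ∉ S ⊓ MulAction.stabilizer G α := fun h => hnα (MulAction.mem_stabilizer_iff.mp h.2)
  let u : ↥S := ⟨t, ht.1⟩
  let n' : ↥S := ⟨n, hnS⟩
  have hu1 : u ≠ 1 := fun h => ht1' (congrArg Subtype.val h)
  have huu : u ^ 2 = 1 := by
    apply Subtype.ext
    simp [u, pow_two, htt]
  have : Fact (Nat.Prime 2) := ⟨Nat.prime_two⟩
  have hou : orderOf u = 2 := orderOf_eq_prime huu hu1
  refine ⟨u, hou, ?_⟩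
  have hC : ((Subgroup.centralizer ({u} : Set ↥S) : Subgroup ↥S) : Set ↥S) = {1, u, n', n' * u} := by
    ext m
    simp only [SetLike.mem_coe, Set.mem_insert_iff, Set.mem_singleton_iff]
    constructor
    · intro hm
      have hcomm : u * m = m * u := (Subgroup.mem_centralizer_iff.mp hm) u (Set.mem_singleton u)
      have hcomm' : t * (m : G) = (m : G) * t := congrArg Subtype.val hcomm
      have hfix : ∀ s ∈ S ⊓ MulAction.stabilizer G α, s • ((m : G) • α) = (m : G) • α := by
        intro s hs
        rcases hTcases s hs with rfl | rfl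
        · simp
        · rw [← mul_smul, hcomm', mul_smul, htα]
      rcases hfixT _ hfix with h | h
      · have hmT : (m : G) ∈ S ⊓ MulAction.stabilizer G α := ⟨m.2, MulAction.mem_stabilizer_iff.mpr h⟩
        rcases hTcases _ hmT with h' | h'
        · left; exact Subtype.ext h'
        · right; left; exact Subtype.ext h'
      · have h'' : (n⁻¹ * (m : G)) • α = α := by
          rw [mul_smul, h, ← mul_smul, inv_mul_cancel, one_smul]
        have hmT : n⁻¹ * (m : G) ∈ S ⊓ MulAction.stabilizer G α :=
          ⟨S.mul_mem (S.inv_mem hnS) m.2, MulAction.mem_stabilizer_iff.mpr h''⟩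
        rcases hTcases _ hmT with h' | h'
        · right; right; left
          apply Subtype.ext
          show (m : G) = n
          have := congrArg (fun x => n * x) h'
          simpa using this
        · right; right; right
          apply Subtype.ext
          show (m : G) = n * t
          have := congrArg (fun x => n * x) h'
          simpa using this
    · intro hm
      rw [Subgroup.mem_centralizer_iff]
      intro h hh
      rw [Set.mem_singleton_iff] at hh
      subst hh
      rcases hm with rfl | rfl | rfl | rfl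
      · simp
      · rfl
      · apply Subtype.ext
        show t * n = n * t
        exact hnt.symm
      · apply Subtype.ext
        show t * (n * t) = n * t * t
        rw [← mul_assoc, ← hnt]
  have hcard := Nat.card_coe_set_eq ((Subgroup.centralizer ({u} : Set ↥S) : Subgroup ↥S) : Set ↥S)
  have e1 : (1 : ↥S) ∉ ({u, n', n' * u} : Set ↥S) := by
    simp only [Set.mem_insert_iff, Set.mem_singleton_iff, not_or]
    refine ⟨fun h => hu1 h.symm, ?_, ?_⟩
    · intro h
      exact hn1 (congrArg Subtype.val h).symm
    · intro h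
      have h' : (1 : G) = n * t := congrArg Subtype.val h
      apply hnT'
      have : n = t := by
        have h2 := congrArg (fun x => x * t) h'
        simp only [one_mul, mul_assoc, htt, mul_one] at h2
        exact h2.symm
      rw [this]; exact ht
  have e2 : u ∉ ({n', n' * u} : Set ↥S) := by
    simp only [Set.mem_insert_iff, Set.mem_singleton_iff, not_or]
    refine ⟨?_, ?_⟩
    · intro h
      have h' : t = n := congrArg Subtype.val h
      apply hnT'
      rw [← h']; exact ht
    · intro h
      have h' : t = n * t := congrArg Subtype.val h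
      apply hn1
      have h2 : 1 * t = n * t := by rw [one_mul]; exact h'
      exact (mul_right_cancel h2).symm
  have e3 : n' ≠ n' * u := by
    intro h
    have h' : n = n * t := congrArg Subtype.val h
    apply ht1'
    have h2 : n * 1 = n * t := by rw [mul_one]; exact h'
    exact (mul_left_cancel h2).symm
  show Nat.card ↥((Subgroup.centralizer ({u} : Set ↥S) : Subgroup ↥S) : Set ↥S) = 4
  rw [hcard, hC, Set.ncard_insert_of_notMem e1, Set.ncard_insert_of_notMem e2, Set.ncard_pair e3]

end Cfsg.Agent.Lib.helper43.S3390A2
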