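import Mathlib
import Cfsg.Agent.Lib.helper92.S3664Defs

set_option autoImplicit false

namespace Cfsg.Agent.Lib.helper43.S3664

open Cfsg.Agent.Lib.helper92.S3664 Cfsg.Agent.Lib.helper17 Cfsg.Agent.Lib.helper8

theorem h43_trace_map (i : ZMod 3) (U : Matrix (Fin 4) (Fin 4) K) :
    Matrix.trace (U.map (frK i)) = frK i (Matrix.trace U) := by
  simp only [Matrix.trace, Matrix.diag, Matrix.map_apply, Fin.sum_univ_four, frK_map_add]

/-- PIECE COMM: an element outside `Sz(8)` only centralizes elements with trace in `F₂`. -/
theorem trace_of_commute (g : G) (u : S) (hq : g.right ≠ 1)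
    (hc : g * SemidirectProduct.inl u = SemidirectProduct.inl u * g) :
    trS u = 0 ∨ trS u = 1 := by
  have h1 : g.left * psi g.right u = u * g.left := by
    have := congrArg SemidirectProduct.left hc
    simpa [SemidirectProduct.mul_left] using this
  have h2 : matS g.left * (matS u).map (frK (Multiplicative.toAdd g.right)) =
      matS u * matS g.left := by
    have := congrArg matS h1
    rw [matS_mul, matS_mul] at this
    rw [← this]
    congr 1
  have h3 : matS (g.left⁻¹) * matS g.left = 1 := by
    rw [← matS_mul, inv_mul_cancel, matS_one]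
  have h4 : matS g.left * matS (g.left⁻¹) = 1 := by
    rw [← matS_mul, mul_inv_cancel, matS_one]
  have h5 : (matS u).map (frK (Multiplicative.toAdd g.right)) =
      matS (g.left⁻¹) * (matS u * matS g.left) := by
    rw [← h2, ← mul_assoc, h3, one_mul]
  have h6 : Matrix.trace ((matS u).map (frK (Multiplicative.toAdd g.right))) =
      Matrix.trace (matS u) := by
    rw [h5, Matrix.trace_mul_comm, mul_assoc, h4, mul_one]
  rw [h43_trace_map] at h6
  have hi : Multiplicative.toAdd g.right ≠ 0 := by
    intro h
    apply hq
    have : g.right = Multiplicative.ofAdd (Multiplicative.toAdd g.right) := rfl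
    rw [this, h]
    rfl
  exact frK_fix _ (trS u) hi h6

end Cfsg.Agent.Lib.helper43.S3664
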