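import Mathlib
import Cfsg.Agent.Lib.helper92.S3664Defs
import Cfsg.Agent.S2238
import Cfsg.Agent.S0330

set_option autoImplicit false

namespace Cfsg.Agent.Lib.helper43.S3664

open Cfsg.Agent.Lib.helper92.S3664 Cfsg.Agent.Lib.helper17 Cfsg.Agent.Lib.helper8

/-- PIECE ORDS: element orders of `Sz(8)`. -/
theorem orders_S (n : S) : orderOf n = 1 ∨ orderOf n = 2 ∨ orderOf n = 4 ∨ orderOf n = 5 ∨
    orderOf n = 7 ∨ orderOf n = 13 := by
  by_cases hn : n = 1
  · left
    rw [hn, orderOf_one]
  obtain ⟨U, ⟨hU, hnU⟩, -⟩ := Cfsg.Agent.S2238.result (F := K) (m := 1) (le_refl 1) hK n hn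
  rcases hU with ⟨P, rfl⟩ | ⟨hcyc, hcard⟩
  · have hexp := (Cfsg.Agent.S0330.result (F := K) (m := 1) (le_refl 1) hK P).2.1
    have h4 : (⟨n, hnU⟩ : ↥(P : Subgroup S)) ^ 4 = 1 := by
      have h := Monoid.pow_exponent_eq_one (⟨n, hnU⟩ : ↥(P : Subgroup S))
      rw [hexp] at h
      exact h
    have h4' : n ^ 4 = 1 := by
      have := congrArg Subtype.val h4
      simpa using this
    have hdvd : orderOf n ∣ 2 ^ 2 := orderOf_dvd_of_pow_eq_one h4'
    obtain ⟨k, hk, hk'⟩ := (Nat.dvd_prime_pow Nat.prime_two).mp hdvd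
    interval_cases k
    · left; simpa using hk'
    · right; left; simpa using hk'
    · right; right; left; simpa using hk'
  · have hdvd : orderOf n ∣ Nat.card ↥U := by
      have h := orderOf_dvd_natCard (⟨n, hnU⟩ : ↥U)
      rwa [Subgroup.orderOf_mk] at h
    have hne : orderOf n ≠ 1 := fun h => hn (orderOf_eq_one_iff.mp h)
    simp only [Set.mem_insert_iff, Set.mem_singleton_iff] at hcard
    norm_num at hcard
    rcases hcard with h | h | h
    · rw [h] at hdvd
      rcases (Nat.dvd_prime (by norm_num : Nat.Prime 7)).mp hdvd with h' | h'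
      · exact absurd h' hne
      · right; right; right; right; left; exact h'
    · rw [h] at hdvd
      rcases (Nat.dvd_prime (by norm_num : Nat.Prime 13)).mp hdvd with h' | h'
      · exact absurd h' hne
      · right; right; right; right; right; exact h'
    · rw [h] at hdvd
      rcases (Nat.dvd_prime (by norm_num : Nat.Prime 5)).mp hdvd with h' | h'
      · exact absurd h' hne
      · right; right; right; left; exact h'

end Cfsg.Agent.Lib.helper43.S3664
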