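import Mathlib

/-!
S4025 piece P3: a group of semilinear maps `x ↦ a σ(x)` of a field of order `p ^ n` has order
dividing `n (p ^ n - 1)` (`card_dvd_of_semilinear`).
-/

set_option autoImplicit false

namespace Cfsg.Agent.Lib.helper43.S4025

/-- the ring automorphism group of a field of order `p ^ n` has order `n` -/
theorem card_ringAut_of_card (p n : ℕ) [hp : Fact p.Prime] (F : Type*) [Field F] [Fintype F]
    (hF : Fintype.card F = p ^ n) : Nat.card (F ≃+* F) = n := by
  have hchar : CharP F p := by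
    obtain ⟨m, hq, hm⟩ := FiniteField.card F (ringChar F)
    have hdvd : ringChar F ∣ p ^ n := by
      rw [← hF, hm]
      exact dvd_pow_self _ m.ne_zero
    have heq : ringChar F = p :=
      (Nat.prime_dvd_prime_iff_eq hq hp.out).mp (hq.dvd_of_dvd_pow hdvd)
    rw [← heq]
    exact ringChar.charP F
  letI : Algebra (ZMod p) F := ZMod.algebra F p
  have h1 : Nat.card (F ≃ₐ[ZMod p] F) = Module.finrank (ZMod p) F :=
    IsGalois.card_aut_eq_finrank (ZMod p) F
  have h2 : Fintype.card F = p ^ Module.finrank (ZMod p) F := by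
    have := Module.card_eq_pow_finrank (K := ZMod p) (V := F)
    rwa [ZMod.card] at this
  have h3 : Module.finrank (ZMod p) F = n := by
    rw [hF] at h2
    exact (Nat.pow_right_injective hp.out.two_le h2).symm
  rw [← h3, ← h1]
  apply Nat.card_congr
  exact
    { toFun := fun σ => AlgEquiv.ofRingEquiv (f := σ) (fun x =>
        RingHom.congr_fun (Subsingleton.elim ((σ : F →+* F).comp (algebraMap (ZMod p) F))
          (algebraMap (ZMod p) F)) x)
      invFun := fun τ => τ.toRingEquiv
      left_inv := fun σ => by ext x; rfl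
      right_inv := fun τ => by ext x; rfl }

theorem card_dvd_of_semilinear {p : ℕ} [Fact p.Prime] {V : Type*} [AddCommGroup V]
    [Module (ZMod p) V] [Finite V]
    {H : Type*} [Group H] [Finite H] (ρ : H →* (V ≃ₗ[ZMod p] V)) (hρ : Function.Injective ρ)
    (F : Type) [Field F] [Fintype F] (e : V ≃+ F)
    (hsl : ∀ h : H, ∃ (a : F) (σ : F ≃+* F), ∀ v : V, e (ρ h v) = a * σ (e v)) :
    Nat.card H ∣ Module.finrank (ZMod p) V * (p ^ Module.finrank (ZMod p) V - 1) ∧
    ((Nat.card H).Coprime (Module.finrank (ZMod p) V) →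
      ∀ h : H, ∃ a : F, ∀ v : V, e (ρ h v) = a * e v) := by
  classical
  have hp : p.Prime := Fact.out
  have hcardF : Fintype.card F = p ^ Module.finrank (ZMod p) V := by
    rw [← Nat.card_eq_fintype_card, ← Nat.card_congr e.toEquiv,
      Module.natCard_eq_pow_finrank (K := ZMod p), Nat.card_eq_fintype_card, ZMod.card]
  have hAut := card_ringAut_of_card p _ F hcardF
  choose a σ hσ using hsl
  have hF : ∀ (h : H) (x : F), e (ρ h (e.symm x)) = a h * σ h x := by
    intro h x
    rw [hσ h, AddEquiv.apply_symm_apply]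
  have ha0 : ∀ h, a h ≠ 0 := by
    intro h h0
    have h1 := hσ h (ρ h⁻¹ (e.symm 1))
    rw [h0, zero_mul] at h1
    have h2 : ρ h (ρ h⁻¹ (e.symm 1)) = e.symm 1 := by
      rw [← LinearEquiv.mul_apply, ← map_mul, mul_inv_cancel, map_one]
      rfl
    rw [h2, AddEquiv.apply_symm_apply] at h1
    exact one_ne_zero h1
  have huniq : ∀ (b b' : F) (τ τ' : F ≃+* F), (∀ x : F, b * τ x = b' * τ' x) → b ≠ 0 →
      b = b' ∧ τ = τ' := by
    intro b b' τ τ' h hb
    have h1 := h 1
    rw [map_one, map_one, mul_one, mul_one] at h1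
    refine ⟨h1, ?_⟩
    ext x
    have h2 := h x
    rw [← h1] at h2
    exact mul_left_cancel₀ hb h2
  have hmul : ∀ h h' : H, a (h * h') = a h * σ h (a h') ∧ σ (h * h') = σ h * σ h' := by
    intro h h'
    apply huniq _ _ _ _ _ (ha0 _)
    intro x
    calc a (h * h') * σ (h * h') x = e (ρ (h * h') (e.symm x)) := (hF _ x).symm
      _ = e (ρ h (ρ h' (e.symm x))) := by rw [map_mul]; rfl
      _ = a h * σ h (e (ρ h' (e.symm x))) := hσ h _
      _ = a h * σ h (a h' * σ h' x) := by rw [hF h' x]
      _ = a h * σ h (a h') * (σ h * σ h') x := by rw [map_mul, mul_assoc]; rfl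
  let φ : H →* (F ≃+* F) := MonoidHom.mk' σ (fun h h' => (hmul h h').2)
  have hφ : ∀ h, φ h = σ h := fun h => rfl
  let ψ : φ.ker →* Fˣ := MonoidHom.mk' (fun h => Units.mk0 (a h) (ha0 h)) (by
    intro h h'
    apply Units.ext
    have h1 : σ (h : H) = 1 := h.2
    show a ((h : H) * (h' : H)) = a h * a h'
    rw [(hmul h h').1, h1]
    rfl)
  have hψ : Function.Injective ψ := by
    rw [injective_iff_map_eq_one]
    intro h hh
    have h1 : σ (h : H) = 1 := h.2
    have h2 : a (h : H) = 1 := congrArg Units.val hh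
    apply Subtype.ext
    apply hρ
    rw [Subgroup.coe_one, map_one]
    ext v
    apply e.injective
    rw [hσ, h1, h2, one_mul]
    rfl
  have hker : Nat.card φ.ker ∣ p ^ Module.finrank (ZMod p) V - 1 := by
    have := Subgroup.card_dvd_of_injective ψ hψ
    have hF' : Nat.card F = p ^ Module.finrank (ZMod p) V := by
      rw [Nat.card_eq_fintype_card, hcardF]
    rwa [Nat.card_units, hF'] at this
  have hrange : Nat.card φ.range ∣ Module.finrank (ZMod p) V := by
    have := Subgroup.card_subgroup_dvd_card φ.range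
    rwa [hAut] at this
  have hcard : Nat.card H = Nat.card φ.ker * Nat.card φ.range := by
    rw [← Subgroup.index_ker, Subgroup.card_mul_index]
  refine ⟨?_, ?_⟩
  · rw [hcard, mul_comm]
    exact Nat.mul_dvd_mul hrange hker
  · intro hcop h
    have h1 : Nat.card φ.range ∣ Nat.card H := by
      rw [hcard]
      exact dvd_mul_left _ _
    have h2 : Nat.card φ.range = 1 := Nat.eq_one_of_dvd_coprimes hcop h1 hrange
    have h3 : φ.range = ⊥ := Subgroup.card_eq_one.mp h2
    have h4 : φ h ∈ φ.range := ⟨h, rfl⟩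
    rw [h3, Subgroup.mem_bot, hφ] at h4
    refine ⟨a h, fun v => ?_⟩
    rw [hσ, h4]
    rfl

end Cfsg.Agent.Lib.helper43.S4025
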