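import Mathlib
import Cfsg.Agent.Lib.helper81.S4484Defs

set_option autoImplicit false

namespace Cfsg.Agent.Lib.helper43.S4484

open Cfsg Cfsg.Agent.Lib.helper83 Cfsg.Agent.Lib.helper79 Cfsg.Agent.Lib.helper81
  Cfsg.Agent.Lib.helper81.S4484
open scoped Matrix

universe u

/-- FA -/
theorem repMat_injective_of_simple {G : Type u} [Group G] [IsSimpleGroup G] {n : ℕ}
    (ρ : Representation ℂ G (Fin n → ℂ)) (h : ∃ g : G, ρ.character g ≠ ρ.character 1) :
    Function.Injective (repMat ρ) := by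
  have hn : (MonoidHom.ker (ρ : G →* ((Fin n → ℂ) →ₗ[ℂ] (Fin n → ℂ)))).Normal :=
    MonoidHom.normal_ker _
  rcases hn.eq_bot_or_eq_top with hb | ht
  · intro a b hab
    have hab' : ρ a = ρ b := by
      unfold repMat at hab
      exact LinearMap.toMatrix'.injective hab
    have hmem : a⁻¹ * b ∈ MonoidHom.ker (ρ : G →* ((Fin n → ℂ) →ₗ[ℂ] (Fin n → ℂ))) := by
      rw [MonoidHom.mem_ker, map_mul, ← hab', ← map_mul, inv_mul_cancel, map_one]
    rw [hb, Subgroup.mem_bot] at hmem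
    exact (inv_mul_eq_one.mp hmem)
  · exfalso
    obtain ⟨g, hg⟩ := h
    apply hg
    have hmem : g ∈ MonoidHom.ker (ρ : G →* ((Fin n → ℂ) →ₗ[ℂ] (Fin n → ℂ))) := by
      rw [ht]; exact Subgroup.mem_top g
    rw [MonoidHom.mem_ker] at hmem
    show LinearMap.trace ℂ (Fin n → ℂ) (ρ g) = LinearMap.trace ℂ (Fin n → ℂ) (ρ 1)
    rw [hmem, map_one ρ]

end Cfsg.Agent.Lib.helper43.S4484
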