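import Mathlib
import Cfsg.Agent.Lib.helper81.S4484Defs

set_option autoImplicit false

namespace Cfsg.Agent.Lib.helper43.S4484

open Cfsg Cfsg.Agent.Lib.helper83 Cfsg.Agent.Lib.helper79 Cfsg.Agent.Lib.helper81
  Cfsg.Agent.Lib.helper81.S4484
open scoped Matrix

universe u

/-- power sums of inverse `p`-th roots of unity. -/
theorem h43sp4_sum_pow (p : ℕ) (hp : 0 < p) (l : ℕ) (hl : l < p) :
    ∑ lam ∈ Polynomial.nthRootsFinset p (1 : ℂ), (lam⁻¹) ^ l = if l = 0 then (p : ℂ) else 0 := by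
  set ζ : ℂ := Complex.exp (2 * Real.pi * Complex.I / p) with hζdef
  have hζ : IsPrimitiveRoot ζ p := Complex.isPrimitiveRoot_exp p hp.ne'
  have : NeZero p := ⟨hp.ne'⟩
  have hbij : ∑ lam ∈ Polynomial.nthRootsFinset p (1 : ℂ), (lam⁻¹) ^ l
      = ∑ j ∈ Finset.range p, ((ζ ^ j)⁻¹) ^ l := by
    symm
    apply Finset.sum_bij (fun j _ => ζ ^ j)
    · intro j hj
      rw [Polynomial.mem_nthRootsFinset hp, ← pow_mul, mul_comm, pow_mul, hζ.pow_eq_one, one_pow]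
    · intro a ha b hb h
      exact hζ.pow_inj (Finset.mem_range.mp ha) (Finset.mem_range.mp hb) h
    · intro b hb
      rw [Polynomial.mem_nthRootsFinset hp] at hb
      obtain ⟨i, hi, rfl⟩ := hζ.eq_pow_of_pow_eq_one hb
      exact ⟨i, Finset.mem_range.mpr hi, rfl⟩
    · intro j _
      rfl
  rw [hbij]
  have hsw : ∀ j, ((ζ ^ j)⁻¹) ^ l = ((ζ ^ l)⁻¹) ^ j := by
    intro j
    rw [inv_pow, inv_pow, ← pow_mul, ← pow_mul, mul_comm]
  rw [Finset.sum_congr rfl (fun j _ => hsw j)]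
  split_ifs with h0
  · subst h0
    simp
  · have hne : (ζ ^ l)⁻¹ ≠ 1 := by
      intro h
      rw [inv_eq_one] at h
      have := (hζ.pow_eq_one_iff_dvd l).mp h
      exact h0 (Nat.eq_zero_of_dvd_of_lt this hl)
    have hpow : ((ζ ^ l)⁻¹) ^ p = 1 := by
      rw [inv_pow, ← pow_mul, mul_comm, pow_mul, hζ.pow_eq_one, one_pow, inv_one]
    have := mul_geom_sum ((ζ ^ l)⁻¹) p
    rw [hpow, sub_self] at this
    exact (mul_eq_zero.mp this).resolve_left (sub_ne_zero.mpr hne)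

/-- the spectral projectors sum to `1`. -/
theorem h43sp4_sum_proj {n : ℕ} (M : Matrix (Fin n) (Fin n) ℂ) (p : ℕ) (hp : 0 < p) :
    ∑ lam ∈ Polynomial.nthRootsFinset p (1 : ℂ), proj M p lam = 1 := by
  unfold proj
  rw [← Finset.smul_sum, Finset.sum_comm]
  have h1 : ∀ l ∈ Finset.range p,
      ∑ lam ∈ Polynomial.nthRootsFinset p (1 : ℂ), (lam⁻¹) ^ l • M ^ l
        = (if l = 0 then (p : ℂ) else 0) • M ^ l := by
    intro l hl
    rw [← Finset.sum_smul, h43sp4_sum_pow p hp l (Finset.mem_range.mp hl)]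
  rw [Finset.sum_congr rfl h1, Finset.sum_eq_single 0]
  · have hp0 : (p : ℂ) ≠ 0 := by exact_mod_cast hp.ne'
    simp [smul_smul, inv_mul_cancel₀ hp0]
  · intro b _ hb
    simp [hb]
  · intro h
    exact absurd (Finset.mem_range.mpr hp) h

/-- `M * P_λ = λ • P_λ`. -/
theorem h43sp4_mul_proj {n : ℕ} (M : Matrix (Fin n) (Fin n) ℂ) (p : ℕ)
    (hM : M ^ p = 1) (lam : ℂ) (hl : lam ^ p = 1) (hp : 0 < p) :
    M * proj M p lam = lam • proj M p lam := by
  have hl0 : lam ≠ 0 := by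
    intro h
    rw [h, zero_pow hp.ne'] at hl
    exact zero_ne_one hl
  unfold proj
  rw [Matrix.mul_smul, smul_comm lam]
  congr 1
  rw [Finset.mul_sum, Finset.smul_sum]
  have e1 : ∀ l ∈ Finset.range p, M * (lam⁻¹ ^ l • M ^ l)
      = (fun k => (lam * lam⁻¹ ^ k) • M ^ k) (l + 1) := by
    intro l _
    show M * (lam⁻¹ ^ l • M ^ l) = (lam * lam⁻¹ ^ (l + 1)) • M ^ (l + 1)
    rw [Matrix.mul_smul, pow_succ' M, pow_succ' lam⁻¹, ← mul_assoc, mul_inv_cancel₀ hl0, one_mul]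
  have e2 : ∀ l ∈ Finset.range p, lam • lam⁻¹ ^ l • M ^ l
      = (fun k => (lam * lam⁻¹ ^ k) • M ^ k) l := by
    intro l _
    show lam • lam⁻¹ ^ l • M ^ l = (lam * lam⁻¹ ^ l) • M ^ l
    rw [smul_smul]
  rw [Finset.sum_congr rfl e1, Finset.sum_congr rfl e2]
  have h1 := Finset.sum_range_succ (fun k => (lam * lam⁻¹ ^ k) • M ^ k) p
  have h2 := Finset.sum_range_succ' (fun k => (lam * lam⁻¹ ^ k) • M ^ k) p
  rw [h1] at h2
  have h3 : (lam * lam⁻¹ ^ p) • M ^ p = (lam * lam⁻¹ ^ 0) • M ^ 0 := by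
    rw [inv_pow, hl, hM, pow_zero, pow_zero, inv_one]
  rw [h3] at h2
  exact (add_right_cancel h2).symm

/-- `M = ∑ λ • P_λ`. -/
theorem h43sp4_decomp {n : ℕ} (M : Matrix (Fin n) (Fin n) ℂ) (p : ℕ) (hp : 0 < p)
    (hM : M ^ p = 1) :
    M = ∑ lam ∈ Polynomial.nthRootsFinset p (1 : ℂ), lam • proj M p lam := by
  conv_lhs => rw [← mul_one M, ← h43sp4_sum_proj M p hp, Finset.mul_sum]
  apply Finset.sum_congr rfl
  intro lam hlam
  rw [Polynomial.mem_nthRootsFinset hp] at hlam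
  exact h43sp4_mul_proj M p hM lam hlam hp

/-- SP4 -/
theorem comm_of_proj_comm {n : ℕ} (M M' : Matrix (Fin n) (Fin n) ℂ) (p : ℕ) (hp : 0 < p)
    (hM : M ^ p = 1) (hM' : M' ^ p = 1)
    (h : ∀ lam lam' : ℂ, lam ^ p = 1 → lam' ^ p = 1 →
      proj M p lam * proj M' p lam' = proj M' p lam' * proj M p lam) :
    M * M' = M' * M := by
  have d1 := h43sp4_decomp M p hp hM
  have d2 := h43sp4_decomp M' p hp hM'
  rw [d1, d2, Finset.sum_mul_sum, Finset.sum_mul_sum, Finset.sum_comm]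
  apply Finset.sum_congr rfl
  intro lam' hlam'
  apply Finset.sum_congr rfl
  intro lam hlam
  rw [Polynomial.mem_nthRootsFinset hp] at hlam hlam'
  rw [Matrix.smul_mul, Matrix.mul_smul, Matrix.smul_mul, Matrix.mul_smul, h lam lam' hlam hlam',
    smul_comm]

end Cfsg.Agent.Lib.helper43.S4484
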