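import Mathlib
import Cfsg.Agent.Lib.helper81.S4484Defs

set_option autoImplicit false

namespace Cfsg.Agent.Lib.helper43.S4484

open Cfsg Cfsg.Agent.Lib.helper83 Cfsg.Agent.Lib.helper79 Cfsg.Agent.Lib.helper81
  Cfsg.Agent.Lib.helper81.S4484
open scoped Matrix

universe u

theorem h43tau_smul {n : ℕ} (τ : ℂ →+* ℂ) (c : ℂ) (A : Matrix (Fin n) (Fin n) ℂ) :
    τ.mapMatrix (c • A) = τ c • τ.mapMatrix A := by
  ext i j
  simp

/-- TAU1 -/
theorem proj_map {n : ℕ} (M : Matrix (Fin n) (Fin n) ℂ) (p : ℕ) (lam : ℂ) (τ : ℂ →+* ℂ) :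
    (proj M p lam).map τ = proj (M.map τ) p (τ lam) := by
  have h1 : (proj M p lam).map τ = τ.mapMatrix (proj M p lam) := rfl
  have h2 : M.map τ = τ.mapMatrix M := rfl
  rw [h1, h2]
  unfold proj
  rw [h43tau_smul, map_sum, map_inv₀, map_natCast]
  congr 1
  apply Finset.sum_congr rfl
  intro l _
  rw [h43tau_smul, map_pow, map_pow, map_inv₀]

/-- TAU2 -/
theorem repMat_conjRep {G : Type u} [Group G] {n : ℕ} (τ : ℂ →+* ℂ)
    (ρ : Representation ℂ G (Fin n → ℂ)) (g : G) :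
    repMat (conjRep τ ρ) g = (repMat ρ g).map τ := by
  unfold repMat
  have h1 : (conjRep τ ρ) g = Matrix.toLin' ((LinearMap.toMatrix' (ρ g)).map τ) := rfl
  rw [h1, LinearMap.toMatrix'_toLin']

end Cfsg.Agent.Lib.helper43.S4484
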