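import Mathlib
import Cfsg.Agent.Lib.helper89.S60Defs

set_option autoImplicit false

namespace Cfsg.Agent.Lib.helper89.S60

open Matrix Cfsg Cfsg.Geo

/-- The preimage of `Ω₁(Z(G/Z))`: elements whose square and all of whose commutators are central. -/
def h43T (G : Type*) [Group G] : Subgroup G where
  carrier := {t | t * t ∈ Subgroup.center G ∧ ∀ g : G, t * g * t⁻¹ * g⁻¹ ∈ Subgroup.center G}
  one_mem' := by
    refine ⟨by simp, fun g => by simp⟩
  mul_mem' := by
    rintro a b ⟨ha2, hac⟩ ⟨hb2, hbc⟩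
    refine ⟨?_, fun g => ?_⟩
    · have hz := hbc a
      have h1 : (a * b) * (a * b) = a * (b * a * b⁻¹ * a⁻¹) * a * b * b := by group
      rw [h1, (Subgroup.mem_center_iff.mp hz) a]
      have h2 : b * a * b⁻¹ * a⁻¹ * a * a * b * b = (b * a * b⁻¹ * a⁻¹) * (a * a) * (b * b) := by
        group
      rw [h2]
      exact Subgroup.mul_mem _ (Subgroup.mul_mem _ hz ha2) hb2
    · have hz := hbc g
      have h1 : a * b * g * (a * b)⁻¹ * g⁻¹ = a * (b * g * b⁻¹ * g⁻¹) * g * a⁻¹ * g⁻¹ := by group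
      rw [h1, (Subgroup.mem_center_iff.mp hz) a]
      have h2 : b * g * b⁻¹ * g⁻¹ * a * g * a⁻¹ * g⁻¹ =
          (b * g * b⁻¹ * g⁻¹) * (a * g * a⁻¹ * g⁻¹) := by group
      rw [h2]
      exact Subgroup.mul_mem _ hz (hac g)
  inv_mem' := by
    rintro a ⟨ha2, hac⟩
    refine ⟨?_, fun g => ?_⟩
    · have h1 : a⁻¹ * a⁻¹ = (a * a)⁻¹ := by group
      rw [h1]
      exact Subgroup.inv_mem _ ha2
    · have hz := hac g
      have h1 : a⁻¹ * g * a⁻¹⁻¹ * g⁻¹ = (a⁻¹ * (a * g * a⁻¹ * g⁻¹) * a)⁻¹ := by group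
      rw [h1, (Subgroup.mem_center_iff.mp hz) a⁻¹]
      have h2 : a * g * a⁻¹ * g⁻¹ * a⁻¹ * a = a * g * a⁻¹ * g⁻¹ := by group
      rw [h2]
      exact Subgroup.inv_mem _ hz

theorem h43T_mem {G : Type*} [Group G] (t : G) :
    t ∈ h43T G ↔ t * t ∈ Subgroup.center G ∧ ∀ g : G, t * g * t⁻¹ * g⁻¹ ∈ Subgroup.center G :=
  Iff.rfl

theorem h43T_char (G : Type*) [Group G] : (h43T G).Characteristic := by
  rw [Subgroup.characteristic_iff_le_comap]
  intro φ t ht
  obtain ⟨ht2, htc⟩ := ht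
  have hZ : ∀ z ∈ Subgroup.center G, φ z ∈ Subgroup.center G := by
    intro z hz
    rw [Subgroup.mem_center_iff] at hz ⊢
    intro g
    have := congrArg φ (hz (φ.symm g))
    simpa using this
  change φ t ∈ h43T G
  refine ⟨?_, fun g => ?_⟩
  · have := hZ _ ht2
    simpa using this
  · have := hZ _ (htc (φ.symm g))
    simpa using this

theorem h43_center_le_T (G : Type*) [Group G] : Subgroup.center G ≤ h43T G := by
  intro z hz
  refine ⟨Subgroup.mul_mem _ hz hz, fun g => ?_⟩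
  have : z * g * z⁻¹ * g⁻¹ = 1 := by
    rw [← (Subgroup.mem_center_iff.mp hz) g]; group
  rw [this]; exact Subgroup.one_mem _

theorem h43_tcenter_abs {G : Type*} [Group G] [Finite G]
    (hcyc : ∀ A : Subgroup G, A.Characteristic → IsMulCommutative A → IsCyclic A)
    (hexp : ∀ g : G, g ^ 4 = 1) (hZ : Nat.card (Subgroup.center G) = 4)
    (s : G) (hs : s ∈ h43T G) (hcomm : ∀ t ∈ h43T G, s * t = t * s) :
    s ∈ Subgroup.center G := by
  haveI := h43T_char G
  have hAchar : (h43T G ⊓ Subgroup.centralizer (h43T G : Set G)).Characteristic := inferInstance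
  have hAcomm : IsMulCommutative ↥(h43T G ⊓ Subgroup.centralizer (h43T G : Set G)) := by
    refine ⟨⟨fun a b => ?_⟩⟩
    have ha := a.2.2
    have hb := b.2.1
    apply Subtype.ext
    have := (Subgroup.mem_centralizer_iff.mp ha) b hb
    simpa using this.symm
  have hAcyc := hcyc _ hAchar hAcomm
  have hZA : Subgroup.center G ≤ h43T G ⊓ Subgroup.centralizer (h43T G : Set G) := by
    intro z hz
    exact ⟨h43_center_le_T G hz, Subgroup.center_le_centralizer _ hz⟩
  have hAcard : Nat.card ↥(h43T G ⊓ Subgroup.centralizer (h43T G : Set G)) ≤ 4 := by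
    obtain ⟨g, hg⟩ := hAcyc.exists_generator
    have h1 : orderOf g = Nat.card ↥(h43T G ⊓ Subgroup.centralizer (h43T G : Set G)) :=
      orderOf_eq_card_of_forall_mem_zpowers hg
    have h2 : orderOf g ∣ 4 := orderOf_dvd_of_pow_eq_one (by
      apply Subtype.ext
      simpa using hexp g.1)
    rw [h1] at h2
    exact Nat.le_of_dvd (by norm_num) h2
  have hEq : Subgroup.center G = h43T G ⊓ Subgroup.centralizer (h43T G : Set G) :=
    Subgroup.eq_of_le_of_card_ge hZA (by rw [hZ]; exact hAcard)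
  rw [hEq]
  exact ⟨hs, Subgroup.mem_centralizer_iff.mpr (fun t ht => (hcomm t ht).symm)⟩

theorem h43_central_of_scalar {F : Type*} [Field F] (R : Subgroup (GL (Fin 4) F)) (x : R) (c : F)
    (hx : ((x : GL (Fin 4) F) : Matrix (Fin 4) (Fin 4) F) = c • (1 : Matrix (Fin 4) (Fin 4) F)) :
    x ∈ Subgroup.center R := by
  rw [Subgroup.mem_center_iff]
  intro g
  apply Subtype.ext
  apply Units.ext
  simp only [Subgroup.coe_mul, Units.val_mul, hx, Matrix.mul_smul, Matrix.smul_mul, Matrix.mul_one,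
    Matrix.one_mul]

theorem h43_scalar_of_central {F : Type*} [Field F] (R : Subgroup (GL (Fin 4) F))
    (hRi : ActsAbsolutelyIrreducibly (matrixSet R)) (x : R) (hx : x ∈ Subgroup.center R) :
    ∃ c : F, ((x : GL (Fin 4) F) : Matrix (Fin 4) (Fin 4) F) = c • (1 : Matrix (Fin 4) (Fin 4) F) := by
  apply hRi.2
  rintro m ⟨g, hg, rfl⟩
  have := (Subgroup.mem_center_iff.mp hx) ⟨g, hg⟩
  have h2 := congrArg (fun y : R => ((y : GL (Fin 4) F) : Matrix (Fin 4) (Fin 4) F)) this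
  simp only [Subgroup.coe_mul, Units.val_mul] at h2
  exact h2.symm

theorem h43_T_of_TLike {F : Type*} [Field F] (R : Subgroup (GL (Fin 4) F)) (s : R)
    (h : TLike R (s : GL (Fin 4) F)) : s ∈ h43T R := by
  obtain ⟨⟨c, hc⟩, hg⟩ := h
  refine ⟨h43_central_of_scalar R (s * s) c (by simpa using hc), fun g => ?_⟩
  obtain ⟨c', hc'⟩ := hg g g.2
  refine h43_central_of_scalar R (s * g * s⁻¹ * g⁻¹) c' ?_
  simp only [Subgroup.coe_mul, Units.val_mul, Subgroup.coe_inv]
  rw [hc', Matrix.smul_mul, Matrix.smul_mul, Units.mul_inv_cancel_right, Units.mul_inv]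

theorem h43_TLike_of_T {F : Type*} [Field F] (R : Subgroup (GL (Fin 4) F))
    (hRi : ActsAbsolutelyIrreducibly (matrixSet R)) (s : R) (h : s ∈ h43T R) :
    TLike R (s : GL (Fin 4) F) := by
  obtain ⟨h2, hc⟩ := h
  refine ⟨?_, fun g hg => ?_⟩
  · obtain ⟨c, hc⟩ := h43_scalar_of_central R hRi _ h2
    exact ⟨c, by simpa using hc⟩
  · obtain ⟨c, hc'⟩ := h43_scalar_of_central R hRi _ (hc ⟨g, hg⟩)
    refine ⟨c, ?_⟩
    simp only [Subgroup.coe_mul, Units.val_mul, Subgroup.coe_inv] at hc'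
    have h3 := congrArg (fun M => M * ((g : Matrix (Fin 4) (Fin 4) F) *
      ((s : GL (Fin 4) F) : Matrix (Fin 4) (Fin 4) F))) hc'
    beta_reduce at h3
    rw [Matrix.smul_mul, Matrix.one_mul] at h3
    rw [← h3, ← Matrix.mul_assoc, Units.inv_mul_cancel_right, Units.inv_mul_cancel_right]

/-- AELT1 (L). -/
theorem s60_tcenter {F : Type*} [Field F] [Fintype F] (h2 : (2 : F) ≠ 0) (R : Subgroup (GL (Fin 4) F))
    (hRs : IsSymplecticTypeGroup 2 R) (hRi : ActsAbsolutelyIrreducibly (matrixSet R))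
    (hRZ : Nat.card (Subgroup.center R) = 4) :
    ∀ s ∈ R, TLike R s → (∀ t ∈ R, TLike R t → (s : Matrix (Fin 4) (Fin 4) F) * (t : Matrix (Fin 4) (Fin 4) F) = (t : Matrix (Fin 4) (Fin 4) F) * (s : Matrix (Fin 4) (Fin 4) F)) →
      ∃ c : F, (s : Matrix (Fin 4) (Fin 4) F) = c • (1 : Matrix (Fin 4) (Fin 4) F) := by
  intro s hs hsT hcomm
  have hexp : ∀ g : R, g ^ 4 = 1 := by
    intro g
    have h4 : Monoid.exponent R = 4 := hRs.exponent_eq.trans (by norm_num)
    have h5 := Monoid.pow_exponent_eq_one g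
    rw [h4] at h5
    exact h5
  have hc2 : ∀ t ∈ h43T R, (⟨s, hs⟩ : R) * t = t * ⟨s, hs⟩ := by
    intro t ht
    have hT := h43_TLike_of_T R hRi t ht
    have := hcomm t t.2 hT
    apply Subtype.ext; apply Units.ext
    simpa using this
  have hmem := h43_tcenter_abs hRs.cyclic_of_characteristic hexp hRZ ⟨s, hs⟩
    (h43_T_of_TLike R ⟨s, hs⟩ hsT) hc2
  exact h43_scalar_of_central R hRi ⟨s, hs⟩ hmem

end Cfsg.Agent.Lib.helper89.S60
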