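import Mathlib
import Cfsg.Agent.Lib.helper89.S60Defs
import Cfsg.Agent.Lib.helper43.S60AELT1

set_option autoImplicit false

namespace Cfsg.Agent.Lib.helper89.S60

open Matrix Cfsg Cfsg.Geo

theorem h43_comm_sq {G : Type*} [Group G] (t g : G) (ht2 : t * t ∈ Subgroup.center G)
    (hz : t * g * t⁻¹ * g⁻¹ ∈ Subgroup.center G) :
    (t * g * t⁻¹ * g⁻¹) * (t * g * t⁻¹ * g⁻¹) = 1 := by
  have hc := (Subgroup.mem_center_iff.mp hz) t
  have h2 := (Subgroup.mem_center_iff.mp ht2) g
  have e1 : (t * g * t⁻¹ * g⁻¹) * (t * g * t⁻¹ * g⁻¹) =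
      ((t * g * t⁻¹ * g⁻¹) * t) * g * t⁻¹ * g⁻¹ := by group
  rw [e1, ← hc]
  have e2 : t * (t * g * t⁻¹ * g⁻¹) * g * t⁻¹ * g⁻¹ = ((t * t) * g) * (t * t)⁻¹ * g⁻¹ := by group
  rw [e2, ← h2]
  group

theorem h43_comm_iff {G : Type*} [Group G] (t g : G) : t * g * t⁻¹ * g⁻¹ = 1 ↔ t * g = g * t := by
  constructor
  · intro h
    have : t * g = (t * g * t⁻¹ * g⁻¹) * (g * t) := by group
    rw [this, h, one_mul]
  · intro h
    rw [h]; group

theorem h43_mem_cent_single {G : Type*} [Group G] (t g : G) :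
    g ∈ Subgroup.centralizer ({t} : Set G) ↔ t * g = g * t := by
  rw [Subgroup.mem_centralizer_iff]
  constructor
  · intro h
    exact h t rfl
  · intro h x hx
    rw [Set.mem_singleton_iff] at hx
    subst hx
    exact h

theorem h43_cent_index {G : Type*} [Group G] [Finite G]
    (hZ2 : ∀ z ∈ Subgroup.center G, ∀ z' ∈ Subgroup.center G, z * z = 1 → z' * z' = 1 →
      z ≠ 1 → z' ≠ 1 → z = z')
    (t : G) (ht : t ∈ h43T G) : (Subgroup.centralizer ({t} : Set G)).index ≤ 2 := by
  by_cases htop : Subgroup.centralizer ({t} : Set G) = ⊤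
  · rw [htop, Subgroup.index_top]; norm_num
  · obtain ⟨a, -, ha⟩ := SetLike.exists_of_lt (lt_top_iff_ne_top.mpr htop)
    have hkey : ∀ g, g ∉ Subgroup.centralizer ({t} : Set G) → t * g * t⁻¹ * g⁻¹ ≠ 1 := by
      intro g hg h1
      exact hg ((h43_mem_cent_single t g).mpr ((h43_comm_iff t g).mp h1))
    have h2 : (Subgroup.centralizer ({t} : Set G)).index = 2 := by
      rw [Subgroup.index_eq_two_iff]
      refine ⟨a, fun b => ?_⟩
      by_cases hb : b ∈ Subgroup.centralizer ({t} : Set G)
      · refine Or.inr ⟨hb, fun hba => ha ?_⟩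
        have := Subgroup.mul_mem _ (Subgroup.inv_mem _ hb) hba
        simpa using this
      · refine Or.inl ⟨?_, hb⟩
        have hzb := ht.2 b
        have hza := ht.2 a
        have hEq := hZ2 _ hzb _ hza (h43_comm_sq t b ht.1 hzb) (h43_comm_sq t a ht.1 hza)
          (hkey b hb) (hkey a ha)
        rw [h43_mem_cent_single, ← h43_comm_iff]
        have e : t * (b * a) * t⁻¹ * (b * a)⁻¹ =
            (t * b * t⁻¹ * b⁻¹) * (b * (t * a * t⁻¹ * a⁻¹)) * b⁻¹ := by group
        rw [e, (Subgroup.mem_center_iff.mp hza) b, ← hEq]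
        have e2 : t * b * t⁻¹ * b⁻¹ * (t * b * t⁻¹ * b⁻¹ * b) * b⁻¹ =
            (t * b * t⁻¹ * b⁻¹) * (t * b * t⁻¹ * b⁻¹) := by group
        rw [e2]
        exact h43_comm_sq t b ht.1 hzb
    exact h2.le

theorem h43_step {G : Type*} [Group G] [Finite G]
    (hidx : ∀ t ∈ h43T G, (Subgroup.centralizer ({t} : Set G)).index ≤ 2)
    (S : Subgroup G) (t : G) (ht : t ∈ h43T G) (htS : t ∉ S) :
    Nat.card (Subgroup.centralizer (S : Set G)) * Nat.card S ≤
      Nat.card (Subgroup.centralizer ((S ⊔ Subgroup.zpowers t : Subgroup G) : Set G)) *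
        Nat.card (S ⊔ Subgroup.zpowers t : Subgroup G) ∧
    Nat.card S < Nat.card (S ⊔ Subgroup.zpowers t : Subgroup G) := by
  have hle : S ≤ S ⊔ Subgroup.zpowers t := le_sup_left
  have htS' : t ∈ S ⊔ Subgroup.zpowers t :=
    (le_sup_right : Subgroup.zpowers t ≤ S ⊔ Subgroup.zpowers t) (Subgroup.mem_zpowers t)
  have hne : S ≠ S ⊔ Subgroup.zpowers t := by
    intro h
    apply htS
    rw [h]
    exact htS'
  have hSpos : 0 < Nat.card S := Nat.card_pos
  have h1 : 2 * Nat.card S ≤ Nat.card (S ⊔ Subgroup.zpowers t : Subgroup G) := by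
    obtain ⟨k, hk⟩ := Subgroup.card_dvd_of_le hle
    have hk1 : k ≠ 1 := by
      rintro rfl
      rw [mul_one] at hk
      exact hne (Subgroup.eq_of_le_of_card_ge hle hk.le)
    have hk0 : k ≠ 0 := by
      rintro rfl
      rw [mul_zero] at hk
      exact (Nat.card_pos (α := (S ⊔ Subgroup.zpowers t : Subgroup G))).ne' hk
    have hk2 : 2 ≤ k := by omega
    rw [hk]
    calc 2 * Nat.card S = Nat.card S * 2 := by ring
      _ ≤ Nat.card S * k := Nat.mul_le_mul_left _ hk2
  have h2 : Subgroup.centralizer (S : Set G) ⊓ Subgroup.centralizer ({t} : Set G) ≤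
      Subgroup.centralizer ((S ⊔ Subgroup.zpowers t : Subgroup G) : Set G) := by
    intro x hx
    have hle' : S ⊔ Subgroup.zpowers t ≤ Subgroup.centralizer ({x} : Set G) := by
      apply sup_le
      · intro s hs
        rw [h43_mem_cent_single]
        exact ((Subgroup.mem_centralizer_iff.mp hx.1) s hs).symm
      · rw [Subgroup.zpowers_le, h43_mem_cent_single]
        exact ((h43_mem_cent_single t x).mp hx.2).symm
    rw [Subgroup.mem_centralizer_iff]
    intro h hh
    exact ((h43_mem_cent_single x h).mp (hle' hh)).symm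
  have h3 : Nat.card (Subgroup.centralizer (S : Set G)) ≤
      2 * Nat.card (Subgroup.centralizer ((S ⊔ Subgroup.zpowers t : Subgroup G) : Set G)) := by
    have hA := Subgroup.card_mul_index (Subgroup.centralizer (S : Set G))
    have hAB := Subgroup.card_mul_index
      (Subgroup.centralizer (S : Set G) ⊓ Subgroup.centralizer ({t} : Set G))
    have hle2 := Subgroup.index_inf_le (H := Subgroup.centralizer (S : Set G))
      (K := Subgroup.centralizer ({t} : Set G))
    have hB := hidx t ht
    have hApos : 0 < (Subgroup.centralizer (S : Set G)).index :=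
      Nat.pos_of_ne_zero Subgroup.index_ne_zero_of_finite
    have hcard := Subgroup.card_le_of_le h2
    have h4 : Nat.card (Subgroup.centralizer (S : Set G)) *
          (Subgroup.centralizer (S : Set G)).index ≤
        (2 * Nat.card (Subgroup.centralizer (S : Set G) ⊓ Subgroup.centralizer ({t} : Set G) :
            Subgroup G)) * (Subgroup.centralizer (S : Set G)).index := by
      rw [hA, ← hAB]
      calc Nat.card (Subgroup.centralizer (S : Set G) ⊓ Subgroup.centralizer ({t} : Set G) :
              Subgroup G) *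
            (Subgroup.centralizer (S : Set G) ⊓ Subgroup.centralizer ({t} : Set G)).index
          ≤ Nat.card (Subgroup.centralizer (S : Set G) ⊓ Subgroup.centralizer ({t} : Set G) :
              Subgroup G) *
            ((Subgroup.centralizer (S : Set G)).index *
              (Subgroup.centralizer ({t} : Set G)).index) := Nat.mul_le_mul_left _ hle2
        _ ≤ Nat.card (Subgroup.centralizer (S : Set G) ⊓ Subgroup.centralizer ({t} : Set G) :
              Subgroup G) * ((Subgroup.centralizer (S : Set G)).index * 2) :=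
            Nat.mul_le_mul_left _ (Nat.mul_le_mul_left _ hB)
        _ = _ := by ring
    have h5 := Nat.le_of_mul_le_mul_right h4 hApos
    omega
  refine ⟨?_, by omega⟩
  calc Nat.card (Subgroup.centralizer (S : Set G)) * Nat.card S
      ≤ (2 * Nat.card (Subgroup.centralizer ((S ⊔ Subgroup.zpowers t : Subgroup G) : Set G))) *
          Nat.card S := Nat.mul_le_mul_right _ h3
    _ = Nat.card (Subgroup.centralizer ((S ⊔ Subgroup.zpowers t : Subgroup G) : Set G)) *
          (2 * Nat.card S) := by ring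
    _ ≤ _ := Nat.mul_le_mul_left _ h1

theorem h43_cent_bound {G : Type*} [Group G] [Finite G] (hcard : Nat.card G = 64)
    (hZ : Nat.card (Subgroup.center G) = 4)
    (hidx : ∀ t ∈ h43T G, (Subgroup.centralizer ({t} : Set G)).index ≤ 2) :
    256 ≤ Nat.card (Subgroup.centralizer (h43T G : Set G)) * Nat.card (h43T G) := by
  have key : ∀ k : ℕ, ∀ S : Subgroup G, S ≤ h43T G →
      256 ≤ Nat.card (Subgroup.centralizer (S : Set G)) * Nat.card S → 64 - Nat.card S ≤ k →
      256 ≤ Nat.card (Subgroup.centralizer (h43T G : Set G)) * Nat.card (h43T G) := by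
    intro k
    induction k with
    | zero =>
      intro S hST hP hk
      have hT64 : Nat.card (h43T G) ≤ 64 := hcard ▸ Subgroup.card_le_card_group (h43T G)
      have hEq : S = h43T G := Subgroup.eq_of_le_of_card_ge hST (by omega)
      rw [← hEq]; exact hP
    | succ k ih =>
      intro S hST hP hk
      by_cases hEq : S = h43T G
      · rw [← hEq]; exact hP
      · obtain ⟨t, ht, htS⟩ := SetLike.exists_of_lt (lt_of_le_of_ne hST hEq)
        obtain ⟨hstep, hlt⟩ := h43_step hidx S t ht htS
        exact ih (S ⊔ Subgroup.zpowers t)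
          (sup_le hST (by rw [Subgroup.zpowers_le]; exact ht)) (le_trans hP hstep) (by omega)
  have hctop : Subgroup.centralizer ((Subgroup.center G : Subgroup G) : Set G) = ⊤ := by
    rw [eq_top_iff]
    intro x _
    rw [Subgroup.mem_centralizer_iff]
    intro h hh
    exact ((Subgroup.mem_center_iff.mp hh) x).symm
  apply key 64 (Subgroup.center G) (h43_center_le_T G) _ (by omega)
  rw [hctop, Subgroup.card_top, hcard, hZ]

theorem h43_sq_abs {G : Type*} [Group G] [Finite G] (hcard : Nat.card G = 64)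
    (hZ : Nat.card (Subgroup.center G) = 4) (hexp : ∀ g : G, g ^ 4 = 1)
    (hZ2 : ∀ z ∈ Subgroup.center G, ∀ z' ∈ Subgroup.center G, z * z = 1 → z' * z' = 1 →
      z ≠ 1 → z' ≠ 1 → z = z')
    (hT : ∀ s ∈ h43T G, (∀ t ∈ h43T G, s * t = t * s) → s ∈ Subgroup.center G) :
    h43T G = ⊤ := by
  by_contra hne
  have hidx := fun t ht => h43_cent_index hZ2 t ht
  have hb := h43_cent_bound hcard hZ hidx
  have hT32 : Nat.card (h43T G) ≤ 32 := by
    obtain ⟨k, hk⟩ := Subgroup.card_subgroup_dvd_card (h43T G)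
    rw [hcard] at hk
    have hk1 : k ≠ 1 := by
      rintro rfl
      apply hne
      exact Subgroup.eq_top_of_card_eq _ (by rw [hcard]; omega)
    have hk0 : k ≠ 0 := by rintro rfl; omega
    have hk2 : 2 ≤ k := by omega
    have : Nat.card (h43T G) * 2 ≤ 64 := by
      rw [hk]; exact Nat.mul_le_mul_left _ hk2
    omega
  have hC8 : 8 ≤ Nat.card (Subgroup.centralizer (h43T G : Set G)) := by
    by_contra hlt
    have h7 : Nat.card (Subgroup.centralizer (h43T G : Set G)) ≤ 7 := by omega
    have : Nat.card (Subgroup.centralizer (h43T G : Set G)) * Nat.card (h43T G) ≤ 7 * 32 :=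
      Nat.mul_le_mul h7 hT32
    omega
  have hZC : Subgroup.center G ≤ Subgroup.centralizer (h43T G : Set G) :=
    Subgroup.center_le_centralizer _
  have hlt : Subgroup.center G < Subgroup.centralizer (h43T G : Set G) := by
    refine lt_of_le_of_ne hZC (fun h => ?_)
    rw [← h, hZ] at hC8
    omega
  obtain ⟨c₀, hc₀C, hc₀Z⟩ := SetLike.exists_of_lt hlt
  haveI : Fact (Nat.Prime 2) := ⟨Nat.prime_two⟩
  have hp : IsPGroup 2 G := IsPGroup.of_card (n := 6) (by rw [hcard]; norm_num)
  obtain ⟨n, hn⟩ := Subgroup.nilpotent_iff_lowerCentralSeries.mp hp.isNilpotent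
  haveI : (h43T G).Characteristic := h43T_char G
  have hCnormal : (Subgroup.centralizer (h43T G : Set G)).Normal := inferInstance
  have desc : ∀ j : ℕ, ∀ k : ℕ, k + j = n → ∀ c ∈ Subgroup.centralizer (h43T G : Set G),
      c ∈ (⊤ : Subgroup G).lowerCentralSeries k → c ∉ Subgroup.center G →
      ∃ c' ∈ Subgroup.centralizer (h43T G : Set G), c' ∉ Subgroup.center G ∧
        ∀ g, c' * g * c'⁻¹ * g⁻¹ ∈ Subgroup.center G := by
    intro j
    induction j with
    | zero =>
      intro k hk c hcC hck hcZ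
      have hkn : k = n := by omega
      rw [hkn, hn, Subgroup.mem_bot] at hck
      exact absurd (hck ▸ Subgroup.one_mem _) hcZ
    | succ j ih =>
      intro k hk c hcC hck hcZ
      by_cases hall : ∀ g, c * g * c⁻¹ * g⁻¹ ∈ Subgroup.center G
      · exact ⟨c, hcC, hcZ, hall⟩
      · push Not at hall
        obtain ⟨g, hg⟩ := hall
        apply ih (k + 1) (by omega) (c * g * c⁻¹ * g⁻¹) ?_ ?_ hg
        · have h1 : g * c⁻¹ * g⁻¹ ∈ Subgroup.centralizer (h43T G : Set G) :=
            hCnormal.conj_mem _ (Subgroup.inv_mem _ hcC) g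
          have h2 := Subgroup.mul_mem _ hcC h1
          have e : c * g * c⁻¹ * g⁻¹ = c * (g * c⁻¹ * g⁻¹) := by group
          rw [e]; exact h2
        · rw [Subgroup.lowerCentralSeries_succ]
          have := Subgroup.commutator_mem_commutator hck (Subgroup.mem_top g)
          rw [commutatorElement_def] at this
          exact this
  obtain ⟨c, hcC, hcZ, hcc⟩ := desc n 0 (by omega) c₀ hc₀C
    (by rw [Subgroup.lowerCentralSeries_zero]; exact Subgroup.mem_top _) hc₀Z
  by_cases hsq : c * c ∈ Subgroup.center G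
  · have hcT : c ∈ h43T G := ⟨hsq, hcc⟩
    exact hcZ (hT c hcT (fun t ht => ((Subgroup.mem_centralizer_iff.mp hcC) t ht).symm))
  · have hc2T : c * c ∈ h43T G := by
      refine ⟨?_, fun g => ?_⟩
      · have : c * c * (c * c) = c ^ 4 := by
          rw [show (4 : ℕ) = 2 + 2 from rfl, pow_add, pow_two]
        rw [this, hexp]; exact Subgroup.one_mem _
      · have hz := hcc g
        have h1 : c * c * g * (c * c)⁻¹ * g⁻¹ = c * (c * g * c⁻¹ * g⁻¹) * g * c⁻¹ * g⁻¹ := by
          group
        rw [h1, (Subgroup.mem_center_iff.mp hz) c]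
        have h2 : c * g * c⁻¹ * g⁻¹ * c * g * c⁻¹ * g⁻¹ =
            (c * g * c⁻¹ * g⁻¹) * (c * g * c⁻¹ * g⁻¹) := by group
        rw [h2]; exact Subgroup.mul_mem _ hz hz
    have hc2C : c * c ∈ Subgroup.centralizer (h43T G : Set G) := Subgroup.mul_mem _ hcC hcC
    exact hsq (hT (c * c) hc2T
      (fun t ht => ((Subgroup.mem_centralizer_iff.mp hc2C) t ht).symm))

/-- AELT2 (XL, CRITICAL). -/
theorem s60_sq_scalar {F : Type*} [Field F] [Fintype F] (h2 : (2 : F) ≠ 0) (R : Subgroup (GL (Fin 4) F))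
    (hRs : IsSymplecticTypeGroup 2 R) (hRi : ActsAbsolutelyIrreducibly (matrixSet R))
    (hR6 : Nat.card R = 64) (hRZ : Nat.card (Subgroup.center R) = 4)
    (hT : ∀ s ∈ R, TLike R s → (∀ t ∈ R, TLike R t → (s : Matrix (Fin 4) (Fin 4) F) * (t : Matrix (Fin 4) (Fin 4) F) = (t : Matrix (Fin 4) (Fin 4) F) * (s : Matrix (Fin 4) (Fin 4) F)) →
      ∃ c : F, (s : Matrix (Fin 4) (Fin 4) F) = c • (1 : Matrix (Fin 4) (Fin 4) F)) :
    ∀ s ∈ R, TLike R s := by
  have hexp : ∀ g : R, g ^ 4 = 1 := by
    intro g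
    have h4 : Monoid.exponent R = 4 := hRs.exponent_eq.trans (by norm_num)
    have h5 := Monoid.pow_exponent_eq_one g
    rw [h4] at h5
    exact h5
  have aux : ∀ z ∈ Subgroup.center R, z * z = 1 → z ≠ 1 →
      ((z : GL (Fin 4) F) : Matrix (Fin 4) (Fin 4) F) = -1 := by
    intro z hz hzz hz1
    obtain ⟨c, hc⟩ := h43_scalar_of_central R hRi z hz
    have h1 : ((z : GL (Fin 4) F) : Matrix (Fin 4) (Fin 4) F) *
        ((z : GL (Fin 4) F) : Matrix (Fin 4) (Fin 4) F) = 1 := by
      have := congrArg (fun y : R => ((y : GL (Fin 4) F) : Matrix (Fin 4) (Fin 4) F)) hzz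
      simpa using this
    rw [hc, Matrix.smul_mul, Matrix.mul_smul, Matrix.mul_one, smul_smul] at h1
    have h2' : c * c = 1 := by
      have := congrFun (congrFun h1 0) 0
      simpa using this
    have h3 : c = 1 ∨ c = -1 := by
      have : (c - 1) * (c + 1) = 0 := by linear_combination h2'
      rcases mul_eq_zero.mp this with h | h
      · left; linear_combination h
      · right; linear_combination h
    rcases h3 with rfl | rfl
    · exfalso; apply hz1
      apply Subtype.ext; apply Units.ext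
      rw [hc]; simp
    · rw [hc]; simp
  have hZ2 : ∀ z ∈ Subgroup.center R, ∀ z' ∈ Subgroup.center R, z * z = 1 → z' * z' = 1 →
      z ≠ 1 → z' ≠ 1 → z = z' := by
    intro z hz z' hz' hzz hzz' hz1 hz1'
    apply Subtype.ext; apply Units.ext
    rw [aux z hz hzz hz1, aux z' hz' hzz' hz1']
  have hTabs : ∀ s ∈ h43T R, (∀ t ∈ h43T R, s * t = t * s) → s ∈ Subgroup.center R := by
    intro s hs hc
    have hsT := h43_TLike_of_T R hRi s hs
    obtain ⟨c, hcc⟩ := hT s s.2 hsT (fun t ht htT => by
      have := hc ⟨t, ht⟩ (h43_T_of_TLike R ⟨t, ht⟩ htT)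
      have h2 := congrArg (fun y : R => ((y : GL (Fin 4) F) : Matrix (Fin 4) (Fin 4) F)) this
      simpa using h2)
    exact h43_central_of_scalar R s c hcc
  have htop := h43_sq_abs hR6 hRZ hexp hZ2 hTabs
  intro s hs
  have hmem : (⟨s, hs⟩ : R) ∈ h43T R := by rw [htop]; exact Subgroup.mem_top _
  exact h43_TLike_of_T R hRi ⟨s, hs⟩ hmem

end Cfsg.Agent.Lib.helper89.S60
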