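import Mathlib
import Cfsg.Agent.Lib.helper89.S60Defs

set_option autoImplicit false
set_option maxHeartbeats 1600000

namespace Cfsg.Agent.Lib.helper89.S60

open Matrix Cfsg Cfsg.Geo


section Hur
variable {F : Type*} [Field F] {A : Type*} [Ring A] [Algebra F A]

theorem h43_hur_inv (I J K : A)
    (hII : I * I = -1) (hJJ : J * J = -1) (hKK : K * K = -1)
    (hIJ : I * J = K) (hJI : J * I = -K) (hJK : J * K = I) (hKJ : K * J = -I)
    (hKI : K * I = J) (hIK : I * K = -J) :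
    (1 + I + J + K) * (1 - I - J - K) = (4 : F) • (1 : A) ∧
      (1 - I - J - K) * (1 + I + J + K) = (4 : F) • (1 : A) := by
  constructor
  · simp only [mul_add, add_mul, mul_sub, sub_mul, mul_one, one_mul, hII, hJJ, hKK, hIJ, hJI, hJK,
      hKJ, hKI, hIK]
    module
  · simp only [mul_add, add_mul, mul_sub, sub_mul, mul_one, one_mul, hII, hJJ, hKK, hIJ, hJI, hJK,
      hKJ, hKI, hIK]
    module

theorem h43_hur_cube (I J K : A)
    (hII : I * I = -1) (hJJ : J * J = -1) (hKK : K * K = -1)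
    (hIJ : I * J = K) (hJI : J * I = -K) (hJK : J * K = I) (hKJ : K * J = -I)
    (hKI : K * I = J) (hIK : I * K = -J) :
    (1 + I + J + K) * (1 + I + J + K) * (1 + I + J + K) = (-8 : F) • (1 : A) := by
  have e : (1 + I + J + K) * (1 + I + J + K) = (-4 : F) • (1 : A) + (2 : F) • (1 + I + J + K) := by
    simp only [mul_add, add_mul, mul_sub, sub_mul, mul_one, one_mul, hII, hJJ, hKK, hIJ, hJI, hJK,
      hKJ, hKI, hIK]
    module
  rw [e, add_mul, smul_mul_assoc, one_mul, smul_mul_assoc, e]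
  module

theorem h43_hur_c0 (I J K s : A)
    (hII : I * I = -1) (hJJ : J * J = -1) (hKK : K * K = -1)
    (hIJ : I * J = K) (hJI : J * I = -K) (hJK : J * K = I) (hKJ : K * J = -I)
    (hKI : K * I = J) (hIK : I * K = -J)
    (hI : s * I = I * s) (hJ : s * J = J * s) (hK : s * K = K * s) :
    (1 + I + J + K) * s * (1 - I - J - K) = (4 : F) • s := by
  have e1 : s * (1 - I - J - K) = (1 - I - J - K) * s := by
    simp only [mul_sub, sub_mul, mul_one, one_mul, hI, hJ, hK]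
  rw [mul_assoc, e1, ← mul_assoc, (h43_hur_inv (F := F) I J K hII hJJ hKK hIJ hJI hJK hKJ hKI hIK).1,
    smul_mul_assoc, one_mul]

theorem h43_hur_cI (I J K s : A)
    (hII : I * I = -1) (hJJ : J * J = -1) (hKK : K * K = -1)
    (hIJ : I * J = K) (hJI : J * I = -K) (hJK : J * K = I) (hKJ : K * J = -I)
    (hKI : K * I = J) (hIK : I * K = -J)
    (hI : s * I = I * s) (hJ : s * J = -(J * s)) (hK : s * K = -(K * s)) :
    (1 + I + J + K) * s * (1 - I - J - K) = (4 : F) • (K * s) := by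
  have e1 : s * (1 - I - J - K) = (1 - I + J + K) * s := by
    simp only [mul_sub, sub_mul, add_mul, mul_one, one_mul, hI, hJ, hK]
    noncomm_ring
  have e2 : (1 + I + J + K) * (1 - I + J + K) = (4 : F) • K := by
    simp only [mul_add, add_mul, mul_sub, sub_mul, mul_one, one_mul, hII, hJJ, hKK, hIJ, hJI, hJK,
      hKJ, hKI, hIK]
    module
  rw [mul_assoc, e1, ← mul_assoc, e2, smul_mul_assoc]

theorem h43_hur_cJ (I J K s : A)
    (hII : I * I = -1) (hJJ : J * J = -1) (hKK : K * K = -1)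
    (hIJ : I * J = K) (hJI : J * I = -K) (hJK : J * K = I) (hKJ : K * J = -I)
    (hKI : K * I = J) (hIK : I * K = -J)
    (hI : s * I = -(I * s)) (hJ : s * J = J * s) (hK : s * K = -(K * s)) :
    (1 + I + J + K) * s * (1 - I - J - K) = (4 : F) • (I * s) := by
  have e1 : s * (1 - I - J - K) = (1 + I - J + K) * s := by
    simp only [mul_sub, sub_mul, add_mul, mul_one, one_mul, hI, hJ, hK]
    noncomm_ring
  have e2 : (1 + I + J + K) * (1 + I - J + K) = (4 : F) • I := by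
    simp only [mul_add, add_mul, mul_sub, sub_mul, mul_one, one_mul, hII, hJJ, hKK, hIJ, hJI, hJK,
      hKJ, hKI, hIK]
    module
  rw [mul_assoc, e1, ← mul_assoc, e2, smul_mul_assoc]

theorem h43_hur_cK (I J K s : A)
    (hII : I * I = -1) (hJJ : J * J = -1) (hKK : K * K = -1)
    (hIJ : I * J = K) (hJI : J * I = -K) (hJK : J * K = I) (hKJ : K * J = -I)
    (hKI : K * I = J) (hIK : I * K = -J)
    (hI : s * I = -(I * s)) (hJ : s * J = -(J * s)) (hK : s * K = K * s) :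
    (1 + I + J + K) * s * (1 - I - J - K) = (4 : F) • (J * s) := by
  have e1 : s * (1 - I - J - K) = (1 + I + J - K) * s := by
    simp only [mul_sub, sub_mul, add_mul, mul_one, one_mul, hI, hJ, hK]
    noncomm_ring
  have e2 : (1 + I + J + K) * (1 + I + J - K) = (4 : F) • J := by
    simp only [mul_add, add_mul, mul_sub, sub_mul, mul_one, one_mul, hII, hJJ, hKK, hIJ, hJI, hJK,
      hKJ, hKI, hIK]
    module
  rw [mul_assoc, e1, ← mul_assoc, e2, smul_mul_assoc]

end Hur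


theorem h43_tr0 {F : Type*} [Field F] (h2 : (2 : F) ≠ 0) (X Y : Matrix (Fin 4) (Fin 4) F)
    (hY : Y * Y = 1) (h : X * Y = -(Y * X)) : Matrix.trace X = 0 := by
  have e : X = -(Y * X * Y) := by
    rw [Matrix.mul_assoc, h, Matrix.mul_neg, neg_neg, ← Matrix.mul_assoc, hY, Matrix.one_mul]
  have h1 : Matrix.trace X = -Matrix.trace X := by
    conv_lhs => rw [e]
    rw [Matrix.trace_neg, Matrix.trace_mul_comm, ← Matrix.mul_assoc, hY, Matrix.one_mul]
  have h3 : (2 : F) * Matrix.trace X = 0 := by linear_combination h1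
  rcases mul_eq_zero.mp h3 with h4 | h4
  · exact absurd h4 h2
  · exact h4

theorem h43_smul3 {F : Type*} [Field F] (h2 : (2 : F) ≠ 0) (X : Matrix (Fin 4) (Fin 4) F) :
    (2⁻¹ : F) • ((2⁻¹ : F) • ((4 : F) • X)) = X := by
  rw [smul_smul, smul_smul]
  have : (2⁻¹ * 2⁻¹ * 4 : F) = 1 := by field_simp <;> norm_num
  rw [this, one_smul]

theorem h43_scale {F : Type*} [Field F] (h2 : (2 : F) ≠ 0) (P s Q X : Matrix (Fin 4) (Fin 4) F)
    (h : P * s * Q = (4 : F) • X) : ((2⁻¹ : F) • P) * s * ((2⁻¹ : F) • Q) = X := by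
  rw [smul_mul_assoc, smul_mul_assoc, mul_smul_comm, h]
  exact h43_smul3 h2 X

theorem h43_scale2 {F : Type*} [Field F] (h2 : (2 : F) ≠ 0) (P Q : Matrix (Fin 4) (Fin 4) F)
    (h : P * Q = (4 : F) • (1 : Matrix (Fin 4) (Fin 4) F)) : ((2⁻¹ : F) • P) * ((2⁻¹ : F) • Q) = 1 := by
  rw [smul_mul_assoc, mul_smul_comm, h]
  exact h43_smul3 h2 1

theorem h43_scale3 {F : Type*} [Field F] (h2 : (2 : F) ≠ 0) (P : Matrix (Fin 4) (Fin 4) F)
    (h : P * P * P = (-8 : F) • (1 : Matrix (Fin 4) (Fin 4) F)) :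
    ((2⁻¹ : F) • P) * ((2⁻¹ : F) • P) * ((2⁻¹ : F) • P) = -1 := by
  have e : ((2⁻¹ : F) • P) * ((2⁻¹ : F) • P) * ((2⁻¹ : F) • P) =
      (2⁻¹ : F) • ((2⁻¹ : F) • ((2⁻¹ : F) • (P * P * P))) := by
    simp only [smul_mul_assoc, mul_smul_comm]
  rw [e, h, smul_smul, smul_smul, smul_smul]
  have : (2⁻¹ * 2⁻¹ * 2⁻¹ * -8 : F) = -1 := by field_simp <;> norm_num
  rw [this, neg_smul, one_smul]

theorem h43_mem_normalizer_of_finite {G : Type*} [Group G] (H : Subgroup G) [Finite H] (g : G)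
    (h : ∀ x ∈ H, g * x * g⁻¹ ∈ H) : g ∈ Subgroup.normalizer (H : Set G) := by
  rw [Subgroup.mem_normalizer_iff]
  intro x
  constructor
  · exact h x
  · intro hx
    let f : H → H := fun y => ⟨g * y * g⁻¹, h y y.2⟩
    have hinj : Function.Injective f := by
      intro y y' hyy'
      have h1 := congrArg Subtype.val hyy'
      simp only [f] at h1
      apply Subtype.ext
      simpa using h1
    obtain ⟨y, hy⟩ := (Finite.injective_iff_surjective.mp hinj) ⟨g * x * g⁻¹, hx⟩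
    have h1 := congrArg Subtype.val hy
    simp only [f] at h1
    have hxy : (y : G) = x := by simpa using h1
    rw [← hxy]; exact y.2

theorem h43_norm_of_gens {F : Type*} [Field F] [Fintype F] (R : Subgroup (GL (Fin 4) F)) (w : F)
    (zw : GL (Fin 4) F) (hzwR : zw ∈ R)
    (hzw : (zw : Matrix (Fin 4) (Fin 4) F) = w • (1 : Matrix (Fin 4) (Fin 4) F))
    (t : Fin 4 → GL (Fin 4) F) (hfr : Frame R w t) (g : GL (Fin 4) F)
    (hg : ∀ j, g * t j * g⁻¹ ∈ R) : g ∈ subgroupNormalizer R := by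
  obtain ⟨htR, htsq, htanti, htgen⟩ := hfr
  apply h43_mem_normalizer_of_finite
  intro s hs
  obtain ⟨a, e, hse⟩ := htgen s hs
  have hs' : s = zw ^ e * ((if a 0 then t 0 else 1) * (if a 1 then t 1 else 1) *
      (if a 2 then t 2 else 1) * (if a 3 then t 3 else 1)) := by
    apply Units.ext
    rw [hse, Units.val_mul, Units.val_pow_eq_pow_val, hzw, smul_pow, one_pow, smul_mul_assoc,
      one_mul]
    congr 1
    simp only [Units.val_mul]
    congr 1
    · congr 1
      · congr 1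
        · split_ifs <;> rfl
        · split_ifs <;> rfl
      · split_ifs <;> rfl
    · split_ifs <;> rfl
  have hzc : g * zw * g⁻¹ = zw := by
    apply Units.ext
    rw [Units.val_mul, Units.val_mul, hzw, mul_smul_comm, mul_one, smul_mul_assoc, Units.mul_inv]
  have hconj : ∀ x y : GL (Fin 4) F, g * (x * y) * g⁻¹ = (g * x * g⁻¹) * (g * y * g⁻¹) := by
    intro x y; group
  have hpow : ∀ n : ℕ, g * zw ^ n * g⁻¹ ∈ R := by
    intro n
    have : g * zw ^ n * g⁻¹ = zw ^ n := by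
      have h1 : g * zw ^ n * g⁻¹ = (g * zw * g⁻¹) ^ n := by
        rw [conj_pow]
      rw [h1, hzc]
    rw [this]; exact Subgroup.pow_mem _ hzwR n
  have hif : ∀ (b : Bool) (j : Fin 4), g * (if b then t j else 1) * g⁻¹ ∈ R := by
    intro b j
    split_ifs
    · exact hg j
    · rw [mul_one, mul_inv_cancel]; exact Subgroup.one_mem _
  rw [hs', hconj, hconj, hconj, hconj]
  exact Subgroup.mul_mem _ (hpow e) (Subgroup.mul_mem _ (Subgroup.mul_mem _
    (Subgroup.mul_mem _ (hif _ 0) (hif _ 1)) (hif _ 2)) (hif _ 3))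

/-- EX3 (L). -/
theorem h43_s60_exists_three {F : Type*} [Field F] [Fintype F] (h2 : (2 : F) ≠ 0) (R : Subgroup (GL (Fin 4) F)) (w : F) (hG : Good R w) :
    ∃ hA hB : GL (Fin 4) F, hA ∈ subgroupNormalizer R ∧ hB ∈ subgroupNormalizer R ∧ hA ^ 3 = 1 ∧ hB ^ 3 = 1 ∧
      Matrix.trace (hA : Matrix (Fin 4) (Fin 4) F) = 1 ∧ Matrix.trace (hB : Matrix (Fin 4) (Fin 4) F) = -2 := by
  classical
  obtain ⟨t, hfr⟩ := hG.frame
  have hfr' := hfr
  obtain ⟨htR, htsq, htanti, htgen⟩ := hfr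
  have hw := hG.wsq
  obtain ⟨zw, hzwR, hzw⟩ := hG.wmem
  obtain ⟨a0, ha0⟩ : ∃ a0 : Matrix (Fin 4) (Fin 4) F, a0 = (t 0 : Matrix (Fin 4) (Fin 4) F) := ⟨_, rfl⟩
  obtain ⟨a1, ha1⟩ : ∃ a1 : Matrix (Fin 4) (Fin 4) F, a1 = (t 1 : Matrix (Fin 4) (Fin 4) F) := ⟨_, rfl⟩
  obtain ⟨a2, ha2⟩ : ∃ a2 : Matrix (Fin 4) (Fin 4) F, a2 = (t 2 : Matrix (Fin 4) (Fin 4) F) := ⟨_, rfl⟩
  obtain ⟨a3, ha3⟩ : ∃ a3 : Matrix (Fin 4) (Fin 4) F, a3 = (t 3 : Matrix (Fin 4) (Fin 4) F) := ⟨_, rfl⟩
  have h00 : a0 * a0 = 1 := by rw [ha0]; exact htsq 0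
  have h11 : a1 * a1 = 1 := by rw [ha1]; exact htsq 1
  have h22 : a2 * a2 = 1 := by rw [ha2]; exact htsq 2
  have h33 : a3 * a3 = 1 := by rw [ha3]; exact htsq 3
  have h10 : a1 * a0 = -(a0 * a1) := by rw [ha0, ha1]; exact htanti 1 0 (by decide)
  have h20 : a2 * a0 = -(a0 * a2) := by rw [ha0, ha2]; exact htanti 2 0 (by decide)
  have h30 : a3 * a0 = -(a0 * a3) := by rw [ha0, ha3]; exact htanti 3 0 (by decide)
  have h21 : a2 * a1 = -(a1 * a2) := by rw [ha1, ha2]; exact htanti 2 1 (by decide)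
  have h31 : a3 * a1 = -(a1 * a3) := by rw [ha1, ha3]; exact htanti 3 1 (by decide)
  have h32 : a3 * a2 = -(a2 * a3) := by rw [ha2, ha3]; exact htanti 3 2 (by decide)
  have k00 : ∀ x, a0 * (a0 * x) = x := fun x => by rw [← mul_assoc, h00, one_mul]
  have k11 : ∀ x, a1 * (a1 * x) = x := fun x => by rw [← mul_assoc, h11, one_mul]
  have k22 : ∀ x, a2 * (a2 * x) = x := fun x => by rw [← mul_assoc, h22, one_mul]
  have k33 : ∀ x, a3 * (a3 * x) = x := fun x => by rw [← mul_assoc, h33, one_mul]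
  have k10 : ∀ x, a1 * (a0 * x) = -(a0 * (a1 * x)) := fun x => by
    rw [← mul_assoc, h10, neg_mul, mul_assoc]
  have k20 : ∀ x, a2 * (a0 * x) = -(a0 * (a2 * x)) := fun x => by
    rw [← mul_assoc, h20, neg_mul, mul_assoc]
  have k30 : ∀ x, a3 * (a0 * x) = -(a0 * (a3 * x)) := fun x => by
    rw [← mul_assoc, h30, neg_mul, mul_assoc]
  have k21 : ∀ x, a2 * (a1 * x) = -(a1 * (a2 * x)) := fun x => by
    rw [← mul_assoc, h21, neg_mul, mul_assoc]
  have k31 : ∀ x, a3 * (a1 * x) = -(a1 * (a3 * x)) := fun x => by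
    rw [← mul_assoc, h31, neg_mul, mul_assoc]
  have k32 : ∀ x, a3 * (a2 * x) = -(a2 * (a3 * x)) := fun x => by
    rw [← mul_assoc, h32, neg_mul, mul_assoc]
  have pII : (w • a0) * (w • a0) = -1 := by
    simp only [mul_assoc, h00, h11, h22, h33, k00, k11, k22, k33, h10, h20, h30, h21, h31, h32, k10, k20, k30, k21, k31, k32, neg_mul, mul_neg, neg_neg, mul_one, one_mul, smul_mul_assoc, mul_smul_comm, smul_neg, neg_smul, one_smul, smul_smul, hw]
  have pJJ : (w • a1) * (w • a1) = -1 := by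
    simp only [mul_assoc, h00, h11, h22, h33, k00, k11, k22, k33, h10, h20, h30, h21, h31, h32, k10, k20, k30, k21, k31, k32, neg_mul, mul_neg, neg_neg, mul_one, one_mul, smul_mul_assoc, mul_smul_comm, smul_neg, neg_smul, one_smul, smul_smul, hw]
  have pKK : (-(a0 * a1)) * (-(a0 * a1)) = -1 := by
    simp only [mul_assoc, h00, h11, h22, h33, k00, k11, k22, k33, h10, h20, h30, h21, h31, h32, k10, k20, k30, k21, k31, k32, neg_mul, mul_neg, neg_neg, mul_one, one_mul, smul_mul_assoc, mul_smul_comm, smul_neg, neg_smul, one_smul, smul_smul, hw]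
  have pIJ : (w • a0) * (w • a1) = (-(a0 * a1)) := by
    simp only [mul_assoc, h00, h11, h22, h33, k00, k11, k22, k33, h10, h20, h30, h21, h31, h32, k10, k20, k30, k21, k31, k32, neg_mul, mul_neg, neg_neg, mul_one, one_mul, smul_mul_assoc, mul_smul_comm, smul_neg, neg_smul, one_smul, smul_smul, hw]
  have pJI : (w • a1) * (w • a0) = -(-(a0 * a1)) := by
    simp only [mul_assoc, h00, h11, h22, h33, k00, k11, k22, k33, h10, h20, h30, h21, h31, h32, k10, k20, k30, k21, k31, k32, neg_mul, mul_neg, neg_neg, mul_one, one_mul, smul_mul_assoc, mul_smul_comm, smul_neg, neg_smul, one_smul, smul_smul, hw]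
  have pJK : (w • a1) * (-(a0 * a1)) = (w • a0) := by
    simp only [mul_assoc, h00, h11, h22, h33, k00, k11, k22, k33, h10, h20, h30, h21, h31, h32, k10, k20, k30, k21, k31, k32, neg_mul, mul_neg, neg_neg, mul_one, one_mul, smul_mul_assoc, mul_smul_comm, smul_neg, neg_smul, one_smul, smul_smul, hw]
  have pKJ : (-(a0 * a1)) * (w • a1) = -(w • a0) := by
    simp only [mul_assoc, h00, h11, h22, h33, k00, k11, k22, k33, h10, h20, h30, h21, h31, h32, k10, k20, k30, k21, k31, k32, neg_mul, mul_neg, neg_neg, mul_one, one_mul, smul_mul_assoc, mul_smul_comm, smul_neg, neg_smul, one_smul, smul_smul, hw]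
  have pKI : (-(a0 * a1)) * (w • a0) = (w • a1) := by
    simp only [mul_assoc, h00, h11, h22, h33, k00, k11, k22, k33, h10, h20, h30, h21, h31, h32, k10, k20, k30, k21, k31, k32, neg_mul, mul_neg, neg_neg, mul_one, one_mul, smul_mul_assoc, mul_smul_comm, smul_neg, neg_smul, one_smul, smul_smul, hw]
  have pIK : (w • a0) * (-(a0 * a1)) = -(w • a1) := by
    simp only [mul_assoc, h00, h11, h22, h33, k00, k11, k22, k33, h10, h20, h30, h21, h31, h32, k10, k20, k30, k21, k31, k32, neg_mul, mul_neg, neg_neg, mul_one, one_mul, smul_mul_assoc, mul_smul_comm, smul_neg, neg_smul, one_smul, smul_smul, hw]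
  have qII : (-(a0 * (a1 * a2))) * (-(a0 * (a1 * a2))) = -1 := by
    simp only [mul_assoc, h00, h11, h22, h33, k00, k11, k22, k33, h10, h20, h30, h21, h31, h32, k10, k20, k30, k21, k31, k32, neg_mul, mul_neg, neg_neg, mul_one, one_mul, smul_mul_assoc, mul_smul_comm, smul_neg, neg_smul, one_smul, smul_smul, hw]
  have qJJ : (-(a0 * (a1 * a3))) * (-(a0 * (a1 * a3))) = -1 := by
    simp only [mul_assoc, h00, h11, h22, h33, k00, k11, k22, k33, h10, h20, h30, h21, h31, h32, k10, k20, k30, k21, k31, k32, neg_mul, mul_neg, neg_neg, mul_one, one_mul, smul_mul_assoc, mul_smul_comm, smul_neg, neg_smul, one_smul, smul_smul, hw]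
  have qKK : (-(a2 * a3)) * (-(a2 * a3)) = -1 := by
    simp only [mul_assoc, h00, h11, h22, h33, k00, k11, k22, k33, h10, h20, h30, h21, h31, h32, k10, k20, k30, k21, k31, k32, neg_mul, mul_neg, neg_neg, mul_one, one_mul, smul_mul_assoc, mul_smul_comm, smul_neg, neg_smul, one_smul, smul_smul, hw]
  have qIJ : (-(a0 * (a1 * a2))) * (-(a0 * (a1 * a3))) = (-(a2 * a3)) := by
    simp only [mul_assoc, h00, h11, h22, h33, k00, k11, k22, k33, h10, h20, h30, h21, h31, h32, k10, k20, k30, k21, k31, k32, neg_mul, mul_neg, neg_neg, mul_one, one_mul, smul_mul_assoc, mul_smul_comm, smul_neg, neg_smul, one_smul, smul_smul, hw]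
  have qJI : (-(a0 * (a1 * a3))) * (-(a0 * (a1 * a2))) = -(-(a2 * a3)) := by
    simp only [mul_assoc, h00, h11, h22, h33, k00, k11, k22, k33, h10, h20, h30, h21, h31, h32, k10, k20, k30, k21, k31, k32, neg_mul, mul_neg, neg_neg, mul_one, one_mul, smul_mul_assoc, mul_smul_comm, smul_neg, neg_smul, one_smul, smul_smul, hw]
  have qJK : (-(a0 * (a1 * a3))) * (-(a2 * a3)) = (-(a0 * (a1 * a2))) := by
    simp only [mul_assoc, h00, h11, h22, h33, k00, k11, k22, k33, h10, h20, h30, h21, h31, h32, k10, k20, k30, k21, k31, k32, neg_mul, mul_neg, neg_neg, mul_one, one_mul, smul_mul_assoc, mul_smul_comm, smul_neg, neg_smul, one_smul, smul_smul, hw]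
  have qKJ : (-(a2 * a3)) * (-(a0 * (a1 * a3))) = -(-(a0 * (a1 * a2))) := by
    simp only [mul_assoc, h00, h11, h22, h33, k00, k11, k22, k33, h10, h20, h30, h21, h31, h32, k10, k20, k30, k21, k31, k32, neg_mul, mul_neg, neg_neg, mul_one, one_mul, smul_mul_assoc, mul_smul_comm, smul_neg, neg_smul, one_smul, smul_smul, hw]
  have qKI : (-(a2 * a3)) * (-(a0 * (a1 * a2))) = (-(a0 * (a1 * a3))) := by
    simp only [mul_assoc, h00, h11, h22, h33, k00, k11, k22, k33, h10, h20, h30, h21, h31, h32, k10, k20, k30, k21, k31, k32, neg_mul, mul_neg, neg_neg, mul_one, one_mul, smul_mul_assoc, mul_smul_comm, smul_neg, neg_smul, one_smul, smul_smul, hw]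
  have qIK : (-(a0 * (a1 * a2))) * (-(a2 * a3)) = -(-(a0 * (a1 * a3))) := by
    simp only [mul_assoc, h00, h11, h22, h33, k00, k11, k22, k33, h10, h20, h30, h21, h31, h32, k10, k20, k30, k21, k31, k32, neg_mul, mul_neg, neg_neg, mul_one, one_mul, smul_mul_assoc, mul_smul_comm, smul_neg, neg_smul, one_smul, smul_smul, hw]
  have c1a0I : a0 * (w • a0) = (w • a0) * a0 := by
    simp only [mul_assoc, h00, h11, h22, h33, k00, k11, k22, k33, h10, h20, h30, h21, h31, h32, k10, k20, k30, k21, k31, k32, neg_mul, mul_neg, neg_neg, mul_one, one_mul, smul_mul_assoc, mul_smul_comm, smul_neg, neg_smul, one_smul, smul_smul, hw]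
  have c1a0J : a0 * (w • a1) = -((w • a1) * a0) := by
    simp only [mul_assoc, h00, h11, h22, h33, k00, k11, k22, k33, h10, h20, h30, h21, h31, h32, k10, k20, k30, k21, k31, k32, neg_mul, mul_neg, neg_neg, mul_one, one_mul, smul_mul_assoc, mul_smul_comm, smul_neg, neg_smul, one_smul, smul_smul, hw]
  have c1a0K : a0 * (-(a0 * a1)) = -((-(a0 * a1)) * a0) := by
    simp only [mul_assoc, h00, h11, h22, h33, k00, k11, k22, k33, h10, h20, h30, h21, h31, h32, k10, k20, k30, k21, k31, k32, neg_mul, mul_neg, neg_neg, mul_one, one_mul, smul_mul_assoc, mul_smul_comm, smul_neg, neg_smul, one_smul, smul_smul, hw]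
  have c1a1I : a1 * (w • a0) = -((w • a0) * a1) := by
    simp only [mul_assoc, h00, h11, h22, h33, k00, k11, k22, k33, h10, h20, h30, h21, h31, h32, k10, k20, k30, k21, k31, k32, neg_mul, mul_neg, neg_neg, mul_one, one_mul, smul_mul_assoc, mul_smul_comm, smul_neg, neg_smul, one_smul, smul_smul, hw]
  have c1a1J : a1 * (w • a1) = (w • a1) * a1 := by
    simp only [mul_assoc, h00, h11, h22, h33, k00, k11, k22, k33, h10, h20, h30, h21, h31, h32, k10, k20, k30, k21, k31, k32, neg_mul, mul_neg, neg_neg, mul_one, one_mul, smul_mul_assoc, mul_smul_comm, smul_neg, neg_smul, one_smul, smul_smul, hw]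
  have c1a1K : a1 * (-(a0 * a1)) = -((-(a0 * a1)) * a1) := by
    simp only [mul_assoc, h00, h11, h22, h33, k00, k11, k22, k33, h10, h20, h30, h21, h31, h32, k10, k20, k30, k21, k31, k32, neg_mul, mul_neg, neg_neg, mul_one, one_mul, smul_mul_assoc, mul_smul_comm, smul_neg, neg_smul, one_smul, smul_smul, hw]
  have c1a2I : a2 * (w • a0) = -((w • a0) * a2) := by
    simp only [mul_assoc, h00, h11, h22, h33, k00, k11, k22, k33, h10, h20, h30, h21, h31, h32, k10, k20, k30, k21, k31, k32, neg_mul, mul_neg, neg_neg, mul_one, one_mul, smul_mul_assoc, mul_smul_comm, smul_neg, neg_smul, one_smul, smul_smul, hw]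
  have c1a2J : a2 * (w • a1) = -((w • a1) * a2) := by
    simp only [mul_assoc, h00, h11, h22, h33, k00, k11, k22, k33, h10, h20, h30, h21, h31, h32, k10, k20, k30, k21, k31, k32, neg_mul, mul_neg, neg_neg, mul_one, one_mul, smul_mul_assoc, mul_smul_comm, smul_neg, neg_smul, one_smul, smul_smul, hw]
  have c1a2K : a2 * (-(a0 * a1)) = (-(a0 * a1)) * a2 := by
    simp only [mul_assoc, h00, h11, h22, h33, k00, k11, k22, k33, h10, h20, h30, h21, h31, h32, k10, k20, k30, k21, k31, k32, neg_mul, mul_neg, neg_neg, mul_one, one_mul, smul_mul_assoc, mul_smul_comm, smul_neg, neg_smul, one_smul, smul_smul, hw]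
  have c1a3I : a3 * (w • a0) = -((w • a0) * a3) := by
    simp only [mul_assoc, h00, h11, h22, h33, k00, k11, k22, k33, h10, h20, h30, h21, h31, h32, k10, k20, k30, k21, k31, k32, neg_mul, mul_neg, neg_neg, mul_one, one_mul, smul_mul_assoc, mul_smul_comm, smul_neg, neg_smul, one_smul, smul_smul, hw]
  have c1a3J : a3 * (w • a1) = -((w • a1) * a3) := by
    simp only [mul_assoc, h00, h11, h22, h33, k00, k11, k22, k33, h10, h20, h30, h21, h31, h32, k10, k20, k30, k21, k31, k32, neg_mul, mul_neg, neg_neg, mul_one, one_mul, smul_mul_assoc, mul_smul_comm, smul_neg, neg_smul, one_smul, smul_smul, hw]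
  have c1a3K : a3 * (-(a0 * a1)) = (-(a0 * a1)) * a3 := by
    simp only [mul_assoc, h00, h11, h22, h33, k00, k11, k22, k33, h10, h20, h30, h21, h31, h32, k10, k20, k30, k21, k31, k32, neg_mul, mul_neg, neg_neg, mul_one, one_mul, smul_mul_assoc, mul_smul_comm, smul_neg, neg_smul, one_smul, smul_smul, hw]
  have c2a0I : a0 * (-(a0 * (a1 * a2))) = (-(a0 * (a1 * a2))) * a0 := by
    simp only [mul_assoc, h00, h11, h22, h33, k00, k11, k22, k33, h10, h20, h30, h21, h31, h32, k10, k20, k30, k21, k31, k32, neg_mul, mul_neg, neg_neg, mul_one, one_mul, smul_mul_assoc, mul_smul_comm, smul_neg, neg_smul, one_smul, smul_smul, hw]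
  have c2a0J : a0 * (-(a0 * (a1 * a3))) = (-(a0 * (a1 * a3))) * a0 := by
    simp only [mul_assoc, h00, h11, h22, h33, k00, k11, k22, k33, h10, h20, h30, h21, h31, h32, k10, k20, k30, k21, k31, k32, neg_mul, mul_neg, neg_neg, mul_one, one_mul, smul_mul_assoc, mul_smul_comm, smul_neg, neg_smul, one_smul, smul_smul, hw]
  have c2a0K : a0 * (-(a2 * a3)) = (-(a2 * a3)) * a0 := by
    simp only [mul_assoc, h00, h11, h22, h33, k00, k11, k22, k33, h10, h20, h30, h21, h31, h32, k10, k20, k30, k21, k31, k32, neg_mul, mul_neg, neg_neg, mul_one, one_mul, smul_mul_assoc, mul_smul_comm, smul_neg, neg_smul, one_smul, smul_smul, hw]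
  have c2a1I : a1 * (-(a0 * (a1 * a2))) = (-(a0 * (a1 * a2))) * a1 := by
    simp only [mul_assoc, h00, h11, h22, h33, k00, k11, k22, k33, h10, h20, h30, h21, h31, h32, k10, k20, k30, k21, k31, k32, neg_mul, mul_neg, neg_neg, mul_one, one_mul, smul_mul_assoc, mul_smul_comm, smul_neg, neg_smul, one_smul, smul_smul, hw]
  have c2a1J : a1 * (-(a0 * (a1 * a3))) = (-(a0 * (a1 * a3))) * a1 := by
    simp only [mul_assoc, h00, h11, h22, h33, k00, k11, k22, k33, h10, h20, h30, h21, h31, h32, k10, k20, k30, k21, k31, k32, neg_mul, mul_neg, neg_neg, mul_one, one_mul, smul_mul_assoc, mul_smul_comm, smul_neg, neg_smul, one_smul, smul_smul, hw]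
  have c2a1K : a1 * (-(a2 * a3)) = (-(a2 * a3)) * a1 := by
    simp only [mul_assoc, h00, h11, h22, h33, k00, k11, k22, k33, h10, h20, h30, h21, h31, h32, k10, k20, k30, k21, k31, k32, neg_mul, mul_neg, neg_neg, mul_one, one_mul, smul_mul_assoc, mul_smul_comm, smul_neg, neg_smul, one_smul, smul_smul, hw]
  have c2a2I : a2 * (-(a0 * (a1 * a2))) = (-(a0 * (a1 * a2))) * a2 := by
    simp only [mul_assoc, h00, h11, h22, h33, k00, k11, k22, k33, h10, h20, h30, h21, h31, h32, k10, k20, k30, k21, k31, k32, neg_mul, mul_neg, neg_neg, mul_one, one_mul, smul_mul_assoc, mul_smul_comm, smul_neg, neg_smul, one_smul, smul_smul, hw]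
  have c2a2J : a2 * (-(a0 * (a1 * a3))) = -((-(a0 * (a1 * a3))) * a2) := by
    simp only [mul_assoc, h00, h11, h22, h33, k00, k11, k22, k33, h10, h20, h30, h21, h31, h32, k10, k20, k30, k21, k31, k32, neg_mul, mul_neg, neg_neg, mul_one, one_mul, smul_mul_assoc, mul_smul_comm, smul_neg, neg_smul, one_smul, smul_smul, hw]
  have c2a2K : a2 * (-(a2 * a3)) = -((-(a2 * a3)) * a2) := by
    simp only [mul_assoc, h00, h11, h22, h33, k00, k11, k22, k33, h10, h20, h30, h21, h31, h32, k10, k20, k30, k21, k31, k32, neg_mul, mul_neg, neg_neg, mul_one, one_mul, smul_mul_assoc, mul_smul_comm, smul_neg, neg_smul, one_smul, smul_smul, hw]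
  have c2a3I : a3 * (-(a0 * (a1 * a2))) = -((-(a0 * (a1 * a2))) * a3) := by
    simp only [mul_assoc, h00, h11, h22, h33, k00, k11, k22, k33, h10, h20, h30, h21, h31, h32, k10, k20, k30, k21, k31, k32, neg_mul, mul_neg, neg_neg, mul_one, one_mul, smul_mul_assoc, mul_smul_comm, smul_neg, neg_smul, one_smul, smul_smul, hw]
  have c2a3J : a3 * (-(a0 * (a1 * a3))) = (-(a0 * (a1 * a3))) * a3 := by
    simp only [mul_assoc, h00, h11, h22, h33, k00, k11, k22, k33, h10, h20, h30, h21, h31, h32, k10, k20, k30, k21, k31, k32, neg_mul, mul_neg, neg_neg, mul_one, one_mul, smul_mul_assoc, mul_smul_comm, smul_neg, neg_smul, one_smul, smul_smul, hw]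
  have c2a3K : a3 * (-(a2 * a3)) = -((-(a2 * a3)) * a3) := by
    simp only [mul_assoc, h00, h11, h22, h33, k00, k11, k22, k33, h10, h20, h30, h21, h31, h32, k10, k20, k30, k21, k31, k32, neg_mul, mul_neg, neg_neg, mul_one, one_mul, smul_mul_assoc, mul_smul_comm, smul_neg, neg_smul, one_smul, smul_smul, hw]
  have tz0 : Matrix.trace (a0) = 0 := h43_tr0 h2 (a0) a1 h11 (by
    simp only [mul_assoc, h00, h11, h22, h33, k00, k11, k22, k33, h10, h20, h30, h21, h31, h32, k10, k20, k30, k21, k31, k32, neg_mul, mul_neg, neg_neg, mul_one, one_mul, smul_mul_assoc, mul_smul_comm, smul_neg, neg_smul, one_smul, smul_smul, hw])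
  have tz1 : Matrix.trace (a1) = 0 := h43_tr0 h2 (a1) a0 h00 (by
    simp only [mul_assoc, h00, h11, h22, h33, k00, k11, k22, k33, h10, h20, h30, h21, h31, h32, k10, k20, k30, k21, k31, k32, neg_mul, mul_neg, neg_neg, mul_one, one_mul, smul_mul_assoc, mul_smul_comm, smul_neg, neg_smul, one_smul, smul_smul, hw])
  have tz2 : Matrix.trace (a2) = 0 := h43_tr0 h2 (a2) a0 h00 (by
    simp only [mul_assoc, h00, h11, h22, h33, k00, k11, k22, k33, h10, h20, h30, h21, h31, h32, k10, k20, k30, k21, k31, k32, neg_mul, mul_neg, neg_neg, mul_one, one_mul, smul_mul_assoc, mul_smul_comm, smul_neg, neg_smul, one_smul, smul_smul, hw])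
  have tz3 : Matrix.trace (a3) = 0 := h43_tr0 h2 (a3) a0 h00 (by
    simp only [mul_assoc, h00, h11, h22, h33, k00, k11, k22, k33, h10, h20, h30, h21, h31, h32, k10, k20, k30, k21, k31, k32, neg_mul, mul_neg, neg_neg, mul_one, one_mul, smul_mul_assoc, mul_smul_comm, smul_neg, neg_smul, one_smul, smul_smul, hw])
  have tz4 : Matrix.trace (a0 * a1) = 0 := h43_tr0 h2 (a0 * a1) a0 h00 (by
    simp only [mul_assoc, h00, h11, h22, h33, k00, k11, k22, k33, h10, h20, h30, h21, h31, h32, k10, k20, k30, k21, k31, k32, neg_mul, mul_neg, neg_neg, mul_one, one_mul, smul_mul_assoc, mul_smul_comm, smul_neg, neg_smul, one_smul, smul_smul, hw])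
  have tz5 : Matrix.trace (a0 * a2) = 0 := h43_tr0 h2 (a0 * a2) a0 h00 (by
    simp only [mul_assoc, h00, h11, h22, h33, k00, k11, k22, k33, h10, h20, h30, h21, h31, h32, k10, k20, k30, k21, k31, k32, neg_mul, mul_neg, neg_neg, mul_one, one_mul, smul_mul_assoc, mul_smul_comm, smul_neg, neg_smul, one_smul, smul_smul, hw])
  have tz6 : Matrix.trace (a0 * a3) = 0 := h43_tr0 h2 (a0 * a3) a0 h00 (by
    simp only [mul_assoc, h00, h11, h22, h33, k00, k11, k22, k33, h10, h20, h30, h21, h31, h32, k10, k20, k30, k21, k31, k32, neg_mul, mul_neg, neg_neg, mul_one, one_mul, smul_mul_assoc, mul_smul_comm, smul_neg, neg_smul, one_smul, smul_smul, hw])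
  have tz7 : Matrix.trace (a1 * a2) = 0 := h43_tr0 h2 (a1 * a2) a1 h11 (by
    simp only [mul_assoc, h00, h11, h22, h33, k00, k11, k22, k33, h10, h20, h30, h21, h31, h32, k10, k20, k30, k21, k31, k32, neg_mul, mul_neg, neg_neg, mul_one, one_mul, smul_mul_assoc, mul_smul_comm, smul_neg, neg_smul, one_smul, smul_smul, hw])
  have tz8 : Matrix.trace (a1 * a3) = 0 := h43_tr0 h2 (a1 * a3) a1 h11 (by
    simp only [mul_assoc, h00, h11, h22, h33, k00, k11, k22, k33, h10, h20, h30, h21, h31, h32, k10, k20, k30, k21, k31, k32, neg_mul, mul_neg, neg_neg, mul_one, one_mul, smul_mul_assoc, mul_smul_comm, smul_neg, neg_smul, one_smul, smul_smul, hw])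
  have tz9 : Matrix.trace (a2 * a3) = 0 := h43_tr0 h2 (a2 * a3) a2 h22 (by
    simp only [mul_assoc, h00, h11, h22, h33, k00, k11, k22, k33, h10, h20, h30, h21, h31, h32, k10, k20, k30, k21, k31, k32, neg_mul, mul_neg, neg_neg, mul_one, one_mul, smul_mul_assoc, mul_smul_comm, smul_neg, neg_smul, one_smul, smul_smul, hw])
  have tz10 : Matrix.trace (a0 * (a1 * a2)) = 0 := h43_tr0 h2 (a0 * (a1 * a2)) a3 h33 (by
    simp only [mul_assoc, h00, h11, h22, h33, k00, k11, k22, k33, h10, h20, h30, h21, h31, h32, k10, k20, k30, k21, k31, k32, neg_mul, mul_neg, neg_neg, mul_one, one_mul, smul_mul_assoc, mul_smul_comm, smul_neg, neg_smul, one_smul, smul_smul, hw])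
  have tz11 : Matrix.trace (a0 * (a1 * a3)) = 0 := h43_tr0 h2 (a0 * (a1 * a3)) a2 h22 (by
    simp only [mul_assoc, h00, h11, h22, h33, k00, k11, k22, k33, h10, h20, h30, h21, h31, h32, k10, k20, k30, k21, k31, k32, neg_mul, mul_neg, neg_neg, mul_one, one_mul, smul_mul_assoc, mul_smul_comm, smul_neg, neg_smul, one_smul, smul_smul, hw])
  have tz12 : Matrix.trace (a0 * (a2 * a3)) = 0 := h43_tr0 h2 (a0 * (a2 * a3)) a1 h11 (by
    simp only [mul_assoc, h00, h11, h22, h33, k00, k11, k22, k33, h10, h20, h30, h21, h31, h32, k10, k20, k30, k21, k31, k32, neg_mul, mul_neg, neg_neg, mul_one, one_mul, smul_mul_assoc, mul_smul_comm, smul_neg, neg_smul, one_smul, smul_smul, hw])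
  have tz13 : Matrix.trace (a1 * (a2 * a3)) = 0 := h43_tr0 h2 (a1 * (a2 * a3)) a0 h00 (by
    simp only [mul_assoc, h00, h11, h22, h33, k00, k11, k22, k33, h10, h20, h30, h21, h31, h32, k10, k20, k30, k21, k31, k32, neg_mul, mul_neg, neg_neg, mul_one, one_mul, smul_mul_assoc, mul_smul_comm, smul_neg, neg_smul, one_smul, smul_smul, hw])
  have tz14 : Matrix.trace (a0 * (a1 * (a2 * a3))) = 0 := h43_tr0 h2 (a0 * (a1 * (a2 * a3))) a0 h00 (by
    simp only [mul_assoc, h00, h11, h22, h33, k00, k11, k22, k33, h10, h20, h30, h21, h31, h32, k10, k20, k30, k21, k31, k32, neg_mul, mul_neg, neg_neg, mul_one, one_mul, smul_mul_assoc, mul_smul_comm, smul_neg, neg_smul, one_smul, smul_smul, hw])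
  obtain ⟨hinv1a, hinv1b⟩ := h43_hur_inv (F := F) (w • a0) (w • a1) (-(a0 * a1))
    pII pJJ pKK pIJ pJI pJK pKJ pKI pIK
  obtain ⟨hinv2a, hinv2b⟩ := h43_hur_inv (F := F) (-(a0 * (a1 * a2))) (-(a0 * (a1 * a3)))
    (-(a2 * a3)) qII qJJ qKK qIJ qJI qJK qKJ qKI qIK
  have hcube1 := h43_hur_cube (F := F) (w • a0) (w • a1) (-(a0 * a1))
    pII pJJ pKK pIJ pJI pJK pKJ pKI pIK
  have hcube2 := h43_hur_cube (F := F) (-(a0 * (a1 * a2))) (-(a0 * (a1 * a3)))
    (-(a2 * a3)) qII qJJ qKK qIJ qJI qJK qKJ qKI qIK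
  have hc10 := h43_hur_cI (F := F) (w • a0) (w • a1) (-(a0 * a1)) a0
    pII pJJ pKK pIJ pJI pJK pKJ pKI pIK c1a0I c1a0J c1a0K
  have hc11 := h43_hur_cJ (F := F) (w • a0) (w • a1) (-(a0 * a1)) a1
    pII pJJ pKK pIJ pJI pJK pKJ pKI pIK c1a1I c1a1J c1a1K
  have hc12 := h43_hur_cK (F := F) (w • a0) (w • a1) (-(a0 * a1)) a2
    pII pJJ pKK pIJ pJI pJK pKJ pKI pIK c1a2I c1a2J c1a2K
  have hc13 := h43_hur_cK (F := F) (w • a0) (w • a1) (-(a0 * a1)) a3
    pII pJJ pKK pIJ pJI pJK pKJ pKI pIK c1a3I c1a3J c1a3K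
  have hc20 := h43_hur_c0 (F := F) (-(a0 * (a1 * a2))) (-(a0 * (a1 * a3))) (-(a2 * a3)) a0
    qII qJJ qKK qIJ qJI qJK qKJ qKI qIK c2a0I c2a0J c2a0K
  have hc21 := h43_hur_c0 (F := F) (-(a0 * (a1 * a2))) (-(a0 * (a1 * a3))) (-(a2 * a3)) a1
    qII qJJ qKK qIJ qJI qJK qKJ qKI qIK c2a1I c2a1J c2a1K
  have hc22 := h43_hur_cI (F := F) (-(a0 * (a1 * a2))) (-(a0 * (a1 * a3))) (-(a2 * a3)) a2
    qII qJJ qKK qIJ qJI qJK qKJ qKI qIK c2a2I c2a2J c2a2K
  have hc23 := h43_hur_cJ (F := F) (-(a0 * (a1 * a2))) (-(a0 * (a1 * a3))) (-(a2 * a3)) a3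
    qII qJJ qKK qIJ qJI qJK qKJ qKI qIK c2a3I c2a3J c2a3K
  obtain ⟨P1, hP1⟩ : ∃ P1 : Matrix (Fin 4) (Fin 4) F, P1 = 1 + w • a0 + w • a1 + -(a0 * a1) :=
    ⟨_, rfl⟩
  obtain ⟨Q1, hQ1⟩ : ∃ Q1 : Matrix (Fin 4) (Fin 4) F, Q1 = 1 - w • a0 - w • a1 - -(a0 * a1) :=
    ⟨_, rfl⟩
  obtain ⟨P2, hP2⟩ : ∃ P2 : Matrix (Fin 4) (Fin 4) F,
      P2 = 1 + -(a0 * (a1 * a2)) + -(a0 * (a1 * a3)) + -(a2 * a3) := ⟨_, rfl⟩
  obtain ⟨Q2, hQ2⟩ : ∃ Q2 : Matrix (Fin 4) (Fin 4) F,
      Q2 = 1 - -(a0 * (a1 * a2)) - -(a0 * (a1 * a3)) - -(a2 * a3) := ⟨_, rfl⟩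
  rw [← hP1, ← hQ1] at hinv1a hinv1b hc10 hc11 hc12 hc13
  rw [← hP1] at hcube1
  rw [← hP2, ← hQ2] at hinv2a hinv2b hc20 hc21 hc22 hc23
  rw [← hP2] at hcube2
  obtain ⟨u1, hu1v, hu1i⟩ : ∃ u : GL (Fin 4) F, (u : Matrix (Fin 4) (Fin 4) F) = (2⁻¹ : F) • P1 ∧
      ((u⁻¹ : GL (Fin 4) F) : Matrix (Fin 4) (Fin 4) F) = (2⁻¹ : F) • Q1 :=
    ⟨⟨_, _, h43_scale2 h2 _ _ hinv1a, h43_scale2 h2 _ _ hinv1b⟩, rfl, rfl⟩
  obtain ⟨u2, hu2v, hu2i⟩ : ∃ u : GL (Fin 4) F, (u : Matrix (Fin 4) (Fin 4) F) = (2⁻¹ : F) • P2 ∧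
      ((u⁻¹ : GL (Fin 4) F) : Matrix (Fin 4) (Fin 4) F) = (2⁻¹ : F) • Q2 :=
    ⟨⟨_, _, h43_scale2 h2 _ _ hinv2a, h43_scale2 h2 _ _ hinv2b⟩, rfl, rfl⟩
  -- conjugates of the generators
  have hu1_0 : u1 * t 0 * u1⁻¹ = t 1 := by
    apply Units.ext
    rw [Units.val_mul, Units.val_mul, hu1v, hu1i, ← ha0, ← ha1, h43_scale h2 P1 a0 Q1 _ hc10]
    simp only [mul_assoc, h00, h11, h22, h33, k00, k11, k22, k33, h10, h20, h30, h21, h31, h32, k10, k20, k30, k21, k31, k32, neg_mul, mul_neg, neg_neg, mul_one, one_mul, smul_mul_assoc, mul_smul_comm, smul_neg, neg_smul, one_smul, smul_smul, hw]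
  have hu1_1 : u1 * t 1 * u1⁻¹ = zw * t 0 * t 1 := by
    apply Units.ext
    rw [Units.val_mul, Units.val_mul, Units.val_mul, Units.val_mul, hu1v, hu1i, hzw, ← ha0, ← ha1,
      h43_scale h2 P1 a1 Q1 _ hc11]
    simp only [mul_assoc, h00, h11, h22, h33, k00, k11, k22, k33, h10, h20, h30, h21, h31, h32, k10, k20, k30, k21, k31, k32, neg_mul, mul_neg, neg_neg, mul_one, one_mul, smul_mul_assoc, mul_smul_comm, smul_neg, neg_smul, one_smul, smul_smul, hw]
  have hu1_2 : u1 * t 2 * u1⁻¹ = zw * t 1 * t 2 := by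
    apply Units.ext
    rw [Units.val_mul, Units.val_mul, Units.val_mul, Units.val_mul, hu1v, hu1i, hzw, ← ha1, ← ha2,
      h43_scale h2 P1 a2 Q1 _ hc12]
    simp only [mul_assoc, h00, h11, h22, h33, k00, k11, k22, k33, h10, h20, h30, h21, h31, h32, k10, k20, k30, k21, k31, k32, neg_mul, mul_neg, neg_neg, mul_one, one_mul, smul_mul_assoc, mul_smul_comm, smul_neg, neg_smul, one_smul, smul_smul, hw]
  have hu1_3 : u1 * t 3 * u1⁻¹ = zw * t 1 * t 3 := by
    apply Units.ext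
    rw [Units.val_mul, Units.val_mul, Units.val_mul, Units.val_mul, hu1v, hu1i, hzw, ← ha1, ← ha3,
      h43_scale h2 P1 a3 Q1 _ hc13]
    simp only [mul_assoc, h00, h11, h22, h33, k00, k11, k22, k33, h10, h20, h30, h21, h31, h32, k10, k20, k30, k21, k31, k32, neg_mul, mul_neg, neg_neg, mul_one, one_mul, smul_mul_assoc, mul_smul_comm, smul_neg, neg_smul, one_smul, smul_smul, hw]
  have hu2_0 : u2 * t 0 * u2⁻¹ = t 0 := by
    apply Units.ext
    rw [Units.val_mul, Units.val_mul, hu2v, hu2i, ← ha0, h43_scale h2 P2 a0 Q2 _ hc20]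
  have hu2_1 : u2 * t 1 * u2⁻¹ = t 1 := by
    apply Units.ext
    rw [Units.val_mul, Units.val_mul, hu2v, hu2i, ← ha1, h43_scale h2 P2 a1 Q2 _ hc21]
  have hu2_2 : u2 * t 2 * u2⁻¹ = t 3 := by
    apply Units.ext
    rw [Units.val_mul, Units.val_mul, hu2v, hu2i, ← ha2, ← ha3, h43_scale h2 P2 a2 Q2 _ hc22]
    simp only [mul_assoc, h00, h11, h22, h33, k00, k11, k22, k33, h10, h20, h30, h21, h31, h32, k10, k20, k30, k21, k31, k32, neg_mul, mul_neg, neg_neg, mul_one, one_mul, smul_mul_assoc, mul_smul_comm, smul_neg, neg_smul, one_smul, smul_smul, hw]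
  have hu2_3 : u2 * t 3 * u2⁻¹ = zw * zw * t 0 * t 1 * t 2 * t 3 := by
    apply Units.ext
    rw [Units.val_mul, Units.val_mul, Units.val_mul, Units.val_mul, Units.val_mul, Units.val_mul,
      Units.val_mul, hu2v, hu2i, hzw, ← ha0, ← ha1, ← ha2, ← ha3, h43_scale h2 P2 a3 Q2 _ hc23]
    simp only [mul_assoc, h00, h11, h22, h33, k00, k11, k22, k33, h10, h20, h30, h21, h31, h32, k10, k20, k30, k21, k31, k32, neg_mul, mul_neg, neg_neg, mul_one, one_mul, smul_mul_assoc, mul_smul_comm, smul_neg, neg_smul, one_smul, smul_smul, hw]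
  have hu1N : u1 ∈ subgroupNormalizer R :=
    h43_norm_of_gens R w zw hzwR hzw t hfr' u1 (fun j => match j with
      | 0 => by rw [hu1_0]; exact htR 1
      | 1 => by rw [hu1_1]; exact R.mul_mem (R.mul_mem hzwR (htR 0)) (htR 1)
      | 2 => by rw [hu1_2]; exact R.mul_mem (R.mul_mem hzwR (htR 1)) (htR 2)
      | 3 => by rw [hu1_3]; exact R.mul_mem (R.mul_mem hzwR (htR 1)) (htR 3))
  have hu2N : u2 ∈ subgroupNormalizer R :=
    h43_norm_of_gens R w zw hzwR hzw t hfr' u2 (fun j => match j with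
      | 0 => by rw [hu2_0]; exact htR 0
      | 1 => by rw [hu2_1]; exact htR 1
      | 2 => by rw [hu2_2]; exact htR 3
      | 3 => by
        rw [hu2_3]
        exact R.mul_mem (R.mul_mem (R.mul_mem (R.mul_mem (R.mul_mem hzwR hzwR) (htR 0)) (htR 1))
          (htR 2)) (htR 3))
  have hzwN : zw ∈ subgroupNormalizer R := Subgroup.le_normalizer hzwR
  -- cubes
  have hu1c : (u1 : Matrix (Fin 4) (Fin 4) F) * (u1 : Matrix (Fin 4) (Fin 4) F) *
      (u1 : Matrix (Fin 4) (Fin 4) F) = -1 := by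
    rw [hu1v]; exact h43_scale3 h2 P1 hcube1
  have hu2c : (u2 : Matrix (Fin 4) (Fin 4) F) * (u2 : Matrix (Fin 4) (Fin 4) F) *
      (u2 : Matrix (Fin 4) (Fin 4) F) = -1 := by
    rw [hu2v]; exact h43_scale3 h2 P2 hcube2
  -- u1 and u2 commute
  have e0 : (u2 : Matrix (Fin 4) (Fin 4) F) * a0 = a0 * (u2 : Matrix (Fin 4) (Fin 4) F) := by
    have h1 : u2 * t 0 = t 0 * u2 := by
      have h3 : u2 * t 0 = (u2 * t 0 * u2⁻¹) * u2 := by group
      rw [h3, hu2_0]
    have h4 := congrArg (fun y : GL (Fin 4) F => (y : Matrix (Fin 4) (Fin 4) F)) h1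
    simp only [Units.val_mul] at h4
    rw [ha0]; exact h4
  have e1 : (u2 : Matrix (Fin 4) (Fin 4) F) * a1 = a1 * (u2 : Matrix (Fin 4) (Fin 4) F) := by
    have h1 : u2 * t 1 = t 1 * u2 := by
      have h3 : u2 * t 1 = (u2 * t 1 * u2⁻¹) * u2 := by group
      rw [h3, hu2_1]
    have h4 := congrArg (fun y : GL (Fin 4) F => (y : Matrix (Fin 4) (Fin 4) F)) h1
    simp only [Units.val_mul] at h4
    rw [ha1]; exact h4
  have e01 : (u2 : Matrix (Fin 4) (Fin 4) F) * (a0 * a1) =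
      (a0 * a1) * (u2 : Matrix (Fin 4) (Fin 4) F) := by
    rw [← mul_assoc, e0, mul_assoc, e1, ← mul_assoc]
  have hcomm : Commute u1 u2 := by
    apply Units.ext
    rw [Units.val_mul, Units.val_mul, hu1v, hP1]
    simp only [add_mul, mul_add, one_mul, mul_one, smul_mul_assoc, mul_smul_comm, neg_mul, mul_neg,
      e0, e1, e01]
  refine ⟨u1 * u2, zw * zw * u1, (subgroupNormalizer R).mul_mem hu1N hu2N,
    (subgroupNormalizer R).mul_mem ((subgroupNormalizer R).mul_mem hzwN hzwN) hu1N, ?_, ?_, ?_, ?_⟩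
  · rw [hcomm.mul_pow]
    apply Units.ext
    rw [Units.val_mul, Units.val_pow_eq_pow_val, Units.val_pow_eq_pow_val, pow_three', pow_three',
      hu1c, hu2c]
    simp
  · have hBv : ((zw * zw * u1 : GL (Fin 4) F) : Matrix (Fin 4) (Fin 4) F) =
        -(u1 : Matrix (Fin 4) (Fin 4) F) := by
      rw [Units.val_mul, Units.val_mul, hzw]
      simp only [smul_mul_assoc, mul_smul_comm, one_mul, smul_smul, hw, neg_smul, one_smul, neg_mul]
    apply Units.ext
    rw [Units.val_pow_eq_pow_val, hBv, pow_three']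
    simp only [neg_mul, mul_neg, neg_neg]
    rw [hu1c]
    simp
  · rw [Units.val_mul, hu1v, hu2v, hP1, hP2]
    simp only [mul_add, add_mul, mul_sub, sub_mul, mul_assoc, h00, h11, h22, h33, k00, k11, k22, k33, h10, h20, h30, h21, h31, h32, k10, k20, k30, k21, k31, k32, neg_mul, mul_neg, neg_neg, mul_one, one_mul, smul_mul_assoc, mul_smul_comm, smul_neg, neg_smul, one_smul, smul_smul, hw, Matrix.trace_smul, Matrix.trace_add,
      Matrix.trace_sub, Matrix.trace_neg, Matrix.trace_one, tz0, tz1, tz2, tz3, tz4, tz5, tz6, tz7,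
      tz8, tz9, tz10, tz11, tz12, tz13, tz14, Fintype.card_fin, smul_zero, mul_zero, add_zero,
      neg_zero, sub_zero, zero_add, smul_eq_mul, Nat.cast_ofNat]
    field_simp <;> norm_num
  · have hBv : ((zw * zw * u1 : GL (Fin 4) F) : Matrix (Fin 4) (Fin 4) F) =
        -(u1 : Matrix (Fin 4) (Fin 4) F) := by
      rw [Units.val_mul, Units.val_mul, hzw]
      simp only [smul_mul_assoc, mul_smul_comm, one_mul, smul_smul, hw, neg_smul, one_smul, neg_mul]
    rw [hBv, hu1v, hP1]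
    simp only [Matrix.trace_smul, Matrix.trace_add, Matrix.trace_sub, Matrix.trace_neg,
      Matrix.trace_one, tz0, tz1, tz4, Fintype.card_fin, smul_zero, mul_zero, add_zero,
      neg_zero, sub_zero, zero_add, smul_eq_mul, Nat.cast_ofNat]
    field_simp <;> norm_num

end Cfsg.Agent.Lib.helper89.S60
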