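import Cfsg.Agent.S3335
import Mathlib

set_option autoImplicit false
open Cfsg Cfsg.Agent.S3335

namespace Cfsg.Agent.Lib.helper70.SM

universe u

/-- cube roots in a 2-group kernel. -/
theorem helper43_exists_cube_root {Γ : Type u} [Group Γ] {P : Type*} [Group P] (π : Γ →* P)
    (h2 : IsPGroup 2 π.ker) (c : Γ) (hcK : c ∈ π.ker) : ∃ d ∈ π.ker, d ^ 3 = c := by
  obtain ⟨m, hm⟩ := h2 ⟨c, hcK⟩
  have hm' : c ^ 2 ^ m = 1 := by
    have := congrArg Subtype.val hm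
    simpa using this
  have h4 : c ^ 4 ^ m = 1 := by
    have : (4 : ℕ) ^ m = 2 ^ m * 2 ^ m := by rw [← mul_pow]; norm_num
    rw [this, pow_mul, hm', one_pow]
  have hmod : 4 ^ m % 3 = 1 := by
    rw [Nat.pow_mod]; norm_num
  obtain ⟨e, he⟩ : 3 ∣ 1 + 2 * 4 ^ m := by
    apply Nat.dvd_of_mod_eq_zero; omega
  refine ⟨c ^ e, pow_mem hcK e, ?_⟩
  have hc1 : c ^ (1 + 2 * 4 ^ m) = c := by
    rw [pow_add, pow_one, mul_comm 2, pow_mul, h4, one_pow, mul_one]
  rw [← pow_mul, mul_comm, ← he, hc1]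

/-- correcting a lift by a central cube root. -/
theorem helper43_lift_step {Γ : Type u} [Group Γ] {P : Type*} [Group P] (π : Γ →* P)
    (hπ : Function.Surjective π) (hc : π.ker ≤ Subgroup.center Γ) (h2 : IsPGroup 2 π.ker)
    (y : Γ) (p : P) (h : (π y * p) ^ 3 = 1) : ∃ z : Γ, π z = p ∧ (y * z) ^ 3 = 1 := by
  obtain ⟨z', hz'⟩ := hπ p
  have hcK : ((y * z') ^ 3)⁻¹ ∈ π.ker := by
    rw [MonoidHom.mem_ker, map_inv, map_pow, map_mul, hz', h, inv_one]
  obtain ⟨d, hdK, hd⟩ := helper43_exists_cube_root π h2 _ hcK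
  refine ⟨z' * d, ?_, ?_⟩
  · rw [map_mul, hz', MonoidHom.mem_ker.mp hdK, mul_one]
  · have hdc : ∀ g : Γ, g * d = d * g := Subgroup.mem_center_iff.mp (hc hdK)
    have hcomm : Commute (y * z') d := hdc (y * z')
    rw [← mul_assoc, hcomm.mul_pow, hd, mul_inv_cancel]

/-- T1 (normalised lifts, 2-group kernel). -/
theorem exists_lifts_two {Γ : Type u} [Group Γ] [Finite Γ] (k : ℕ)
    (π : Γ →* PresentedGroup (rels k)) (hπ : Function.Surjective π)
    (hc : π.ker ≤ Subgroup.center Γ) (h2 : IsPGroup 2 π.ker) :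
    ∃ y : Fin (k + 1) → Γ, (∀ i, π (y i) = x k i) ∧
      (∀ i : Fin (k + 1), i.val = 0 → y i ^ 3 = 1) ∧
      (∀ i j : Fin (k + 1), j.val = i.val + 1 → (y i * y j) ^ 3 = 1) := by
  classical
  let X : ℕ → PresentedGroup (rels k) := fun n => if h : n < k + 1 then x k ⟨n, h⟩ else 1
  have hXi : ∀ i : Fin (k + 1), X i.val = x k i := by
    intro i
    simp only [X]
    rw [dif_pos i.2]
  have hstep : ∀ (y : Γ) (p : PresentedGroup (rels k)),
      ∃ z : Γ, π z = p ∧ ((π y * p) ^ 3 = 1 → (y * z) ^ 3 = 1) := by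
    intro y p
    by_cases h : (π y * p) ^ 3 = 1
    · obtain ⟨z, hz, hz3⟩ := helper43_lift_step π hπ hc h2 y p h
      exact ⟨z, hz, fun _ => hz3⟩
    · obtain ⟨z, hz⟩ := hπ p
      exact ⟨z, hz, fun h' => absurd h' h⟩
  choose step hstep1 hstep2 using hstep
  have h0 : ∃ z : Γ, π z = X 0 ∧ z ^ 3 = 1 := by
    have hX0 : (π 1 * X 0) ^ 3 = 1 := by
      rw [map_one, one_mul]
      have := hXi ⟨0, Nat.succ_pos k⟩
      rw [this]
      exact x_cube k _ rfl
    obtain ⟨z, hz, hz3⟩ := helper43_lift_step π hπ hc h2 1 (X 0) hX0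
    exact ⟨z, hz, by simpa using hz3⟩
  obtain ⟨y0, hy0, hy03⟩ := h0
  let Y : ℕ → Γ := fun n => Nat.rec (motive := fun _ => Γ) y0 (fun n yn => step yn (X (n + 1))) n
  have hY0 : Y 0 = y0 := rfl
  have hYs : ∀ n, Y (n + 1) = step (Y n) (X (n + 1)) := fun n => rfl
  have hπY : ∀ n, π (Y n) = X n := by
    intro n
    cases n with
    | zero => exact hy0
    | succ n => rw [hYs]; exact hstep1 _ _
  refine ⟨fun i => Y i.val, ?_, ?_, ?_⟩
  · intro i
    rw [hπY, hXi]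
  · intro i hi
    show Y i.val ^ 3 = 1
    rw [hi]
    exact hy03
  · intro i j hij
    show (Y i.val * Y j.val) ^ 3 = 1
    rw [hij, hYs]
    apply hstep2
    rw [hπY, hXi]
    have e2 : X (i.val + 1) = x k j := by
      rw [← hij]
      exact hXi j
    rw [e2]
    exact x_adj k i j hij

end Cfsg.Agent.Lib.helper70.SM
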