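import Cfsg.Agent.S3335
import Mathlib

set_option autoImplicit false
open Cfsg Cfsg.Agent.S3335

namespace Cfsg.Agent.Lib.helper70.SM

universe u

/-- an element of a 2-group kernel whose cube is trivial is trivial. -/
theorem helper43_eq_one_of_cube {Γ : Type u} [Group Γ] {P : Type*} [Group P] (π : Γ →* P)
    (h2 : IsPGroup 2 π.ker) (c : Γ) (hcK : c ∈ π.ker) (h3 : c ^ 3 = 1) : c = 1 := by
  obtain ⟨m, hm⟩ := h2 ⟨c, hcK⟩
  have hm' : c ^ 2 ^ m = 1 := by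
    have := congrArg Subtype.val hm
    simpa using this
  have hd1 : orderOf c ∣ 2 ^ m := orderOf_dvd_of_pow_eq_one hm'
  have hd2 : orderOf c ∣ 3 := orderOf_dvd_of_pow_eq_one h3
  have hcop : Nat.Coprime (2 ^ m) 3 := Nat.Coprime.pow_left m (by norm_num)
  exact orderOf_eq_one_iff.mp (Nat.eq_one_of_dvd_coprimes hcop hd1 hd2)

/-- T3 (squares of adjacent lifts, 2-group kernel). -/
theorem two_adj_sq {Γ : Type u} [Group Γ] [Finite Γ] {P : Type*} [Group P] (π : Γ →* P)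
    (hc : π.ker ≤ Subgroup.center Γ) (h2 : IsPGroup 2 π.ker)
    (s t : Γ) (hs : π s ^ 2 = 1) (ht : π t ^ 2 = 1) (hst : (s * t) ^ 3 = 1) :
    t ^ 2 = (s ^ 2)⁻¹ := by
  have hsK : s ^ 2 ∈ π.ker := by rw [MonoidHom.mem_ker, map_pow, hs]
  have htK : t ^ 2 ∈ π.ker := by rw [MonoidHom.mem_ker, map_pow, ht]
  have hsc : ∀ g : Γ, g * s ^ 2 = s ^ 2 * g := Subgroup.mem_center_iff.mp (hc hsK)
  have htc : ∀ g : Γ, g * t ^ 2 = t ^ 2 * g := Subgroup.mem_center_iff.mp (hc htK)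
  -- (s t)(t s) = s² t² = (t s)(s t)
  have e1 : (s * t) * (t * s) = s ^ 2 * t ^ 2 := by
    calc (s * t) * (t * s) = s * t ^ 2 * s := by rw [pow_two]; group
      _ = t ^ 2 * s * s := by rw [htc s]
      _ = t ^ 2 * s ^ 2 := by rw [pow_two s]; group
      _ = s ^ 2 * t ^ 2 := by rw [htc (s ^ 2)]
  have e2 : (t * s) * (s * t) = s ^ 2 * t ^ 2 := by
    calc (t * s) * (s * t) = t * s ^ 2 * t := by rw [pow_two]; group
      _ = s ^ 2 * t * t := by rw [hsc t]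
      _ = s ^ 2 * t ^ 2 := by rw [pow_two t]; group
  have hcomm : Commute (s * t) (t * s) := by
    show (s * t) * (t * s) = (t * s) * (s * t)
    rw [e1, e2]
  have hts : (t * s) ^ 3 = 1 := pow_swap hst
  have h3 : (s ^ 2 * t ^ 2) ^ 3 = 1 := by
    rw [← e1, hcomm.mul_pow, hst, hts, one_mul]
  have hK : s ^ 2 * t ^ 2 ∈ π.ker := mul_mem hsK htK
  have h1 := helper43_eq_one_of_cube π h2 _ hK h3
  exact eq_inv_of_mul_eq_one_right h1

end Cfsg.Agent.Lib.helper70.SM
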