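import Mathlib
import Cfsg.Agent.Lib.helper49.SPEDefs

/-!
# S2333, piece UADD
-/

set_option autoImplicit false

namespace Cfsg.Agent.Lib.helper49.SPE

open Matrix

/-- UADD (S) -/
theorem uS_add {F : Type*} [Field F] {n : ℕ} (C C' : Matrix (Fin n) (Fin n) F) :
    uS (C + C') = uS C * uS C' := by
  unfold uS
  rw [Matrix.fromBlocks_multiply]
  simp [add_comm]

end Cfsg.Agent.Lib.helper49.SPE
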