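import Mathlib
import Cfsg.Agent.Lib.helper49.SPEDefs

/-!
# S2333, piece UMEM
-/

set_option autoImplicit false

namespace Cfsg.Agent.Lib.helper49.SPE

open Matrix

/-- UMEM (S) -/
theorem uS_mem {F : Type*} [Field F] {n : ℕ} (C : Matrix (Fin n) (Fin n) F) (hC : C ∈ symH F n) :
    uS C ∈ Matrix.symplecticGroup (Fin n) F := by
  have hCt : Cᵀ = C := by
    ext i j
    exact hC j i
  rw [SymplecticGroup.mem_iff]
  unfold uS Matrix.J
  rw [Matrix.fromBlocks_multiply, Matrix.fromBlocks_transpose, Matrix.fromBlocks_multiply]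
  simp [hCt]

end Cfsg.Agent.Lib.helper49.SPE
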