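import Mathlib

/-!
# S2334, piece OARITH
-/

set_option autoImplicit false

namespace Cfsg.Agent.Lib.helper44.SUW

/-- OARITH (S) -/
theorem odd_arith (q m : ℕ) :
    (q ^ (m + m + 1) - q) / (q + 1) = q * ((q ^ (m + m) - 1) / (q + 1)) := by
  have h1 : q ^ (m + m + 1) - q = q * (q ^ (m + m) - 1) := by
    rw [Nat.mul_sub, mul_one, pow_succ, mul_comm]
  have h2 : q + 1 ∣ q ^ (m + m) - 1 := by
    have h3 : q ^ 2 - 1 ∣ (q ^ 2) ^ m - 1 := Nat.sub_one_dvd_pow_sub_one (q ^ 2) m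
    have h4 : q + 1 ∣ q ^ 2 - 1 := by
      have : q ^ 2 - 1 = (q + 1) * (q - 1) := by
        cases q with
        | zero => simp
        | succ k =>
          have hk : (k + 1) ^ 2 = (k + 1 + 1) * k + 1 := by ring
          rw [hk]; simp
      rw [this]; exact dvd_mul_right _ _
    have h5 : (q ^ 2) ^ m - 1 = q ^ (m + m) - 1 := by
      rw [← pow_mul, two_mul]
    rw [← h5]
    exact h4.trans h3
  rw [h1, Nat.mul_div_assoc _ h2]

end Cfsg.Agent.Lib.helper44.SUW
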