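import Mathlib
import Cfsg.Agent.Lib.helper29.SUWFSIG

/-!
# S2334, piece OETA
-/

set_option autoImplicit false

namespace Cfsg.Agent.Lib.helper44.SUW

/-- OETA (S) -/
theorem exists_eta {K : Type*} [Field K] [Fintype K] {q : ℕ} (hK : Fintype.card K = q ^ 2)
    (σ : K →+* K) (hσ : ∀ x, σ x = x ^ q) : ∃ η : K, η + σ η = 1 := by
  obtain ⟨hσσ, hσid⟩ := sigma_facts hK σ hσ
  have hex : ∃ θ : K, σ θ ≠ θ := by
    by_contra hcon
    push Not at hcon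
    exact hσid (RingHom.ext hcon)
  obtain ⟨θ, hθ⟩ := hex
  have h1 : θ - σ θ ≠ 0 := sub_ne_zero.mpr (Ne.symm hθ)
  have h2 : σ θ - θ ≠ 0 := sub_ne_zero.mpr hθ
  refine ⟨θ / (θ - σ θ), ?_⟩
  rw [map_div₀, map_sub, hσσ]
  field_simp
  ring

end Cfsg.Agent.Lib.helper44.SUW
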