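import Mathlib
import Cfsg.Agent.Lib.helper24.SffDefs
import Cfsg.Agent.Lib.helper99.SubfD

/-!
# S5965 piece PA (helper43): irreducible factors of `X^r - 1` have coefficients in the subfield
-/

set_option autoImplicit false

namespace Cfsg.Agent.Lib.helper24

open Polynomial

/-- PA -/
theorem sff_poly_coeff {F : Type*} [Field F] [Fintype F] (F₀ : Subfield F) (r : ℕ) [Fact r.Prime]
    (hcard : Fintype.card F = (Nat.card F₀) ^ r)
    (g : F[X]) (hg : g.Monic) (hirr : Irreducible g) (hdvd : g ∣ (X ^ r - 1 : F[X])) :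
    ∀ a, g.coeff a ∈ F₀ := by
  classical
  have : Fact (Irreducible g) := ⟨hirr⟩
  obtain ⟨p, hpc⟩ := CharP.exists F
  have : Fact p.Prime := ⟨CharP.char_is_prime F p⟩
  let _ : Fintype F₀ := Fintype.ofFinite F₀
  have : CharP F₀ p := RingHom.charP F₀.subtype F₀.subtype.injective p
  obtain ⟨f₀, -, hf₀⟩ := FiniteField.card F₀ p
  obtain ⟨f, -, hf⟩ := FiniteField.card F p
  have hq₀ : Nat.card F₀ = p ^ (f₀ : ℕ) := by rw [Nat.card_eq_fintype_card]; exact hf₀
  have : CharP (AdjoinRoot g) p :=
    charP_of_injective_ringHom (AdjoinRoot.of g).injective p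
  have hζg : Polynomial.eval₂ (AdjoinRoot.of g) (AdjoinRoot.root g) g = 0 :=
    AdjoinRoot.eval₂_root g
  have hζr : (AdjoinRoot.root g) ^ r = 1 := by
    obtain ⟨h, hh⟩ := hdvd
    have h1 := congrArg (Polynomial.eval₂ (AdjoinRoot.of g) (AdjoinRoot.root g)) hh
    rw [Polynomial.eval₂_mul, hζg, zero_mul] at h1
    simp only [Polynomial.eval₂_sub, Polynomial.eval₂_pow, Polynomial.eval₂_X,
      Polynomial.eval₂_one] at h1
    exact sub_eq_zero.mp h1
  -- the two Frobenius maps
  have hcomm₀ : (AdjoinRoot.of g).comp (iterateFrobenius F p f₀) =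
      (iterateFrobenius (AdjoinRoot g) p f₀).comp (AdjoinRoot.of g) := by
    ext c
    simp only [RingHom.comp_apply, iterateFrobenius_def, map_pow]
  have hcomm : (AdjoinRoot.of g) =
      (iterateFrobenius (AdjoinRoot g) p f).comp (AdjoinRoot.of g) := by
    ext c
    simp only [RingHom.comp_apply, iterateFrobenius_def]
    rw [← map_pow, ← hf, FiniteField.pow_card]
  have hroot₀ : Polynomial.eval₂ (AdjoinRoot.of g)
      (iterateFrobenius (AdjoinRoot g) p f₀ (AdjoinRoot.root g))
      (g.map (iterateFrobenius F p f₀)) = 0 := by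
    rw [Polynomial.eval₂_map, hcomm₀, ← Polynomial.hom_eval₂, hζg, map_zero]
  have hroot : Polynomial.eval₂ (AdjoinRoot.of g)
      (iterateFrobenius (AdjoinRoot g) p f (AdjoinRoot.root g)) g = 0 := by
    have h1 : Polynomial.eval₂ ((iterateFrobenius (AdjoinRoot g) p f).comp (AdjoinRoot.of g))
        (iterateFrobenius (AdjoinRoot g) p f (AdjoinRoot.root g)) g = 0 := by
      rw [← Polynomial.hom_eval₂, hζg, map_zero]
    rw [← hcomm] at h1
    exact h1
  have hmod : Fintype.card F ≡ Nat.card F₀ [MOD r] := by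
    rw [hcard]
    apply (ZMod.natCast_eq_natCast_iff _ _ _).mp
    push_cast
    exact ZMod.pow_card _
  have heq : iterateFrobenius (AdjoinRoot g) p f (AdjoinRoot.root g) =
      iterateFrobenius (AdjoinRoot g) p f₀ (AdjoinRoot.root g) := by
    rw [iterateFrobenius_def, iterateFrobenius_def, ← hf, ← hq₀]
    have hpowmod : ∀ m : ℕ, (AdjoinRoot.root g) ^ m = (AdjoinRoot.root g) ^ (m % r) := by
      intro m
      conv_lhs => rw [← Nat.div_add_mod m r, pow_add, pow_mul, hζr, one_pow, one_mul]
    rw [hpowmod (Fintype.card F), hpowmod (Nat.card F₀)]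
    have h2 : Fintype.card F % r = Nat.card F₀ % r := hmod
    rw [h2]
  rw [heq] at hroot
  generalize iterateFrobenius (AdjoinRoot g) p f₀ (AdjoinRoot.root g) = β at hroot hroot₀
  have hmin : g = minpoly F β := by
    apply minpoly.eq_of_irreducible_of_monic hirr _ hg
    rw [Polynomial.aeval_def, AdjoinRoot.algebraMap_eq]
    exact hroot
  have hdvd' : g ∣ g.map (iterateFrobenius F p f₀) := by
    rw [hmin]
    apply minpoly.dvd
    rw [← hmin, Polynomial.aeval_def, AdjoinRoot.algebraMap_eq]
    exact hroot₀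
  have hgg : g.map (iterateFrobenius F p f₀) = g := by
    apply Polynomial.eq_of_monic_of_dvd_of_natDegree_le hg (hg.map _) hdvd'
    rw [Polynomial.natDegree_map]
  intro a
  apply Cfsg.Agent.Lib.helper99.Subf.mem_subfield_of_pow
  have h1 := congrArg (fun h : F[X] => h.coeff a) hgg
  simp only [Polynomial.coeff_map, iterateFrobenius_def] at h1
  rw [hq₀]
  exact h1

end Cfsg.Agent.Lib.helper24
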