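import Mathlib
import Cfsg.Prelude.Def_Classical
import Cfsg.Prelude.Def_GeometricClasses
import Cfsg.Agent.Lib.helper49.WittIso
import Cfsg.Agent.Lib.helper53.SfoBINREP

set_option autoImplicit false

namespace Cfsg.Agent.Lib.helper59.Sfk

open Matrix Cfsg.Geo
open Cfsg.Agent.Lib.helper49 (detHom spinorSign)

/-- KAPPA1 (L): a self-adjoint square root of `δ` commuting with `x`, built on the planes `<e i, e (π i)>`. -/
theorem h43_sfk_kappa_one {F : Type*} [Field F] [Fintype F] {ι : Type} [Fintype ι] [DecidableEq ι]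
    (h2 : (2 : F) ≠ 0) (Q : QuadraticForm F (ι → F))
    (hQ : (QuadraticMap.polarBilin Q).Nondegenerate) (δ : F) (x : GL ι F)
    (e : Fin (Fintype.card ι) → (ι → F)) (ε : Fin (Fintype.card ι) → F)
    (he : LinearIndependent F e)
    (horth : ∀ i j, i ≠ j → QuadraticMap.polar (⇑Q) (e i) (e j) = 0) (hne : ∀ i, Q (e i) ≠ 0)
    (hxe : ∀ i, (x : Matrix ι ι F) *ᵥ e i = ε i • e i)
    (π : Fin (Fintype.card ι) → Fin (Fintype.card ι)) (hπ : ∀ i, π (π i) = i)
    (hπ' : ∀ i, π i ≠ i) (hεπ : ∀ i, ε (π i) = ε i) :
    ∃ κ' : Matrix ι ι F, κ' * κ' = δ • (1 : Matrix ι ι F) ∧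
      (∀ u v : ι → F, QuadraticMap.polar (⇑Q) (κ' *ᵥ u) v = QuadraticMap.polar (⇑Q) u (κ' *ᵥ v)) ∧
      (x : Matrix ι ι F) * κ' = κ' * (x : Matrix ι ι F) := by
  classical
  have hcard : Fintype.card (Fin (Fintype.card ι)) = Module.finrank F (ι → F) := by simp
  have hspan : Submodule.span F (Set.range e) = ⊤ :=
    he.span_eq_top_of_card_eq_finrank' hcard
  let b : Module.Basis (Fin (Fintype.card ι)) F (ι → F) :=
    Module.Basis.mk he (le_of_eq hspan.symm)
  have hb : ∀ i, b i = e i := fun i => by simp [b]
  have hbin : ∀ i, ∃ αβ : F × F, αβ.1 ^ 2 + (Q (e i) / Q (e (π i))) * αβ.2 ^ 2 = δ := by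
    intro i
    obtain ⟨x, y, hxy⟩ := Cfsg.Agent.Lib.helper24.sfo_bin_rep h2 1 (Q (e i) / Q (e (π i))) δ
      one_ne_zero (div_ne_zero (hne i) (hne (π i)))
    exact ⟨(x, y), by simpa using hxy⟩
  choose ab hab using hbin
  let A : Fin (Fintype.card ι) → F := fun i => if i < π i then (ab i).1 else -(ab (π i)).1
  let C : Fin (Fintype.card ι) → F := fun i =>
    if i < π i then (Q (e i) / Q (e (π i))) * (ab i).2 else (ab (π i)).2
  have hlt : ∀ i, i < π i ∨ π i < i := fun i => lt_or_gt_of_ne (hπ' i).symm
  have hA : ∀ i, A (π i) = - A i := by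
    intro i
    rcases hlt i with h | h
    · have h' : ¬ (π i < π (π i)) := by rw [hπ]; exact not_lt.mpr h.le
      simp only [A, if_pos h, if_neg h', hπ]
    · have h' : π i < π (π i) := by rw [hπ]; exact h
      have h'' : ¬ (i < π i) := not_lt.mpr h.le
      simp only [A, if_pos h', if_neg h'', neg_neg]
  have hAC : ∀ i, A i ^ 2 + C i * C (π i) = δ := by
    intro i
    rcases hlt i with h | h
    · have h' : ¬ (π i < π (π i)) := by rw [hπ]; exact not_lt.mpr h.le
      simp only [A, C, if_pos h, if_neg h', hπ]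
      have := hab i
      linear_combination this
    · have h' : π i < π (π i) := by rw [hπ]; exact h
      have h'' : ¬ (i < π i) := not_lt.mpr h.le
      simp only [A, C, if_pos h', if_neg h'', hπ]
      have := hab (π i)
      rw [hπ] at this
      linear_combination this
  have hCQ : ∀ i, C i * Q (e (π i)) = C (π i) * Q (e i) := by
    intro i
    have h1 := hne i
    have h1' := hne (π i)
    rcases hlt i with h | h
    · have h' : ¬ (π i < π (π i)) := by rw [hπ]; exact not_lt.mpr h.le
      simp only [C, if_pos h, if_neg h', hπ]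
      field_simp
    · have h' : π i < π (π i) := by rw [hπ]; exact h
      have h'' : ¬ (i < π i) := not_lt.mpr h.le
      simp only [C, if_pos h', if_neg h'', hπ]
      field_simp
  let L : (ι → F) →ₗ[F] (ι → F) := b.constr F (fun i => A i • e i + C i • e (π i))
  have hL : ∀ i, L (e i) = A i • e i + C i • e (π i) := by
    intro i
    rw [← hb i]
    simp only [L, Module.Basis.constr_basis]
    rw [hb i]
  have hmv : ∀ v, LinearMap.toMatrix' L *ᵥ v = L v := by
    intro v
    rw [← Matrix.toLin'_apply, Matrix.toLin'_toMatrix']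
  have hLL : L ∘ₗ L = δ • LinearMap.id := by
    apply b.ext
    intro i
    rw [hb i, LinearMap.comp_apply, hL i, map_add, map_smul, map_smul, hL i, hL (π i), hπ i, hA i,
      LinearMap.smul_apply, LinearMap.id_apply]
    calc A i • (A i • e i + C i • e (π i)) + C i • (-A i • e (π i) + C (π i) • e i)
        = (A i ^ 2 + C i * C (π i)) • e i := by module
      _ = δ • e i := by rw [hAC]
  refine ⟨LinearMap.toMatrix' L, ?_, ?_, ?_⟩
  · rw [← LinearMap.toMatrix'_comp, hLL, map_smul, LinearMap.toMatrix'_id]
  · intro u v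
    rw [hmv, hmv]
    have hB : (QuadraticMap.polarBilin Q).comp L = (QuadraticMap.polarBilin Q).compl₂ L := by
      apply LinearMap.ext_basis b b
      intro i j
      rw [hb i, hb j, LinearMap.comp_apply, LinearMap.compl₂_apply, hL i, hL j]
      simp only [map_add, map_smul, LinearMap.add_apply, LinearMap.smul_apply, smul_eq_mul,
        QuadraticMap.polarBilin_apply_apply]
      by_cases hij : j = i
      · subst hij
        rw [horth (π j) j (hπ' j), horth j (π j) (hπ' j).symm]
      · rw [horth i j (Ne.symm hij)]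
        by_cases hij' : j = π i
        · subst hij'
          rw [hπ i, QuadraticMap.polar_self, QuadraticMap.polar_self]
          have := hCQ i
          linear_combination 2 * this
        · have hi : i ≠ π j := by
            intro h
            apply hij'
            rw [h, hπ]
          rw [horth (π i) j (Ne.symm hij'), horth i (π j) hi]
          ring
    have := congrArg (fun f => f u v) hB
    simpa [LinearMap.comp_apply, LinearMap.compl₂_apply] using this
  · apply Matrix.toLin'.injective
    rw [Matrix.toLin'_mul, Matrix.toLin'_mul, Matrix.toLin'_toMatrix']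
    apply b.ext
    intro i
    rw [hb i, LinearMap.comp_apply, LinearMap.comp_apply, Matrix.toLin'_apply, Matrix.toLin'_apply,
      hxe i, map_smul, hL i, Matrix.mulVec_add, Matrix.mulVec_smul, Matrix.mulVec_smul, hxe i,
      hxe (π i), hεπ i]
    module

end Cfsg.Agent.Lib.helper59.Sfk
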