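import Mathlib
import Cfsg.Prelude.Def_LinearParabolics
import Cfsg.Agent.Lib.helper45.UnipotentGL
import Cfsg.Agent.Lib.helper45.ParabolicDC

/-!
# The Steinberg character of `GL_n(q)` restricted to `SL_n(q)` (helper43)

The partition-indexed alternating sums of flag characters of `GL_n(q)` stay orthonormal after
restriction to `SL_n(q)`: the stabiliser in `GL_n` of a pair of parabolic cosets contains a conjugate of
the diagonal torus, on which `det` is onto, so `SL_n` and `GL_n` have the same orbits on pairs of cosets.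
-/

set_option autoImplicit false

namespace Cfsg.Agent.Lib.helper43

open scoped MatrixGroups ComplexConjugate
open Cfsg.Agent.Lib.helper45

universe u

section general

variable {G : Type*} [Group G] {S : Type*} [Group S]

/-- Burnside for a group acting through a homomorphism: if `φ(S)` has the same orbits as `G` on pairs of
cosets, the inner products of the two permutation characters agree. -/
theorem inner_fixedPointCharacter_comp [Fintype G] [Fintype S] (φ : S →* G) (H K : Subgroup G)
    (hφ : ∀ a b g : G, ∃ s : S, ((φ s * a : G) : G ⧸ H) = ((g * a : G) : G ⧸ H) ∧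
      ((φ s * b : G) : G ⧸ K) = ((g * b : G) : G ⧸ K)) :
    (Nat.card S : ℂ)⁻¹ * ∑ s : S, Cfsg.fixedPointCharacter H (φ s) * Cfsg.fixedPointCharacter K (φ s) =
      (Nat.card G : ℂ)⁻¹ * ∑ g : G, Cfsg.fixedPointCharacter H g * Cfsg.fixedPointCharacter K g := by
  classical
  rw [inner_fixedPointCharacter]
  let _ : MulAction S ((G ⧸ H) × (G ⧸ K)) := MulAction.compHom _ φ
  have : Fintype (G ⧸ H) := Fintype.ofFinite _
  have : Fintype (G ⧸ K) := Fintype.ofFinite _
  have : Fintype (MulAction.orbitRel.Quotient S ((G ⧸ H) × (G ⧸ K))) := Fintype.ofFinite _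
  have hB := MulAction.sum_card_fixedBy_eq_card_orbits_mul_card_group S ((G ⧸ H) × (G ⧸ K))
  have h1 : ∀ s : S, Cfsg.fixedPointCharacter H (φ s) * Cfsg.fixedPointCharacter K (φ s) =
      ((Fintype.card (MulAction.fixedBy ((G ⧸ H) × (G ⧸ K)) s) : ℕ) : ℂ) := by
    intro s
    unfold Cfsg.fixedPointCharacter
    rw [← Nat.card_eq_fintype_card, ← Nat.cast_mul, ← card_fixedBy_prod']
    rfl
  simp_rw [h1]
  rw [← Nat.cast_sum, hB, Nat.card_eq_fintype_card, Nat.cast_mul]
  have hS : (Fintype.card S : ℂ) ≠ 0 := by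
    exact_mod_cast Fintype.card_ne_zero
  rw [mul_comm, mul_assoc, mul_inv_cancel₀ hS, mul_one, ← Nat.card_eq_fintype_card]
  congr 1
  have hrel : MulAction.orbitRel S ((G ⧸ H) × (G ⧸ K)) = MulAction.orbitRel G ((G ⧸ H) × (G ⧸ K)) := by
    ext p p'
    rw [MulAction.orbitRel_apply, MulAction.orbitRel_apply]
    constructor
    · rintro ⟨s, hs⟩
      exact ⟨φ s, hs⟩
    · rintro ⟨g, hg⟩
      obtain ⟨u, v⟩ := p'
      induction u using QuotientGroup.induction_on with
      | _ x =>
      induction v using QuotientGroup.induction_on with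
      | _ y =>
      obtain ⟨s, hs1, hs2⟩ := hφ x y g
      refine ⟨s, ?_⟩
      rw [← hg]
      exact Prod.ext hs1 hs2
  exact Nat.card_congr (Quotient.congrRight (fun p p' => by rw [hrel]))

/-- A central element of a subgroup fixes every coset. -/
theorem fixedPointCharacter_central (H : Subgroup G) (c : G) (hc : ∀ g : G, g * c = c * g) (hcH : c ∈ H) :
    Cfsg.fixedPointCharacter H c = Cfsg.fixedPointCharacter H 1 := by
  unfold Cfsg.fixedPointCharacter
  have h : MulAction.fixedBy (G ⧸ H) c = MulAction.fixedBy (G ⧸ H) (1 : G) := by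
    rw [MulAction.fixedBy_one_eq_univ]
    ext x
    simp only [Set.mem_univ, iff_true, MulAction.mem_fixedBy]
    induction x using QuotientGroup.induction_on with
    | _ g =>
    show ((c * g : G) : G ⧸ H) = (g : G ⧸ H)
    rw [QuotientGroup.eq, ← hc g]
    have : (g * c)⁻¹ * g = c⁻¹ := by group
    rw [this]
    exact H.inv_mem hcH
  rw [h]

end general

section torus

variable {F : Type*} [Field F] {n : ℕ}

/-- Invertible diagonal matrices. -/
def diagGL (d : Fin n → Fˣ) : GL (Fin n) F :=
  ⟨Matrix.diagonal (fun i => (d i : F)), Matrix.diagonal (fun i => (((d i)⁻¹ : Fˣ) : F)), by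
    rw [Matrix.diagonal_mul_diagonal]
    simp, by
    rw [Matrix.diagonal_mul_diagonal]
    simp⟩

theorem diagGL_val (d : Fin n → Fˣ) :
    ((diagGL d : GL (Fin n) F) : Matrix (Fin n) (Fin n) F) = Matrix.diagonal (fun i => (d i : F)) := rfl

theorem diagGL_mem_parabolicGL (μ : Fin n → ℕ) (d : Fin n → Fˣ) :
    diagGL d ∈ Cfsg.parabolicGL n F μ := by
  rw [mem_parabolicGL_iff, diagGL_val]
  exact Matrix.blockTriangular_diagonal _

theorem diagGL_mul_permGL (d : Fin n → Fˣ) (σ : Equiv.Perm (Fin n)) :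
    diagGL d * permGL σ = permGL σ * diagGL (fun i => d (σ i)) := by
  apply Units.ext
  ext i j
  rw [Units.val_mul, Units.val_mul, diagGL_val, diagGL_val, permGL_val, Matrix.diagonal_mul,
    Matrix.mul_diagonal, permMat_apply]
  split_ifs with h
  · rw [h, mul_one, one_mul]
  · rw [mul_zero, zero_mul]

theorem det_diagGL (d : Fin n → Fˣ) : Matrix.GeneralLinearGroup.det (diagGL d) = ∏ i, d i := by
  apply Units.ext
  rw [Matrix.GeneralLinearGroup.val_det_apply, diagGL_val, Matrix.det_diagonal]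
  simp

/-- The stabiliser of a pair of parabolic cosets contains elements of every determinant. -/
theorem exists_stab_det (α β : Fin n → ℕ) (hn : 0 < n) (a b : GL (Fin n) F) (δ : Fˣ) :
    ∃ t : GL (Fin n) F, Matrix.GeneralLinearGroup.det t = δ ∧
      ((t * a : GL (Fin n) F) : GL (Fin n) F ⧸ Cfsg.parabolicGL n F α) =
        (a : GL (Fin n) F ⧸ Cfsg.parabolicGL n F α) ∧
      ((t * b : GL (Fin n) F) : GL (Fin n) F ⧸ Cfsg.parabolicGL n F β) =
        (b : GL (Fin n) F ⧸ Cfsg.parabolicGL n F β) := by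
  classical
  obtain ⟨σ, p, q, hp, hq, h⟩ := exists_perm_parabolic α β (a⁻¹ * b)
  set d : Fin n → Fˣ := Pi.mulSingle ⟨0, hn⟩ δ with hd
  have hb : b = a * p * permGL σ * q := by
    rw [mul_assoc a p, mul_assoc a, ← h]
    group
  refine ⟨a * p * diagGL d * p⁻¹ * a⁻¹, ?_, ?_, ?_⟩
  · rw [map_mul, map_mul, map_mul, map_mul, map_inv, map_inv, det_diagGL, hd,
      Finset.prod_pi_mulSingle', if_pos (Finset.mem_univ _), mul_right_comm _ _ δ,
      mul_inv_cancel_right, mul_comm _ δ, mul_inv_cancel_right]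
  · rw [QuotientGroup.eq]
    have : (a * p * diagGL d * p⁻¹ * a⁻¹ * a)⁻¹ * a = p * (diagGL d)⁻¹ * p⁻¹ := by group
    rw [this]
    exact mul_mem (mul_mem hp (inv_mem (diagGL_mem_parabolicGL α d))) (inv_mem hp)
  · rw [QuotientGroup.eq]
    have e1 : a * p * diagGL d * p⁻¹ * a⁻¹ * b = a * p * (diagGL d * permGL σ) * q := by
      rw [hb]
      group
    rw [e1, diagGL_mul_permGL]
    have e2 : (a * p * (permGL σ * diagGL (fun i => d (σ i))) * q)⁻¹ * b =
        q⁻¹ * (diagGL (fun i => d (σ i)))⁻¹ * q := by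
      rw [hb]
      group
    rw [e2]
    exact mul_mem (mul_mem (inv_mem hq) (inv_mem (diagGL_mem_parabolicGL β _))) hq

/-- `SL_n` has the same orbits as `GL_n` on pairs of parabolic cosets. -/
theorem exists_SL_smul (α β : Fin n → ℕ) (hn : 0 < n) (a b g : GL (Fin n) F) :
    ∃ s : Matrix.SpecialLinearGroup (Fin n) F,
      ((Matrix.SpecialLinearGroup.toGL s * a : GL (Fin n) F) : GL (Fin n) F ⧸ Cfsg.parabolicGL n F α) =
        ((g * a : GL (Fin n) F) : GL (Fin n) F ⧸ Cfsg.parabolicGL n F α) ∧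
      ((Matrix.SpecialLinearGroup.toGL s * b : GL (Fin n) F) : GL (Fin n) F ⧸ Cfsg.parabolicGL n F β) =
        ((g * b : GL (Fin n) F) : GL (Fin n) F ⧸ Cfsg.parabolicGL n F β) := by
  obtain ⟨t, ht, hta, htb⟩ := exists_stab_det α β hn a b (Matrix.GeneralLinearGroup.det g)
  have hdet : ((g * t⁻¹ : GL (Fin n) F) : Matrix (Fin n) (Fin n) F).det = 1 := by
    rw [← Matrix.GeneralLinearGroup.val_det_apply, map_mul, map_inv, ht, mul_inv_cancel, Units.val_one]
  have hs : Matrix.SpecialLinearGroup.toGL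
      (⟨((g * t⁻¹ : GL (Fin n) F) : Matrix (Fin n) (Fin n) F), hdet⟩ : Matrix.SpecialLinearGroup (Fin n) F) =
      g * t⁻¹ := Units.ext rfl
  refine ⟨⟨_, hdet⟩, ?_, ?_⟩
  · rw [hs, QuotientGroup.eq]
    have h1 := QuotientGroup.eq.mp hta
    have : (g * t⁻¹ * a)⁻¹ * (g * a) = ((t * a)⁻¹ * a)⁻¹ := by group
    rw [this]
    exact inv_mem h1
  · rw [hs, QuotientGroup.eq]
    have h1 := QuotientGroup.eq.mp htb
    have : (g * t⁻¹ * b)⁻¹ * (g * b) = ((t * b)⁻¹ * b)⁻¹ := by group
    rw [this]
    exact inv_mem h1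

end torus

section restrict

variable {F : Type u} [Field F] [Fintype F] {n : ℕ}

/-- The partition-indexed characters of `GL_n(q)` restrict irreducibly to `SL_n(q)`. -/
theorem isIrrCharacter_unipotent_SL (hn : 0 < n) (ν : Fin n → ℕ) (hmono : Monotone ν)
    (hsum : ∑ i, ν i = n) :
    Cfsg.IsIrrCharacter (Matrix.SpecialLinearGroup (Fin n) F)
      (fun s => Cfsg.unipotentCharacterGL n F ν (Matrix.SpecialLinearGroup.toGL s)) := by
  classical
  have : Fintype (GL (Fin n) F) := Fintype.ofFinite _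
  have : Fintype (Matrix.SpecialLinearGroup (Fin n) F) := Fintype.ofFinite _
  have hfun : (fun s : Matrix.SpecialLinearGroup (Fin n) F =>
      Cfsg.unipotentCharacterGL n F ν (Matrix.SpecialLinearGroup.toGL s)) =
      fun s => ∑ κ : Equiv.Perm (Fin n), uCoeff ν κ *
        (fun (κ : Equiv.Perm (Fin n)) (s : Matrix.SpecialLinearGroup (Fin n) F) =>
          Cfsg.fixedPointCharacter (Cfsg.parabolicGL n F fun i => ν i + i.val - (κ i).val)
            (Matrix.SpecialLinearGroup.toGL s)) κ s := by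
    funext s
    rw [unipotentCharacterGL_eq ν]
  apply Cfsg.Agent.Lib.helper84.isIrrCharacter_of_norm_one
  · intro g h
    show Cfsg.unipotentCharacterGL n F ν (Matrix.SpecialLinearGroup.toGL (h * g * h⁻¹)) = _
    rw [map_mul, map_mul, map_inv]
    exact isClassFunction_unipotent ν _ _
  · intro χ
    rw [hfun, classInner_sum_left]
    have h : ∀ κ : Equiv.Perm (Fin n), ∃ m : ℕ, Cfsg.classInner
        (fun s : Matrix.SpecialLinearGroup (Fin n) F =>
          Cfsg.fixedPointCharacter (Cfsg.parabolicGL n F fun i => ν i + i.val - (κ i).val)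
            (Matrix.SpecialLinearGroup.toGL s))
        (χ : Matrix.SpecialLinearGroup (Fin n) F → ℂ) = m := fun κ =>
      Cfsg.Agent.Lib.helper84.classInner_isCharacter_nat
        (Cfsg.Agent.Lib.helper4.isCharacter_comp Matrix.SpecialLinearGroup.toGL
          (isCharacter_fixedPointCharacter _))
        (Cfsg.Agent.Lib.helper4.isCharacter_of_isIrrCharacter χ.2)
    choose m hm using h
    refine ⟨∑ κ : Equiv.Perm (Fin n),
      (if ∀ i : Fin n, (κ i).val ≤ ν i + i.val then (Equiv.Perm.sign κ : ℤ) else 0) * (m κ : ℤ), ?_⟩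
    rw [Int.cast_sum]
    apply Finset.sum_congr rfl
    intro κ _
    rw [hm κ]
    unfold uCoeff
    split_ifs <;> simp
  · rw [hfun, classInner_sum_sum _ _ _ _ (fun κ g => conj_fixedPointCharacter _ _) (conj_uCoeff ν)]
    have hterm : ∀ κ κ' : Equiv.Perm (Fin n),
        (Nat.card (Matrix.SpecialLinearGroup (Fin n) F) : ℂ)⁻¹ *
          ∑ s : Matrix.SpecialLinearGroup (Fin n) F,
            Cfsg.fixedPointCharacter (Cfsg.parabolicGL n F fun i => ν i + i.val - (κ i).val)
              (Matrix.SpecialLinearGroup.toGL s) *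
            Cfsg.fixedPointCharacter (Cfsg.parabolicGL n F fun i => ν i + i.val - (κ' i).val)
              (Matrix.SpecialLinearGroup.toGL s) =
        (Nat.card (GL (Fin n) F) : ℂ)⁻¹ * ∑ g : GL (Fin n) F,
            Cfsg.fixedPointCharacter (Cfsg.parabolicGL n F fun i => ν i + i.val - (κ i).val) g *
            Cfsg.fixedPointCharacter (Cfsg.parabolicGL n F fun i => ν i + i.val - (κ' i).val) g :=
      fun κ κ' => inner_fixedPointCharacter_comp Matrix.SpecialLinearGroup.toGL _ _
        (exists_SL_smul _ _ hn)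
    simp only [hterm]
    rw [← classInner_sum_sum _ _ _ _ (fun κ g => conj_fixedPointCharacter _ g) (conj_uCoeff ν),
      ← unipotentCharacterGL_eq, classInner_unipotent ν ν hmono hsum hmono hsum, if_pos rfl]
  · show 0 < (Cfsg.unipotentCharacterGL n F ν (Matrix.SpecialLinearGroup.toGL 1)).re
    rw [map_one]
    exact unipotent_degree_pos ν hmono hsum

/-- The restricted characters are trivial on the centre of `SL_n(q)`. -/
theorem unipotent_SL_center (ν : Fin n → ℕ) (z : Matrix.SpecialLinearGroup (Fin n) F)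
    (hz : z ∈ Subgroup.center (Matrix.SpecialLinearGroup (Fin n) F)) :
    Cfsg.unipotentCharacterGL n F ν (Matrix.SpecialLinearGroup.toGL z) =
      Cfsg.unipotentCharacterGL n F ν (Matrix.SpecialLinearGroup.toGL 1) := by
  obtain ⟨r, hr, hrz⟩ := Matrix.SpecialLinearGroup.mem_center_iff.mp hz
  have hval : ((Matrix.SpecialLinearGroup.toGL z : GL (Fin n) F) : Matrix (Fin n) (Fin n) F) =
      Matrix.diagonal (fun _ => r) := by
    show (z : Matrix (Fin n) (Fin n) F) = _
    rw [← hrz]
    rfl
  have hcomm : ∀ g : GL (Fin n) F, g * Matrix.SpecialLinearGroup.toGL z =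
      Matrix.SpecialLinearGroup.toGL z * g := by
    intro g
    apply Units.ext
    rw [Units.val_mul, Units.val_mul, hval]
    ext i j
    rw [Matrix.diagonal_mul, Matrix.mul_diagonal, mul_comm]
  have hmem : ∀ μ : Fin n → ℕ, Matrix.SpecialLinearGroup.toGL z ∈ Cfsg.parabolicGL n F μ := by
    intro μ
    rw [mem_parabolicGL_iff, hval]
    exact Matrix.blockTriangular_diagonal _
  unfold Cfsg.unipotentCharacterGL
  apply Finset.sum_congr rfl
  intro κ _
  split_ifs
  · rw [fixedPointCharacter_central _ _ hcomm (hmem _), map_one]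
  · rfl

end restrict

section degree

theorem prod_fin_lt {M : Type*} [CommMonoid M] (n : ℕ) (f : ℕ → ℕ → M) :
    ∏ i : Fin n, ∏ j ∈ Finset.univ.filter (fun j : Fin n => i < j), f i.val j.val =
      ∏ j ∈ Finset.range n, ∏ i ∈ Finset.range j, f i j := by
  rw [Finset.prod_comm' (s' := fun j : Fin n => Finset.univ.filter (fun i : Fin n => i < j))
    (t' := Finset.univ) (by intro x y; simp)]
  rw [← Fin.prod_univ_eq_prod_range (fun j => ∏ i ∈ Finset.range j, f i j) n]
  apply Finset.prod_congr rfl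
  intro j _
  rw [Finset.prod_filter]
  have h1 := Fin.prod_univ_eq_prod_range (fun i => if i < j.val then f i j.val else 1) n
  rw [show (∏ i : Fin n, if i < j then f i.val j.val else 1) =
    ∏ i : Fin n, (fun i => if i < j.val then f i j.val else 1) i.val from rfl, h1, ← Finset.prod_filter]
  congr 1
  ext i
  have := j.2
  simp only [Finset.mem_filter, Finset.mem_range]
  omega

variable {F : Type*} [Field F] [Fintype F]

/-- The degree of the Steinberg character of `GL_n(q)` is `q^(n(n-1)/2)`. -/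
theorem steinberg_degree (n : ℕ) :
    Cfsg.unipotentCharacterGL n F (fun _ => 1) 1 = ((Fintype.card F : ℕ) : ℂ) ^ tri n := by
  set q := Fintype.card F with hqdef
  have hq : 0 < q := Fintype.card_pos
  have hsum : ∑ i : Fin n, (fun _ : Fin n => 1) i = n := by simp
  have h1 := unipotent_degree_mul (F := F) (fun _ : Fin n => 1) hsum
  have h2 := sum_sign_ff (n := n) q (fun i : Fin n => 1 + i.val)
  beta_reduce at h1 h2
  rw [← hqdef] at h1
  have hV : ∏ i : Fin n, ∏ j ∈ Finset.univ.filter (fun j : Fin n => i < j),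
      ((gs q (1 + j.val) : ℂ) - (gs q (1 + i.val) : ℂ)) =
      (q : ℂ) ^ (n * (n - 1) * (n - 2) / 6 + tri n) * ∏ j ∈ Finset.range n, (qfac q j : ℂ) := by
    rw [prod_fin_lt n (fun i j => ((gs q (1 + j) : ℂ) - (gs q (1 + i) : ℂ)))]
    have hj : ∀ j ∈ Finset.range n, ∏ i ∈ Finset.range j, ((gs q (1 + j) : ℂ) - (gs q (1 + i) : ℂ)) =
        (q : ℂ) ^ (tri (j + 1)) * (qfac q j : ℂ) := by
      intro j _
      have h3 : ∀ i ∈ Finset.range j, ((gs q (1 + j) : ℂ) - (gs q (1 + i) : ℂ)) =
          (q : ℂ) ^ (i + 1) * (fun k => (gs q (k + 1) : ℂ)) (j - 1 - i) := by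
        intro i hi
        rw [Finset.mem_range] at hi
        rw [gs_split q (1 + j) (1 + i) (by omega)]
        have e : 1 + j - (1 + i) = j - 1 - i + 1 := by omega
        rw [e, add_comm 1 i]
        push_cast
        ring
      rw [Finset.prod_congr rfl h3, Finset.prod_mul_distrib, Finset.prod_pow_eq_pow_sum,
        Finset.prod_range_reflect (fun k => (gs q (k + 1) : ℂ)) j, qfac_eq, Nat.cast_prod]
      congr 2
      unfold tri
      rw [Finset.sum_range_succ', add_zero]
    rw [Finset.prod_congr rfl hj, Finset.prod_mul_distrib, Finset.prod_pow_eq_pow_sum]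
    congr 2
    have e1 := Finset.sum_range_succ' tri n
    have e2 := Finset.sum_range_succ tri n
    have e3 : tri 0 = 0 := rfl
    rw [← sum_tri n]
    omega
  have hA : (∏ i : Fin n, (qfac q (1 + i.val) : ℂ)) =
      (∏ j ∈ Finset.range n, (qfac q j : ℂ)) * (qfac q n : ℂ) := by
    rw [Fin.prod_univ_eq_prod_range (fun i => (qfac q (1 + i) : ℂ)) n]
    have e1 := Finset.prod_range_succ' (fun j => (qfac q j : ℂ)) n
    have e2 := Finset.prod_range_succ (fun j => (qfac q j : ℂ)) n
    have e3 : (qfac q 0 : ℂ) = 1 := by simp [qfac]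
    rw [e3, mul_one] at e1
    rw [← e2, e1]
    apply Finset.prod_congr rfl
    intro i _
    rw [add_comm]
  have hA0 : (∏ i : Fin n, (qfac q (1 + i.val) : ℂ)) ≠ 0 := by
    rw [Finset.prod_ne_zero_iff]
    intro i _
    exact_mod_cast (qfac_pos q _ hq).ne'
  have hq0 : (q : ℂ) ^ (n * (n - 1) * (n - 2) / 6) ≠ 0 := by
    apply pow_ne_zero
    exact_mod_cast hq.ne'
  have key : Cfsg.unipotentCharacterGL n F (fun _ => 1) 1 *
      ((∏ i : Fin n, (qfac q (1 + i.val) : ℂ)) * (q : ℂ) ^ (n * (n - 1) * (n - 2) / 6)) =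
      (q : ℂ) ^ tri n * ((∏ i : Fin n, (qfac q (1 + i.val) : ℂ)) * (q : ℂ) ^ (n * (n - 1) * (n - 2) / 6)) := by
    rw [← mul_assoc, h1, mul_assoc, mul_comm _ ((q : ℂ) ^ (n * (n - 1) * (n - 2) / 6)), h2, hV, hA, pow_add]
    ring
  exact mul_right_cancel₀ (mul_ne_zero hA0 hq0) key

end degree

end Cfsg.Agent.Lib.helper43
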