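import Mathlib
import Cfsg.Agent.Lib.helper43.SteinbergSL
import Cfsg.Agent.Lib.helper6.SLCard
import Cfsg.Agent.Lib.helper82.CharQuot
import Cfsg.Agent.Lib.helper4.DefectZero

/-!
# The Steinberg character of `PSL_n(q)` (helper43)

The Steinberg character of `GL_n(q)` restricts irreducibly to `SL_n(q)`, is trivial on the centre, has
degree `q^(n(n-1)/2)`, the order of a Sylow `p`-subgroup of `PSL_n(q)`, hence is of defect zero and
vanishes at the non-trivial `p`-elements.
-/

set_option autoImplicit false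

namespace Cfsg.Agent.Lib.helper43

open scoped MatrixGroups
open Cfsg.Agent.Lib.helper45

theorem prod_glOrd_eq (q n : ℕ) :
    ∏ i : Fin n, (q ^ n - q ^ (i : ℕ)) = q ^ tri n * ∏ i : Fin n, (q ^ (n - (i : ℕ)) - 1) := by
  have h : ∀ i : Fin n, q ^ n - q ^ (i : ℕ) = q ^ (i : ℕ) * (q ^ (n - (i : ℕ)) - 1) := by
    intro i
    rw [Nat.mul_sub_one, ← pow_add, Nat.add_sub_of_le (le_of_lt i.2)]
  rw [Finset.prod_congr rfl (fun i _ => h i), Finset.prod_mul_distrib, Finset.prod_pow_eq_pow_sum]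
  congr 2
  exact Fin.sum_univ_eq_sum_range (fun i => i) n

theorem factorization_of_mul_eq {p A M e B : ℕ} (hp : p.Prime) (hA : ¬ p ∣ A) (hB : ¬ p ∣ B)
    (hM : M ≠ 0) (h : A * M = p ^ e * B) : M.factorization p = e := by
  have hA0 : A ≠ 0 := fun h0 => hA (h0 ▸ dvd_zero p)
  have hB0 : B ≠ 0 := fun h0 => hB (h0 ▸ dvd_zero p)
  have h2 : (A * M).factorization p = (p ^ e * B).factorization p := by rw [h]
  rw [Nat.factorization_mul hA0 hM, Nat.factorization_mul (pow_ne_zero _ hp.ne_zero) hB0,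
    Finsupp.add_apply, Finsupp.add_apply, Nat.factorization_eq_zero_of_not_dvd hA,
    Nat.factorization_eq_zero_of_not_dvd hB, Nat.Prime.factorization_pow hp,
    Finsupp.single_eq_same, zero_add, add_zero] at h2
  exact h2

variable {F : Type*} [Field F] [Fintype F]

/-- The order of a Sylow `p`-subgroup of `PSL_n(q)` in the defining characteristic. -/
theorem card_sylow_PSL (p : ℕ) [Fact p.Prime] [CharP F p] (n : ℕ) (hn : 1 ≤ n)
    (P : Sylow p (Matrix.ProjectiveSpecialLinearGroup (Fin n) F)) :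
    Nat.card P = Fintype.card F ^ tri n := by
  classical
  have hp := (Fact.out : p.Prime)
  obtain ⟨f, -, hq⟩ := FiniteField.card F p
  have hq1 : 1 ≤ Fintype.card F := Fintype.card_pos
  have hpq : p ∣ Fintype.card F := by
    rw [hq]
    exact dvd_pow_self p f.ne_zero
  have h1 := Cfsg.Agent.Lib.helper6.card_PSL (F := F) n hn
  rw [prod_glOrd_eq (Fintype.card F) n, ← mul_assoc] at h1
  have e3 : Fintype.card F ^ tri n = p ^ ((f : ℕ) * tri n) := by
    rw [pow_mul, ← hq]
  rw [e3] at h1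
  have hA : ¬ p ∣ Nat.gcd n (Fintype.card F - 1) * (Fintype.card F - 1) := by
    intro h
    have h' : p ∣ Fintype.card F - 1 := by
      rcases (Nat.Prime.dvd_mul hp).mp h with h | h
      · exact h.trans (Nat.gcd_dvd_right _ _)
      · exact h
    have e : Fintype.card F - 1 + 1 = Fintype.card F := Nat.sub_add_cancel hq1
    have : p ∣ 1 := (Nat.dvd_add_right h').mp (e.symm ▸ hpq)
    exact hp.ne_one (Nat.dvd_one.mp this)
  have hB : ¬ p ∣ ∏ i : Fin n, (Fintype.card F ^ (n - (i : ℕ)) - 1) := by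
    intro h
    obtain ⟨i, -, hi⟩ := (Prime.dvd_finsetProd_iff hp.prime _).mp h
    have hpos : 1 ≤ Fintype.card F ^ (n - (i : ℕ)) := Nat.one_le_pow _ _ hq1
    have hd : p ∣ Fintype.card F ^ (n - (i : ℕ)) := dvd_pow hpq (by have := i.2; omega)
    have e : Fintype.card F ^ (n - (i : ℕ)) - 1 + 1 = Fintype.card F ^ (n - (i : ℕ)) :=
      Nat.sub_add_cancel hpos
    have : p ∣ 1 := (Nat.dvd_add_right hi).mp (e.symm ▸ hd)
    exact hp.ne_one (Nat.dvd_one.mp this)
  rw [Sylow.card_eq_multiplicity, factorization_of_mul_eq hp hA hB Nat.card_pos.ne' h1, e3]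

/-- The Steinberg character of `PSL_n(q)`. -/
theorem exists_steinberg_PSL (p : ℕ) [Fact p.Prime] [CharP F p] (n : ℕ) (hn : 2 ≤ n) :
    ∃ χ : Matrix.ProjectiveSpecialLinearGroup (Fin n) F → ℂ,
      Cfsg.IsIrrCharacter (Matrix.ProjectiveSpecialLinearGroup (Fin n) F) χ ∧
      ∀ P : Sylow p (Matrix.ProjectiveSpecialLinearGroup (Fin n) F), χ 1 = Nat.card P ∧
        ∀ x : Matrix.ProjectiveSpecialLinearGroup (Fin n) F, x ∈ P → x ≠ 1 → χ x = 0 := by
  classical
  have hp := (Fact.out : p.Prime)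
  have hirr := isIrrCharacter_unipotent_SL (F := F) (n := n) (by omega) (fun _ => 1)
    (fun _ _ _ => le_refl _) (by simp)
  obtain ⟨ψ, hψ, hψv⟩ := Cfsg.Agent.Lib.helper82.isIrrCharacter_deflation
    (Subgroup.center (Matrix.SpecialLinearGroup (Fin n) F)) hirr
    (fun z hz => unipotent_SL_center _ z hz)
  refine ⟨ψ, hψ, fun P => ?_⟩
  have hdeg : ψ 1 = ((Fintype.card F ^ tri n : ℕ) : ℂ) := by
    have h1 := hψv 1
    rw [map_one, steinberg_degree] at h1
    rw [Nat.cast_pow, ← h1]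
    rfl
  have hcard := card_sylow_PSL p n (by omega) P
  refine ⟨by rw [hdeg, hcard], fun x hx hx1 => ?_⟩
  obtain ⟨m, ρ, hρ, hχ⟩ := hψ
  have : ρ.IsIrreducible := hρ
  rw [← hχ]
  have hm : (m : ℂ) = ψ 1 := by
    rw [← hχ, Representation.char_one, Module.finrank_fin_fun]
  have hm' : m = Fintype.card F ^ tri n := by
    exact_mod_cast hm.trans hdeg
  have hk : Nat.card P =
      p ^ (Nat.card (Matrix.ProjectiveSpecialLinearGroup (Fin n) F)).factorization p :=
    Sylow.card_eq_multiplicity P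
  apply Cfsg.Agent.Lib.helper4.char_eq_zero_of_defect_zero ρ p
    ((Nat.card (Matrix.ProjectiveSpecialLinearGroup (Fin n) F)).factorization p) hp
  · exact Nat.pow_succ_factorization_not_dvd Nat.card_pos.ne' hp
  · rw [Module.finrank_fin_fun, hm', ← hcard, hk]
  · obtain ⟨j, hj⟩ := (IsPGroup.iff_orderOf.mp P.isPGroup') ⟨x, hx⟩
    rw [Subgroup.orderOf_mk] at hj
    rw [hj]
    apply dvd_pow_self
    rintro rfl
    rw [pow_zero, orderOf_eq_one_iff] at hj
    exact hx1 hj

end Cfsg.Agent.Lib.helper43
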