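import Mathlib
import Cfsg.Agent.Lib.helper61.SL25Pres

set_option autoImplicit false

namespace Cfsg.Agent.Lib.helper43.TIH

open Cfsg.Agent.Lib.helper61.SL25

/-- the diagonal matrix `diag(2, 3)` of `SL(2,5)`. -/
def h43_dg : Matrix.SpecialLinearGroup (Fin 2) (ZMod 5) := ⟨!![2, 0; 0, 3], by decide⟩
/-- the upper transvection. -/
def h43_up : Matrix.SpecialLinearGroup (Fin 2) (ZMod 5) := ⟨!![1, 1; 0, 1], by decide⟩
/-- the lower transvection. -/
def h43_lo : Matrix.SpecialLinearGroup (Fin 2) (ZMod 5) := ⟨!![1, 0; 1, 1], by decide⟩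

theorem h43_up_eq : h43_up = (h43_dg * h43_up * h43_dg⁻¹ * h43_up⁻¹) *
    (h43_dg * h43_up * h43_dg⁻¹ * h43_up⁻¹) := by decide

theorem h43_lo_eq : h43_lo = (h43_dg * h43_lo * h43_dg⁻¹ * h43_lo⁻¹) *
    (h43_dg * h43_lo * h43_dg⁻¹ * h43_lo⁻¹) := by decide

theorem h43_comm_mem {G : Type*} [Group G] (a b : G) : a * b * a⁻¹ * b⁻¹ ∈ commutator G :=
  Subgroup.commutator_mem_commutator (Subgroup.mem_top a) (Subgroup.mem_top b)

theorem h43_commutator_sl25 :
    commutator (Matrix.SpecialLinearGroup (Fin 2) (ZMod 5)) = ⊤ := by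
  rw [eq_top_iff, ← closure_elem, Subgroup.closure_le]
  rintro g (hg | hg)
  · have : g = h43_lo := Subtype.ext hg
    rw [this, h43_lo_eq]
    exact mul_mem (h43_comm_mem _ _) (h43_comm_mem _ _)
  · have : g = h43_up := Subtype.ext hg
    rw [this, h43_up_eq]
    exact mul_mem (h43_comm_mem _ _) (h43_comm_mem _ _)

/-- **B**: `SL(2,5)` is not solvable. -/
theorem sl25_not_solvable :
    ¬ Group.IsSolvable (Matrix.SpecialLinearGroup (Fin 2) (ZMod 5)) := by
  intro h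
  have : Nontrivial (Matrix.SpecialLinearGroup (Fin 2) (ZMod 5)) :=
    ⟨⟨h43_up, 1, by decide⟩⟩
  have hlt := Group.IsSolvable.commutator_lt_top_of_nontrivial (Matrix.SpecialLinearGroup (Fin 2) (ZMod 5))
  rw [h43_commutator_sl25] at hlt
  exact lt_irrefl _ hlt

end Cfsg.Agent.Lib.helper43.TIH
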