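import Mathlib

set_option autoImplicit false

namespace Cfsg.Agent.Lib.helper43.TIH

open QuaternionGroup

/-- an automorphism of a generalized quaternion group is determined by the images of `a 1`
and `xa 0`. -/
theorem h43_quat_aut_ext (n : ℕ) [NeZero n] (φ ψ : MulAut (QuaternionGroup n))
    (h1 : φ (a 1) = ψ (a 1)) (h2 : φ (xa 0) = ψ (xa 0)) : φ = ψ := by
  have : NeZero (2 * n) := ⟨by have := NeZero.ne n; omega⟩
  have ha : ∀ i : ZMod (2 * n), φ (a i) = ψ (a i) := by
    intro i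
    have : (a i : QuaternionGroup n) = (a 1) ^ i.val := by
      rw [a_one_pow, ZMod.natCast_zmod_val]
    rw [this, map_pow, map_pow, h1]
  ext g
  cases g with
  | a i => exact ha i
  | xa i =>
    have : (xa i : QuaternionGroup n) = xa 0 * a i := by
      rw [xa_mul_a, zero_add]
    rw [this, map_mul, map_mul, h2, ha i]

theorem h43_quat_aut_finite (n : ℕ) [NeZero n] : Finite (MulAut (QuaternionGroup n)) :=
  Finite.of_injective (fun φ : MulAut (QuaternionGroup n) => (φ (a 1), φ (xa 0)))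
    (fun φ ψ h => h43_quat_aut_ext n φ ψ (congrArg Prod.fst h) (congrArg Prod.snd h))

theorem h43_quat1_card : Nat.card (MulAut (QuaternionGroup 1)) < 60 := by
  have h := Nat.card_le_card_of_injective
    (fun φ : MulAut (QuaternionGroup 1) => (φ (a 1), φ (xa 0)))
    (fun φ ψ h => h43_quat_aut_ext 1 φ ψ (congrArg Prod.fst h) (congrArg Prod.snd h))
  have h4 : Nat.card (QuaternionGroup 1) = 4 := by
    rw [Nat.card_eq_fintype_card, QuaternionGroup.card]
  rw [Nat.card_prod, h4] at h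
  omega

theorem h43_quat2_sq_a : ((a 1 : QuaternionGroup 2)) ^ 2 ≠ 1 := by decide

theorem h43_quat2_sq_xa : ((xa 0 : QuaternionGroup 2)) ^ 2 ≠ 1 := by decide

theorem h43_quat2_card_sq : Nat.card {g : QuaternionGroup 2 // g ^ 2 ≠ 1} = 6 := by
  rw [Nat.card_eq_fintype_card]
  decide

theorem h43_quat2_card : Nat.card (MulAut (QuaternionGroup 2)) < 60 := by
  have hmem : ∀ (φ : MulAut (QuaternionGroup 2)) (g : QuaternionGroup 2), g ^ 2 ≠ 1 →
      (φ g) ^ 2 ≠ 1 := by
    intro φ g hg h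
    apply hg
    rw [← map_pow] at h
    exact (MulEquiv.map_eq_one_iff φ).mp h
  have h := Nat.card_le_card_of_injective
    (fun φ : MulAut (QuaternionGroup 2) =>
      ((⟨φ (a 1), hmem φ _ h43_quat2_sq_a⟩ : {g : QuaternionGroup 2 // g ^ 2 ≠ 1}),
       (⟨φ (xa 0), hmem φ _ h43_quat2_sq_xa⟩ : {g : QuaternionGroup 2 // g ^ 2 ≠ 1})))
    (fun φ ψ h => h43_quat_aut_ext 2 φ ψ (congrArg (fun p => (p.1 : QuaternionGroup 2)) h)
      (congrArg (fun p => (p.2 : QuaternionGroup 2)) h))
  rw [Nat.card_prod, h43_quat2_card_sq] at h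
  omega

/-- **E1**: small quaternion groups have fewer than 60 automorphisms. -/
theorem quat_aut_card_small :
    (Finite (MulAut (QuaternionGroup 1)) ∧ Nat.card (MulAut (QuaternionGroup 1)) < 60) ∧
    (Finite (MulAut (QuaternionGroup 2)) ∧ Nat.card (MulAut (QuaternionGroup 2)) < 60) :=
  ⟨⟨h43_quat_aut_finite 1, h43_quat1_card⟩, ⟨h43_quat_aut_finite 2, h43_quat2_card⟩⟩

end Cfsg.Agent.Lib.helper43.TIH
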