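import Mathlib
import Cfsg.Prelude.Def_OddOrderLocal
import Cfsg.Agent.S1350
import Cfsg.Agent.Lib.helper27.BGKTI
import Cfsg.Agent.Lib.helper30.NarrowIso

set_option autoImplicit false

/-!
# S1383 piece C1a: `narrow_P`
-/

namespace Cfsg.Agent.Lib.helper43.TV

open Cfsg Subgroup

variable {G : Type*} [Group G]

/-- the order of the join of two elementwise commuting subgroups divides the product of the
orders -/
theorem h43_card_sup_dvd [Finite G] (P Y : Subgroup G)
    (hcomm : ∀ a ∈ P, ∀ b ∈ Y, a * b = b * a) :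
    Nat.card ↥(P ⊔ Y) ∣ Nat.card P * Nat.card Y := by
  have hc : ∀ (a : P) (b : Y), Commute (P.subtype a) (Y.subtype b) :=
    fun a b => hcomm a a.2 b b.2
  have h1 := MonoidHom.noncommCoprod_range P.subtype Y.subtype hc
  rw [Subgroup.range_subtype, Subgroup.range_subtype] at h1
  have h2 := Subgroup.card_range_dvd (MonoidHom.noncommCoprod P.subtype Y.subtype hc)
  rw [h1, Nat.card_prod] at h2
  exact h2

/-- **C1a** (S1350 + helper27 `narrow_sylow` + helper30 `isNarrow_of_mulEquiv`).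
`M_σ = P × Q`, `P` a `p`-group, `Q` a `p'`-group, `p ∈ σ(M) ∖ β(M)`: `P` is narrow.
(`P` is a Sylow `p`-subgroup of `M_σ`, hence of `M`, as `M_σ` is a Hall `σ(M)`-subgroup.) -/
theorem narrow_P [Finite G] (hG : IsMinSimpleOddOrder G) (M : Subgroup G) (hM : IsCoatom M)
    (p : ℕ) [Fact p.Prime] (hpσ : p ∈ sigma M) (hpβ : p ∉ beta M) (P Q : Subgroup G)
    (hPp : IsPGroup p ↥P) (hQp : (Nat.card ↥Q).Coprime p) (hPQ : P ⊔ Q = sigmaCore M)
    (hcomm : ∀ a ∈ P, ∀ b ∈ Q, a * b = b * a) : IsNarrow p ↥P := by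
  have hpp : p.Prime := Fact.out
  obtain ⟨⟨hσM, -, hidx⟩, -, -⟩ := Cfsg.Agent.S1350.result hG M hM
  have hPσ : P ≤ sigmaCore M := hPQ ▸ le_sup_left
  have hPM : P ≤ M := hPσ.trans hσM
  -- `[M_σ : P]` divides `|Q|`
  have h1 : Nat.card ↥(sigmaCore M) ∣ Nat.card P * Nat.card Q :=
    hPQ ▸ h43_card_sup_dvd P Q hcomm
  have h2 : Nat.card P * P.relIndex (sigmaCore M) = Nat.card ↥(sigmaCore M) := by
    have h := Subgroup.card_mul_index (P.subgroupOf (sigmaCore M))
    rwa [Nat.card_congr (Subgroup.subgroupOfEquivOfLe hPσ).toEquiv] at h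
  have h3 : P.relIndex (sigmaCore M) ∣ Nat.card Q := by
    rw [← h2] at h1
    exact Nat.dvd_of_mul_dvd_mul_left Nat.card_pos h1
  have h4 : ¬ p ∣ P.relIndex (sigmaCore M) := fun h =>
    (Nat.Prime.coprime_iff_not_dvd hpp).mp hQp.symm (h.trans h3)
  have h5 : ¬ p ∣ (sigmaCore M).relIndex M := hidx p hpp hpσ
  have h6 : ¬ p ∣ (P.subgroupOf M).index := by
    have h := Subgroup.relIndex_mul_relIndex P (sigmaCore M) M hPσ hσM
    intro hdvd
    have hdvd' : p ∣ P.relIndex M := hdvd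
    rw [← h] at hdvd'
    rcases hpp.dvd_mul.mp hdvd' with h' | h'
    · exact h4 h'
    · exact h5 h'
  have hPp' : IsPGroup p ↥(P.subgroupOf M) := hPp.comap_subtype
  have hn := Cfsg.Agent.Lib.helper27.BGKP.narrow_sylow hG M p hpσ hpβ (hPp'.toSylow h6)
  exact Cfsg.Agent.Lib.helper30.isNarrow_of_mulEquiv p (Subgroup.subgroupOfEquivOfLe hPM) hn

end Cfsg.Agent.Lib.helper43.TV
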