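import Mathlib
import Cfsg.Prelude.Def_OddOrderLocal
import Cfsg.Agent.S1448

set_option autoImplicit false

/-!
# S1383 piece C2b, core: `rank2_card` with the pieces CY and X1 (first clause) as hypotheses
-/

namespace Cfsg.Agent.Lib.helper43.TV

open Cfsg Subgroup
open scoped commutatorElement

variable {G : Type*} [Group G]

/-- elements of the join of two elementwise commuting subgroups are products -/
theorem h43_mem_sup_comm (R₁ R₂ : Subgroup G) (hcomm : ∀ a ∈ R₁, ∀ b ∈ R₂, a * b = b * a)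
    (x : G) (hx : x ∈ R₁ ⊔ R₂) : ∃ a ∈ R₁, ∃ b ∈ R₂, x = a * b := by
  have hc : ∀ (a : R₁) (b : R₂), Commute (R₁.subtype a) (R₂.subtype b) :=
    fun a b => hcomm a a.2 b b.2
  have h1 := MonoidHom.noncommCoprod_range R₁.subtype R₂.subtype hc
  rw [Subgroup.range_subtype, Subgroup.range_subtype] at h1
  rw [← h1] at hx
  obtain ⟨⟨a, b⟩, rfl⟩ := hx
  exact ⟨a, a.2, b, b.2, rfl⟩

/-- a nontrivial subgroup of a subgroup of prime order is everything -/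
theorem h43_eq_of_le_prime [Finite G] {p : ℕ} (hpp : p.Prime) (A B : Subgroup G) (hAB : A ≤ B)
    (hB : Nat.card B = p) (hA : A ≠ ⊥) : A = B := by
  have h1 : Nat.card A ∣ p := hB ▸ Subgroup.card_dvd_of_le hAB
  rcases (Nat.dvd_prime hpp).mp h1 with h | h
  · exact absurd (Subgroup.card_eq_one.mp h) hA
  · exact Subgroup.eq_of_le_of_card_ge hAB (by rw [hB, h])

/-- `N(P)` normalizes `Z(P) = P ∩ C(P)`. -/
theorem h43_normalizer_le_center (P : Subgroup G) :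
    normalizer (P : Set G) ≤ normalizer ((P ⊓ centralizer (P : Set G) : Subgroup G) : Set G) := by
  have key : ∀ k ∈ normalizer (P : Set G), ∀ h ∈ P ⊓ centralizer (P : Set G),
      k * h * k⁻¹ ∈ P ⊓ centralizer (P : Set G) := by
    intro k hk h hh
    have hkP : ∀ x, x ∈ P ↔ k * x * k⁻¹ ∈ P := fun x => Subgroup.mem_normalizer_iff.mp hk x
    refine Subgroup.mem_inf.mpr ⟨(hkP h).mp hh.1, ?_⟩
    rw [Subgroup.mem_centralizer_iff]
    intro x hx
    have hx' : k⁻¹ * x * k ∈ P := by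
      rw [hkP]
      have : k * (k⁻¹ * x * k) * k⁻¹ = x := by group
      rw [this]; exact hx
    have h1 : k⁻¹ * x * k * h = h * (k⁻¹ * x * k) := Subgroup.mem_centralizer_iff.mp hh.2 _ hx'
    calc x * (k * h * k⁻¹) = k * (k⁻¹ * x * k * h) * k⁻¹ := by group
      _ = k * (h * (k⁻¹ * x * k)) * k⁻¹ := by rw [h1]
      _ = k * h * k⁻¹ * x := by group
  intro k hk
  rw [Subgroup.mem_normalizer_iff]
  intro h
  refine ⟨fun hh => key k hk h hh, fun hh => ?_⟩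
  have := key k⁻¹ (Subgroup.inv_mem _ hk) _ hh
  have e : k⁻¹ * (k * h * k⁻¹) * k⁻¹⁻¹ = h := by group
  rwa [e] at this

theorem rank2_card_core [Finite G] (p : ℕ) [Fact p.Prime] (hp2 : p ≠ 2)
    (hCY : ∀ (C : Subgroup G), IsPGroup p ↥C → IsCyclic ↥C → ∀ k : G,
      k ∈ normalizer (C : Set G) → (orderOf k).Coprime p →
      (∀ x ∈ C, x ^ p = 1 → k * x = x * k) → ∀ x ∈ C, k * x = x * k)
    (hX1 : ∀ (R : Subgroup G), Nat.card R = p ^ 3 → ¬ IsMulCommutative ↥R →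
      Nat.card ↥(R ⊓ centralizer (R : Set G)) = p)
    (P K Ks : Subgroup G)
    (hP : IsPGroup p ↥P) (hr : PRankLE p 2 ↥P) (hPna : ¬ IsMulCommutative ↥P)
    (hKP : K ≤ normalizer (P : Set G)) (hKodd : Odd (Nat.card K)) (hcop : (Nat.card K).Coprime p)
    (hPK : ⁅P, K⁆ = P) (hKs1 : Ks ≠ ⊥) (hKsP : Ks ≤ ⁅P, P⁆)
    (hfix : ∀ k ∈ K, k ≠ 1 → P ⊓ centralizer ({k} : Set G) = Ks)
    (hKKs : K ≤ centralizer (Ks : Set G)) : Nat.card P = p ^ 3 := by
  have hpp : p.Prime := Fact.out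
  have hP1 : P ≠ ⊥ := by
    rintro rfl
    exact hPna ⟨⟨fun a b => Subsingleton.elim _ _⟩⟩
  obtain ⟨-, hab | ⟨R₁, R₂, hsup, hcomm, hR₁na, hR₁c, -, hR₂c, hΩ⟩⟩ :=
    Cfsg.Agent.S1448.result p hp2 P K hP hP1 hr hKP hcop hKodd hPK
  · exact absurd hab hPna
  have hR₁P : R₁ ≤ P := hsup ▸ le_sup_left
  have hR₂P : R₂ ≤ P := hsup ▸ le_sup_right
  have hR₂comm : ∀ a ∈ R₂, ∀ b ∈ R₂, a * b = b * a := fun a ha b hb =>
    setLike_mul_comm (s := R₂) ha hb
  -- `R₂` is central in `P`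
  have hR₂Z : ∀ b ∈ R₂, ∀ x ∈ P, x * b = b * x := by
    intro b hb x hx
    rw [← hsup] at hx
    obtain ⟨a, ha, c, hc, rfl⟩ := h43_mem_sup_comm R₁ R₂ hcomm x hx
    rw [mul_assoc, hR₂comm c hc b hb, ← mul_assoc, hcomm a ha b hb, mul_assoc]
  -- `Ω := R₁' ≤ R₂`
  have hΩR₂ : ⁅R₁, R₁⁆ ≤ R₂ := by
    rw [← hΩ, Subgroup.closure_le]
    intro x hx
    exact hx.1
  have hΩR₁ : ⁅R₁, R₁⁆ ≤ R₁ := Subgroup.commutator_le.mpr (fun a ha b hb => by
    rw [commutatorElement_def]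
    exact R₁.mul_mem (R₁.mul_mem (R₁.mul_mem ha hb) (R₁.inv_mem ha)) (R₁.inv_mem hb))
  have hΩ1 : ⁅R₁, R₁⁆ ≠ ⊥ := by
    intro h
    apply hR₁na
    refine ⟨⟨fun a b => Subtype.ext ?_⟩⟩
    have h1 : ⁅(a : G), (b : G)⁆ ∈ ⁅R₁, R₁⁆ := Subgroup.commutator_mem_commutator a.2 b.2
    rw [h, Subgroup.mem_bot, commutatorElement_eq_one_iff_mul_comm] at h1
    exact h1
  -- `Ω = Z(R₁)`
  have hZ₁ := hX1 R₁ hR₁c hR₁na
  have hΩZ₁ : ⁅R₁, R₁⁆ = R₁ ⊓ centralizer (R₁ : Set G) := by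
    apply h43_eq_of_le_prime hpp _ _ _ hZ₁ hΩ1
    refine le_inf hΩR₁ ?_
    intro x hx
    rw [Subgroup.mem_centralizer_iff]
    intro y hy
    exact hcomm y hy x (hΩR₂ hx)
  have hΩcard : Nat.card ↥⁅R₁, R₁⁆ = p := by rw [hΩZ₁]; exact hZ₁
  -- `P' ≤ Ω`
  have hP'Ω : ⁅P, P⁆ ≤ ⁅R₁, R₁⁆ := by
    rw [Subgroup.commutator_le]
    intro x hx y hy
    have hx' := hx
    have hy' := hy
    rw [← hsup] at hx' hy'
    obtain ⟨a, ha, b, hb, rfl⟩ := h43_mem_sup_comm R₁ R₂ hcomm x hx'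
    obtain ⟨a', ha', b', hb', rfl⟩ := h43_mem_sup_comm R₁ R₂ hcomm y hy'
    have e1 : (a' * b') * b = b * (a' * b') := hR₂Z b hb _ hy
    have e2 : a⁻¹ * b' = b' * a⁻¹ := hR₂Z b' hb' _ (P.inv_mem (hR₁P ha))
    have e : ⁅a * b, a' * b'⁆ = ⁅a, a'⁆ := by
      rw [commutatorElement_def, commutatorElement_def]
      calc a * b * (a' * b') * (a * b)⁻¹ * (a' * b')⁻¹
          = a * (b * (a' * b')) * b⁻¹ * a⁻¹ * (a' * b')⁻¹ := by group
        _ = a * ((a' * b') * b) * b⁻¹ * a⁻¹ * (a' * b')⁻¹ := by rw [e1]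
        _ = a * a' * (b' * a⁻¹) * b'⁻¹ * a'⁻¹ := by group
        _ = a * a' * (a⁻¹ * b') * b'⁻¹ * a'⁻¹ := by rw [e2]
        _ = a * a' * a⁻¹ * a'⁻¹ := by group
    rw [e]
    exact Subgroup.commutator_mem_commutator ha ha'
  -- `Ks = Ω`
  have hKsΩ : Ks = ⁅R₁, R₁⁆ := h43_eq_of_le_prime hpp _ _ (hKsP.trans hP'Ω) hΩcard hKs1
  -- `Z(P) = R₂`
  have hZeq : P ⊓ centralizer (P : Set G) = R₂ := by
    apply le_antisymm
    · intro z hz
      have hz' := hz.1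
      rw [← hsup] at hz'
      obtain ⟨a, ha, b, hb, rfl⟩ := h43_mem_sup_comm R₁ R₂ hcomm z hz'
      have haZ : a ∈ R₁ ⊓ centralizer (R₁ : Set G) := by
        refine Subgroup.mem_inf.mpr ⟨ha, ?_⟩
        rw [Subgroup.mem_centralizer_iff]
        intro y hy
        have h1 : y * (a * b) = (a * b) * y := Subgroup.mem_centralizer_iff.mp hz.2 y (hR₁P hy)
        have h2 : y * b = b * y := hcomm y hy b hb
        have h3 : y * a * b = a * y * b := by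
          rw [← mul_assoc] at h1
          rw [h1, mul_assoc a b y, ← h2, ← mul_assoc]
        exact mul_right_cancel h3
      rw [← hΩZ₁] at haZ
      exact R₂.mul_mem (hΩR₂ haZ) hb
    · intro b hb
      refine Subgroup.mem_inf.mpr ⟨hR₂P hb, ?_⟩
      rw [Subgroup.mem_centralizer_iff]
      intro x hx
      exact hR₂Z b hb x hx
  -- a nontrivial element of `K`
  obtain ⟨k, hk, hk1⟩ : ∃ k ∈ K, k ≠ 1 := by
    by_contra hcon
    push Not at hcon
    have hKbot : K = ⊥ := (Subgroup.eq_bot_iff_forall K).mpr hcon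
    rw [hKbot, Subgroup.commutator_bot_right] at hPK
    exact hP1 hPK.symm
  have hkN : k ∈ normalizer (R₂ : Set G) := by
    have := h43_normalizer_le_center P (hKP hk)
    rwa [hZeq] at this
  have hkcop : (orderOf k).Coprime p :=
    Nat.Coprime.coprime_dvd_left (Subgroup.orderOf_dvd_natCard K hk) hcop
  have hcent := hCY R₂ (hP.to_le hR₂P) hR₂c k hkN hkcop (by
    intro x hx hxp
    have hxKs : x ∈ Ks := by
      rw [hKsΩ, ← hΩ]
      exact Subgroup.subset_closure ⟨hx, hxp⟩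
    exact (Subgroup.mem_centralizer_iff.mp (hKKs hk) x hxKs).symm)
  have hR₂Ks : R₂ ≤ Ks := by
    rw [← hfix k hk hk1]
    intro x hx
    refine Subgroup.mem_inf.mpr ⟨hR₂P hx, ?_⟩
    rw [Subgroup.mem_centralizer_iff]
    intro h hh
    rw [Set.mem_singleton_iff] at hh
    subst hh
    exact hcent x hx
  have hR₂R₁ : R₂ ≤ R₁ := hR₂Ks.trans (hKsΩ ▸ hΩR₁)
  have hPR₁ : P = R₁ := by rw [← hsup]; exact sup_eq_left.mpr hR₂R₁
  rw [hPR₁]
  exact hR₁c

end Cfsg.Agent.Lib.helper43.TV
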