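import Mathlib
import Cfsg.Prelude.Def_OddOrderLocal
import Cfsg.Agent.Lib.helper6.TV_CY
import Cfsg.Agent.Lib.helper6.TV_X1
import Cfsg.Agent.Lib.helper43.TV_C2bCore

set_option autoImplicit false

/-!
# S1383 piece C2b: `rank2_card` (landed S1448 + CY + X1 of helper6)
-/

namespace Cfsg.Agent.Lib.helper43.TV

open Cfsg Subgroup

variable {G : Type*} [Group G]

/-- **C2b** (pure, from landed S1448 + CY + X1). A non-abelian `p`-group `P` of rank at most 2
with a coprime odd-order group `K` of operators with `[P, K] = P`, such that `C_P(k) = Ks` for all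
`k ∈ K#`, where `1 ≠ Ks ≤ [P, P]` and `K` centralizes `Ks`, has order `p ^ 3`. -/
theorem rank2_card [Finite G] (p : ℕ) [Fact p.Prime] (hp2 : p ≠ 2) (P K Ks : Subgroup G)
    (hP : IsPGroup p ↥P) (hr : PRankLE p 2 ↥P) (hPna : ¬ IsMulCommutative ↥P)
    (hKP : K ≤ normalizer (P : Set G)) (hKodd : Odd (Nat.card K)) (hcop : (Nat.card K).Coprime p)
    (hPK : ⁅P, K⁆ = P) (hKs1 : Ks ≠ ⊥) (hKsP : Ks ≤ ⁅P, P⁆)
    (hfix : ∀ k ∈ K, k ≠ 1 → P ⊓ centralizer ({k} : Set G) = Ks)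
    (hKKs : K ≤ centralizer (Ks : Set G)) : Nat.card P = p ^ 3 :=
  rank2_card_core p hp2
    (fun C hC hCc k hk hcop' h1 => Cfsg.Agent.Lib.helper6.TV.cyclic_cent p C hC hCc k hk hcop' h1)
    (fun R hR hRna => (Cfsg.Agent.Lib.helper6.TV.p3_struct p R hR hRna).1)
    P K Ks hP hr hPna hKP hKodd hcop hPK hKs1 hKsP hfix hKKs

end Cfsg.Agent.Lib.helper43.TV
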