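import Mathlib
import Cfsg.Agent.Lib.helper16.U34CDefs

/-! S1903 piece D2 (racer copy, prefixed names): the centralizer of `tauE` in `SU 3 F 4` is
contained in `{dE^k * v}`. -/

set_option autoImplicit false

namespace Cfsg.Agent.Lib.helper16.U34C

open Cfsg
open Cfsg.Agent.Lib.helper58 Cfsg.Agent.Lib.helper7 Matrix

section Concrete

variable {F : Type*} [Field F] [Fintype F]

theorem helper43_mul_apply3 (M N : Matrix (Fin 3) (Fin 3) F) (i j : Fin 3) :
    (M * N) i j = M i 0 * N 0 j + M i 1 * N 1 j + M i 2 * N 2 j := by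
  rw [Matrix.mul_apply, Fin.sum_univ_three]

theorem helper43_dM_mul (x y : F) : dM x * dM y = dM (x * y) := by
  ext i j
  fin_cases i <;> fin_cases j <;> simp [dM, Matrix.mul_apply, Fin.sum_univ_three] <;> ring

theorem helper43_dM_one : dM (1 : F) = 1 := by
  ext i j
  fin_cases i <;> fin_cases j <;> simp [dM]

theorem helper43_dE_pow (l : F) (hl : l ^ 5 = 1) (k : ℕ) :
    dE l hl ^ k = dE (l ^ k) (by rw [← pow_mul, mul_comm, pow_mul, hl, one_pow]) := by
  induction k with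
  | zero =>
    apply su3_ext
    rw [dE_val]
    simp only [pow_zero]
    rw [helper43_dM_one]
    rfl
  | succ k ih =>
    rw [pow_succ, ih]
    apply su3_ext
    rw [dE_val]
    have h1 : (((dE (l ^ k) (by rw [← pow_mul, mul_comm, pow_mul, hl, one_pow]) * dE l hl :
        ↥(SU 3 F 4)).1.1 : Matrix (Fin 3) (Fin 3) F)) = dM (l ^ k) * dM l := rfl
    rw [h1, helper43_dM_mul, pow_succ]

/-- the field algebra behind D2 -/
theorem helper43_d2_core (h2 : (2 : F) = 0) (hfrob : ∀ x : F, x ^ 16 = x) (s B c d e : F)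
    (h00 : (s - B) * (s - B) ^ 4 + B * B ^ 4 + d * d ^ 4 = 1)
    (h01 : (s - B) * B ^ 4 + B * (s - B) ^ 4 + d * d ^ 4 = 0)
    (h02 : (s - B) * c ^ 4 + B * c ^ 4 + d * e ^ 4 = 0)
    (hdet : (s - B) * (s - B) * e - (s - B) * c * d - B * B * e + B * c * d + c * B * d
      - c * (s - B) * d = 1) :
    s ^ 5 = 1 ∧ B * s ^ 4 + (B * s ^ 4) ^ 4 = d * s ^ 2 * (d * s ^ 2) ^ 4 ∧
      s - B = s * (1 + B * s ^ 4) ∧ B = s * (B * s ^ 4) ∧ c = s * (d * s ^ 2) ^ 4 ∧
      d = s ^ 3 * (d * s ^ 2) ∧ e = s ^ 3 := by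
  have hs5 : s ^ 5 = 1 := by
    linear_combination h00 - h01 + (3 * s ^ 4 * B - 7 * s ^ 3 * B ^ 2 + 8 * s ^ 2 * B ^ 3
      - 4 * s * B ^ 4) * h2
  have hdet' : e * s ^ 2 = 1 := by
    linear_combination hdet + (s * B * e + s * c * d - 2 * B * c * d) * h2
  have he : e = s ^ 3 := by
    linear_combination (-e) * hs5 + s ^ 3 * hdet'
  have h02' : s * c ^ 4 + d * (s ^ 3) ^ 4 = 0 := by
    rw [← he]
    linear_combination h02
  have hc4 : c ^ 4 = d * s := by
    linear_combination s ^ 4 * h02' - (c ^ 4 + d * s * (s ^ 10 + s ^ 5 + 1)) * hs5 - d * s * h2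
  have hc : c = d ^ 4 * s ^ 4 := by
    calc c = c ^ 16 := (hfrob c).symm
      _ = (c ^ 4) ^ 4 := by ring
      _ = (d * s) ^ 4 := by rw [hc4]
      _ = d ^ 4 * s ^ 4 := by ring
  refine ⟨hs5, ?_, ?_, ?_, ?_, ?_, he⟩
  · linear_combination (-1) * h01 + (s ^ 4 * B - s * B ^ 4 - 2 * s ^ 3 * B ^ 2
      + 3 * s ^ 2 * B ^ 3) * h2 + (B ^ 4 * s * (s ^ 10 + s ^ 5 + 1) - d ^ 5 * (s ^ 5 + 1)) * hs5
  · linear_combination (-B) * hs5 - B * h2
  · linear_combination (-B) * hs5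
  · linear_combination hc - d ^ 4 * s ^ 4 * hs5
  · linear_combination (-d) * hs5

theorem helper43_d2_matrix (hF : Fintype.card F = 16) (g : ↥(SU 3 F 4))
    (hcomm : g * tauE hF = tauE hF * g) :
    ∃ (s : F) (hs5 : s ^ 5 = 1), ∃ v ∈ UU hF, g = dE s hs5 * v := by
  have h2 : (2 : F) = 0 := two0 hF
  have hfrob : ∀ x : F, x ^ 16 = x := by
    intro x
    have := FiniteField.pow_card x
    rwa [hF] at this
  set M : Matrix (Fin 3) (Fin 3) F := g.1.1 with hMdef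
  -- commutation
  have hM : M * su3M 4 0 1 = su3M 4 0 1 * M := by
    have := congrArg (fun x : ↥(SU 3 F 4) => (x.1.1 : Matrix (Fin 3) (Fin 3) F)) hcomm
    exact this
  have t00 : su3M 4 (0 : F) 1 0 0 = 1 + 1 := by simp [su3M]
  have t01 : su3M 4 (0 : F) 1 0 1 = 1 := by simp [su3M]
  have t02 : su3M 4 (0 : F) 1 0 2 = 0 := by simp [su3M]
  have t10 : su3M 4 (0 : F) 1 1 0 = 1 := by simp [su3M]
  have t11 : su3M 4 (0 : F) 1 1 1 = 1 + 1 := by simp [su3M]
  have t12 : su3M 4 (0 : F) 1 1 2 = 0 := by simp [su3M]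
  have t20 : su3M 4 (0 : F) 1 2 0 = 0 := by simp [su3M]
  have t21 : su3M 4 (0 : F) 1 2 1 = 0 := by simp [su3M]
  have t22 : su3M 4 (0 : F) 1 2 2 = 1 := by simp [su3M]
  have e00 := congrFun (congrFun hM 0) 0
  have e01 := congrFun (congrFun hM 0) 1
  have e02 := congrFun (congrFun hM 0) 2
  have e20 := congrFun (congrFun hM 2) 0
  rw [helper43_mul_apply3, helper43_mul_apply3, t00, t10, t20, t01, t02] at e00
  rw [helper43_mul_apply3, helper43_mul_apply3, t00, t01, t02, t11, t21] at e01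
  rw [helper43_mul_apply3, helper43_mul_apply3, t00, t01, t02, t12, t22] at e02
  rw [helper43_mul_apply3, helper43_mul_apply3, t00, t10, t20, t21, t22] at e20
  have r10 : M 1 0 = M 0 1 := by linear_combination (-1) * e00
  have r11 : M 1 1 = M 0 0 := by linear_combination (-1) * e01
  have r12 : M 1 2 = M 0 2 := by linear_combination (-1) * e02 - M 0 2 * h2
  have r21 : M 2 1 = M 2 0 := by linear_combination e20 - M 2 0 * h2
  -- unitarity
  have hU : Mᵀ * M.map (fun x => x ^ 4) = 1 :=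
    IsIsom.transpose_mul_map (by norm_num) ((mem_SU_iff 3 g.1).1 g.2)
  have u00 := congrFun (congrFun hU 0) 0
  have u01 := congrFun (congrFun hU 0) 1
  have u02 := congrFun (congrFun hU 0) 2
  rw [helper43_mul_apply3] at u00 u01 u02
  simp only [Matrix.transpose_apply, Matrix.map_apply] at u00 u01 u02
  rw [Matrix.one_apply_eq] at u00
  rw [Matrix.one_apply_ne (by decide)] at u01 u02
  -- determinant
  have hdet : M.det = 1 := g.1.2
  rw [Matrix.det_fin_three] at hdet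
  rw [r10, r11, r12, r21] at hdet
  rw [r10] at u00
  rw [r10, r11, r21] at u01
  rw [r10, r12] at u02
  obtain ⟨hs5, hab, hA, hB, hc, hd, he⟩ := helper43_d2_core h2 hfrob (M 0 0 + M 0 1) (M 0 1) (M 0 2)
    (M 2 0) (M 2 2)
    (by rw [show M 0 0 + M 0 1 - M 0 1 = M 0 0 by ring]; exact u00)
    (by rw [show M 0 0 + M 0 1 - M 0 1 = M 0 0 by ring]; exact u01)
    (by rw [show M 0 0 + M 0 1 - M 0 1 = M 0 0 by ring]; exact u02)
    (by rw [show M 0 0 + M 0 1 - M 0 1 = M 0 0 by ring]; exact hdet)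
  rw [show M 0 0 + M 0 1 - M 0 1 = M 0 0 by ring] at hA
  refine ⟨M 0 0 + M 0 1, hs5,
    su3E (card16 hF) (two0 hF) (M 2 0 * (M 0 0 + M 0 1) ^ 2) (M 0 1 * (M 0 0 + M 0 1) ^ 4) hab,
    ⟨_, _, hab, rfl⟩, ?_⟩
  apply su3_ext
  have h1 : (((dE (M 0 0 + M 0 1) hs5 * su3E (card16 hF) (two0 hF) (M 2 0 * (M 0 0 + M 0 1) ^ 2)
      (M 0 1 * (M 0 0 + M 0 1) ^ 4) hab : ↥(SU 3 F 4)).1.1 : Matrix (Fin 3) (Fin 3) F)) =
      dM (M 0 0 + M 0 1) * su3M 4 (M 2 0 * (M 0 0 + M 0 1) ^ 2) (M 0 1 * (M 0 0 + M 0 1) ^ 4) :=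
    rfl
  rw [h1]
  ext i j
  rw [helper43_mul_apply3]
  fin_cases i <;> fin_cases j <;> simp [dM, su3M]
  · exact hA
  · exact hB
  · exact hc
  · exact r10.trans hB
  · exact r11.trans hA
  · exact r12.trans hc
  · exact hd
  · exact r21.trans hd
  · exact he

/-- PIECE D2 (racer copy; verbatim statement of `cent_upper`). -/
theorem helper43_cent_upper (hF : Fintype.card F = 16) (l : F) (hl : l ^ 5 = 1) (hl1 : l ≠ 1) :
    ∀ g : ↥(SU 3 F 4), g * tauE hF = tauE hF * g →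
      ∃ k : ℕ, ∃ v ∈ UU hF, g = dE l hl ^ k * v := by
  intro g hcomm
  obtain ⟨s, hs5, v, hv, hg⟩ := helper43_d2_matrix hF g hcomm
  have hprim : IsPrimitiveRoot l 5 := by
    have h5 : Nat.Prime 5 := by norm_num
    have hord : orderOf l ∣ 5 := orderOf_dvd_of_pow_eq_one hl
    rcases (Nat.dvd_prime h5).mp hord with h | h
    · exact absurd (orderOf_eq_one_iff.mp h) hl1
    · rw [← h]; exact IsPrimitiveRoot.orderOf l
  obtain ⟨k, -, hk⟩ := hprim.eq_pow_of_pow_eq_one hs5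
  subst hk
  exact ⟨k, v, hv, by rw [helper43_dE_pow]; exact hg⟩

end Concrete

end Cfsg.Agent.Lib.helper16.U34C
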