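import Mathlib
import Cfsg.Agent.Lib.helper16.U34CDefs
import Cfsg.Agent.Lib.helper43.U34C_D2

/-! S1903 piece D1 (racer copy, prefixed names): basic matrix facts about `tauE` and `dE`. -/

set_option autoImplicit false

namespace Cfsg.Agent.Lib.helper16.U34C

open Cfsg
open Cfsg.Agent.Lib.helper58 Cfsg.Agent.Lib.helper7 Matrix

section Concrete

variable {F : Type*} [Field F] [Fintype F]

theorem helper43_su3M_zero (h2 : (2 : F) = 0) : su3M 4 (0 : F) (1 + 1) = 1 := by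
  have h11 : (1 : F) + 1 = 0 := by linear_combination h2
  rw [h11]
  ext i j
  fin_cases i <;> fin_cases j <;> simp [su3M]

/-- PIECE D1 (racer copy; verbatim statement of `cent_basic`). -/
theorem helper43_cent_basic (hF : Fintype.card F = 16) (l : F) (hl : l ^ 5 = 1) :
    orderOf (tauE hF) = 2 ∧ (∀ v ∈ UU hF, v * tauE hF = tauE hF * v) ∧
    dE l hl * tauE hF = tauE hF * dE l hl ∧ dE l hl ^ 5 = 1 ∧
    ∀ (a b : F) (hab : b + b ^ 4 = a * a ^ 4),
      ∃ hab' : b + b ^ 4 = (l ^ 2 * a) * (l ^ 2 * a) ^ 4,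
      dE l hl * su3E (card16 hF) (two0 hF) a b hab * (dE l hl)⁻¹ =
        su3E (card16 hF) (two0 hF) (l ^ 2 * a) b hab' := by
  have h2 : (2 : F) = 0 := two0 hF
  have hadd : ∀ x y : F, (x + y) ^ 4 = x ^ 4 + y ^ 4 := by
    intro x y
    linear_combination (2 * x ^ 3 * y + 3 * x ^ 2 * y ^ 2 + 2 * x * y ^ 3) * h2
  have hτv : ((tauE hF).1.1 : Matrix (Fin 3) (Fin 3) F) = su3M 4 0 1 := rfl
  refine ⟨?_, ?_, ?_, ?_, ?_⟩
  · haveI : Fact (Nat.Prime 2) := ⟨Nat.prime_two⟩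
    apply orderOf_eq_prime
    · apply su3_ext
      have h1 : (((tauE hF) ^ 2 : ↥(SU 3 F 4)).1.1 : Matrix (Fin 3) (Fin 3) F) =
          su3M 4 0 1 * su3M 4 0 1 := by
        rw [pow_two]; rfl
      rw [h1, su3M_mul h2 4 hadd]
      have e1 : (0 : F) + 0 = 0 := by ring
      have e2 : (1 : F) + 1 + 0 ^ 4 * 0 = 1 + 1 := by ring
      rw [e1, e2, helper43_su3M_zero h2]
      rfl
    · intro h
      have h1 := congrArg (fun x : ↥(SU 3 F 4) => (x.1.1 : Matrix (Fin 3) (Fin 3) F) 0 1) h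
      have h3 : ((1 : ↥(SU 3 F 4)).1.1 : Matrix (Fin 3) (Fin 3) F) 0 1 = 0 := by
        have : ((1 : ↥(SU 3 F 4)).1.1 : Matrix (Fin 3) (Fin 3) F) = 1 := rfl
        rw [this]
        simp
      have h4 : ((tauE hF).1.1 : Matrix (Fin 3) (Fin 3) F) 0 1 = 1 := by
        rw [hτv]; simp [su3M]
      simp only [h3, h4] at h1
      exact one_ne_zero h1
  · rintro v ⟨a, b, hab, hv⟩
    apply su3_ext
    have h1 : ((v * tauE hF : ↥(SU 3 F 4)).1.1 : Matrix (Fin 3) (Fin 3) F) =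
        v.1.1 * su3M 4 0 1 := rfl
    have h3 : ((tauE hF * v : ↥(SU 3 F 4)).1.1 : Matrix (Fin 3) (Fin 3) F) =
        su3M 4 0 1 * v.1.1 := rfl
    rw [h1, h3, hv, su3M_mul h2 4 hadd, su3M_mul h2 4 hadd]
    congr 1
    · ring
    · ring
  · apply su3_ext
    have h1 : ((dE l hl * tauE hF : ↥(SU 3 F 4)).1.1 : Matrix (Fin 3) (Fin 3) F) =
        dM l * su3M 4 0 1 := rfl
    have h3 : ((tauE hF * dE l hl : ↥(SU 3 F 4)).1.1 : Matrix (Fin 3) (Fin 3) F) =
        su3M 4 0 1 * dM l := rfl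
    rw [h1, h3]
    ext i j
    rw [helper43_mul_apply3, helper43_mul_apply3]
    fin_cases i <;> fin_cases j <;> simp [dM, su3M] <;> ring
  · rw [helper43_dE_pow]
    apply su3_ext
    rw [dE_val, hl, helper43_dM_one]
    rfl
  · intro a b hab
    have hl10 : l ^ 10 = 1 := by
      have : l ^ 10 = (l ^ 5) ^ 2 := by ring
      rw [this, hl, one_pow]
    have hab' : b + b ^ 4 = (l ^ 2 * a) * (l ^ 2 * a) ^ 4 := by
      rw [hab]
      linear_combination (-(a * a ^ 4)) * hl10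
    refine ⟨hab', ?_⟩
    rw [mul_inv_eq_iff_eq_mul]
    apply su3_ext
    have h1 : ((dE l hl * su3E (card16 hF) (two0 hF) a b hab : ↥(SU 3 F 4)).1.1 :
        Matrix (Fin 3) (Fin 3) F) = dM l * su3M 4 a b := rfl
    have h3 : ((su3E (card16 hF) (two0 hF) (l ^ 2 * a) b hab' * dE l hl : ↥(SU 3 F 4)).1.1 :
        Matrix (Fin 3) (Fin 3) F) = su3M 4 (l ^ 2 * a) b * dM l := rfl
    rw [h1, h3]
    ext i j
    rw [helper43_mul_apply3, helper43_mul_apply3]
    fin_cases i <;> fin_cases j <;> simp [dM, su3M]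
    all_goals first
      | ring1
      | linear_combination (-(l * a ^ 4)) * hl10
      | linear_combination (l * a ^ 4) * hl10

end Concrete

end Cfsg.Agent.Lib.helper16.U34C
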